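import Mathlib
import Cfsg.Prelude.Def_Characters

set_option autoImplicit false

namespace Cfsg.Agent.Lib.helper7

variable {G : Type*} [Group G]

theorem h7_conj_eq_iff (a s t : G) :
    s * a * s⁻¹ = t * a * t⁻¹ ↔ t⁻¹ * s ∈ Subgroup.centralizer ({a} : Set G) := by
  rw [Subgroup.mem_centralizer_iff]
  constructor
  · intro h x hx
    rw [Set.mem_singleton_iff] at hx
    subst hx
    calc x * (t⁻¹ * s) = t⁻¹ * (t * x * t⁻¹) * s := by group
      _ = t⁻¹ * (s * x * s⁻¹) * s := by rw [h]
      _ = t⁻¹ * s * x := by group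
  · intro h
    have h1 := h a (Set.mem_singleton a)
    calc s * a * s⁻¹ = t * (t⁻¹ * s * a) * s⁻¹ := by group
      _ = t * (a * (t⁻¹ * s)) * s⁻¹ := by rw [h1]
      _ = t * a * t⁻¹ := by group

theorem h7_card_conj_fiber [Fintype G] [DecidableEq G] (a x : G) (hx : IsConj a x) :
    (Finset.univ.filter (fun s : G => s * a * s⁻¹ = x)).card =
      Nat.card (Subgroup.centralizer ({a} : Set G)) := by
  classical
  obtain ⟨t, rfl⟩ := isConj_iff.mp hx
  rw [Nat.card_eq_fintype_card, ← Fintype.card_coe]
  apply Fintype.card_congr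
  refine
    { toFun := fun s => ⟨t⁻¹ * s.1, (h7_conj_eq_iff a s.1 t).mp (Finset.mem_filter.mp s.2).2⟩
      invFun := fun c => ⟨t * c.1, Finset.mem_filter.mpr ⟨Finset.mem_univ _, by
        rw [h7_conj_eq_iff]; simp [c.2]⟩⟩
      left_inv := fun s => by simp
      right_inv := fun c => by simp }

theorem h7_sum_conj {M : Type*} [AddCommMonoid M] [Fintype G] (a : G) (F : G → M)
    [DecidablePred (fun x : G => IsConj a x)] :
    ∑ s : G, F (s * a * s⁻¹) =
      Nat.card (Subgroup.centralizer ({a} : Set G)) •
        ∑ x ∈ Finset.univ.filter (fun x : G => IsConj a x), F x := by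
  classical
  rw [Finset.sum_comp F (fun s : G => s * a * s⁻¹)]
  rw [Finset.smul_sum]
  have himg : (Finset.univ.image fun s : G => s * a * s⁻¹) =
      Finset.univ.filter (fun x : G => IsConj a x) := by
    ext x
    simp only [Finset.mem_image, Finset.mem_univ, true_and, Finset.mem_filter, isConj_iff]
  rw [himg]
  apply Finset.sum_congr rfl
  intro x hx
  rw [h7_card_conj_fiber a x (Finset.mem_filter.mp hx).2]

end Cfsg.Agent.Lib.helper7

namespace Cfsg.Agent.Lib.helper7

variable {G : Type*} [Group G]

theorem h7_card_class_mul_card_centralizer [Finite G] (h : G) :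
    Nat.card {x : G // IsConj h x} * Nat.card (Subgroup.centralizer ({h} : Set G)) =
      Nat.card G := by
  classical
  have := Fintype.ofFinite G
  have h1 := h7_sum_conj h (fun _ : G => (1 : ℕ))
  simp only [Finset.sum_const, Finset.card_univ, smul_eq_mul, mul_one] at h1
  rw [Nat.card_eq_fintype_card (α := G), h1, Nat.card_eq_fintype_card (α := {x : G // IsConj h x}),
    Fintype.card_subtype, mul_comm]

theorem h7_index_centralizer_eq_card_class [Finite G] (h : G) :
    (Subgroup.centralizer ({h} : Set G)).index = Nat.card {x : G // IsConj h x} := by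
  have h1 := h7_card_class_mul_card_centralizer h
  have h2 := Subgroup.index_mul_card (Subgroup.centralizer ({h} : Set G))
  have hpos : 0 < Nat.card (Subgroup.centralizer ({h} : Set G)) := Nat.card_pos
  exact Nat.eq_of_mul_eq_mul_right hpos (h2.trans h1.symm)

theorem h7_sum_eq_sum_conjClasses {M : Type*} [AddCommMonoid M] [Fintype G]
    [Fintype (ConjClasses G)] (f : G → M)
    (hf : ∀ g h : G, f (h * g * h⁻¹) = f g) :
    ∑ g : G, f g = ∑ K : ConjClasses G,
      (Subgroup.centralizer ({Quotient.out K} : Set G)).index • f (Quotient.out K) := by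
  classical
  rw [← Finset.sum_fiberwise Finset.univ (fun g : G => ConjClasses.mk g) f]
  apply Finset.sum_congr rfl
  intro K _
  have hK : ConjClasses.mk (Quotient.out K) = K := Quotient.out_eq K
  have h1 : ∀ g ∈ Finset.univ.filter (fun g : G => ConjClasses.mk g = K), f g = f (Quotient.out K) := by
    intro g hg
    have hg' : ConjClasses.mk g = K := (Finset.mem_filter.mp hg).2
    rw [← hK] at hg'
    have hc : IsConj (Quotient.out K) g := (ConjClasses.mk_eq_mk_iff_isConj.mp hg').symm
    obtain ⟨c, hc⟩ := isConj_iff.mp hc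
    rw [← hc, hf]
  rw [Finset.sum_congr rfl h1, Finset.sum_const]
  congr 1
  rw [h7_index_centralizer_eq_card_class, Nat.card_eq_fintype_card, Fintype.card_subtype]
  congr 1
  ext g
  simp only [Finset.mem_filter, Finset.mem_univ, true_and]
  constructor
  · intro hg
    rw [← hK] at hg
    exact (ConjClasses.mk_eq_mk_iff_isConj.mp hg).symm
  · intro hg
    rw [← hK]
    exact ConjClasses.mk_eq_mk_iff_isConj.mpr hg.symm

end Cfsg.Agent.Lib.helper7
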