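import Mathlib
import Cfsg.Prelude.Def_Characters
import Cfsg.Agent.Lib.helper7.ClassSum

set_option autoImplicit false

namespace Cfsg.Agent.Lib.helper7

open scoped ComplexConjugate

variable {G : Type*} [Group G]

theorem h7_finsum_mem_fintype {α M : Type*} [AddCommMonoid M] [Fintype α] (s : Set α)
    [DecidablePred (· ∈ s)] (f : α → M) :
    ∑ᶠ a ∈ s, f a = ∑ a, if a ∈ s then f a else 0 := by
  rw [finsum_mem_def, finsum_eq_sum_of_fintype]
  apply Finset.sum_congr rfl
  intro a _
  rw [Set.indicator_apply]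

theorem h7_extendByZero_mem (H : Subgroup G) (θ : H → ℂ) (y : G) (hy : y ∈ H) :
    Cfsg.extendByZero H θ y = θ ⟨y, hy⟩ := by
  unfold Cfsg.extendByZero
  exact Subtype.val_injective.extend_apply θ 0 ⟨y, hy⟩

theorem h7_extendByZero_coe (H : Subgroup G) (θ : H → ℂ) (h : H) :
    Cfsg.extendByZero H θ (h : G) = θ h :=
  h7_extendByZero_mem H θ h h.2

theorem h7_extendByZero_not_mem (H : Subgroup G) (θ : H → ℂ) (y : G) (hy : y ∉ H) :
    Cfsg.extendByZero H θ y = 0 := by
  unfold Cfsg.extendByZero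
  rw [Function.extend_apply']
  · rfl
  · rintro ⟨h, rfl⟩
    exact hy h.2

theorem h7_sum_mul_extendByZero [Fintype G] (H : Subgroup G) [Fintype H] (θ : H → ℂ)
    (w : G → ℂ) :
    ∑ y : G, w y * Cfsg.extendByZero H θ y = ∑ h : H, w h * θ h := by
  classical
  have h1 : ∑ y : G, w y * Cfsg.extendByZero H θ y =
      ∑ y ∈ Finset.univ.filter (fun y : G => y ∈ H), w y * Cfsg.extendByZero H θ y := by
    rw [Finset.sum_filter]
    apply Finset.sum_congr rfl
    intro y _
    split_ifs with hy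
    · rfl
    · rw [h7_extendByZero_not_mem H θ y hy, mul_zero]
  rw [h1]
  rw [Finset.sum_subtype (Finset.univ.filter (fun y : G => y ∈ H)) (p := fun y => y ∈ H)
    (fun x => by simp) (fun y => w y * Cfsg.extendByZero H θ y)]
  apply Finset.sum_congr rfl
  intro h _
  rw [h7_extendByZero_coe]

theorem h7_indFun_conj [Fintype G] (H : Subgroup G) (θ : H → ℂ) (g h : G) :
    Cfsg.indFun H θ (h * g * h⁻¹) = Cfsg.indFun H θ g := by
  unfold Cfsg.indFun
  congr 1
  rw [← Equiv.sum_comp (Equiv.mulLeft h)]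
  apply Finset.sum_congr rfl
  intro x _
  congr 1
  simp only [Equiv.coe_mulLeft]
  group

theorem h7_indFun_isClassFunction [Fintype G] (H : Subgroup G) (θ : H → ℂ) :
    Cfsg.IsClassFunction G (Cfsg.indFun H θ) :=
  fun g h => h7_indFun_conj H θ g h

theorem h7_indFun_eq_class_sum [Fintype G] (H : Subgroup G) [Fintype H] (θ : H → ℂ) (g : G)
    [DecidablePred (fun h : H => IsConj g (h : G))] :
    Cfsg.indFun H θ g = (Nat.card H : ℂ)⁻¹ *
      ((Nat.card (Subgroup.centralizer ({g} : Set G)) : ℂ) *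
        ∑ h : H, if IsConj g (h : G) then θ h else 0) := by
  classical
  unfold Cfsg.indFun
  congr 1
  rw [← Equiv.sum_comp (Equiv.inv G)]
  simp only [Equiv.inv_apply, inv_inv]
  rw [h7_sum_conj g (fun y => Cfsg.extendByZero H θ y), nsmul_eq_mul]
  congr 1
  rw [Finset.sum_filter]
  have : ∀ y : G, (if IsConj g y then Cfsg.extendByZero H θ y else 0) =
      (if IsConj g y then (1 : ℂ) else 0) * Cfsg.extendByZero H θ y := by
    intro y; split_ifs <;> simp
  simp only [this]
  rw [h7_sum_mul_extendByZero H θ (fun y => if IsConj g y then (1 : ℂ) else 0)]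
  apply Finset.sum_congr rfl
  intro h _
  split_ifs <;> simp

theorem h7_indFun_one [Fintype G] (H : Subgroup G) (θ : H → ℂ) :
    Cfsg.indFun H θ 1 = (H.index : ℂ) * θ 1 := by
  classical
  unfold Cfsg.indFun
  have : ∀ x : G, Cfsg.extendByZero H θ (x⁻¹ * 1 * x) = θ 1 := by
    intro x
    have : x⁻¹ * 1 * x = ((1 : H) : G) := by simp
    rw [this, h7_extendByZero_coe]
  simp only [this, Finset.sum_const, Finset.card_univ, nsmul_eq_mul]
  have hH : (Nat.card H : ℂ) ≠ 0 := by exact_mod_cast Nat.card_pos.ne'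
  have hidx : (Nat.card G : ℂ) = (H.index : ℂ) * (Nat.card H : ℂ) := by
    rw [← Subgroup.index_mul_card H]; push_cast; ring
  rw [← Nat.card_eq_fintype_card, hidx]
  field_simp

theorem h7_frobenius_reciprocity [Fintype G] (H : Subgroup G) [Fintype H] (φ : H → ℂ)
    (ψ : G → ℂ) (hψ : Cfsg.IsClassFunction G ψ) :
    Cfsg.classInner (Cfsg.indFun H φ) ψ = Cfsg.classInner φ (fun h : H => ψ h) := by
  classical
  unfold Cfsg.classInner Cfsg.indFun
  have hG : (Nat.card G : ℂ) ≠ 0 := by exact_mod_cast Nat.card_pos.ne'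
  have hH : (Nat.card H : ℂ) ≠ 0 := by exact_mod_cast Nat.card_pos.ne'
  have key : ∑ g : G, ((Nat.card H : ℂ)⁻¹ * ∑ x : G, Cfsg.extendByZero H φ (x⁻¹ * g * x)) * conj (ψ g)
      = (Nat.card H : ℂ)⁻¹ * ((Nat.card G : ℂ) * ∑ h : H, φ h * conj (ψ h)) := by
    have h0 : ∑ g : G, ((Nat.card H : ℂ)⁻¹ * ∑ x : G, Cfsg.extendByZero H φ (x⁻¹ * g * x)) * conj (ψ g)
        = (Nat.card H : ℂ)⁻¹ * ∑ x : G, ∑ g : G, Cfsg.extendByZero H φ (x⁻¹ * g * x) * conj (ψ g) := by
      rw [Finset.sum_comm, Finset.mul_sum]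
      apply Finset.sum_congr rfl
      intro g _
      rw [mul_assoc, Finset.sum_mul]
    rw [h0]
    congr 1
    have h1 : ∀ x : G, ∑ g : G, Cfsg.extendByZero H φ (x⁻¹ * g * x) * conj (ψ g) =
        ∑ h : H, φ h * conj (ψ h) := by
      intro x
      have h2 : ∀ g : G, ψ g = ψ (x⁻¹ * g * x) := by
        intro g
        have := hψ g x⁻¹
        simpa using this.symm
      have h3 : ∑ g : G, Cfsg.extendByZero H φ (x⁻¹ * g * x) * conj (ψ g) =
          ∑ g : G, Cfsg.extendByZero H φ (x⁻¹ * g * x) * conj (ψ (x⁻¹ * g * x)) := by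
        apply Finset.sum_congr rfl
        intro g _
        rw [← h2 g]
      rw [h3]
      have h4 := Equiv.sum_comp ((Equiv.mulLeft x⁻¹).trans (Equiv.mulRight x))
        (fun y => Cfsg.extendByZero H φ y * conj (ψ y))
      simp only [Equiv.trans_apply, Equiv.coe_mulLeft, Equiv.coe_mulRight] at h4
      rw [h4]
      have h5 := h7_sum_mul_extendByZero H φ (fun y => conj (ψ y))
      simp only [mul_comm] at h5 ⊢
      exact h5
    simp only [h1, Finset.sum_const, Finset.card_univ, nsmul_eq_mul, Nat.card_eq_fintype_card]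
  rw [key]
  field_simp

end Cfsg.Agent.Lib.helper7

namespace Cfsg.Agent.Lib.helper7

variable {G : Type*} [Group G]

theorem h7_sum_subgroup {M : Type*} [AddCommMonoid M] [Fintype G] (H : Subgroup G) [Fintype H]
    [DecidablePred (· ∈ H)] (f : G → M) :
    ∑ y : G, (if y ∈ H then f y else 0) = ∑ h : H, f h := by
  classical
  rw [← Finset.sum_filter]
  exact Finset.sum_subtype (Finset.univ.filter (fun y : G => y ∈ H)) (p := fun y => y ∈ H)
    (fun x => by simp) f

end Cfsg.Agent.Lib.helper7
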