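import Mathlib
import Cfsg.Prelude.Def_Blocks

set_option autoImplicit false

namespace Cfsg.Agent.Lib.helper7

open Cfsg

variable {M : Ideal Cfsg.AlgInt}

theorem h7_one_not_mem (hM : M.IsPrime) : (1 : Cfsg.AlgInt) ∉ M := by
  intro h
  exact hM.ne_top ((Ideal.eq_top_iff_one M).mpr h)

theorem h7_coe_ne_zero_of_not_mem {b : Cfsg.AlgInt} (hb : b ∉ M) : (b : ℂ) ≠ 0 := by
  intro h
  apply hb
  have : b = 0 := by
    apply Subtype.ext
    simpa using h
  rw [this]
  exact M.zero_mem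

theorem h7_memLocalRing_of_algInt (hM : M.IsPrime) (a : Cfsg.AlgInt) :
    Cfsg.MemLocalRing M (a : ℂ) :=
  ⟨a, 1, h7_one_not_mem hM, by simp⟩

theorem h7_memLocalIdeal_of_mem (hM : M.IsPrime) {a : Cfsg.AlgInt} (ha : a ∈ M) :
    Cfsg.MemLocalIdeal M (a : ℂ) :=
  ⟨a, 1, ha, h7_one_not_mem hM, by simp⟩

theorem h7_memLocalIdeal_zero (hM : M.IsPrime) : Cfsg.MemLocalIdeal M 0 := by
  have := h7_memLocalIdeal_of_mem hM M.zero_mem
  simpa using this

theorem h7_memLocalRing_of_memLocalIdeal {z : ℂ} (h : Cfsg.MemLocalIdeal M z) :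
    Cfsg.MemLocalRing M z := by
  obtain ⟨a, b, _, hb, hz⟩ := h
  exact ⟨a, b, hb, hz⟩

theorem h7_memLocalIdeal_neg {z : ℂ} (h : Cfsg.MemLocalIdeal M z) :
    Cfsg.MemLocalIdeal M (-z) := by
  obtain ⟨a, b, ha, hb, hz⟩ := h
  refine ⟨-a, b, M.neg_mem ha, hb, ?_⟩
  rw [← hz]
  push_cast
  ring

theorem h7_memLocalIdeal_add (hM : M.IsPrime) {z w : ℂ} (hz : Cfsg.MemLocalIdeal M z)
    (hw : Cfsg.MemLocalIdeal M w) : Cfsg.MemLocalIdeal M (z + w) := by
  obtain ⟨a, b, ha, hb, rfl⟩ := hz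
  obtain ⟨c, d, hc, hd, rfl⟩ := hw
  refine ⟨a * d + c * b, b * d, ?_, ?_, ?_⟩
  · exact M.add_mem (M.mul_mem_right _ ha) (M.mul_mem_right _ hc)
  · intro h
    rcases hM.mem_or_mem h with h | h
    · exact hb h
    · exact hd h
  · have hb0 := h7_coe_ne_zero_of_not_mem hb
    have hd0 := h7_coe_ne_zero_of_not_mem hd
    push_cast
    field_simp

theorem h7_memLocalIdeal_sub (hM : M.IsPrime) {z w : ℂ} (hz : Cfsg.MemLocalIdeal M z)
    (hw : Cfsg.MemLocalIdeal M w) : Cfsg.MemLocalIdeal M (z - w) := by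
  rw [sub_eq_add_neg]
  exact h7_memLocalIdeal_add hM hz (h7_memLocalIdeal_neg hw)

theorem h7_memLocalIdeal_sum (hM : M.IsPrime) {ι : Type*} (s : Finset ι) (f : ι → ℂ)
    (h : ∀ i ∈ s, Cfsg.MemLocalIdeal M (f i)) : Cfsg.MemLocalIdeal M (∑ i ∈ s, f i) := by
  classical
  induction s using Finset.induction_on with
  | empty => simpa using h7_memLocalIdeal_zero hM
  | insert a s ha ih =>
    rw [Finset.sum_insert ha]
    exact h7_memLocalIdeal_add hM (h a (Finset.mem_insert_self a s))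
      (ih fun i hi => h i (Finset.mem_insert_of_mem hi))

theorem h7_memLocalIdeal_mul_left (hM : M.IsPrime) {r z : ℂ} (hr : Cfsg.MemLocalRing M r)
    (hz : Cfsg.MemLocalIdeal M z) : Cfsg.MemLocalIdeal M (r * z) := by
  obtain ⟨c, d, hd, rfl⟩ := hr
  obtain ⟨a, b, ha, hb, rfl⟩ := hz
  refine ⟨c * a, d * b, M.mul_mem_left _ ha, ?_, ?_⟩
  · intro h
    rcases hM.mem_or_mem h with h | h
    · exact hd h
    · exact hb h
  · have hb0 := h7_coe_ne_zero_of_not_mem hb
    have hd0 := h7_coe_ne_zero_of_not_mem hd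
    push_cast
    field_simp

theorem h7_memLocalIdeal_mul_right (hM : M.IsPrime) {r z : ℂ} (hz : Cfsg.MemLocalIdeal M z)
    (hr : Cfsg.MemLocalRing M r) : Cfsg.MemLocalIdeal M (z * r) := by
  rw [mul_comm]
  exact h7_memLocalIdeal_mul_left hM hr hz

theorem h7_memLocalIdeal_nsmul (hM : M.IsPrime) (n : ℕ) {z : ℂ} (hz : Cfsg.MemLocalIdeal M z) :
    Cfsg.MemLocalIdeal M (n • z) := by
  rw [nsmul_eq_mul]
  have : Cfsg.MemLocalRing M (n : ℂ) := by
    have := h7_memLocalRing_of_algInt hM (n : Cfsg.AlgInt)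
    simpa using this
  exact h7_memLocalIdeal_mul_left hM this hz

theorem h7_memLocalRing_add (hM : M.IsPrime) {z w : ℂ} (hz : Cfsg.MemLocalRing M z)
    (hw : Cfsg.MemLocalRing M w) : Cfsg.MemLocalRing M (z + w) := by
  obtain ⟨a, b, hb, rfl⟩ := hz
  obtain ⟨c, d, hd, rfl⟩ := hw
  refine ⟨a * d + c * b, b * d, ?_, ?_⟩
  · intro h
    rcases hM.mem_or_mem h with h | h
    · exact hb h
    · exact hd h
  · have hb0 := h7_coe_ne_zero_of_not_mem hb
    have hd0 := h7_coe_ne_zero_of_not_mem hd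
    push_cast
    field_simp

theorem h7_memLocalRing_mul (hM : M.IsPrime) {z w : ℂ} (hz : Cfsg.MemLocalRing M z)
    (hw : Cfsg.MemLocalRing M w) : Cfsg.MemLocalRing M (z * w) := by
  obtain ⟨a, b, hb, rfl⟩ := hz
  obtain ⟨c, d, hd, rfl⟩ := hw
  refine ⟨a * c, b * d, ?_, ?_⟩
  · intro h
    rcases hM.mem_or_mem h with h | h
    · exact hb h
    · exact hd h
  · have hb0 := h7_coe_ne_zero_of_not_mem hb
    have hd0 := h7_coe_ne_zero_of_not_mem hd
    push_cast
    field_simp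

theorem h7_memLocalRing_neg {z : ℂ} (hz : Cfsg.MemLocalRing M z) :
    Cfsg.MemLocalRing M (-z) := by
  obtain ⟨a, b, hb, rfl⟩ := hz
  refine ⟨-a, b, hb, ?_⟩
  push_cast
  ring

theorem h7_memLocalRing_sub (hM : M.IsPrime) {z w : ℂ} (hz : Cfsg.MemLocalRing M z)
    (hw : Cfsg.MemLocalRing M w) : Cfsg.MemLocalRing M (z - w) := by
  rw [sub_eq_add_neg]
  exact h7_memLocalRing_add hM hz (h7_memLocalRing_neg hw)

theorem h7_memLocalRing_sum (hM : M.IsPrime) {ι : Type*} (s : Finset ι) (f : ι → ℂ)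
    (h : ∀ i ∈ s, Cfsg.MemLocalRing M (f i)) : Cfsg.MemLocalRing M (∑ i ∈ s, f i) := by
  classical
  induction s using Finset.induction_on with
  | empty =>
    have := h7_memLocalRing_of_algInt hM (0 : Cfsg.AlgInt)
    simpa using this
  | insert a s ha ih =>
    rw [Finset.sum_insert ha]
    exact h7_memLocalRing_add hM (h a (Finset.mem_insert_self a s))
      (ih fun i hi => h i (Finset.mem_insert_of_mem hi))

theorem h7_memLocalIdeal_algInt_iff (hM : M.IsPrime) (a : Cfsg.AlgInt) :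
    Cfsg.MemLocalIdeal M (a : ℂ) ↔ a ∈ M := by
  constructor
  · rintro ⟨c, d, hc, hd, h⟩
    have hd0 := h7_coe_ne_zero_of_not_mem hd
    have h1 : (c : ℂ) = (a : ℂ) * (d : ℂ) := by
      rw [← h]; field_simp
    have h2 : c = a * d := by
      apply Subtype.ext
      rw [h1]; rfl
    rw [h2] at hc
    rcases hM.mem_or_mem hc with h | h
    · exact h
    · exact absurd h hd
  · exact h7_memLocalIdeal_of_mem hM

theorem h7_not_memLocalIdeal_one (hM : M.IsPrime) : ¬ Cfsg.MemLocalIdeal M 1 := by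
  intro h
  have : Cfsg.MemLocalIdeal M ((1 : Cfsg.AlgInt) : ℂ) := by simpa using h
  exact h7_one_not_mem hM ((h7_memLocalIdeal_algInt_iff hM 1).mp this)

theorem h7_isPrime_of_isPModular {p : ℕ} (hM : Cfsg.IsPModular p M) : M.IsPrime :=
  hM.2.1.isPrime

end Cfsg.Agent.Lib.helper7
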