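import Mathlib
import Cfsg.Prelude.Def_Blocks
import Cfsg.Agent.Lib.helper7.LocalIdeal
import Cfsg.Agent.Lib.helper7.ClassSum
import Cfsg.Agent.Lib.Helper25.CharOrth
import Cfsg.Agent.Lib.helper2.CharInt

set_option autoImplicit false
set_option linter.style.haveILetI false
set_option linter.unusedSectionVars false
set_option linter.unusedVariables false

namespace Cfsg.Agent.Lib.helper7

open scoped ComplexConjugate
open Cfsg.Agent.Lib.Helper25

variable {G : Type*} [Group G]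

theorem h7_twisted_sum_scalar [Fintype G] (χ : Cfsg.IrrCharacter G) {V : Type*} [AddCommGroup V]
    [Module ℂ V] [FiniteDimensional ℂ V] (ρ : Representation ℂ G V) [ρ.IsIrreducible] :
    ∑ h : G, (χ : G → ℂ) h⁻¹ • ρ h =
      ((Nat.card G : ℂ) * Cfsg.classInner ρ.character (χ : G → ℂ) / ρ.character 1) •
        (LinearMap.id : V →ₗ[ℂ] V) := by
  classical
  set T : V →ₗ[ℂ] V := ∑ h : G, (χ : G → ℂ) h⁻¹ • ρ h with hT
  have hcomm : ∀ k : G, T ∘ₗ ρ k = ρ k ∘ₗ T := by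
    intro k
    rw [← Module.End.mul_eq_comp, ← Module.End.mul_eq_comp, hT, Finset.sum_mul, Finset.mul_sum]
    refine Fintype.sum_bijective (fun y => k⁻¹ * y * k) ?_ _ _ fun y ↦ ?_
    · refine ⟨fun a b hab => ?_, fun b => ⟨k * b * k⁻¹, by group⟩⟩
      have := congrArg (fun z => k * z * k⁻¹) hab
      simpa [mul_assoc] using this
    · rw [smul_mul_assoc, mul_smul_comm, ← map_mul, ← map_mul]
      have h1 : (χ : G → ℂ) (k⁻¹ * y * k)⁻¹ = (χ : G → ℂ) y⁻¹ := by
        have : (k⁻¹ * y * k)⁻¹ = k⁻¹ * y⁻¹ * k⁻¹⁻¹ := by group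
        rw [this, irr_conj_invariant]
      rw [h1]
      congr 2
      group
  obtain ⟨c, hc⟩ := commuting_end_scalar ρ T hcomm
  have htr : LinearMap.trace ℂ V T = (Nat.card G : ℂ) * Cfsg.classInner ρ.character (χ : G → ℂ) := by
    rw [hT, map_sum]
    unfold Cfsg.classInner
    have hG : (Nat.card G : ℂ) ≠ 0 := by exact_mod_cast Nat.card_pos.ne'
    rw [← mul_assoc, mul_inv_cancel₀ hG, one_mul]
    refine Finset.sum_congr rfl fun h _ => ?_
    rw [map_smul, smul_eq_mul, irr_inv, mul_comm]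
    rfl
  have htr2 : LinearMap.trace ℂ V T = c * ρ.character 1 := by
    rw [hc, map_smul, LinearMap.trace_id, Representation.char_one, smul_eq_mul]
  have h1 : ρ.character 1 ≠ 0 := by
    rw [Representation.char_one]
    exact_mod_cast finrank_ne_zero_of_irr ρ
  rw [hc]
  congr 1
  rw [eq_div_iff h1, ← htr2, htr]

theorem h7_gen_orth [Fintype G] (χ ψ : Cfsg.IrrCharacter G) (g : G) :
    ∑ h : G, (χ : G → ℂ) (g * h⁻¹) * (ψ : G → ℂ) h =
      if χ = ψ then (Nat.card G : ℂ) * (χ : G → ℂ) g / (χ : G → ℂ) 1 else 0 := by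
  classical
  obtain ⟨n, ρ, hρ, hψ⟩ := ψ.2
  haveI := hρ
  have h1 := h7_twisted_sum_scalar χ ρ
  have h2 : ∑ h : G, (χ : G → ℂ) (g * h⁻¹) * (ψ : G → ℂ) h =
      LinearMap.trace ℂ _ ((∑ h : G, (χ : G → ℂ) h⁻¹ • ρ h) * ρ g) := by
    rw [Finset.sum_mul, map_sum]
    refine Fintype.sum_bijective (fun y => y * g⁻¹) ?_ _ _ fun y ↦ ?_
    · refine ⟨fun a b hab => ?_, fun b => ⟨b * g, by group⟩⟩
      exact mul_right_cancel hab
    · rw [smul_mul_assoc, map_smul, smul_eq_mul, ← map_mul]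
      have e1 : g * y⁻¹ = (y * g⁻¹)⁻¹ := by group
      have e2 : y * g⁻¹ * g = y := by group
      rw [e1, e2, ← hψ]
      rfl
  rw [h2, h1, smul_mul_assoc, map_smul, smul_eq_mul]
  have : (LinearMap.id : (Fin n → ℂ) →ₗ[ℂ] (Fin n → ℂ)) * ρ g = ρ g := by
    rw [Module.End.mul_eq_comp, LinearMap.id_comp]
  rw [this]
  change _ * ρ.character g = _
  rw [hψ]
  have h3 := irr_classInner ψ χ
  rw [h3]
  by_cases hc : χ = ψ
  · rw [if_pos hc, if_pos hc.symm, hc]
    ring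
  · have hc' : ¬ ψ = χ := fun h => hc h.symm
    rw [if_neg hc, if_neg hc']
    simp


noncomputable def h7_coef [Fintype G] [Fintype (Cfsg.IrrCharacter G)]
    (c : Cfsg.IrrCharacter G → ℂ) (g : G) : ℂ :=
  (Nat.card G : ℂ)⁻¹ * ∑ χ : Cfsg.IrrCharacter G, c χ * ((χ : G → ℂ) 1 * conj ((χ : G → ℂ) g))

theorem h7_irr_conj_one (χ : Cfsg.IrrCharacter G) : conj ((χ : G → ℂ) 1) = (χ : G → ℂ) 1 := by
  obtain ⟨n, hn, h⟩ := irr_one_eq_finrank χ
  rw [h, Complex.conj_natCast]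

section coef

variable [Fintype G] [Fintype (Cfsg.IrrCharacter G)]

theorem h7_coef_conj (c : Cfsg.IrrCharacter G → ℂ) (g h : G) :
    h7_coef c (h * g * h⁻¹) = h7_coef c g := by
  unfold h7_coef
  congr 1
  refine Finset.sum_congr rfl fun χ _ => ?_
  rw [irr_conj_invariant]

theorem h7_coef_add (c d : Cfsg.IrrCharacter G → ℂ) (g : G) :
    h7_coef (c + d) g = h7_coef c g + h7_coef d g := by
  unfold h7_coef
  rw [← mul_add, ← Finset.sum_add_distrib]
  congr 1
  refine Finset.sum_congr rfl fun χ _ => ?_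
  rw [Pi.add_apply, add_mul]

theorem h7_coef_neg (c : Cfsg.IrrCharacter G → ℂ) (g : G) :
    h7_coef (-c) g = - h7_coef c g := by
  unfold h7_coef
  rw [← mul_neg, ← Finset.sum_neg_distrib]
  congr 1
  refine Finset.sum_congr rfl fun χ _ => ?_
  rw [Pi.neg_apply, neg_mul]

theorem h7_coef_zero (g : G) : h7_coef (0 : Cfsg.IrrCharacter G → ℂ) g = 0 := by
  unfold h7_coef
  simp

open Classical in
theorem h7_coef_const (s : ℂ) (g : G) :
    h7_coef (fun _ : Cfsg.IrrCharacter G => s) g = if g = 1 then s else 0 := by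
  classical
  unfold h7_coef
  have h1 := irr_column_orthogonality (1 : G) g
  have h2 : ∑ χ : Cfsg.IrrCharacter G, s * ((χ : G → ℂ) 1 * conj ((χ : G → ℂ) g)) =
      s * ∑ χ : Cfsg.IrrCharacter G, (χ : G → ℂ) 1 * conj ((χ : G → ℂ) g) := by
    rw [Finset.mul_sum]
  rw [h2, h1]
  have hG : (Nat.card G : ℂ) ≠ 0 := by exact_mod_cast Nat.card_pos.ne'
  by_cases hg : g = 1
  · subst hg
    rw [if_pos (IsConj.refl _), if_pos rfl]
    have : Subgroup.centralizer ({(1 : G)} : Set G) = ⊤ := by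
      ext x
      simp [Subgroup.mem_centralizer_iff]
    rw [this, Nat.card_congr (Subgroup.topEquiv (G := G)).toEquiv]
    field_simp
  · rw [if_neg hg, if_neg]
    · simp
    · intro hc
      exact hg (isConj_one_right.mp hc.symm)

open Classical in
theorem h7_coef_centralChar (x g : G) :
    h7_coef (fun χ : Cfsg.IrrCharacter G => Cfsg.centralChar (χ : G → ℂ) x) g =
      if IsConj g x then 1 else 0 := by
  classical
  unfold h7_coef Cfsg.centralChar
  have h1 := irr_column_orthogonality x g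
  have h2 : ∑ χ : Cfsg.IrrCharacter G,
      ((Subgroup.centralizer ({x} : Set G)).index : ℂ) * (χ : G → ℂ) x / (χ : G → ℂ) 1 *
        ((χ : G → ℂ) 1 * conj ((χ : G → ℂ) g)) =
      ((Subgroup.centralizer ({x} : Set G)).index : ℂ) *
        ∑ χ : Cfsg.IrrCharacter G, (χ : G → ℂ) x * conj ((χ : G → ℂ) g) := by
    rw [Finset.mul_sum]
    refine Finset.sum_congr rfl fun χ _ => ?_
    have := irr_one_ne_zero χ
    field_simp
  rw [h2, h1]
  have hG : (Nat.card G : ℂ) ≠ 0 := by exact_mod_cast Nat.card_pos.ne'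
  by_cases hc : IsConj g x
  · rw [if_pos hc, if_pos hc]
    obtain ⟨y, hy⟩ := isConj_iff.mp hc
    have e1 : Nat.card (Subgroup.centralizer ({g} : Set G)) =
        Nat.card (Subgroup.centralizer ({x} : Set G)) := by
      have := card_conj_mul_card_centralizer g
      have h3 := h7_card_class_mul_card_centralizer g
      have h4 := h7_card_class_mul_card_centralizer x
      have h5 : Nat.card {y : G // IsConj g y} = Nat.card {y : G // IsConj x y} := by
        apply Nat.card_congr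
        exact Equiv.subtypeEquivRight (fun z => ⟨fun h => hc.symm.trans h, fun h => hc.trans h⟩)
      rw [h5] at h3
      have hpos : 0 < Nat.card {y : G // IsConj x y} := Nat.card_pos_iff.mpr ⟨⟨⟨x, IsConj.refl x⟩⟩, inferInstance⟩
      exact Nat.eq_of_mul_eq_mul_left hpos (h3.trans h4.symm)
    rw [e1]
    have h6 := Subgroup.index_mul_card (Subgroup.centralizer ({x} : Set G))
    have h7 : ((Subgroup.centralizer ({x} : Set G)).index : ℂ) *
        (Nat.card (Subgroup.centralizer ({x} : Set G)) : ℂ) = (Nat.card G : ℂ) := by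
      exact_mod_cast h6
    rw [← mul_assoc, mul_comm _ ((Subgroup.centralizer ({x} : Set G)).index : ℂ), mul_assoc, mul_comm (Nat.card G : ℂ)⁻¹, ← mul_assoc, h7]
    exact mul_inv_cancel₀ hG
  · rw [if_neg hc, if_neg hc]
    simp

theorem h7_coef_mul (c d : Cfsg.IrrCharacter G → ℂ) (g : G) :
    h7_coef (c * d) g = ∑ h : G, h7_coef c (g * h⁻¹) * h7_coef d h := by
  classical
  have key : ∀ χ ψ : Cfsg.IrrCharacter G,
      ∑ h : G, conj ((χ : G → ℂ) (g * h⁻¹)) * conj ((ψ : G → ℂ) h) =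
        if χ = ψ then (Nat.card G : ℂ) * conj ((χ : G → ℂ) g) / (χ : G → ℂ) 1 else 0 := by
    intro χ ψ
    have h1 := congrArg (starRingEnd ℂ) (h7_gen_orth χ ψ g)
    rw [map_sum] at h1
    simp only [map_mul] at h1
    rw [h1]
    split_ifs
    · rw [map_div₀, map_mul, Complex.conj_natCast, h7_irr_conj_one]
    · simp
  unfold h7_coef
  have hG : (Nat.card G : ℂ) ≠ 0 := by exact_mod_cast Nat.card_pos.ne'
  have e1 : ∀ h : G,
      ((Nat.card G : ℂ)⁻¹ * ∑ χ : Cfsg.IrrCharacter G,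
        c χ * ((χ : G → ℂ) 1 * conj ((χ : G → ℂ) (g * h⁻¹)))) *
      ((Nat.card G : ℂ)⁻¹ * ∑ ψ : Cfsg.IrrCharacter G,
        d ψ * ((ψ : G → ℂ) 1 * conj ((ψ : G → ℂ) h))) =
      ∑ χ : Cfsg.IrrCharacter G, ∑ ψ : Cfsg.IrrCharacter G,
        ((Nat.card G : ℂ)⁻¹ * (Nat.card G : ℂ)⁻¹ * (c χ * (χ : G → ℂ) 1) * (d ψ * (ψ : G → ℂ) 1)) *
          (conj ((χ : G → ℂ) (g * h⁻¹)) * conj ((ψ : G → ℂ) h)) := by
    intro h
    rw [mul_mul_mul_comm, Finset.sum_mul_sum, Finset.mul_sum]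
    refine Finset.sum_congr rfl fun χ _ => ?_
    rw [Finset.mul_sum]
    refine Finset.sum_congr rfl fun ψ _ => ?_
    ring
  rw [Finset.sum_congr rfl (fun h _ => e1 h), Finset.sum_comm]
  rw [Finset.mul_sum]
  refine Finset.sum_congr rfl fun χ _ => ?_
  rw [Finset.sum_comm]
  have e2 : ∀ ψ : Cfsg.IrrCharacter G, ∑ h : G,
      ((Nat.card G : ℂ)⁻¹ * (Nat.card G : ℂ)⁻¹ * (c χ * (χ : G → ℂ) 1) * (d ψ * (ψ : G → ℂ) 1)) *
          (conj ((χ : G → ℂ) (g * h⁻¹)) * conj ((ψ : G → ℂ) h)) =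
      ((Nat.card G : ℂ)⁻¹ * (Nat.card G : ℂ)⁻¹ * (c χ * (χ : G → ℂ) 1) * (d ψ * (ψ : G → ℂ) 1)) *
        (if χ = ψ then (Nat.card G : ℂ) * conj ((χ : G → ℂ) g) / (χ : G → ℂ) 1 else 0) := by
    intro ψ
    rw [← Finset.mul_sum, key]
  rw [Finset.sum_congr rfl (fun ψ _ => e2 ψ)]
  rw [Finset.sum_eq_single χ]
  · rw [if_pos rfl, Pi.mul_apply]
    have := irr_one_ne_zero χ
    field_simp
  · intro ψ _ hne
    rw [if_neg (fun h => hne h.symm), mul_zero]
  · intro h
    exact absurd (Finset.mem_univ χ) h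

theorem h7_coef_eval (c : Cfsg.IrrCharacter G → ℂ) (χ : Cfsg.IrrCharacter G) :
    ∑ g : G, h7_coef c g * (χ : G → ℂ) g = c χ * (χ : G → ℂ) 1 := by
  classical
  unfold h7_coef
  have hG : (Nat.card G : ℂ) ≠ 0 := by exact_mod_cast Nat.card_pos.ne'
  have e1 : ∀ g : G, ((Nat.card G : ℂ)⁻¹ * ∑ ψ : Cfsg.IrrCharacter G,
      c ψ * ((ψ : G → ℂ) 1 * conj ((ψ : G → ℂ) g))) * (χ : G → ℂ) g =
      ∑ ψ : Cfsg.IrrCharacter G, c ψ * (ψ : G → ℂ) 1 *
        ((Nat.card G : ℂ)⁻¹ * ((χ : G → ℂ) g * conj ((ψ : G → ℂ) g))) := by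
    intro g
    rw [Finset.mul_sum, Finset.sum_mul]
    refine Finset.sum_congr rfl fun ψ _ => ?_
    ring
  rw [Finset.sum_congr rfl (fun g _ => e1 g), Finset.sum_comm]
  have e2 : ∀ ψ : Cfsg.IrrCharacter G, ∑ g : G, c ψ * (ψ : G → ℂ) 1 *
        ((Nat.card G : ℂ)⁻¹ * ((χ : G → ℂ) g * conj ((ψ : G → ℂ) g))) =
      c ψ * (ψ : G → ℂ) 1 * (if χ = ψ then 1 else 0) := by
    intro ψ
    rw [← Finset.mul_sum, ← Finset.mul_sum]
    have := irr_classInner χ ψ
    unfold Cfsg.classInner at this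
    rw [this]
  rw [Finset.sum_congr rfl (fun ψ _ => e2 ψ)]
  rw [Finset.sum_eq_single χ]
  · rw [if_pos rfl, mul_one]
  · intro ψ _ hne
    rw [if_neg (fun h => hne h.symm), mul_zero]
  · intro h
    exact absurd (Finset.mem_univ χ) h

end coef

end Cfsg.Agent.Lib.helper7
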