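import Mathlib
import Cfsg.Prelude.Def_Blocks
import Cfsg.Agent.Lib.helper7.BlockOrth

set_option autoImplicit false
set_option linter.style.haveILetI false
set_option linter.unusedSectionVars false
set_option linter.unusedVariables false

namespace Cfsg.Agent.Lib.helper7

open scoped ComplexConjugate
open Cfsg.Agent.Lib.Helper25

variable {G : Type*} [Group G]

theorem h7_memLocalRing_zero {M : Ideal Cfsg.AlgInt} (hM : M.IsPrime) : Cfsg.MemLocalRing M 0 := by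
  have := h7_memLocalRing_of_algInt hM (0 : Cfsg.AlgInt)
  simpa using this

theorem h7_memLocalRing_one {M : Ideal Cfsg.AlgInt} (hM : M.IsPrime) : Cfsg.MemLocalRing M 1 := by
  have := h7_memLocalRing_of_algInt hM (1 : Cfsg.AlgInt)
  simpa using this

theorem h7_memLocalRing_inv {M : Ideal Cfsg.AlgInt} (hM : M.IsPrime) {z : ℂ}
    (hz : Cfsg.MemLocalRing M z) (hz' : ¬ Cfsg.MemLocalIdeal M z) : Cfsg.MemLocalRing M z⁻¹ := by
  obtain ⟨a, b, hb, rfl⟩ := hz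
  have ha : a ∉ M := fun ha => hz' ⟨a, b, ha, hb, rfl⟩
  exact ⟨b, a, ha, by rw [inv_div]⟩

theorem h7_memLocalRing_of_isIntegral {M : Ideal Cfsg.AlgInt} (hM : M.IsPrime) {z : ℂ}
    (hz : IsIntegral ℤ z) : Cfsg.MemLocalRing M z :=
  h7_memLocalRing_of_algInt hM ⟨z, hz⟩

theorem h7_memLocalRing_centralChar [Finite G] {M : Ideal Cfsg.AlgInt} (hM : M.IsPrime)
    (χ : Cfsg.IrrCharacter G) (x : G) : Cfsg.MemLocalRing M (Cfsg.centralChar (χ : G → ℂ) x) :=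
  h7_memLocalRing_of_isIntegral hM (Cfsg.Agent.Lib.helper2.irr_central_char_integral χ x)

section

variable [Fintype G] [Fintype (Cfsg.IrrCharacter G)]

def h7_intSubring (M : Ideal Cfsg.AlgInt) (hM : M.IsPrime) :
    Subring (Cfsg.IrrCharacter G → ℂ) where
  carrier := {c | ∀ g : G, Cfsg.MemLocalRing M (h7_coef c g)}
  mul_mem' := by
    intro c d hc hd g
    rw [h7_coef_mul]
    exact h7_memLocalRing_sum hM _ _ fun h _ => h7_memLocalRing_mul hM (hc _) (hd _)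
  one_mem' := by
    intro g
    have : (1 : Cfsg.IrrCharacter G → ℂ) = fun _ => (1 : ℂ) := rfl
    rw [this, h7_coef_const]
    split_ifs
    · exact h7_memLocalRing_one hM
    · exact h7_memLocalRing_zero hM
  add_mem' := by
    intro c d hc hd g
    rw [h7_coef_add]
    exact h7_memLocalRing_add hM (hc g) (hd g)
  zero_mem' := by
    intro g
    rw [h7_coef_zero]
    exact h7_memLocalRing_zero hM
  neg_mem' := by
    intro c hc g
    rw [h7_coef_neg]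
    exact h7_memLocalRing_neg (hc g)

theorem h7_mem_intSubring {M : Ideal Cfsg.AlgInt} (hM : M.IsPrime)
    (c : Cfsg.IrrCharacter G → ℂ) :
    c ∈ h7_intSubring (G := G) M hM ↔ ∀ g : G, Cfsg.MemLocalRing M (h7_coef c g) := Iff.rfl

theorem h7_const_mem {M : Ideal Cfsg.AlgInt} (hM : M.IsPrime) {s : ℂ}
    (hs : Cfsg.MemLocalRing M s) :
    (fun _ : Cfsg.IrrCharacter G => s) ∈ h7_intSubring (G := G) M hM := by
  intro g
  rw [h7_coef_const]
  split_ifs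
  · exact hs
  · exact h7_memLocalRing_zero hM

theorem h7_centralChar_mem {M : Ideal Cfsg.AlgInt} (hM : M.IsPrime) (x : G) :
    (fun χ : Cfsg.IrrCharacter G => Cfsg.centralChar (χ : G → ℂ) x) ∈
      h7_intSubring (G := G) M hM := by
  intro g
  rw [h7_coef_centralChar]
  split_ifs
  · exact h7_memLocalRing_one hM
  · exact h7_memLocalRing_zero hM

open Classical in
theorem h7_indicator_mem {M : Ideal Cfsg.AlgInt} (hM : M.IsPrime) (χ₀ : Cfsg.IrrCharacter G)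
    (x : G) :
    (fun χ : Cfsg.IrrCharacter G =>
      if Cfsg.MemLocalIdeal M (Cfsg.centralChar (χ₀ : G → ℂ) x - Cfsg.centralChar (χ : G → ℂ) x)
      then (1 : ℂ) else 0) ∈ h7_intSubring (G := G) M hM := by
  classical
  set 𝒜 := h7_intSubring (G := G) M hM with h𝒜
  let ω : Cfsg.IrrCharacter G → ℂ := fun χ => Cfsg.centralChar (χ : G → ℂ) x
  have hω : ∀ χ, Cfsg.MemLocalRing M (ω χ) := fun χ => h7_memLocalRing_centralChar hM χ x
  let A : 𝒜 := ⟨ω, h7_centralChar_mem hM x⟩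
  let K : ℂ → (Cfsg.IrrCharacter G → ℂ) := fun s _ => s
  let L : Cfsg.IrrCharacter G → 𝒜 := fun ψ => A - ⟨K (ω ψ), h7_const_mem hM (hω ψ)⟩
  have hL : ∀ ψ χ, ((L ψ : 𝒜) : Cfsg.IrrCharacter G → ℂ) χ = ω χ - ω ψ := fun ψ χ => rfl
  let I₁ : Finset (Cfsg.IrrCharacter G) :=
    Finset.univ.filter fun χ => Cfsg.MemLocalIdeal M (ω χ₀ - ω χ)
  let I₂ : Finset (Cfsg.IrrCharacter G) :=
    Finset.univ.filter fun χ => ¬ Cfsg.MemLocalIdeal M (ω χ₀ - ω χ)
  have hcop : IsCoprime (∏ ψ ∈ I₁, L ψ) (∏ ψ ∈ I₂, L ψ) := by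
    refine IsCoprime.prod_left fun i hi => IsCoprime.prod_right fun j hj => ?_
    have hi' : Cfsg.MemLocalIdeal M (ω χ₀ - ω i) := (Finset.mem_filter.mp hi).2
    have hj' : ¬ Cfsg.MemLocalIdeal M (ω χ₀ - ω j) := (Finset.mem_filter.mp hj).2
    have hne : ¬ Cfsg.MemLocalIdeal M (ω j - ω i) := by
      intro h
      apply hj'
      have h2 := h7_memLocalIdeal_sub hM hi' h
      have : ω χ₀ - ω i - (ω j - ω i) = ω χ₀ - ω j := by ring
      rwa [this] at h2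
    have hinv : Cfsg.MemLocalRing M (ω j - ω i)⁻¹ :=
      h7_memLocalRing_inv hM (h7_memLocalRing_sub hM (hω j) (hω i)) hne
    have hne0 : ω j - ω i ≠ 0 := by
      intro h0
      apply hne
      rw [h0]
      exact h7_memLocalIdeal_zero hM
    let u : 𝒜 := ⟨K (ω j - ω i)⁻¹, h7_const_mem hM hinv⟩
    refine ⟨u, -u, ?_⟩
    apply Subtype.ext
    funext χ
    show (ω j - ω i)⁻¹ * (ω χ - ω i) + (-(ω j - ω i)⁻¹) * (ω χ - ω j) = 1
    field_simp
    ring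
  obtain ⟨U, V, hUV⟩ := hcop
  have hprod : ∀ (s : Finset (Cfsg.IrrCharacter G)) (χ : Cfsg.IrrCharacter G),
      ((∏ ψ ∈ s, L ψ : 𝒜) : Cfsg.IrrCharacter G → ℂ) χ = ∏ ψ ∈ s, (ω χ - ω ψ) := by
    intro s χ
    have h1 : ((∏ ψ ∈ s, L ψ : 𝒜) : Cfsg.IrrCharacter G → ℂ) =
        ∏ ψ ∈ s, ((L ψ : 𝒜) : Cfsg.IrrCharacter G → ℂ) := map_prod 𝒜.subtype _ _
    rw [h1, Finset.prod_apply]
    exact Finset.prod_congr rfl fun ψ _ => hL ψ χ
  have hE : ((V * ∏ ψ ∈ I₂, L ψ : 𝒜) : Cfsg.IrrCharacter G → ℂ) =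
      fun χ : Cfsg.IrrCharacter G =>
        if Cfsg.MemLocalIdeal M (Cfsg.centralChar (χ₀ : G → ℂ) x -
          Cfsg.centralChar (χ : G → ℂ) x) then (1 : ℂ) else 0 := by
    funext χ
    have h1 : ((U * ∏ ψ ∈ I₁, L ψ + V * ∏ ψ ∈ I₂, L ψ : 𝒜) : Cfsg.IrrCharacter G → ℂ) χ = 1 :=
      congrArg (fun c : 𝒜 => (c : Cfsg.IrrCharacter G → ℂ) χ) hUV
    have h2 : ((U * ∏ ψ ∈ I₁, L ψ + V * ∏ ψ ∈ I₂, L ψ : 𝒜) : Cfsg.IrrCharacter G → ℂ) χ =
        (U : Cfsg.IrrCharacter G → ℂ) χ * ((∏ ψ ∈ I₁, L ψ : 𝒜) : Cfsg.IrrCharacter G → ℂ) χ +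
        ((V * ∏ ψ ∈ I₂, L ψ : 𝒜) : Cfsg.IrrCharacter G → ℂ) χ := rfl
    rw [h2] at h1
    by_cases hχ : Cfsg.MemLocalIdeal M (ω χ₀ - ω χ)
    · have h3 : ((∏ ψ ∈ I₁, L ψ : 𝒜) : Cfsg.IrrCharacter G → ℂ) χ = 0 := by
        rw [hprod]
        apply Finset.prod_eq_zero (i := χ)
        · exact Finset.mem_filter.mpr ⟨Finset.mem_univ _, hχ⟩
        · exact sub_self _
      rw [h3, mul_zero, zero_add] at h1
      rw [h1]
      show (1 : ℂ) = if Cfsg.MemLocalIdeal M (ω χ₀ - ω χ) then (1 : ℂ) else 0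
      rw [if_pos hχ]
    · have h3 : ((V * ∏ ψ ∈ I₂, L ψ : 𝒜) : Cfsg.IrrCharacter G → ℂ) χ = 0 := by
        have : ((V * ∏ ψ ∈ I₂, L ψ : 𝒜) : Cfsg.IrrCharacter G → ℂ) χ =
          (V : Cfsg.IrrCharacter G → ℂ) χ *
            ((∏ ψ ∈ I₂, L ψ : 𝒜) : Cfsg.IrrCharacter G → ℂ) χ := rfl
        rw [this, hprod]
        apply mul_eq_zero_of_right
        apply Finset.prod_eq_zero (i := χ)
        · exact Finset.mem_filter.mpr ⟨Finset.mem_univ _, hχ⟩
        · exact sub_self _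
      rw [h3]
      show (0 : ℂ) = if Cfsg.MemLocalIdeal M (ω χ₀ - ω χ) then (1 : ℂ) else 0
      rw [if_neg hχ]
  rw [← hE]
  exact (V * ∏ ψ ∈ I₂, L ψ : 𝒜).2

open Classical in
theorem h7_block_indicator_mem {M : Ideal Cfsg.AlgInt} (hM : M.IsPrime)
    (χ₀ : Cfsg.IrrCharacter G) :
    (fun χ : Cfsg.IrrCharacter G =>
      if χ ∈ Cfsg.blockOf M (χ₀ : G → ℂ) then (1 : ℂ) else 0) ∈ h7_intSubring (G := G) M hM := by
  classical
  have h1 : (fun χ : Cfsg.IrrCharacter G =>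
      if χ ∈ Cfsg.blockOf M (χ₀ : G → ℂ) then (1 : ℂ) else 0) =
      ∏ x : G, (fun χ : Cfsg.IrrCharacter G =>
      if Cfsg.MemLocalIdeal M (Cfsg.centralChar (χ₀ : G → ℂ) x - Cfsg.centralChar (χ : G → ℂ) x)
      then (1 : ℂ) else 0) := by
    funext χ
    rw [Finset.prod_apply, Finset.prod_ite_zero]
    simp only [Finset.prod_const_one, Finset.mem_univ, true_implies]
    by_cases hχ : χ ∈ Cfsg.blockOf M (χ₀ : G → ℂ)
    · rw [if_pos hχ, if_pos]
      exact hχ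
    · rw [if_neg hχ, if_neg]
      exact hχ
  rw [h1]
  exact Subring.prod_mem _ fun x _ => h7_indicator_mem hM χ₀ x

open Classical in
theorem h7_coef_indicator (B : Set (Cfsg.IrrCharacter G)) (g : G) :
    h7_coef (fun χ : Cfsg.IrrCharacter G => if χ ∈ B then (1 : ℂ) else 0) g =
      Cfsg.blockCoeff B g := by
  classical
  unfold h7_coef Cfsg.blockCoeff
  congr 1
  rw [finsum_mem_def, finsum_eq_sum_of_fintype]
  refine Finset.sum_congr rfl fun χ _ => ?_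
  rw [Set.indicator_apply]
  by_cases hχ : χ ∈ B
  · simp only [if_pos hχ, one_mul]
  · simp only [if_neg hχ, zero_mul]

theorem h7_osima {M : Ideal Cfsg.AlgInt} (hM : M.IsPrime) (χ₀ : Cfsg.IrrCharacter G) (g : G) :
    Cfsg.MemLocalRing M (Cfsg.blockCoeff (Cfsg.blockOf M (χ₀ : G → ℂ)) g) := by
  classical
  rw [← h7_coef_indicator]
  exact h7_block_indicator_mem hM χ₀ g

end

end Cfsg.Agent.Lib.helper7
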