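import Mathlib
import Cfsg.Prelude.Def_Blocks
import Cfsg.Agent.Lib.helper7.BlockOsima

set_option autoImplicit false
set_option linter.style.haveILetI false
set_option linter.unusedSectionVars false
set_option linter.unusedVariables false

namespace Cfsg.Agent.Lib.helper7

open scoped ComplexConjugate
open Cfsg.Agent.Lib.Helper25

variable {G : Type*} [Group G]

section

variable [Fintype G] [Fintype (Cfsg.IrrCharacter G)]

theorem h7_eval_expand [Fintype (ConjClasses G)] (c : Cfsg.IrrCharacter G → ℂ)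
    (χ : Cfsg.IrrCharacter G) :
    c χ = ∑ K : ConjClasses G, h7_coef c (Quotient.out K) *
      Cfsg.centralChar (χ : G → ℂ) (Quotient.out K) := by
  have h1 := h7_coef_eval c χ
  have hχ1 := irr_one_ne_zero χ
  have h2 : c χ = ∑ g : G, h7_coef c g * (χ : G → ℂ) g / (χ : G → ℂ) 1 := by
    rw [← Finset.sum_div, h1]
    field_simp
  have hcl : ∀ g h : G, h7_coef c (h * g * h⁻¹) * (χ : G → ℂ) (h * g * h⁻¹) / (χ : G → ℂ) 1 =
      h7_coef c g * (χ : G → ℂ) g / (χ : G → ℂ) 1 := by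
    intro g h
    rw [h7_coef_conj, irr_conj_invariant]
  rw [h2, h7_sum_eq_sum_conjClasses _ hcl]
  refine Finset.sum_congr rfl fun K _ => ?_
  unfold Cfsg.centralChar
  rw [nsmul_eq_mul]
  ring

theorem h7_eval_congr {M : Ideal Cfsg.AlgInt} (hM : M.IsPrime) (c : Cfsg.IrrCharacter G → ℂ)
    (hc : c ∈ h7_intSubring (G := G) M hM) (χ ψ : Cfsg.IrrCharacter G)
    (h : Cfsg.SameBlock M (χ : G → ℂ) (ψ : G → ℂ)) : Cfsg.MemLocalIdeal M (c χ - c ψ) := by
  classical
  haveI : Fintype (ConjClasses G) := Fintype.ofFinite _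
  rw [h7_eval_expand c χ, h7_eval_expand c ψ, ← Finset.sum_sub_distrib]
  apply h7_memLocalIdeal_sum hM
  intro K _
  rw [← mul_sub]
  exact h7_memLocalIdeal_mul_left hM (hc _) (h _)

open Classical in
theorem h7_indicator_mem_of_coeff {M : Ideal Cfsg.AlgInt} (hM : M.IsPrime)
    (A : Set (Cfsg.IrrCharacter G)) (hA : ∀ g : G, Cfsg.MemLocalRing M (Cfsg.blockCoeff A g)) :
    (fun χ : Cfsg.IrrCharacter G => if χ ∈ A then (1 : ℂ) else 0) ∈
      h7_intSubring (G := G) M hM := by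
  intro g
  rw [h7_coef_indicator]
  exact hA g

theorem h7_union_of_blocks {M : Ideal Cfsg.AlgInt} (hM : M.IsPrime)
    (A : Set (Cfsg.IrrCharacter G)) (hA : ∀ g : G, Cfsg.MemLocalRing M (Cfsg.blockCoeff A g))
    (χ : Cfsg.IrrCharacter G) (hχ : χ ∈ A) : Cfsg.blockOf M (χ : G → ℂ) ⊆ A := by
  classical
  intro ψ hψ
  by_contra hn
  have h1 := h7_eval_congr hM _ (h7_indicator_mem_of_coeff hM A hA) χ ψ hψ
  simp only [if_pos hχ, if_neg hn, sub_zero] at h1
  exact h7_not_memLocalIdeal_one hM h1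

theorem h7_sameBlock_refl {M : Ideal Cfsg.AlgInt} (hM : M.IsPrime) (χ : G → ℂ) :
    Cfsg.SameBlock M χ χ := by
  intro g
  rw [sub_self]
  exact h7_memLocalIdeal_zero hM

theorem h7_sameBlock_symm {M : Ideal Cfsg.AlgInt} {χ ψ : G → ℂ} (h : Cfsg.SameBlock M χ ψ) :
    Cfsg.SameBlock M ψ χ := by
  intro g
  have := h7_memLocalIdeal_neg (h g)
  rwa [neg_sub] at this

theorem h7_sameBlock_trans {M : Ideal Cfsg.AlgInt} (hM : M.IsPrime) {χ ψ φ : G → ℂ}
    (h1 : Cfsg.SameBlock M χ ψ) (h2 : Cfsg.SameBlock M ψ φ) : Cfsg.SameBlock M χ φ := by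
  intro g
  have := h7_memLocalIdeal_add hM (h1 g) (h2 g)
  rwa [sub_add_sub_cancel] at this

theorem h7_exists_defect_class {M : Ideal Cfsg.AlgInt} (hM : M.IsPrime)
    (χ₀ : Cfsg.IrrCharacter G) :
    ∃ g : G, Cfsg.IsDefectClass M (Cfsg.blockOf M (χ₀ : G → ℂ)) g := by
  classical
  haveI : Fintype (ConjClasses G) := Fintype.ofFinite _
  set B := Cfsg.blockOf M (χ₀ : G → ℂ) with hB
  set c : Cfsg.IrrCharacter G → ℂ := fun χ => if χ ∈ B then (1 : ℂ) else 0 with hc
  have hcm : c ∈ h7_intSubring (G := G) M hM := h7_block_indicator_mem hM χ₀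
  have h0 : χ₀ ∈ B := h7_sameBlock_refl hM _
  have h1 := h7_eval_expand c χ₀
  have hc0 : c χ₀ = 1 := by simp only [hc, if_pos h0]
  rw [hc0] at h1
  have hex : ∃ K : ConjClasses G, ¬ Cfsg.MemLocalIdeal M (h7_coef c (Quotient.out K) *
      Cfsg.centralChar (χ₀ : G → ℂ) (Quotient.out K)) := by
    by_contra hcon
    have hcon' : ∀ K : ConjClasses G, Cfsg.MemLocalIdeal M (h7_coef c (Quotient.out K) *
        Cfsg.centralChar (χ₀ : G → ℂ) (Quotient.out K)) := fun K =>
      by_contra fun h => hcon ⟨K, h⟩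
    apply h7_not_memLocalIdeal_one hM
    rw [h1]
    exact h7_memLocalIdeal_sum hM _ _ fun K _ => hcon' K
  obtain ⟨K, hK⟩ := hex
  refine ⟨Quotient.out K, ?_, ?_, ?_⟩
  · rw [← h7_coef_indicator]
    exact hcm _
  · intro h
    apply hK
    rw [← h7_coef_indicator] at h
    exact h7_memLocalIdeal_mul_right hM h (h7_memLocalRing_centralChar hM χ₀ _)
  · intro χ hχ h
    apply hK
    have h2 : Cfsg.MemLocalIdeal M (Cfsg.centralChar (χ₀ : G → ℂ) (Quotient.out K)) := by
      have := h7_memLocalIdeal_add hM (hχ (Quotient.out K)) h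
      rwa [sub_add_cancel] at this
    exact h7_memLocalIdeal_mul_left hM (hcm _) h2

end

end Cfsg.Agent.Lib.helper7
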