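import Mathlib
import Cfsg.Prelude.Def_Characters
import Cfsg.Agent.Lib.helper7.Induction
import Cfsg.Agent.Lib.Helper25.CharOrth
import Cfsg.Agent.Lib.Helper25.CharAbelian
import Cfsg.Agent.Lib.helper2.CharNat
import Cfsg.Agent.Lib.helper2.CharInd

set_option autoImplicit false

namespace Cfsg.Agent.Lib.helper7

open scoped ComplexConjugate

variable {G : Type*} [Group G]

theorem h7_classInner_add_right [Fintype G] (f g h : G → ℂ) :
    Cfsg.classInner f (g + h) = Cfsg.classInner f g + Cfsg.classInner f h := by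
  simp only [Cfsg.classInner, Pi.add_apply, map_add, mul_add, Finset.sum_add_distrib]

theorem h7_classInner_sub_right [Fintype G] (f g h : G → ℂ) :
    Cfsg.classInner f (g - h) = Cfsg.classInner f g - Cfsg.classInner f h := by
  simp only [Cfsg.classInner, Pi.sub_apply, map_sub, mul_sub, Finset.sum_sub_distrib]

theorem h7_classInner_smul_right [Fintype G] (c : ℂ) (f h : G → ℂ) :
    Cfsg.classInner f (c • h) = conj c * Cfsg.classInner f h := by
  simp only [Cfsg.classInner, Pi.smul_apply, smul_eq_mul, map_mul, Finset.mul_sum]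
  refine Finset.sum_congr rfl fun x _ => ?_
  ring

theorem h7_classInner_zero_right [Fintype G] (f : G → ℂ) :
    Cfsg.classInner f (0 : G → ℂ) = 0 := by
  simp [Cfsg.classInner]

theorem h7_classInner_sum_right [Fintype G] {ι : Type*} (s : Finset ι)
    (f : G → ℂ) (h : ι → G → ℂ) :
    Cfsg.classInner f (∑ i ∈ s, h i) = ∑ i ∈ s, Cfsg.classInner f (h i) := by
  classical
  induction s using Finset.induction_on with
  | empty => simp [h7_classInner_zero_right]
  | insert a s ha ih =>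
    rw [Finset.sum_insert ha, Finset.sum_insert ha, h7_classInner_add_right, ih]

theorem h7_isCharacter_eq_zero {ψ : G → ℂ} (hψ : Cfsg.IsCharacter G ψ) (h1 : ψ 1 = 0) :
    ψ = 0 := by
  obtain ⟨n, ρ, rfl⟩ := hψ
  rw [Representation.char_one] at h1
  have hn : n = 0 := by
    have : Module.finrank ℂ (Fin n → ℂ) = n := by simp
    rw [this] at h1
    exact_mod_cast h1
  subst hn
  funext g
  simp only [Representation.character, Pi.zero_apply]
  have h : ρ g = 0 := by
    apply LinearMap.ext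
    intro v
    exact Subsingleton.elim _ _
  rw [h, map_zero]

theorem h7_irr_isCharacter {χ : G → ℂ} (hχ : Cfsg.IsIrrCharacter G χ) : Cfsg.IsCharacter G χ :=
  Cfsg.Agent.Lib.helper2.isCharacter_of_irr ⟨χ, hχ⟩

theorem h7_char_split [Fintype G] {Ψ : G → ℂ} (hΨ : Cfsg.IsCharacter G Ψ) (χ : G → ℂ)
    (hχ : Cfsg.IsIrrCharacter G χ) (h : Cfsg.classInner Ψ χ ≠ 0) :
    ∃ Δ : G → ℂ, Cfsg.IsCharacter G Δ ∧ Ψ = χ + Δ := by
  classical
  have : Fintype (Cfsg.IrrCharacter G) := Fintype.ofFinite _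
  obtain ⟨m, hm, hexp⟩ := Cfsg.Agent.Lib.helper2.isCharacter_expansion hΨ
  set χ' : Cfsg.IrrCharacter G := ⟨χ, hχ⟩ with hχ'
  have hmχ : m χ' ≠ 0 := by
    intro h0
    apply h
    have := hm χ'
    rw [h0] at this
    simpa using this
  refine ⟨∑ μ : Cfsg.IrrCharacter G, ((if μ = χ' then m μ - 1 else m μ : ℕ) : ℂ) • (μ : G → ℂ), ?_, ?_⟩
  · apply Cfsg.Agent.Lib.helper2.isCharacter_sum
    intro μ _
    exact Cfsg.Agent.Lib.helper2.isCharacter_natCast_smul (Cfsg.Agent.Lib.helper2.isCharacter_of_irr μ) _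
  · have hχsum : χ = ∑ μ : Cfsg.IrrCharacter G, ((if μ = χ' then 1 else 0 : ℕ) : ℂ) • (μ : G → ℂ) := by
      rw [Finset.sum_eq_single χ']
      · simp [hχ']
      · intro μ _ hμ
        simp [hμ]
      · intro hh
        exact absurd (Finset.mem_univ _) hh
    conv_rhs => rw [hχsum]
    rw [← Finset.sum_add_distrib]
    conv_lhs => rw [hexp]
    apply Finset.sum_congr rfl
    intro μ _
    rw [← add_smul]
    congr 1
    by_cases hμ : μ = χ'
    · subst hμ
      simp only [if_true]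
      have : 1 ≤ m χ' := Nat.one_le_iff_ne_zero.mpr hmχ
      rw [← Nat.cast_add]
      congr 1
      omega
    · simp [hμ]

theorem h7_char_split_inner_nat [Fintype G] {Φ Ψ : G → ℂ} (hΦ : Cfsg.IsCharacter G Φ)
    (hΨ : Cfsg.IsCharacter G Ψ) : ∃ m : ℕ, Cfsg.classInner Φ Ψ = (m : ℂ) :=
  Cfsg.Agent.Lib.helper2.classInner_character_nat hΦ hΨ

theorem h7_irr_norm [Fintype G] {χ : G → ℂ} (hχ : Cfsg.IsIrrCharacter G χ) :
    Cfsg.classInner χ χ = 1 := by
  have := Cfsg.Agent.Lib.Helper25.irr_classInner (⟨χ, hχ⟩ : Cfsg.IrrCharacter G) ⟨χ, hχ⟩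
  simpa using this

theorem h7_irr_inner_ne [Fintype G] {χ ψ : G → ℂ} (hχ : Cfsg.IsIrrCharacter G χ)
    (hψ : Cfsg.IsIrrCharacter G ψ) (hne : χ ≠ ψ) :
    Cfsg.classInner χ ψ = 0 := by
  have := Cfsg.Agent.Lib.Helper25.irr_classInner (⟨χ, hχ⟩ : Cfsg.IrrCharacter G) ⟨ψ, hψ⟩
  rw [if_neg] at this
  · exact this
  · intro h
    exact hne (congrArg Subtype.val h)

theorem h7_irr_of_norm_one [Fintype G] {ψ : G → ℂ} (hψ : Cfsg.IsCharacter G ψ)
    (h : Cfsg.classInner ψ ψ = 1) : Cfsg.IsIrrCharacter G ψ := by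
  classical
  have : Fintype (Cfsg.IrrCharacter G) := Fintype.ofFinite _
  obtain ⟨m, hm, hexp⟩ := Cfsg.Agent.Lib.helper2.isCharacter_expansion hψ
  have hcl := Cfsg.Agent.Lib.helper2.isCharacter_isClassFunction hψ
  have hpar := Cfsg.Agent.Lib.Helper25.classInner_parseval ψ hcl
  rw [h] at hpar
  have hsum : ∑ μ : Cfsg.IrrCharacter G, m μ * m μ = 1 := by
    have : ((∑ μ : Cfsg.IrrCharacter G, m μ * m μ : ℕ) : ℂ) = 1 := by
      rw [hpar]
      push_cast
      apply Finset.sum_congr rfl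
      intro μ _
      rw [hm μ, Complex.conj_natCast]
    exact_mod_cast this
  have hex : ∃ μ0, m μ0 ≠ 0 := by
    by_contra hcon
    push Not at hcon
    simp [hcon] at hsum
  obtain ⟨μ0, hμ0⟩ := hex
  have hsplit := Finset.add_sum_erase Finset.univ (fun μ => m μ * m μ) (Finset.mem_univ μ0)
  rw [hsum] at hsplit
  have hpos : 1 ≤ m μ0 * m μ0 := Nat.one_le_iff_ne_zero.mpr (Nat.mul_ne_zero hμ0 hμ0)
  have h1 : m μ0 * m μ0 = 1 := by omega
  have h2 : ∑ μ ∈ Finset.univ.erase μ0, m μ * m μ = 0 := by omega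
  have hm0 : m μ0 = 1 := by
    exact Nat.eq_one_of_mul_eq_one_left h1
  have hothers : ∀ μ, μ ≠ μ0 → m μ = 0 := by
    intro μ hμ
    have := (Finset.sum_eq_zero_iff.mp h2) μ (Finset.mem_erase.mpr ⟨hμ, Finset.mem_univ _⟩)
    exact mul_self_eq_zero.mp this
  have : ψ = (μ0 : G → ℂ) := by
    rw [hexp, Finset.sum_eq_single μ0]
    · rw [hm0]; simp
    · intro μ _ hμ
      rw [hothers μ hμ]; simp
    · intro hh
      exact absurd (Finset.mem_univ _) hh
  rw [this]
  exact μ0.2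

end Cfsg.Agent.Lib.helper7
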