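import Mathlib
import Cfsg.Prelude.Def_Characters
import Cfsg.Agent.Lib.helper7.CharTools
import Cfsg.Agent.Lib.Helper11.IndNormal

set_option autoImplicit false

namespace Cfsg.Agent.Lib.helper7

open scoped ComplexConjugate
open Cfsg.Agent.Lib.Helper11

variable {G : Type*} [Group G]

theorem h7_classInner_cj_cj (N : Subgroup G) [hN : N.Normal] [Fintype N] (φ ψ : N → ℂ) (g : G) :
    Cfsg.classInner (cj N φ g) (cj N ψ g) = Cfsg.classInner φ ψ := by
  unfold Cfsg.classInner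
  congr 1
  rw [← Equiv.sum_comp (MulAut.conjNormal g : N ≃* N).toEquiv (fun n => φ n * conj (ψ n))]
  apply Finset.sum_congr rfl
  intro n _
  rfl

theorem h7_cj_restrict (N : Subgroup G) [hN : N.Normal] (χ : G → ℂ)
    (hχ : Cfsg.IsClassFunction G χ) (g : G) :
    cj N (fun n : N => χ n) g = fun n : N => χ n := by
  funext n
  rw [cj_apply]
  exact hχ n g

theorem h7_classInner_restrict_cj (N : Subgroup G) [hN : N.Normal] [Fintype N] (χ : G → ℂ)
    (hχ : Cfsg.IsClassFunction G χ) (θ : N → ℂ) (g : G) :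
    Cfsg.classInner (fun n : N => χ n) (cj N θ g) = Cfsg.classInner (fun n : N => χ n) θ := by
  have := h7_classInner_cj_cj N (fun n : N => χ n) θ g
  rwa [h7_cj_restrict N χ hχ g] at this

theorem h7_irr_isClassFunction {χ : G → ℂ} (hχ : Cfsg.IsIrrCharacter G χ) :
    Cfsg.IsClassFunction G χ :=
  Cfsg.Agent.Lib.helper2.isCharacter_isClassFunction (h7_irr_isCharacter hχ)

theorem h7_frobenius_irr [Fintype G] (N : Subgroup G) [Fintype N] (χ : G → ℂ)
    (hχ : Cfsg.IsClassFunction G χ) (θ : N → ℂ) :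
    Cfsg.classInner (Cfsg.indFun N θ) χ = conj (Cfsg.classInner (fun n : N => χ n) θ) := by
  rw [h7_frobenius_reciprocity N θ χ hχ]
  exact Cfsg.Agent.Lib.helper2.classInner_conj_symm _ _

theorem h7_clifford_conj [Fintype G] (N : Subgroup G) [hN : N.Normal] [Fintype N] (χ : G → ℂ)
    (hχ : Cfsg.IsIrrCharacter G χ) (θ φ : N → ℂ) (hθ : Cfsg.IsIrrCharacter N θ)
    (hφ : Cfsg.IsIrrCharacter N φ) (h1 : Cfsg.classInner (fun n : N => χ n) θ ≠ 0)
    (h2 : Cfsg.classInner (fun n : N => χ n) φ ≠ 0) : ∃ g : G, φ = cj N θ g := by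
  by_contra hne
  have h0 := classInner_indFun_of_not_conj N θ φ hθ hφ hne
  have hcl := h7_irr_isClassFunction hχ
  have hΨ := Cfsg.Agent.Lib.helper2.isCharacter_indFun N θ (h7_irr_isCharacter hθ)
  have hΦ := Cfsg.Agent.Lib.helper2.isCharacter_indFun N φ (h7_irr_isCharacter hφ)
  have hΨχ : Cfsg.classInner (Cfsg.indFun N θ) χ ≠ 0 := by
    rw [h7_frobenius_irr N χ hcl θ]
    intro h
    apply h1
    have := congrArg conj h
    simpa using this
  have hΦχ : Cfsg.classInner (Cfsg.indFun N φ) χ ≠ 0 := by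
    rw [h7_frobenius_irr N χ hcl φ]
    intro h
    apply h2
    have := congrArg conj h
    simpa using this
  obtain ⟨Δ1, hΔ1, e1⟩ := h7_char_split hΨ χ hχ hΨχ
  obtain ⟨Δ2, hΔ2, e2⟩ := h7_char_split hΦ χ hχ hΦχ
  have hχc := h7_irr_isCharacter hχ
  obtain ⟨a, ha⟩ := h7_char_split_inner_nat hχc hΔ1
  obtain ⟨b, hb⟩ := h7_char_split_inner_nat hΔ2 hχc
  obtain ⟨c, hc⟩ := h7_char_split_inner_nat hΔ2 hΔ1
  rw [e1, e2, Cfsg.Agent.Lib.Helper25.classInner_add_left, h7_classInner_add_right,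
    h7_classInner_add_right, h7_irr_norm hχ, ha, hb, hc] at h0
  have : (1 + a + (b + c) : ℕ) = 0 := by exact_mod_cast h0
  omega

theorem h7_clifford [Fintype G] (N : Subgroup G) [hN : N.Normal] [Fintype N] (χ : G → ℂ)
    (hχ : Cfsg.IsIrrCharacter G χ) (θ : N → ℂ) (hθ : Cfsg.IsIrrCharacter N θ)
    (hcon : Cfsg.classInner (fun n : N => χ n) θ ≠ 0) [DecidableEq (N → ℂ)] :
    ∃ e : ℕ, 0 < e ∧ Cfsg.classInner (fun n : N => χ n) θ = (e : ℂ) ∧
      (fun n : N => χ n) = (e : ℂ) • ∑ ψ ∈ Finset.univ.image (fun g : G => cj N θ g), ψ := by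
  classical
  have : Fintype (Cfsg.IrrCharacter N) := Fintype.ofFinite _
  have hcl := h7_irr_isClassFunction hχ
  have hR := Cfsg.Agent.Lib.helper2.isCharacter_restrict (h7_irr_isCharacter hχ) N
  obtain ⟨m, hm, hexp⟩ := Cfsg.Agent.Lib.helper2.isCharacter_expansion hR
  set θ' : Cfsg.IrrCharacter N := ⟨θ, hθ⟩ with hθ'
  have hme : Cfsg.classInner (fun n : N => χ n) θ = (m θ' : ℂ) := hm θ'
  have hepos : 0 < m θ' := by
    rcases Nat.eq_zero_or_pos (m θ') with h | h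
    · exfalso; apply hcon; rw [hme, h]; simp
    · exact h
  refine ⟨m θ', hepos, hme, ?_⟩
  have hmconj : ∀ μ : Cfsg.IrrCharacter N, (∃ g : G, (μ : N → ℂ) = cj N θ g) → m μ = m θ' := by
    rintro μ ⟨g, hg⟩
    have h1 := hm μ
    rw [hg, h7_classInner_restrict_cj N χ hcl θ g, hme] at h1
    exact_mod_cast h1.symm
  have hmnot : ∀ μ : Cfsg.IrrCharacter N, (¬ ∃ g : G, (μ : N → ℂ) = cj N θ g) → m μ = 0 := by
    intro μ hμ
    by_contra h0
    apply hμ
    apply h7_clifford_conj N χ hχ θ μ hθ μ.2 hcon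
    rw [hm μ]
    exact_mod_cast h0
  conv_lhs => rw [hexp]
  rw [Finset.smul_sum]
  rw [← Finset.sum_filter_add_sum_filter_not Finset.univ
    (fun μ : Cfsg.IrrCharacter N => ∃ g : G, (μ : N → ℂ) = cj N θ g)]
  have hz : ∑ μ ∈ Finset.univ.filter (fun μ : Cfsg.IrrCharacter N => ¬ ∃ g : G, (μ : N → ℂ) = cj N θ g),
      (m μ : ℂ) • (μ : N → ℂ) = 0 := by
    apply Finset.sum_eq_zero
    intro μ hμ
    rw [hmnot μ (Finset.mem_filter.mp hμ).2]
    simp
  rw [hz, add_zero]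
  apply Finset.sum_bij (fun (μ : Cfsg.IrrCharacter N) _ => (μ : N → ℂ))
  · intro μ hμ
    obtain ⟨g, hg⟩ := (Finset.mem_filter.mp hμ).2
    exact Finset.mem_image.mpr ⟨g, Finset.mem_univ _, hg.symm⟩
  · intro μ _ ν _ h
    exact Subtype.ext h
  · intro ψ hψ
    obtain ⟨g, -, hg⟩ := Finset.mem_image.mp hψ
    refine ⟨⟨ψ, hg ▸ isIrr_cj N θ hθ g⟩, ?_, rfl⟩
    exact Finset.mem_filter.mpr ⟨Finset.mem_univ _, ⟨g, hg.symm⟩⟩
  · intro μ hμ
    rw [hmconj μ (Finset.mem_filter.mp hμ).2]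

theorem h7_clifford_invariant [Fintype G] (N : Subgroup G) [hN : N.Normal] [Fintype N] (χ : G → ℂ)
    (hχ : Cfsg.IsIrrCharacter G χ) (θ : N → ℂ) (hθ : Cfsg.IsIrrCharacter N θ)
    (hcon : Cfsg.classInner (fun n : N => χ n) θ ≠ 0)
    (hinv : ∀ g : G, cj N θ g = θ) :
    ∃ e : ℕ, 0 < e ∧ Cfsg.classInner (fun n : N => χ n) θ = (e : ℂ) ∧
      (fun n : N => χ n) = (e : ℂ) • θ := by
  classical
  obtain ⟨e, he, h1, h2⟩ := h7_clifford N χ hχ θ hθ hcon
  refine ⟨e, he, h1, ?_⟩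
  rw [h2]
  congr 1
  have : Finset.univ.image (fun g : G => cj N θ g) = {θ} := by
    ext ψ
    simp only [Finset.mem_image, Finset.mem_univ, true_and, Finset.mem_singleton]
    constructor
    · rintro ⟨g, rfl⟩
      exact hinv g
    · rintro rfl
      exact ⟨1, hinv 1⟩
  rw [this, Finset.sum_singleton]

end Cfsg.Agent.Lib.helper7
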