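import Mathlib

set_option autoImplicit false

namespace Cfsg.Agent.Lib.helper7

theorem h7_sum_eq_sum_orbits {A X M : Type*} [Group A] [Fintype A] [MulAction A X] [Fintype X]
    [AddCommMonoid M] [Fintype (Quotient (MulAction.orbitRel A X))] (F : X → M)
    (hF : ∀ (a : A) (x : X), F (a • x) = F x) :
    ∑ x : X, F x = ∑ ω : Quotient (MulAction.orbitRel A X),
      (Nat.card A / Nat.card (MulAction.stabilizer A (Quotient.out ω))) • F (Quotient.out ω) := by
  classical
  rw [← Finset.sum_fiberwise Finset.univ (fun x : X => (Quotient.mk'' x : Quotient (MulAction.orbitRel A X))) F]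
  apply Finset.sum_congr rfl
  intro ω _
  have hω : (Quotient.mk'' (Quotient.out ω) : Quotient (MulAction.orbitRel A X)) = ω :=
    Quotient.out_eq' ω
  have h1 : ∀ x ∈ Finset.univ.filter (fun x : X => (Quotient.mk'' x : Quotient (MulAction.orbitRel A X)) = ω),
      F x = F (Quotient.out ω) := by
    intro x hx
    have hx' := (Finset.mem_filter.mp hx).2
    rw [← hω] at hx'
    have : x ∈ MulAction.orbit A (Quotient.out ω) := by
      have := Quotient.exact' hx'
      exact this
    obtain ⟨a, ha⟩ := this
    rw [← ha]
    exact hF a _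
  rw [Finset.sum_congr rfl h1, Finset.sum_const]
  congr 1
  have h2 : (Finset.univ.filter (fun x : X => (Quotient.mk'' x : Quotient (MulAction.orbitRel A X)) = ω)).card =
      Nat.card (MulAction.orbit A (Quotient.out ω)) := by
    rw [Nat.card_eq_fintype_card, ← Set.toFinset_card]
    congr 1
    ext x
    simp only [Finset.mem_filter, Finset.mem_univ, true_and, Set.mem_toFinset]
    constructor
    · intro h
      have h' : (Quotient.mk'' x : Quotient (MulAction.orbitRel A X)) = Quotient.mk'' (Quotient.out ω) := by
        rw [hω]; exact h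
      exact Quotient.exact' h'
    · intro h
      have h' : (Quotient.mk'' x : Quotient (MulAction.orbitRel A X)) = Quotient.mk'' (Quotient.out ω) :=
        Quotient.sound' h
      rw [h', hω]
  rw [h2]
  have h3 := MulAction.card_orbit_mul_card_stabilizer_eq_card_group A (Quotient.out ω)
  rw [← Nat.card_eq_fintype_card, ← Nat.card_eq_fintype_card, ← Nat.card_eq_fintype_card] at h3
  rw [← h3, Nat.mul_div_cancel _ Nat.card_pos]

end Cfsg.Agent.Lib.helper7
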