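import Mathlib
import Cfsg.Agent.Lib.helper7.OrbitSum

set_option autoImplicit false

namespace Cfsg.Agent.Lib.helper7

theorem h7_sum_fixed_zmod {P X : Type*} [Group P] [Fintype P] [MulAction P X] [Fintype X]
    (p : ℕ) [Fact p.Prime] (hP : IsPGroup p P) (f : X → ZMod p)
    (hf : ∀ (a : P) (x : X), f (a • x) = f x)
    [DecidablePred (fun x : X => ∀ a : P, a • x = x)] :
    ∑ x : X, f x = ∑ x ∈ Finset.univ.filter (fun x : X => ∀ a : P, a • x = x), f x := by
  classical
  haveI : Fintype (Quotient (MulAction.orbitRel P X)) := Fintype.ofFinite _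
  have hfix : ∀ (b : P) (x : X), (∀ a : P, a • x = x) ↔ (∀ a : P, a • (b • x) = b • x) := by
    intro b x
    constructor
    · intro h a
      rw [h b, h a]
    · intro h a
      have h1 := h (b * a * b⁻¹)
      rw [← mul_smul, mul_assoc, inv_mul_cancel, mul_one, mul_smul] at h1
      exact smul_left_cancel b h1
  let g : X → ZMod p := fun x => if (∀ a : P, a • x = x) then 0 else f x
  have hg : ∀ (a : P) (x : X), g (a • x) = g x := by
    intro a x
    simp only [g]
    by_cases h : ∀ c : P, c • x = x
    · rw [if_pos h, if_pos ((hfix a x).mp h)]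
    · rw [if_neg h, if_neg (fun h' => h ((hfix a x).mpr h')), hf]
  have h1 : ∑ x : X, g x = 0 := by
    rw [h7_sum_eq_sum_orbits g hg]
    apply Finset.sum_eq_zero
    intro ω _
    by_cases h : ∀ c : P, c • (Quotient.out ω) = Quotient.out ω
    · simp only [g]
      rw [if_pos h, smul_zero]
    · have hne : MulAction.stabilizer P (Quotient.out ω) ≠ ⊤ := by
        intro htop
        apply h
        intro c
        have : c ∈ MulAction.stabilizer P (Quotient.out ω) := by
          rw [htop]
          exact Subgroup.mem_top c
        exact this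
      obtain ⟨n, hn⟩ := hP.index (MulAction.stabilizer P (Quotient.out ω))
      have hidx : Nat.card P / Nat.card (MulAction.stabilizer P (Quotient.out ω)) =
          (MulAction.stabilizer P (Quotient.out ω)).index := by
        rw [← Subgroup.index_mul_card (MulAction.stabilizer P (Quotient.out ω)),
          Nat.mul_div_cancel _ Nat.card_pos]
      rw [hidx, hn]
      have hn0 : n ≠ 0 := by
        intro h0
        rw [h0, pow_zero] at hn
        exact hne (Subgroup.index_eq_one.mp hn)
      rw [nsmul_eq_mul]
      have : ((p ^ n : ℕ) : ZMod p) = 0 := by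
        rw [Nat.cast_pow, ZMod.natCast_self, zero_pow hn0]
      rw [this, zero_mul]
  have h2 : ∀ x : X, f x = g x + (if (∀ a : P, a • x = x) then f x else 0) := by
    intro x
    simp only [g]
    by_cases h : ∀ c : P, c • x = x
    · rw [if_pos h, if_pos h, zero_add]
    · rw [if_neg h, if_neg h, add_zero]
  rw [Finset.sum_congr rfl (fun x _ => h2 x), Finset.sum_add_distrib, h1, zero_add,
    Finset.sum_filter]

end Cfsg.Agent.Lib.helper7
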