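import Mathlib
import Cfsg.Prelude.Def_Characters
import Cfsg.Agent.Lib.helper7.Clifford
import Cfsg.Agent.Lib.Helper25.CharLinear

set_option autoImplicit false

namespace Cfsg.Agent.Lib.helper7

open scoped ComplexConjugate

variable {G : Type*} [Group G]

theorem h7_linear_isIrr {lam : G → ℂ} (h : Cfsg.IsCharacter G lam) (h1 : lam 1 = 1) :
    Cfsg.IsIrrCharacter G lam := by
  obtain ⟨n, ρ, rfl⟩ := h
  rw [Representation.char_one] at h1
  have hfr : Module.finrank ℂ (Fin n → ℂ) = 1 := by exact_mod_cast h1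
  exact ⟨n, ρ, Cfsg.Agent.Lib.Helper25.isIrreducible_of_finrank_eq_one ρ hfr, rfl⟩

theorem h7_linear_mul {lam : G → ℂ} (h : Cfsg.IsCharacter G lam) (h1 : lam 1 = 1) (a b : G) :
    lam (a * b) = lam a * lam b :=
  Cfsg.Agent.Lib.Helper25.irr_linear_mul ⟨lam, h7_linear_isIrr h h1⟩ h1 a b

theorem h7_central_char {ψ : G → ℂ} (hψ : Cfsg.IsIrrCharacter G ψ) (z : G)
    (hz : z ∈ Subgroup.center G) : ∃ c : ℂ, ∀ x : G, ψ (z * x) = c * ψ x := by
  obtain ⟨n, ρ, hρ, rfl⟩ := hψ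
  haveI := hρ
  have hcomm : ∀ g : G, ρ z ∘ₗ ρ g = ρ g ∘ₗ ρ z := by
    intro g
    rw [← Module.End.mul_eq_comp, ← Module.End.mul_eq_comp, ← map_mul, ← map_mul,
      (Subgroup.mem_center_iff.mp hz g)]
  obtain ⟨c, hc⟩ := Cfsg.Agent.Lib.Helper25.commuting_end_scalar ρ (ρ z) hcomm
  refine ⟨c, fun x => ?_⟩
  simp only [Representation.character]
  rw [map_mul, hc, smul_mul_assoc, map_smul, smul_eq_mul]
  congr 1

def h7_shiftKer (ψ : G → ℂ) : Subgroup G where
  carrier := {a | ∀ x : G, ψ (a * x) = ψ x}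
  mul_mem' := by
    intro a b ha hb x
    rw [mul_assoc, ha, hb]
  one_mem' := by
    intro x
    rw [one_mul]
  inv_mem' := by
    intro a ha x
    have := ha (a⁻¹ * x)
    rw [mul_inv_cancel_left] at this
    exact this.symm

theorem h7_mem_shiftKer (ψ : G → ℂ) (a : G) :
    a ∈ h7_shiftKer ψ ↔ ∀ x : G, ψ (a * x) = ψ x := Iff.rfl

theorem h7_vanish_of_central_shift {ψ : G → ℂ} (hψ : Cfsg.IsIrrCharacter G ψ) (z : G)
    (hz : z ∈ Subgroup.center G) (a0 : G) (ha0 : a0 ∈ Subgroup.zpowers z)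
    (hne : a0 ∉ h7_shiftKer ψ) (x y : G) (hxy : y * x * y⁻¹ = z * x) : ψ x = 0 := by
  obtain ⟨c, hc⟩ := h7_central_char hψ z hz
  have h1 : ψ x = c * ψ x := by
    rw [← hc x, ← hxy]
    exact (h7_irr_isClassFunction hψ x y).symm
  by_cases hc1 : c = 1
  · exfalso
    apply hne
    have hzmem : z ∈ h7_shiftKer ψ := by
      intro t
      rw [hc t, hc1, one_mul]
    exact (Subgroup.zpowers_le.mpr hzmem) ha0
  · have h2 : (1 - c) * ψ x = 0 := by
      rw [sub_mul, one_mul, ← h1, sub_self]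
    rcases mul_eq_zero.mp h2 with h | h
    · exfalso
      apply hc1
      exact (sub_eq_zero.mp h).symm
    · exact h

end Cfsg.Agent.Lib.helper7
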