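import Mathlib
import Cfsg.Prelude.Def_Characters
import Cfsg.Agent.Lib.helper7.Clifford
import Cfsg.Agent.Lib.Helper25.CharReal

set_option autoImplicit false

namespace Cfsg.Agent.Lib.helper7

open scoped ComplexConjugate

theorem h7_equiv_of_char_eq {N : Type*} [Group N] [Fintype N] {V W : Type*} [AddCommGroup V]
    [Module ℂ V] [FiniteDimensional ℂ V] [AddCommGroup W] [Module ℂ W] [FiniteDimensional ℂ W]
    (ρ : Representation ℂ N V) [hρ : ρ.IsIrreducible] (τ : Representation ℂ N W)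
    (hchar : τ.character = ρ.character) :
    ∃ E : V ≃ₗ[ℂ] W, ∀ n : N, (E : V →ₗ[ℂ] W) ∘ₗ ρ n = τ n ∘ₗ (E : V →ₗ[ℂ] W) := by
  have h1 := Cfsg.Agent.Lib.helper2.classInner_rep_eq_finrank ρ τ
  rw [hchar] at h1
  have h2 : Cfsg.classInner ρ.character ρ.character = 1 :=
    h7_irr_norm (Cfsg.Agent.Lib.Helper25.isIrrCharacter_of_irreducible ρ)
  rw [h2] at h1
  have h3 : Module.finrank ℂ (Representation.IntertwiningMap ρ τ) = 1 := by exact_mod_cast h1.symm
  have hnt : Nontrivial (Representation.IntertwiningMap ρ τ) :=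
    Module.nontrivial_of_finrank_pos (R := ℂ) (by omega)
  obtain ⟨f, hf⟩ := exists_ne (0 : Representation.IntertwiningMap ρ τ)
  have hf0 : f.toLinearMap ≠ 0 := by
    intro h
    apply hf
    apply Representation.IntertwiningMap.ext
    rw [h]
    rfl
  have hint : ∀ n : N, f.toLinearMap ∘ₗ ρ n = τ n ∘ₗ f.toLinearMap := f.isIntertwining'
  have hker : LinearMap.ker f.toLinearMap = ⊥ := by
    rcases Cfsg.Agent.Lib.Helper25.irr_eq_bot_or_top ρ (LinearMap.ker f.toLinearMap) (by
      intro n v hv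
      rw [LinearMap.mem_ker] at hv ⊢
      have := congrArg (fun L => L v) (hint n)
      simp only [LinearMap.comp_apply] at this
      rw [this, hv, map_zero]) with h | h
    · exact h
    · exfalso
      apply hf0
      exact LinearMap.ker_eq_top.mp h
  have hinj : Function.Injective f.toLinearMap := LinearMap.ker_eq_bot.mp hker
  have hdim : Module.finrank ℂ V = Module.finrank ℂ W := by
    have h4 := congrFun hchar 1
    rw [Representation.char_one, Representation.char_one] at h4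
    exact_mod_cast h4.symm
  have hsurj : Function.Surjective f.toLinearMap :=
    (LinearMap.injective_iff_surjective_of_finrank_eq_finrank hdim).mp hinj
  refine ⟨LinearEquiv.ofBijective f.toLinearMap ⟨hinj, hsurj⟩, ?_⟩
  intro n
  exact hint n


section core

variable {V : Type*} [AddCommGroup V] [Module ℂ V] [FiniteDimensional ℂ V]

noncomputable def h7_sc : ℂˣ →* (Module.End ℂ V)ˣ :=
  Units.map (algebraMap ℂ (Module.End ℂ V) : ℂ →* Module.End ℂ V)

theorem h7_sc_comm (c : ℂˣ) (T : (Module.End ℂ V)ˣ) : h7_sc c * T = T * h7_sc c := by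
  apply Units.ext
  simp only [Units.val_mul, h7_sc, Units.coe_map, MonoidHom.coe_coe]
  exact Algebra.commutes _ _

theorem h7_sc_injective [Nontrivial V] : Function.Injective (h7_sc (V := V)) := by
  intro a b hab
  have h1 := congrArg (fun T : (Module.End ℂ V)ˣ => (T : Module.End ℂ V)) hab
  simp only [h7_sc, Units.coe_map, MonoidHom.coe_coe] at h1
  have := (algebraMap ℂ (Module.End ℂ V)).injective h1
  exact Units.ext this

variable {N : Type*} [Group N]

theorem h7_schur_units (ρ : Representation ℂ N V) [ρ.IsIrreducible] (T : (Module.End ℂ V)ˣ)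
    (hT : ∀ n : N, T * ρ.asGroupHom n = ρ.asGroupHom n * T) : ∃ c : ℂˣ, T = h7_sc c := by
  have hT' : ∀ n : N, (T : Module.End ℂ V) ∘ₗ ρ n = ρ n ∘ₗ (T : Module.End ℂ V) := by
    intro n
    have := congrArg (fun X : (Module.End ℂ V)ˣ => (X : Module.End ℂ V)) (hT n)
    simp only [Units.val_mul, Representation.asGroupHom_apply] at this
    exact this
  obtain ⟨c, hc⟩ := Cfsg.Agent.Lib.Helper25.commuting_end_scalar ρ (T : Module.End ℂ V) hT'
  have hV : Nontrivial V := by
    have := Cfsg.Agent.Lib.Helper25.finrank_ne_zero_of_irr ρ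
    exact Module.nontrivial_of_finrank_pos (R := ℂ) (Nat.pos_of_ne_zero this)
  have hc0 : c ≠ 0 := by
    intro h0
    rw [h0, zero_smul] at hc
    have := T.isUnit
    rw [hc] at this
    exact not_isUnit_zero this
  refine ⟨Units.mk0 c hc0, ?_⟩
  apply Units.ext
  rw [hc]
  simp only [h7_sc, Units.coe_map, MonoidHom.coe_coe, Units.val_mk0]
  rw [Algebra.algebraMap_eq_smul_one]
  rfl

end core


section impl

variable {V : Type*} [AddCommGroup V] [Module ℂ V] [FiniteDimensional ℂ V]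
variable {N : Type*} [Group N]

def h7_Implements (ρ : Representation ℂ N V) (A : (Module.End ℂ V)ˣ) (φ : MulAut N) : Prop :=
  ∀ n : N, A * ρ.asGroupHom n * A⁻¹ = ρ.asGroupHom (φ n)

theorem h7_implements_mul (ρ : Representation ℂ N V) {A B : (Module.End ℂ V)ˣ} {φ ψ : MulAut N}
    (hA : h7_Implements ρ A φ) (hB : h7_Implements ρ B ψ) : h7_Implements ρ (A * B) (φ * ψ) := by
  intro n
  rw [MulAut.mul_apply, ← hA (ψ n), ← hB n, mul_inv_rev]
  group

theorem h7_implements_rho (ρ : Representation ℂ N V) (n0 : N) :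
    h7_Implements ρ (ρ.asGroupHom n0) (MulAut.conj n0) := by
  intro n
  rw [MulAut.conj_apply, map_mul, map_mul, map_inv]

theorem h7_implements_unique (ρ : Representation ℂ N V) [ρ.IsIrreducible]
    {A B : (Module.End ℂ V)ˣ} {φ : MulAut N}
    (hA : h7_Implements ρ A φ) (hB : h7_Implements ρ B φ) : ∃ c : ℂˣ, A = h7_sc c * B := by
  have hT : ∀ m : N, (A * B⁻¹) * ρ.asGroupHom m = ρ.asGroupHom m * (A * B⁻¹) := by
    intro m
    have h1 := hA (φ⁻¹ m)
    have h2 := hB (φ⁻¹ m)
    rw [MulAut.apply_inv_self] at h1 h2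
    have h3 : B⁻¹ * ρ.asGroupHom m * B = ρ.asGroupHom (φ⁻¹ m) := by
      rw [← h2]; group
    have h4 : A * B⁻¹ * ρ.asGroupHom m * (A * B⁻¹)⁻¹ = ρ.asGroupHom m := by
      calc A * B⁻¹ * ρ.asGroupHom m * (A * B⁻¹)⁻¹
          = A * (B⁻¹ * ρ.asGroupHom m * B) * A⁻¹ := by group
        _ = ρ.asGroupHom m := by rw [h3, h1]
    calc A * B⁻¹ * ρ.asGroupHom m
        = A * B⁻¹ * ρ.asGroupHom m * (A * B⁻¹)⁻¹ * (A * B⁻¹) := by group
      _ = ρ.asGroupHom m * (A * B⁻¹) := by rw [h4]
  obtain ⟨c, hc⟩ := h7_schur_units ρ (A * B⁻¹) hT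
  refine ⟨c, ?_⟩
  rw [← hc]
  group

end impl


section transfer

variable {G : Type*} [Group G] [Fintype G] (N : Subgroup G) [hN : N.Normal]
variable {V : Type*} [AddCommGroup V] [Module ℂ V] [FiniteDimensional ℂ V]

def h7_IsCob (α : G → G → ℂˣ) (k : ℤ) : Prop :=
  ∃ μ : G → ℂˣ, (∀ n : N, μ (n : G) = 1) ∧ ∀ g h : G, μ g * μ h = α g h ^ k * μ (g * h)

theorem h7_transfer (ρ : Representation ℂ N V) [ρ.IsIrreducible] (P : Subgroup G) (hNP : N ≤ P)
    (M : G → (Module.End ℂ V)ˣ)
    (hM : ∀ g : G, h7_Implements ρ (M g) (MulAut.conjNormal g))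
    (hMN : ∀ n : N, M (n : G) = ρ.asGroupHom n)
    (α : G → G → ℂˣ) (hα : ∀ g h : G, M g * M h = h7_sc (α g h) * M (g * h))
    (S : G → (Module.End ℂ V)ˣ) (hS : ∀ x ∈ P, ∀ y ∈ P, S (x * y) = S x * S y)
    (hSN : ∀ n : N, S (n : G) = ρ.asGroupHom n) :
    h7_IsCob N α (P.index : ℤ) := by
  classical
  have hV : Nontrivial V := by
    have := Cfsg.Agent.Lib.Helper25.finrank_ne_zero_of_irr ρ
    exact Module.nontrivial_of_finrank_pos (R := ℂ) (Nat.pos_of_ne_zero this)
  have hS1 : S 1 = 1 := by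
    have := hSN 1
    simpa using this
  have hSinv : ∀ x ∈ P, S x⁻¹ = (S x)⁻¹ := by
    intro x hx
    have := hS x hx x⁻¹ (P.inv_mem hx)
    rw [mul_inv_cancel, hS1] at this
    exact eq_inv_of_mul_eq_one_right this.symm
  have hSimpl : ∀ x (hx : x ∈ P), h7_Implements ρ (S x) (MulAut.conjNormal x) := by
    intro x hx n
    have hn : (n : G) ∈ P := hNP n.2
    rw [← hSN n, ← hSinv x hx, ← hS x hx _ hn, ← hS _ (P.mul_mem hx hn) _ (P.inv_mem hx), ← hSN]
    rfl
  have hfin : Fintype (G ⧸ P) := Fintype.ofFinite _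
  let r : G ⧸ P → G := fun q => Quotient.out q
  have hr : ∀ q : G ⧸ P, (QuotientGroup.mk (r q) : G ⧸ P) = q := fun q => Quotient.out_eq' q
  let pq : G → G ⧸ P → G := fun g q => (r (g • q))⁻¹ * g * r q
  have hpq : ∀ g q, pq g q ∈ P := by
    intro g q
    have h1 : (QuotientGroup.mk (r (g • q)) : G ⧸ P) = QuotientGroup.mk (g * r q) := by
      rw [hr]
      conv_lhs => rw [← hr q]
      rfl
    have h2 := QuotientGroup.eq.mp h1
    change (r (g • q))⁻¹ * g * r q ∈ P
    rw [mul_assoc]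
    exact h2
  have hkey : ∀ g q, r (g • q) * pq g q = g * r q := by
    intro g q
    change r (g • q) * ((r (g • q))⁻¹ * g * r q) = g * r q
    group
  have hex : ∀ g q, ∃ c : ℂˣ, M g * M (r q) = h7_sc c * (M (r (g • q)) * S (pq g q)) := by
    intro g q
    have h1 : h7_Implements ρ (M g * M (r q)) (MulAut.conjNormal (g * r q)) := by
      rw [map_mul]
      exact h7_implements_mul ρ (hM g) (hM (r q))
    have h2 : h7_Implements ρ (M (r (g • q)) * S (pq g q)) (MulAut.conjNormal (g * r q)) := by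
      rw [← hkey g q, map_mul]
      exact h7_implements_mul ρ (hM _) (hSimpl _ (hpq g q))
    exact h7_implements_unique ρ h1 h2
  choose c hc using hex
  have hcuniq : ∀ g q (c' : ℂˣ), M g * M (r q) = h7_sc c' * (M (r (g • q)) * S (pq g q)) →
      c g q = c' := by
    intro g q c' h
    have h1 := hc g q
    rw [h] at h1
    have h2 := mul_right_cancel h1
    exact (h7_sc_injective h2).symm
  refine ⟨fun g => ∏ q : G ⧸ P, c g q, ?_, ?_⟩
  · intro n
    apply Finset.prod_eq_one
    intro q _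
    apply hcuniq
    have hq : (n : G) • q = q := by
      conv_lhs => rw [← hr q]
      conv_rhs => rw [← hr q]
      rw [MulAction.Quotient.smul_mk, QuotientGroup.eq, smul_eq_mul]
      have : ((n : G) * r q)⁻¹ * r q = (r q)⁻¹ * (n : G)⁻¹ * ((r q)⁻¹)⁻¹ := by group
      rw [this]
      exact hNP (hN.conj_mem _ (N.inv_mem n.2) _)
    change M (n : G) * M (r q) =
      h7_sc 1 * (M (r ((n : G) • q)) * S ((r ((n : G) • q))⁻¹ * (n : G) * r q))
    rw [hq, map_one, one_mul, hMN]
    have hmem : (r q)⁻¹ * (n : G) * r q ∈ N := by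
      have := hN.conj_mem _ n.2 (r q)⁻¹
      rwa [inv_inv] at this
    have h1 := hSN ⟨(r q)⁻¹ * (n : G) * r q, hmem⟩
    simp only at h1
    rw [h1]
    have h2 := hM (r q) ⟨(r q)⁻¹ * (n : G) * r q, hmem⟩
    have h3 : (MulAut.conjNormal (r q) : MulAut N) ⟨(r q)⁻¹ * (n : G) * r q, hmem⟩ = n := by
      apply Subtype.ext
      rw [MulAut.conjNormal_apply]
      simp only
      group
    rw [h3] at h2
    rw [← h2]
    group
  · intro g h
    have hterm : ∀ q : G ⧸ P, c h q * c g (h • q) = α g h * c (g * h) q := by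
      intro q
      have e1 : M g * M h * M (r q) =
          h7_sc (c h q * c g (h • q)) * (M (r (g • (h • q))) * (S (pq g (h • q)) * S (pq h q))) := by
        rw [mul_assoc, hc h q, ← mul_assoc, ← h7_sc_comm, mul_assoc, ← mul_assoc (M g), hc g (h • q),
          map_mul]
        simp only [mul_assoc]
      have e2 : M g * M h * M (r q) =
          h7_sc (α g h * c (g * h) q) *
            (M (r (g • (h • q))) * (S (pq g (h • q)) * S (pq h q))) := by
        have hpqmul : pq (g * h) q = pq g (h • q) * pq h q := by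
          change (r ((g * h) • q))⁻¹ * (g * h) * r q =
            (r (g • h • q))⁻¹ * g * r (h • q) * ((r (h • q))⁻¹ * h * r q)
          rw [mul_smul]
          group
        rw [hα g h, mul_assoc, hc (g * h) q, map_mul, mul_assoc, hpqmul,
          hS _ (hpq g (h • q)) _ (hpq h q), mul_smul]
      rw [e1] at e2
      exact h7_sc_injective (mul_right_cancel e2)
    have h1 : ∏ q : G ⧸ P, c g (h • q) = ∏ q : G ⧸ P, c g q :=
      Equiv.prod_comp (MulAction.toPerm h : Equiv.Perm (G ⧸ P)) (fun q => c g q)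
    have h2 : (∏ q : G ⧸ P, c h q) * ∏ q : G ⧸ P, c g (h • q) =
        ∏ q : G ⧸ P, (α g h * c (g * h) q) := by
      rw [← Finset.prod_mul_distrib]
      exact Finset.prod_congr rfl (fun q _ => hterm q)
    rw [h1, Finset.prod_mul_distrib, Finset.prod_const, Finset.card_univ] at h2
    rw [mul_comm, h2, zpow_natCast]
    congr 2
    rw [Subgroup.index_eq_card, Nat.card_eq_fintype_card]

end transfer


section assemble

theorem h7_isIrr_of_restrict {G N : Type*} [Monoid G] [Monoid N] {V : Type*} [AddCommGroup V]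
    [Module ℂ V] (ρ : Representation ℂ N V) [hρ : ρ.IsIrreducible] (σ : Representation ℂ G V)
    (f : N → G) (h : ∀ n, σ (f n) = ρ n) : σ.IsIrreducible := by
  refine { exists_pair_ne := ⟨⊥, ⊤, ?_⟩, eq_bot_or_eq_top := ?_ }
  · intro hbt
    have h2 : ((⊥ : Subrepresentation σ).toSubmodule) = (⊤ : Subrepresentation σ).toSubmodule :=
      congrArg _ hbt
    have h3 : (⊥ : Subrepresentation ρ) = ⊤ := by
      apply Subrepresentation.toSubmodule_injective
      exact h2
    exact bot_ne_top h3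
  · intro S
    have hinv : ∀ n : N, ∀ v ∈ S.toSubmodule, ρ n v ∈ S.toSubmodule := by
      intro n v hv
      rw [← h n]
      exact S.apply_mem_toSubmodule (f n) hv
    rcases Cfsg.Agent.Lib.Helper25.irr_eq_bot_or_top ρ _ hinv with h1 | h1
    · left
      apply Subrepresentation.toSubmodule_injective
      exact h1
    · right
      apply Subrepresentation.toSubmodule_injective
      exact h1

variable {G : Type*} [Group G] [Fintype G] (N : Subgroup G) [hN : N.Normal]
variable {V : Type*} [AddCommGroup V] [Module ℂ V] [FiniteDimensional ℂ V]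

theorem h7_exists_implements (ρ : Representation ℂ N V) [ρ.IsIrreducible]
    (hinv : ∀ (g : G) (n : N), ρ.character (MulAut.conjNormal g n) = ρ.character n) (g : G) :
    ∃ A : (Module.End ℂ V)ˣ, h7_Implements ρ A (MulAut.conjNormal g) := by
  classical
  haveI : Fintype N := Fintype.ofFinite N
  let τ : Representation ℂ N V := ρ.comp (MulAut.conjNormal g : MulAut N).toMonoidHom
  have hchar : τ.character = ρ.character := by
    funext n
    exact hinv g n
  obtain ⟨E, hE⟩ := h7_equiv_of_char_eq ρ τ hchar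
  refine ⟨LinearMap.GeneralLinearGroup.ofLinearEquiv E, ?_⟩
  intro n
  rw [mul_inv_eq_iff_eq_mul]
  apply Units.ext
  exact hE n

def h7_cobSubgroup (α : G → G → ℂˣ) : AddSubgroup ℤ where
  carrier := {k | h7_IsCob N α k}
  zero_mem' := ⟨fun _ => 1, fun _ => rfl, fun g h => by simp⟩
  add_mem' := by
    rintro a b ⟨μ, hμ1, hμ2⟩ ⟨ν, hν1, hν2⟩
    refine ⟨fun g => μ g * ν g, fun n => by simp [hμ1, hν1], fun g h => ?_⟩
    rw [zpow_add]
    calc μ g * ν g * (μ h * ν h) = (μ g * μ h) * (ν g * ν h) := mul_mul_mul_comm _ _ _ _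
      _ = α g h ^ a * α g h ^ b * (μ (g * h) * ν (g * h)) := by
        rw [hμ2, hν2, mul_mul_mul_comm]
  neg_mem' := by
    rintro a ⟨μ, hμ1, hμ2⟩
    refine ⟨fun g => (μ g)⁻¹, fun n => by simp [hμ1], fun g h => ?_⟩
    rw [zpow_neg, ← mul_inv, ← mul_inv, hμ2]

theorem h7_S_of_char (P : Subgroup G) (hNP : N ≤ P) (ρ : Representation ℂ N V) [ρ.IsIrreducible]
    {W : Type*} [AddCommGroup W] [Module ℂ W] [FiniteDimensional ℂ W] (τ : Representation ℂ P W)
    (hchar : ∀ n : N, τ.character ⟨(n : G), hNP n.2⟩ = ρ.character n) :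
    ∃ S : G → (Module.End ℂ V)ˣ, (∀ x ∈ P, ∀ y ∈ P, S (x * y) = S x * S y) ∧
      ∀ n : N, S (n : G) = ρ.asGroupHom n := by
  classical
  haveI : Fintype N := Fintype.ofFinite N
  let τN : Representation ℂ N W := τ.comp (Subgroup.inclusion hNP)
  have hc : τN.character = ρ.character := by
    funext n
    exact hchar n
  obtain ⟨E, hE⟩ := h7_equiv_of_char_eq ρ τN hc
  let φ : P →* (Module.End ℂ V)ˣ :=
    (Units.map (E.symm.conjRingEquiv : Module.End ℂ W →* Module.End ℂ V)).comp τ.asGroupHom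
  refine ⟨fun x => if hx : x ∈ P then φ ⟨x, hx⟩ else 1, ?_, ?_⟩
  · intro x hx y hy
    simp only [dif_pos hx, dif_pos hy, dif_pos (P.mul_mem hx hy)]
    rw [← map_mul]
    rfl
  · intro n
    simp only [dif_pos (hNP n.2)]
    apply Units.ext
    apply LinearMap.ext
    intro v
    have h1 := congrArg (fun L => L v) (hE n)
    simp only [LinearMap.comp_apply] at h1
    change E.symm (τ ⟨(n : G), hNP n.2⟩ (E.symm.symm v)) = ρ n v
    rw [LinearEquiv.symm_symm]
    have h2 : τ ⟨(n : G), hNP n.2⟩ (E v) = E (ρ n v) := h1.symm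
    rw [h2, LinearEquiv.symm_apply_apply]

theorem h7_extend_of_coprime_indices (ρ : Representation ℂ N V) [ρ.IsIrreducible]
    (hinv : ∀ (g : G) (n : N), ρ.character (MulAut.conjNormal g n) = ρ.character n)
    (hsyl : ∀ p : ℕ, p.Prime → ∃ P : Subgroup G, N ≤ P ∧ Nat.Coprime P.index p ∧
      ∃ S : G → (Module.End ℂ V)ˣ, (∀ x ∈ P, ∀ y ∈ P, S (x * y) = S x * S y) ∧
        ∀ n : N, S (n : G) = ρ.asGroupHom n) :
    ∃ σ : Representation ℂ G V, σ.IsIrreducible ∧ ∀ n : N, σ (n : G) = ρ n := by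
  classical
  have hex : ∀ g : G, ∃ A : (Module.End ℂ V)ˣ, h7_Implements ρ A (MulAut.conjNormal g) :=
    h7_exists_implements N ρ hinv
  choose A hA using hex
  let M : G → (Module.End ℂ V)ˣ := fun g => if h : g ∈ N then ρ.asGroupHom ⟨g, h⟩ else A g
  have hM : ∀ g, h7_Implements ρ (M g) (MulAut.conjNormal g) := by
    intro g
    by_cases h : g ∈ N
    · have h1 : M g = ρ.asGroupHom ⟨g, h⟩ := dif_pos h
      rw [h1]
      have h2 := h7_implements_rho ρ ⟨g, h⟩
      rw [← MulAut.conjNormal_val] at h2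
      exact h2
    · have h1 : M g = A g := dif_neg h
      rw [h1]
      exact hA g
  have hMN : ∀ n : N, M (n : G) = ρ.asGroupHom n := by
    intro n
    have h1 : M (n : G) = ρ.asGroupHom ⟨(n : G), n.2⟩ := dif_pos n.2
    rw [h1]
  have hαex : ∀ g h, ∃ c : ℂˣ, M g * M h = h7_sc c * M (g * h) := by
    intro g h
    have h1 := h7_implements_mul ρ (hM g) (hM h)
    rw [← map_mul] at h1
    exact h7_implements_unique ρ h1 (hM (g * h))
  choose α hα using hαex
  have hone : (1 : ℤ) ∈ h7_cobSubgroup N α := by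
    obtain ⟨d, hd⟩ : ∃ d : ℤ, h7_cobSubgroup N α = AddSubgroup.zmultiples d := by
      obtain ⟨d, hd⟩ := Int.subgroup_cyclic (h7_cobSubgroup N α)
      exact ⟨d, by rw [hd, AddSubgroup.zmultiples_eq_closure]⟩
    have hd1 : d.natAbs = 1 := by
      by_contra hne
      obtain ⟨p, hp, hpd⟩ := Nat.exists_prime_and_dvd hne
      obtain ⟨P, hNP, hcop, S, hS, hSN⟩ := hsyl p hp
      have hmem : (P.index : ℤ) ∈ h7_cobSubgroup N α :=
        h7_transfer N ρ P hNP M hM hMN α hα S hS hSN
      rw [hd] at hmem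
      have hdvd : d ∣ (P.index : ℤ) := Int.mem_zmultiples_iff.mp hmem
      have h1 : (p : ℤ) ∣ d := Int.natCast_dvd.mpr hpd
      have h2 : p ∣ P.index := Int.natCast_dvd_natCast.mp (dvd_trans h1 hdvd)
      have h3 := Nat.Coprime.eq_one_of_dvd hcop.symm h2
      exact hp.one_lt.ne' h3
    rw [hd]
    rcases Int.natAbs_eq d with h | h
    · rw [hd1] at h
      rw [h]
      exact AddSubgroup.mem_zmultiples _
    · rw [hd1] at h
      rw [h]
      have := AddSubgroup.neg_mem _ (AddSubgroup.mem_zmultiples (-((1 : ℕ) : ℤ)))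
      simpa using this
  obtain ⟨μ, hμ1, hμ2⟩ := hone
  have hmul : ∀ g h : G, (h7_sc (μ (g * h)))⁻¹ * M (g * h) =
      (h7_sc (μ g))⁻¹ * M g * ((h7_sc (μ h))⁻¹ * M h) := by
    intro g h
    have key : (μ (g * h))⁻¹ = (μ g)⁻¹ * (μ h)⁻¹ * α g h := by
      have h1 := hμ2 g h
      rw [zpow_one] at h1
      rw [← mul_inv, h1, mul_inv, mul_comm (α g h)⁻¹, mul_assoc, inv_mul_cancel, mul_one]
    rw [← map_inv, ← map_inv, ← map_inv, key, map_mul, map_mul]
    rw [mul_assoc _ _ (M (g * h)), ← hα g h]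
    have c1 : M g * h7_sc (μ h)⁻¹ = h7_sc (μ h)⁻¹ * M g := (h7_sc_comm _ _).symm
    have c2 : h7_sc (V := V) (μ g)⁻¹ * h7_sc (μ h)⁻¹ = h7_sc (μ h)⁻¹ * h7_sc (μ g)⁻¹ :=
      h7_sc_comm _ _
    calc h7_sc (μ g)⁻¹ * h7_sc (μ h)⁻¹ * (M g * M h)
        = h7_sc (μ g)⁻¹ * ((h7_sc (μ h)⁻¹ * M g) * M h) := by simp only [mul_assoc]
      _ = h7_sc (μ g)⁻¹ * M g * (h7_sc (μ h)⁻¹ * M h) := by
        rw [← c1]
        simp only [mul_assoc]
  let σu : G →* (Module.End ℂ V)ˣ :=
    { toFun := fun g => (h7_sc (μ g))⁻¹ * M g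
      map_one' := by
        have h1 := hμ1 1
        have h2 := hMN 1
        simp only [OneMemClass.coe_one] at h1 h2
        rw [h1, h2]
        simp
      map_mul' := hmul }
  let σ : Representation ℂ G V := (Units.coeHom (Module.End ℂ V)).comp σu
  refine ⟨σ, ?_, ?_⟩
  · apply h7_isIrr_of_restrict ρ σ (fun n : N => (n : G))
    intro n
    change (((h7_sc (μ (n : G)))⁻¹ * M (n : G) : (Module.End ℂ V)ˣ) : Module.End ℂ V) = ρ n
    rw [hμ1 n, hMN n]
    simp only [map_one, inv_one, one_mul]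
    rfl
  · intro n
    change (((h7_sc (μ (n : G)))⁻¹ * M (n : G) : (Module.End ℂ V)ˣ) : Module.End ℂ V) = ρ n
    rw [hμ1 n, hMN n]
    simp only [map_one, inv_one, one_mul]
    rfl

end assemble

end Cfsg.Agent.Lib.helper7
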