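import Mathlib
import Cfsg.Prelude.Def_Characters
import Cfsg.Prelude.Def_CharExt
import Cfsg.Agent.Lib.helper7.ProjExt

set_option autoImplicit false

namespace Cfsg.Agent.Lib.helper7

section projlift

variable {G : Type*} [Group G] [Fintype G] (N : Subgroup G) [hN : N.Normal]
variable {V : Type*} [AddCommGroup V] [Module ℂ V] [FiniteDimensional ℂ V]

def h7_IsProjLift (ρ : Representation ℂ N V) (M : G → (Module.End ℂ V)ˣ) (α : G → G → ℂˣ) :
    Prop :=
  (∀ g : G, h7_Implements ρ (M g) (MulAut.conjNormal g)) ∧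
  (∀ n : N, M (n : G) = ρ.asGroupHom n) ∧
  ∀ g h : G, M g * M h = h7_sc (α g h) * M (g * h)

theorem h7_exists_projLift (ρ : Representation ℂ N V) [ρ.IsIrreducible]
    (hinv : ∀ (g : G) (n : N), ρ.character (MulAut.conjNormal g n) = ρ.character n) :
    ∃ (M : G → (Module.End ℂ V)ˣ) (α : G → G → ℂˣ), h7_IsProjLift N ρ M α := by
  classical
  have hex : ∀ g : G, ∃ A : (Module.End ℂ V)ˣ, h7_Implements ρ A (MulAut.conjNormal g) :=
    h7_exists_implements N ρ hinv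
  choose A hA using hex
  let M : G → (Module.End ℂ V)ˣ := fun g => if h : g ∈ N then ρ.asGroupHom ⟨g, h⟩ else A g
  have hM : ∀ g, h7_Implements ρ (M g) (MulAut.conjNormal g) := by
    intro g
    by_cases h : g ∈ N
    · have h1 : M g = ρ.asGroupHom ⟨g, h⟩ := dif_pos h
      rw [h1]
      have h2 := h7_implements_rho ρ ⟨g, h⟩
      rw [← MulAut.conjNormal_val] at h2
      exact h2
    · have h1 : M g = A g := dif_neg h
      rw [h1]
      exact hA g
  have hMN : ∀ n : N, M (n : G) = ρ.asGroupHom n := by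
    intro n
    have h1 : M (n : G) = ρ.asGroupHom ⟨(n : G), n.2⟩ := dif_pos n.2
    rw [h1]
  have hαex : ∀ g h, ∃ c : ℂˣ, M g * M h = h7_sc c * M (g * h) := by
    intro g h
    have h1 := h7_implements_mul ρ (hM g) (hM h)
    rw [← map_mul] at h1
    exact h7_implements_unique ρ h1 (hM (g * h))
  choose α hα using hαex
  exact ⟨M, α, hM, hMN, hα⟩

theorem h7_extend_of_cob_one (ρ : Representation ℂ N V) [ρ.IsIrreducible]
    {M : G → (Module.End ℂ V)ˣ} {α : G → G → ℂˣ} (h : h7_IsProjLift N ρ M α)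
    (hone : h7_IsCob N α 1) :
    ∃ σ : Representation ℂ G V, σ.IsIrreducible ∧ ∀ n : N, σ (n : G) = ρ n := by
  classical
  obtain ⟨hM, hMN, hα⟩ := h
  obtain ⟨μ, hμ1, hμ2⟩ := hone
  have hmul : ∀ g h : G, (h7_sc (μ (g * h)))⁻¹ * M (g * h) =
      (h7_sc (μ g))⁻¹ * M g * ((h7_sc (μ h))⁻¹ * M h) := by
    intro g h
    have key : (μ (g * h))⁻¹ = (μ g)⁻¹ * (μ h)⁻¹ * α g h := by
      have h1 := hμ2 g h
      rw [zpow_one] at h1
      rw [← mul_inv, h1, mul_inv, mul_comm (α g h)⁻¹, mul_assoc, inv_mul_cancel, mul_one]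
    rw [← map_inv, ← map_inv, ← map_inv, key, map_mul, map_mul]
    rw [mul_assoc _ _ (M (g * h)), ← hα g h]
    have c1 : M g * h7_sc (μ h)⁻¹ = h7_sc (μ h)⁻¹ * M g := (h7_sc_comm _ _).symm
    calc h7_sc (μ g)⁻¹ * h7_sc (μ h)⁻¹ * (M g * M h)
        = h7_sc (μ g)⁻¹ * ((h7_sc (μ h)⁻¹ * M g) * M h) := by simp only [mul_assoc]
      _ = h7_sc (μ g)⁻¹ * M g * (h7_sc (μ h)⁻¹ * M h) := by
        rw [← c1]
        simp only [mul_assoc]
  let σu : G →* (Module.End ℂ V)ˣ :=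
    { toFun := fun g => (h7_sc (μ g))⁻¹ * M g
      map_one' := by
        have h1 := hμ1 1
        have h2 := hMN 1
        simp only [OneMemClass.coe_one] at h1 h2
        rw [h1, h2]
        simp
      map_mul' := hmul }
  let σ : Representation ℂ G V := (Units.coeHom (Module.End ℂ V)).comp σu
  have hσ : ∀ n : N, σ (n : G) = ρ n := by
    intro n
    change (((h7_sc (μ (n : G)))⁻¹ * M (n : G) : (Module.End ℂ V)ˣ) : Module.End ℂ V) = ρ n
    rw [hμ1 n, hMN n]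
    simp only [map_one, inv_one, one_mul]
    rfl
  exact ⟨σ, h7_isIrr_of_restrict ρ σ (fun n : N => (n : G)) hσ, hσ⟩

theorem h7_cob_transfer (ρ : Representation ℂ N V) [ρ.IsIrreducible]
    {M : G → (Module.End ℂ V)ˣ} {α : G → G → ℂˣ} (h : h7_IsProjLift N ρ M α)
    (P : Subgroup G) (hNP : N ≤ P)
    (S : G → (Module.End ℂ V)ˣ) (hS : ∀ x ∈ P, ∀ y ∈ P, S (x * y) = S x * S y)
    (hSN : ∀ n : N, S (n : G) = ρ.asGroupHom n) :
    (P.index : ℤ) ∈ h7_cobSubgroup N α :=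
  h7_transfer N ρ P hNP M h.1 h.2.1 α h.2.2 S hS hSN

theorem h7_cob_index (ρ : Representation ℂ N V) [ρ.IsIrreducible]
    {M : G → (Module.End ℂ V)ˣ} {α : G → G → ℂˣ} (h : h7_IsProjLift N ρ M α) :
    (N.index : ℤ) ∈ h7_cobSubgroup N α := by
  classical
  refine h7_cob_transfer N ρ h N le_rfl
    (fun x => if hx : x ∈ N then ρ.asGroupHom ⟨x, hx⟩ else 1) ?_ ?_
  · intro x hx y hy
    simp only [dif_pos hx, dif_pos hy, dif_pos (N.mul_mem hx hy)]
    rw [← map_mul]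
    rfl
  · intro n
    simp only [dif_pos n.2]

theorem h7_cob_det (ρ : Representation ℂ N V) [ρ.IsIrreducible]
    {M : G → (Module.End ℂ V)ˣ} {α : G → G → ℂˣ} (h : h7_IsProjLift N ρ M α)
    (k : ℕ) (μ : G →* ℂˣ)
    (hμ : ∀ n : N, ((μ (n : G) : ℂˣ) : ℂ) = LinearMap.det (ρ n) ^ k) :
    ((k * Module.finrank ℂ V : ℕ) : ℤ) ∈ h7_cobSubgroup N α := by
  obtain ⟨hM, hMN, hα⟩ := h
  let D : (Module.End ℂ V)ˣ →* ℂˣ := Units.map (LinearMap.det : Module.End ℂ V →* ℂ)
  have hDsc : ∀ c : ℂˣ, D (h7_sc c) = c ^ Module.finrank ℂ V := by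
    intro c
    apply Units.ext
    simp only [D, h7_sc, Units.coe_map, MonoidHom.coe_coe, Units.val_pow_eq_pow_val]
    rw [Algebra.algebraMap_eq_smul_one, LinearMap.det_smul, map_one, mul_one]
  refine ⟨fun g => D (M g) ^ k * (μ g)⁻¹, ?_, ?_⟩
  · intro n
    change D (M (n : G)) ^ k * (μ (n : G))⁻¹ = 1
    rw [hMN, mul_inv_eq_one]
    apply Units.ext
    rw [hμ n]
    simp only [D, Units.val_pow_eq_pow_val, Units.coe_map, MonoidHom.coe_coe]
    rfl
  · intro g h'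
    have h1 := congrArg D (hα g h')
    rw [map_mul, map_mul, hDsc] at h1
    change D (M g) ^ k * (μ g)⁻¹ * (D (M h') ^ k * (μ h')⁻¹) =
      α g h' ^ ((k * Module.finrank ℂ V : ℕ) : ℤ) * (D (M (g * h')) ^ k * (μ (g * h'))⁻¹)
    rw [zpow_natCast]
    calc D (M g) ^ k * (μ g)⁻¹ * (D (M h') ^ k * (μ h')⁻¹)
        = (D (M g) * D (M h')) ^ k * (μ g * μ h')⁻¹ := by
          rw [mul_pow, mul_inv]
          exact mul_mul_mul_comm _ _ _ _
      _ = (α g h' ^ Module.finrank ℂ V * D (M (g * h'))) ^ k * (μ (g * h'))⁻¹ := by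
          rw [h1, map_mul]
      _ = α g h' ^ (k * Module.finrank ℂ V) * (D (M (g * h')) ^ k * (μ (g * h'))⁻¹) := by
          rw [mul_pow, ← pow_mul, mul_assoc, mul_comm k]

theorem h7_one_mem_of_coprime (K : AddSubgroup ℤ) {a b : ℕ} (ha : (a : ℤ) ∈ K) (hb : (b : ℤ) ∈ K)
    (hab : Nat.Coprime a b) : (1 : ℤ) ∈ K := by
  have h1 : (1 : ℤ) = (a : ℤ) * Nat.gcdA a b + (b : ℤ) * Nat.gcdB a b := by
    have := Nat.gcd_eq_gcd_ab a b
    rw [hab] at this
    exact_mod_cast this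
  rw [h1]
  apply K.add_mem
  · rw [mul_comm]
    exact K.zsmul_mem ha _
  · rw [mul_comm]
    exact K.zsmul_mem hb _

end projlift

section det

theorem h7_det_eq_of_char_eq {N : Type*} [Group N] [Fintype N] {V W : Type*} [AddCommGroup V]
    [Module ℂ V] [FiniteDimensional ℂ V] [AddCommGroup W] [Module ℂ W] [FiniteDimensional ℂ W]
    (ρ : Representation ℂ N V) [ρ.IsIrreducible] (τ : Representation ℂ N W)
    (hchar : τ.character = ρ.character) (n : N) :
    LinearMap.det (τ n) = LinearMap.det (ρ n) := by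
  obtain ⟨E, hE⟩ := h7_equiv_of_char_eq ρ τ hchar
  have h1 : τ n = (E : V →ₗ[ℂ] W) ∘ₗ ρ n ∘ₗ (E.symm : W →ₗ[ℂ] V) := by
    rw [← LinearMap.comp_assoc, hE n, LinearMap.comp_assoc]
    simp
  rw [h1, LinearMap.det_conj]

theorem h7_detChar_eq {G : Type*} [Group G] [Finite G] {V : Type*} [AddCommGroup V]
    [Module ℂ V] [FiniteDimensional ℂ V] (ρ : Representation ℂ G V) [ρ.IsIrreducible] (g : G) :
    Cfsg.detChar ρ.character g = LinearMap.det (ρ g) := by
  classical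
  haveI : Fintype G := Fintype.ofFinite G
  have hc : Cfsg.IsCharacter G ρ.character :=
    h7_irr_isCharacter (Cfsg.Agent.Lib.Helper25.isIrrCharacter_of_irreducible ρ)
  unfold Cfsg.detChar
  rw [dif_pos hc]
  exact h7_det_eq_of_char_eq ρ _ (Classical.choose_spec (Classical.choose_spec hc)) g

end det

end Cfsg.Agent.Lib.helper7
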