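import Mathlib
import Cfsg.Prelude.Def_Characters
import Cfsg.Prelude.Def_CharExt
import Cfsg.Agent.Lib.helper7.ProjExtDet
import Cfsg.Agent.Lib.helper7.CharCentral
import Cfsg.Agent.Lib.Helper25.CharQuot

set_option autoImplicit false

namespace Cfsg.Agent.Lib.helper7

theorem h7_conjNormal_eq {G : Type*} [Group G] (N : Subgroup G) [hN : N.Normal] (g : G) (n : N) :
    (MulAut.conjNormal g : MulAut N) n = ⟨g * n * g⁻¹, hN.conj_mem (n : G) n.2 g⟩ := rfl

noncomputable def h7_detHom {G : Type*} [Group G] {V : Type*} [AddCommGroup V] [Module ℂ V]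
    (σ : Representation ℂ G V) : G →* ℂˣ :=
  (Units.map (LinearMap.det : Module.End ℂ V →* ℂ)).comp σ.asGroupHom

theorem h7_detHom_apply {G : Type*} [Group G] {V : Type*} [AddCommGroup V] [Module ℂ V]
    (σ : Representation ℂ G V) (g : G) : ((h7_detHom σ g : ℂˣ) : ℂ) = LinearMap.det (σ g) := rfl

theorem h7_linear_of_hom {G : Type*} [Group G] (μ : G →* ℂˣ) :
    Cfsg.IsCharacter G (fun g => ((μ g : ℂˣ) : ℂ)) ∧ (fun g => ((μ g : ℂˣ) : ℂ)) 1 = 1 := by
  refine ⟨h7_irr_isCharacter (Cfsg.Agent.Lib.Helper25.linIrr μ).2, ?_⟩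
  simp

noncomputable def h7_homOfLinear {G : Type*} [Group G] {μ : G → ℂ}
    (h : Cfsg.IsCharacter G μ ∧ μ 1 = 1) : G →* ℂˣ :=
  Cfsg.Agent.Lib.Helper25.irrLinearHom ⟨μ, h7_linear_isIrr h.1 h.2⟩ h.2

theorem h7_homOfLinear_apply {G : Type*} [Group G] {μ : G → ℂ}
    (h : Cfsg.IsCharacter G μ ∧ μ 1 = 1) (g : G) : ((h7_homOfLinear h g : ℂˣ) : ℂ) = μ g := rfl

theorem h7_gallagher {G : Type*} [Group G] [Finite G] (N : Subgroup G) [hN : N.Normal]
    (ϑ : N → ℂ) (hϑ : Cfsg.IsIrrCharacter N ϑ)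
    (hinv : ∀ (g : G) (n : N), ϑ ⟨g * n * g⁻¹, hN.conj_mem (n : G) n.2 g⟩ = ϑ n)
    (d : ℕ) (hd : ϑ 1 = d) (hcop : Nat.Coprime N.index d) :
    (∃ χ : G → ℂ, Cfsg.IsIrrCharacter G χ ∧ (∀ n : N, χ n = ϑ n)) ↔
      ∃ μ : G → ℂ, Cfsg.IsCharacter G μ ∧ μ 1 = 1 ∧ ∀ n : N, μ n = Cfsg.detChar ϑ n := by
  classical
  haveI : Fintype G := Fintype.ofFinite G
  obtain ⟨m, ρ, hρ, rfl⟩ := hϑ
  haveI := hρ
  constructor
  · rintro ⟨χ, ⟨m', σ, hσ, rfl⟩, hχN⟩
    haveI := hσ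
    obtain ⟨h1, h2⟩ := h7_linear_of_hom (h7_detHom σ)
    refine ⟨fun g => ((h7_detHom σ g : ℂˣ) : ℂ), h1, h2, ?_⟩
    intro n
    rw [h7_detChar_eq ρ n]
    change LinearMap.det (σ (n : G)) = LinearMap.det (ρ n)
    let τ : Representation ℂ N (Fin m' → ℂ) := σ.comp N.subtype
    have hc : τ.character = ρ.character := by
      funext n
      exact hχN n
    exact h7_det_eq_of_char_eq ρ τ hc n
  · rintro ⟨μ, hμ, hμ1, hμN⟩
    have hinv' : ∀ (g : G) (n : N), ρ.character (MulAut.conjNormal g n) = ρ.character n :=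
      fun g n => hinv g n
    obtain ⟨M, α, hlift⟩ := h7_exists_projLift N ρ hinv'
    have hdm : d = m := by
      rw [Representation.char_one] at hd
      have : Module.finrank ℂ (Fin m → ℂ) = m := by simp
      rw [this] at hd
      exact_mod_cast hd.symm
    have hk1 : ((1 * Module.finrank ℂ (Fin m → ℂ) : ℕ) : ℤ) ∈ h7_cobSubgroup N α := by
      apply h7_cob_det N ρ hlift 1 (h7_homOfLinear ⟨hμ, hμ1⟩)
      intro n
      rw [h7_homOfLinear_apply, hμN n, h7_detChar_eq ρ n, pow_one]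
    have hk2 := h7_cob_index N ρ hlift
    have hfr : (1 * Module.finrank ℂ (Fin m → ℂ) : ℕ) = d := by
      rw [hdm]
      simp
    rw [hfr] at hk1
    have hone := h7_one_mem_of_coprime _ hk2 hk1 hcop
    obtain ⟨σ, hσirr, hσN⟩ := h7_extend_of_cob_one N ρ hlift hone
    refine ⟨σ.character, ⟨m, σ, hσirr, rfl⟩, ?_⟩
    intro n
    simp only [Representation.character]
    rw [hσN]

end Cfsg.Agent.Lib.helper7
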