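import Mathlib
import Cfsg.Prelude.Def_Characters
import Cfsg.Prelude.Def_CharExt
import Cfsg.Agent.Lib.helper7.Gallagher

set_option autoImplicit false

namespace Cfsg.Agent.Lib.helper7

section transport

variable {G : Type*} [Group G] [Fintype G] (N : Subgroup G) [hN : N.Normal]
variable {V : Type*} [AddCommGroup V] [Module ℂ V] [FiniteDimensional ℂ V]

theorem h7_transport_rep (ρ : Representation ℂ N V) [ρ.IsIrreducible]
    {W : Type*} [AddCommGroup W] [Module ℂ W] [FiniteDimensional ℂ W] (σ : Representation ℂ G W)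
    (hchar : ∀ n : N, σ.character (n : G) = ρ.character n) :
    ∃ φ : G →* (Module.End ℂ V)ˣ, (∀ n : N, φ (n : G) = ρ.asGroupHom n) ∧
      (∀ g, LinearMap.trace ℂ V (φ g : Module.End ℂ V) = σ.character g) ∧
      (∀ g, LinearMap.det (φ g : Module.End ℂ V) = LinearMap.det (σ g)) := by
  classical
  haveI : Fintype N := Fintype.ofFinite N
  let τN : Representation ℂ N W := σ.comp N.subtype
  have hc : τN.character = ρ.character := funext hchar
  obtain ⟨E, hE⟩ := h7_equiv_of_char_eq ρ τN hc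
  let φ : G →* (Module.End ℂ V)ˣ :=
    (Units.map (E.symm.conjRingEquiv : Module.End ℂ W →* Module.End ℂ V)).comp σ.asGroupHom
  have hφ : ∀ g, (φ g : Module.End ℂ V) = E.symm.conj (σ g) := fun g => rfl
  refine ⟨φ, ?_, ?_, ?_⟩
  · intro n
    apply Units.ext
    apply LinearMap.ext
    intro v
    have h1 := congrArg (fun L => L v) (hE n)
    simp only [LinearMap.comp_apply] at h1
    change E.symm (σ (n : G) (E.symm.symm v)) = ρ n v
    rw [LinearEquiv.symm_symm]
    have h2 : σ (n : G) (E v) = E (ρ n v) := h1.symm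
    rw [h2, LinearEquiv.symm_apply_apply]
  · intro g
    rw [hφ, LinearMap.trace_conj']
    rfl
  · intro g
    rw [hφ, LinearEquiv.conj_apply, LinearMap.comp_assoc, LinearMap.det_conj]

theorem h7_extensions_differ (ρ : Representation ℂ N V) [ρ.IsIrreducible]
    {W₁ : Type*} [AddCommGroup W₁] [Module ℂ W₁] [FiniteDimensional ℂ W₁]
    {W₂ : Type*} [AddCommGroup W₂] [Module ℂ W₂] [FiniteDimensional ℂ W₂]
    (σ₁ : Representation ℂ G W₁) (σ₂ : Representation ℂ G W₂)
    (h1 : ∀ n : N, σ₁.character (n : G) = ρ.character n)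
    (h2 : ∀ n : N, σ₂.character (n : G) = ρ.character n) :
    ∃ β : G →* ℂˣ, (∀ n : N, β (n : G) = 1) ∧
      (∀ g, σ₂.character g = ((β g : ℂˣ) : ℂ) * σ₁.character g) ∧
      (∀ g, LinearMap.det (σ₂ g) =
        ((β g : ℂˣ) : ℂ) ^ Module.finrank ℂ V * LinearMap.det (σ₁ g)) := by
  classical
  obtain ⟨φ₁, hφ₁N, hφ₁t, hφ₁d⟩ := h7_transport_rep N ρ σ₁ h1
  obtain ⟨φ₂, hφ₂N, hφ₂t, hφ₂d⟩ := h7_transport_rep N ρ σ₂ h2
  have hV : Nontrivial V := by
    have := Cfsg.Agent.Lib.Helper25.finrank_ne_zero_of_irr ρ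
    exact Module.nontrivial_of_finrank_pos (R := ℂ) (Nat.pos_of_ne_zero this)
  have himp : ∀ (φ : G →* (Module.End ℂ V)ˣ), (∀ n : N, φ (n : G) = ρ.asGroupHom n) →
      ∀ g, h7_Implements ρ (φ g) (MulAut.conjNormal g) := by
    intro φ hφN g n
    rw [← hφN n, ← hφN (MulAut.conjNormal g n), ← map_inv, ← map_mul, ← map_mul]
    rfl
  have hex : ∀ g, ∃ c : ℂˣ, φ₂ g = h7_sc c * φ₁ g :=
    fun g => h7_implements_unique ρ (himp φ₂ hφ₂N g) (himp φ₁ hφ₁N g)
  choose b hb using hex
  have hbmul : ∀ g h, b (g * h) = b g * b h := by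
    intro g h
    have e1 : φ₂ (g * h) = h7_sc (b (g * h)) * φ₁ (g * h) := hb (g * h)
    have e2 : φ₂ (g * h) = h7_sc (b g * b h) * φ₁ (g * h) := by
      rw [map_mul, hb g, hb h, map_mul, map_mul]
      calc h7_sc (b g) * φ₁ g * (h7_sc (b h) * φ₁ h)
          = h7_sc (b g) * ((φ₁ g * h7_sc (b h)) * φ₁ h) := by simp only [mul_assoc]
        _ = h7_sc (b g) * h7_sc (b h) * (φ₁ g * φ₁ h) := by
          rw [← h7_sc_comm]
          simp only [mul_assoc]
    rw [e1] at e2
    exact h7_sc_injective (mul_right_cancel e2)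
  refine ⟨MonoidHom.mk' b hbmul, ?_, ?_, ?_⟩
  · intro n
    change b (n : G) = 1
    have e1 := hb (n : G)
    rw [hφ₂N, hφ₁N] at e1
    have e2 : h7_sc (V := V) (b (n : G)) = h7_sc 1 := by
      rw [map_one]
      exact (mul_eq_right.mp e1.symm)
    exact h7_sc_injective e2
  · intro g
    change σ₂.character g = ((b g : ℂˣ) : ℂ) * σ₁.character g
    rw [← hφ₂t, ← hφ₁t, hb g]
    simp only [Units.val_mul, h7_sc, Units.coe_map, MonoidHom.coe_coe]
    rw [Algebra.algebraMap_eq_smul_one, smul_mul_assoc, one_mul, map_smul, smul_eq_mul]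
  · intro g
    change LinearMap.det (σ₂ g) = ((b g : ℂˣ) : ℂ) ^ Module.finrank ℂ V * LinearMap.det (σ₁ g)
    rw [← hφ₂d, ← hφ₁d, hb g]
    simp only [Units.val_mul, h7_sc, Units.coe_map, MonoidHom.coe_coe]
    rw [Algebra.algebraMap_eq_smul_one, smul_mul_assoc, one_mul, LinearMap.det_smul]

end transport

section twist

variable {G : Type*} [Group G] {W : Type*} [AddCommGroup W] [Module ℂ W]

noncomputable def h7_twist (β : G →* ℂˣ) (σ : Representation ℂ G W) : Representation ℂ G W where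
  toFun g := ((β g : ℂˣ) : ℂ) • σ g
  map_one' := by simp
  map_mul' g h := by
    rw [map_mul, map_mul, Units.val_mul, smul_mul_smul_comm]

theorem h7_twist_apply (β : G →* ℂˣ) (σ : Representation ℂ G W) (g : G) :
    h7_twist β σ g = ((β g : ℂˣ) : ℂ) • σ g := rfl

theorem h7_twist_character (β : G →* ℂˣ) (σ : Representation ℂ G W) (g : G) :
    (h7_twist β σ).character g = ((β g : ℂˣ) : ℂ) * σ.character g := by
  simp only [Representation.character, h7_twist_apply, map_smul, smul_eq_mul]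

theorem h7_twist_det [FiniteDimensional ℂ W] (β : G →* ℂˣ) (σ : Representation ℂ G W) (g : G) :
    LinearMap.det (h7_twist β σ g) =
      ((β g : ℂˣ) : ℂ) ^ Module.finrank ℂ W * LinearMap.det (σ g) := by
  rw [h7_twist_apply, LinearMap.det_smul]

theorem h7_twist_irr (β : G →* ℂˣ) (σ : Representation ℂ G W) [hσ : σ.IsIrreducible] :
    (h7_twist β σ).IsIrreducible := by
  refine { exists_pair_ne := ⟨⊥, ⊤, ?_⟩, eq_bot_or_eq_top := ?_ }
  · intro hbt
    have h2 : ((⊥ : Subrepresentation (h7_twist β σ)).toSubmodule) =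
        (⊤ : Subrepresentation (h7_twist β σ)).toSubmodule := congrArg _ hbt
    have h3 : (⊥ : Subrepresentation σ) = ⊤ := by
      apply Subrepresentation.toSubmodule_injective
      exact h2
    exact bot_ne_top h3
  · intro S
    have hinv : ∀ g : G, ∀ v ∈ S.toSubmodule, σ g v ∈ S.toSubmodule := by
      intro g v hv
      have h1 := S.apply_mem_toSubmodule g hv
      rw [h7_twist_apply, LinearMap.smul_apply] at h1
      have h2 := S.toSubmodule.smul_mem (((β g)⁻¹ : ℂˣ) : ℂ) h1
      rw [smul_smul, ← Units.val_mul, inv_mul_cancel, Units.val_one, one_smul] at h2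
      exact h2
    rcases Cfsg.Agent.Lib.Helper25.irr_eq_bot_or_top σ _ hinv with h1 | h1
    · left
      apply Subrepresentation.toSubmodule_injective
      exact h1
    · right
      apply Subrepresentation.toSubmodule_injective
      exact h1

end twist

end Cfsg.Agent.Lib.helper7
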