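import Mathlib
import Cfsg.Prelude.Def_Characters
import Cfsg.Prelude.Def_CharExt
import Cfsg.Agent.Lib.helper7.Gallagher

set_option autoImplicit false

namespace Cfsg.Agent.Lib.helper7

theorem h7_one_mem_of_forall_prime (K : AddSubgroup ℤ)
    (h : ∀ p : ℕ, p.Prime → ∃ a : ℕ, (a : ℤ) ∈ K ∧ ¬ p ∣ a) : (1 : ℤ) ∈ K := by
  obtain ⟨d, hd⟩ : ∃ d : ℤ, K = AddSubgroup.zmultiples d := by
    obtain ⟨d, hd⟩ := Int.subgroup_cyclic K
    exact ⟨d, by rw [hd, AddSubgroup.zmultiples_eq_closure]⟩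
  have hd1 : d.natAbs = 1 := by
    by_contra hne
    obtain ⟨p, hp, hpd⟩ := Nat.exists_prime_and_dvd hne
    obtain ⟨a, haK, hpa⟩ := h p hp
    rw [hd] at haK
    have hdvd : d ∣ (a : ℤ) := Int.mem_zmultiples_iff.mp haK
    have h1 : (p : ℤ) ∣ d := Int.natCast_dvd.mpr hpd
    exact hpa (Int.natCast_dvd_natCast.mp (dvd_trans h1 hdvd))
  rw [hd]
  rcases Int.natAbs_eq d with h | h
  · rw [hd1] at h
    rw [h]
    exact AddSubgroup.mem_zmultiples _
  · rw [hd1] at h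
    rw [h]
    have := AddSubgroup.neg_mem _ (AddSubgroup.mem_zmultiples (-((1 : ℕ) : ℤ)))
    simpa using this

theorem h7_det_eq_trace_of_finrank_one {V : Type*} [AddCommGroup V] [Module ℂ V]
    [FiniteDimensional ℂ V] (h : Module.finrank ℂ V = 1) (f : V →ₗ[ℂ] V) :
    LinearMap.det f = LinearMap.trace ℂ V f := by
  conv_lhs => rw [Cfsg.Agent.Lib.Helper25.end_eq_trace_smul_of_finrank_one h f]
  rw [LinearMap.det_smul, h, pow_one, LinearMap.det_id, mul_one]

section lin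

variable {G : Type*} [Group G] [Fintype G] (N : Subgroup G) [hN : N.Normal]

theorem h7_linear_order_mem {m : ℕ} (ρ : Representation ℂ N (Fin m → ℂ)) [ρ.IsIrreducible]
    (hfr : Module.finrank ℂ (Fin m → ℂ) = 1)
    {M : G → (Module.End ℂ (Fin m → ℂ))ˣ} {α : G → G → ℂˣ} (hlift : h7_IsProjLift N ρ M α) :
    ((orderOf ρ.character : ℕ) : ℤ) ∈ h7_cobSubgroup N α := by
  have h1 := h7_cob_det N ρ hlift (orderOf ρ.character) 1 (by
    intro n
    rw [h7_det_eq_trace_of_finrank_one hfr]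
    have h2 := congrFun (pow_orderOf_eq_one ρ.character) n
    rw [Pi.pow_apply] at h2
    change (1 : ℂ) = ρ.character n ^ orderOf ρ.character
    rw [h2]
    rfl)
  rw [hfr, mul_one] at h1
  exact h1

theorem h7_linear_extends_of_sylow (lam : N → ℂ) (hlam : Cfsg.IsCharacter N lam ∧ lam 1 = 1)
    (hinv : ∀ (g : G) (n : N), lam ⟨g * n * g⁻¹, hN.conj_mem (n : G) n.2 g⟩ = lam n)
    (hsyl : ∀ p : ℕ, p.Prime → p ∣ orderOf lam → ∃ (H : Subgroup G) (hNH : N ≤ H) (ν : H → ℂ),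
      Nat.Coprime H.index p ∧ Cfsg.IsCharacter H ν ∧ ∀ n : N, ν ⟨(n : G), hNH n.2⟩ = lam n) :
    ∃ μ : G → ℂ, Cfsg.IsCharacter G μ ∧ μ 1 = 1 ∧ ∀ n : N, μ n = lam n := by
  classical
  obtain ⟨⟨m, ρ, rfl⟩, hlam1⟩ := hlam
  have hfr : Module.finrank ℂ (Fin m → ℂ) = 1 := by
    rw [Representation.char_one] at hlam1
    exact_mod_cast hlam1
  haveI : ρ.IsIrreducible := Cfsg.Agent.Lib.Helper25.isIrreducible_of_finrank_eq_one ρ hfr
  have hinv' : ∀ (g : G) (n : N), ρ.character (MulAut.conjNormal g n) = ρ.character n :=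
    fun g n => hinv g n
  obtain ⟨M, α, hlift⟩ := h7_exists_projLift N ρ hinv'
  have hone : (1 : ℤ) ∈ h7_cobSubgroup N α := by
    apply h7_one_mem_of_forall_prime
    intro p hp
    by_cases hpo : p ∣ orderOf ρ.character
    · obtain ⟨H, hNH, ν, hcop, ⟨k, τ, hτ⟩, hνN⟩ := hsyl p hp hpo
      obtain ⟨S, hS, hSN⟩ := h7_S_of_char N H hNH ρ τ (by
        intro n
        rw [hτ]
        exact hνN n)
      refine ⟨H.index, h7_cob_transfer N ρ hlift H hNH S hS hSN, ?_⟩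
      intro hdvd
      have := Nat.Coprime.eq_one_of_dvd hcop.symm hdvd
      exact hp.one_lt.ne' this
    · exact ⟨orderOf ρ.character, h7_linear_order_mem N ρ hfr hlift, hpo⟩
  obtain ⟨σ, hσirr, hσN⟩ := h7_extend_of_cob_one N ρ hlift hone
  refine ⟨σ.character, ⟨m, σ, rfl⟩, ?_, ?_⟩
  · rw [Representation.char_one, hfr]
    simp
  · intro n
    simp only [Representation.character]
    rw [hσN]

end lin

end Cfsg.Agent.Lib.helper7
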