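import Mathlib
import Cfsg.Prelude.Def_Characters
import Cfsg.Prelude.Def_CharExt
import Cfsg.Prelude.Def_Blocks
import Cfsg.Agent.Lib.helper7.FixedSum
import Cfsg.Agent.Lib.helper7.Gallagher
import Cfsg.Agent.Lib.Helper25.CharOrth
import Cfsg.Agent.Lib.Helper25.CharAbelian
import Cfsg.Agent.S0867

set_option autoImplicit false

namespace Cfsg.Agent.Lib.helper7

open Cfsg.Agent.Lib.Helper11

section thompson

variable {G : Type*} [Group G] [Fintype G]

theorem h7_exists_min_ppow_index (p : ℕ) : ∃ K : Subgroup G, K.Normal ∧ (∃ k, K.index = p ^ k) ∧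
    ∀ M : Subgroup G, M.Normal → M ≤ K → (∃ k, M.index = p ^ k) → M = K := by
  classical
  let S : ℕ → Prop := fun n => ∃ K : Subgroup G, K.Normal ∧ (∃ k, K.index = p ^ k) ∧ Nat.card K = n
  have hS : ∃ n, S n := ⟨Nat.card (⊤ : Subgroup G), ⊤, inferInstance, ⟨0, by simp⟩, rfl⟩
  obtain ⟨K, hKn, hKi, hKc⟩ := Nat.find_spec hS
  refine ⟨K, hKn, hKi, ?_⟩
  intro M hMn hMK hMi
  apply Subgroup.eq_of_le_of_card_ge hMK
  rw [hKc]
  exact Nat.find_min' hS ⟨M, hMn, hMi, rfl⟩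

def h7_linEmb (K : Type*) [Group K] : (K →* ℂˣ) →* (K → ℂ) where
  toFun μ := fun n => ((μ n : ℂˣ) : ℂ)
  map_one' := by
    funext n
    simp
  map_mul' μ ν := by
    funext n
    simp

theorem h7_linEmb_injective (K : Type*) [Group K] : Function.Injective (h7_linEmb K) := by
  intro μ ν h
  apply MonoidHom.ext
  intro n
  apply Units.ext
  exact congrFun h n

theorem h7_orderOf_linEmb {K : Type*} [Group K] (μ : K →* ℂˣ) :
    orderOf (fun n => ((μ n : ℂˣ) : ℂ)) = orderOf μ :=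
  orderOf_injective (h7_linEmb K) (h7_linEmb_injective K) μ

theorem h7_inv_linear_order_coprime (p : ℕ) [hp : Fact p.Prime] (K : Subgroup G) [hK : K.Normal]
    (hKidx : ∃ k, K.index = p ^ k)
    (hmin : ∀ M : Subgroup G, M.Normal → M ≤ K → (∃ k, M.index = p ^ k) → M = K)
    (μ : K →* ℂˣ)
    (hμinv : ∀ (g : G) (n : K), μ ⟨g * n * g⁻¹, hK.conj_mem (n : G) n.2 g⟩ = μ n) :
    ¬ p ∣ orderOf μ := by
  classical
  intro hdvd
  haveI : Finite (K →* ℂˣ) := inferInstance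
  have ho : 0 < orderOf μ := orderOf_pos μ
  set ν : K →* ℂˣ := μ ^ (orderOf μ / p) with hν
  have hν1 : ν ≠ 1 := by
    have h1 : orderOf μ / p ≠ 0 := by
      intro h0
      have := Nat.div_mul_cancel hdvd
      rw [h0, zero_mul] at this
      omega
    exact pow_ne_one_of_lt_orderOf h1 (Nat.div_lt_self ho hp.out.one_lt)
  have hνp : ν ^ p = 1 := by
    have e1 := pow_mul μ (orderOf μ / p) p
    rw [Nat.div_mul_cancel hdvd, pow_orderOf_eq_one] at e1
    exact e1.symm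
  have hνinv : ∀ (g : G) (n : K), ν ⟨g * n * g⁻¹, hK.conj_mem (n : G) n.2 g⟩ = ν n := by
    intro g n
    rw [hν, MonoidHom.pow_apply, MonoidHom.pow_apply, hμinv]
  let M : Subgroup G := ν.ker.map K.subtype
  have hMn : M.Normal := by
    constructor
    intro m hm g
    obtain ⟨n, hn, rfl⟩ := hm
    refine ⟨⟨g * n * g⁻¹, hK.conj_mem (n : G) n.2 g⟩, ?_, rfl⟩
    rw [SetLike.mem_coe, MonoidHom.mem_ker] at hn ⊢
    rw [hνinv, hn]
  have hMK : M ≤ K := Subgroup.map_subtype_le _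
  have hrange : IsPGroup p ν.range := by
    rintro ⟨z, x, rfl⟩
    refine ⟨1, ?_⟩
    apply Subtype.ext
    rw [pow_one, Subgroup.coe_pow, Subgroup.coe_one]
    simp only
    rw [← MonoidHom.pow_apply, hνp]
    rfl
  obtain ⟨i, hi⟩ := hrange.exists_card_eq
  obtain ⟨k, hk⟩ := hKidx
  have hMi : ∃ k', M.index = p ^ k' := by
    refine ⟨i + k, ?_⟩
    rw [Subgroup.index_map_subtype, Subgroup.index_ker, hi, hk, pow_add]
  have hMeq := hmin M hMn hMK hMi
  apply hν1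
  apply MonoidHom.ext
  intro n
  have h1 : (n : G) ∈ M := by
    rw [hMeq]
    exact n.2
  obtain ⟨n', hn', hnn⟩ := h1
  have h2 : n' = n := Subtype.ext hnn
  rw [← h2]
  exact hn'

theorem h7_detChar_invariant (K : Subgroup G) [hK : K.Normal] (ϑ : K → ℂ)
    (hϑ : Cfsg.IsIrrCharacter K ϑ)
    (hinv : ∀ (g : G) (n : K), ϑ ⟨g * n * g⁻¹, hK.conj_mem (n : G) n.2 g⟩ = ϑ n)
    (g : G) (n : K) :
    Cfsg.detChar ϑ ⟨g * n * g⁻¹, hK.conj_mem (n : G) n.2 g⟩ = Cfsg.detChar ϑ n := by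
  classical
  obtain ⟨k, ρ, hρ, rfl⟩ := hϑ
  haveI := hρ
  haveI : Fintype K := Fintype.ofFinite K
  rw [h7_detChar_eq ρ, h7_detChar_eq ρ]
  let τ : Representation ℂ K (Fin k → ℂ) := ρ.comp (MulAut.conjNormal g : MulAut K).toMonoidHom
  have hc : τ.character = ρ.character := by
    funext n
    exact hinv g n
  exact h7_det_eq_of_char_eq ρ τ hc n

theorem h7_thompson_fixed_linear (p : ℕ) [hp : Fact p.Prime]
    (hdeg : ∀ χ : G → ℂ, Cfsg.IsIrrCharacter G χ → ∀ d : ℕ, χ 1 = (d : ℂ) → d ≠ 1 → p ∣ d)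
    (K : Subgroup G) [hK : K.Normal] (hKidx : ∃ k, K.index = p ^ k)
    (hmin : ∀ M : Subgroup G, M.Normal → M ≤ K → (∃ k, M.index = p ^ k) → M = K)
    (ϑ : K → ℂ) (hϑ : Cfsg.IsIrrCharacter K ϑ)
    (hinv : ∀ (g : G) (n : K), ϑ ⟨g * n * g⁻¹, hK.conj_mem (n : G) n.2 g⟩ = ϑ n)
    (d : ℕ) (hd : ϑ 1 = (d : ℂ)) (hpd : ¬ p ∣ d) : d = 1 := by
  classical
  have hlin := Cfsg.Agent.S0867.detChar_linear hϑ
  let μ : K →* ℂˣ := h7_homOfLinear hlin
  have hμinv : ∀ (g : G) (n : K), μ ⟨g * n * g⁻¹, hK.conj_mem (n : G) n.2 g⟩ = μ n := by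
    intro g n
    apply Units.ext
    exact h7_detChar_invariant K ϑ hϑ hinv g n
  have h1 := h7_inv_linear_order_coprime p K hKidx hmin μ hμinv
  have h2 : Cfsg.detOrder ϑ = orderOf μ := by
    unfold Cfsg.detOrder
    rw [← h7_orderOf_linEmb μ]
    rfl
  obtain ⟨k, hk⟩ := hKidx
  have hcop : Nat.Coprime K.index (Cfsg.detOrder ϑ * d) := by
    rw [hk, h2]
    apply Nat.Coprime.pow_left
    apply Nat.Coprime.mul_right
    · exact (Nat.Prime.coprime_iff_not_dvd hp.out).mpr h1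
    · exact (Nat.Prime.coprime_iff_not_dvd hp.out).mpr hpd
  obtain ⟨χ, ⟨hχ, hχK, _⟩, _⟩ := Cfsg.Agent.S0867.result K ϑ hϑ hinv d hd hcop
  by_contra hne
  apply hpd
  apply hdeg χ hχ d _ hne
  have := hχK 1
  rw [OneMemClass.coe_one] at this
  rw [this, hd]

def h7_irrSmul (K : Subgroup G) [hK : K.Normal] (g : G) (ϑ : Cfsg.IrrCharacter K) :
    Cfsg.IrrCharacter K :=
  ⟨cj K (ϑ : K → ℂ) g⁻¹, isIrr_cj K ϑ ϑ.2 g⁻¹⟩

@[reducible] def h7_irrAction (K : Subgroup G) [hK : K.Normal] :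
    MulAction G (Cfsg.IrrCharacter K) where
  smul := h7_irrSmul K
  one_smul := by
    intro ϑ
    apply Subtype.ext
    funext n
    change cj K (ϑ : K → ℂ) 1⁻¹ n = (ϑ : K → ℂ) n
    rw [cj_apply]
    refine congrArg _ (Subtype.ext ?_)
    simp
  mul_smul := by
    intro g h ϑ
    apply Subtype.ext
    funext n
    change cj K (ϑ : K → ℂ) (g * h)⁻¹ n = cj K (cj K (ϑ : K → ℂ) h⁻¹) g⁻¹ n
    rw [cj_apply, cj_apply, cj_apply]
    refine congrArg _ (Subtype.ext ?_)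
    simp only
    group

theorem h7_irrAction_apply (K : Subgroup G) [hK : K.Normal] (g : G) (ϑ : Cfsg.IrrCharacter K)
    (n : K) :
    ((letI := h7_irrAction K; g • ϑ : Cfsg.IrrCharacter K) : K → ℂ) n =
      (ϑ : K → ℂ) ⟨g⁻¹ * n * g⁻¹⁻¹, hK.conj_mem (n : G) n.2 g⁻¹⟩ := rfl

theorem h7_sup_sylow_eq_top (p : ℕ) [hp : Fact p.Prime] (K : Subgroup G) (hKidx : ∃ k, K.index = p ^ k)
    (P : Sylow p G) : K ⊔ (P : Subgroup G) = ⊤ := by
  obtain ⟨k, hk⟩ := hKidx
  have h1 : (K ⊔ (P : Subgroup G)).index ∣ p ^ k := by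
    rw [← hk]
    exact Subgroup.index_dvd_of_le le_sup_left
  have h2 : (K ⊔ (P : Subgroup G)).index ∣ (P : Subgroup G).index :=
    Subgroup.index_dvd_of_le le_sup_right
  obtain ⟨j, _, hj⟩ := (Nat.dvd_prime_pow hp.out).mp h1
  rw [← Subgroup.index_eq_one]
  rcases Nat.eq_zero_or_pos j with h0 | h0
  · rw [hj, h0, pow_zero]
  · exfalso
    apply P.not_dvd_index
    apply dvd_trans _ h2
    rw [hj]
    exact dvd_pow_self p h0.ne'

def h7_invLin (K : Subgroup G) [hK : K.Normal] : Subgroup (K →* ℂˣ) where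
  carrier := {μ | ∀ (g : G) (n : K), μ ⟨g * n * g⁻¹, hK.conj_mem (n : G) n.2 g⟩ = μ n}
  mul_mem' := by
    intro a b ha hb g n
    rw [MonoidHom.mul_apply, MonoidHom.mul_apply, ha, hb]
  one_mem' := by
    intro g n
    rfl
  inv_mem' := by
    intro a ha g n
    rw [MonoidHom.inv_apply, MonoidHom.inv_apply, ha]

theorem h7_sum_degree_sq (K : Type*) [Group K] [Fintype K] [Fintype (Cfsg.IrrCharacter K)] :
    ∑ ϑ : Cfsg.IrrCharacter K, (Cfsg.charDegree (ϑ : K → ℂ)) ^ 2 = Fintype.card K := by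
  classical
  have h1 := Cfsg.Agent.Lib.Helper25.irr_column_orthogonality (G := K) 1 1
  rw [if_pos (IsConj.refl 1)] at h1
  have h2 : Subgroup.centralizer ({1} : Set K) = ⊤ := by
    rw [Subgroup.centralizer_eq_top_iff_subset]
    intro x hx
    rw [Set.mem_singleton_iff] at hx
    rw [hx]
    exact Subgroup.one_mem _
  rw [h2, Subgroup.card_top, Nat.card_eq_fintype_card] at h1
  have h3 : ∀ ϑ : Cfsg.IrrCharacter K, (ϑ : K → ℂ) 1 * (starRingEnd ℂ) ((ϑ : K → ℂ) 1) =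
      (((Cfsg.charDegree (ϑ : K → ℂ)) ^ 2 : ℕ) : ℂ) := by
    intro ϑ
    rw [← (Cfsg.Agent.Lib.Helper25.charDegree_irr ϑ).1]
    simp only [map_natCast, Nat.cast_pow]
    ring
  rw [Finset.sum_congr rfl (fun ϑ _ => h3 ϑ), ← Nat.cast_sum] at h1
  exact_mod_cast h1

theorem h7_thompson (p : ℕ) [hp : Fact p.Prime]
    (hdeg : ∀ χ : G → ℂ, Cfsg.IsIrrCharacter G χ → ∀ d : ℕ, χ 1 = (d : ℂ) → d ≠ 1 → p ∣ d) :
    ∃ N : Subgroup G, N.Normal ∧ (Nat.card N).Coprime p ∧ ∃ k : ℕ, N.index = p ^ k := by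
  classical
  obtain ⟨K, hKn, hKidx, hmin⟩ := h7_exists_min_ppow_index (G := G) p
  haveI := hKn
  by_cases hpK : p ∣ Nat.card K
  swap
  · exact ⟨K, hKn, ((Nat.Prime.coprime_iff_not_dvd hp.out).mpr hpK).symm, hKidx⟩
  exfalso
  let P : Sylow p G := default
  have hKP : K ⊔ (P : Subgroup G) = ⊤ := h7_sup_sylow_eq_top p K hKidx P
  letI : MulAction G (Cfsg.IrrCharacter K) := h7_irrAction K
  haveI : Fintype (Cfsg.IrrCharacter K) := Fintype.ofFinite _
  haveI : Fintype K := Fintype.ofFinite _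
  let f : Cfsg.IrrCharacter K → ZMod p :=
    fun ϑ => ((Cfsg.charDegree (ϑ : K → ℂ) : ℕ) : ZMod p) ^ 2
  have hdegsmul : ∀ (g : G) (ϑ : Cfsg.IrrCharacter K),
      Cfsg.charDegree ((g • ϑ : Cfsg.IrrCharacter K) : K → ℂ) = Cfsg.charDegree (ϑ : K → ℂ) := by
    intro g ϑ
    have h1 : ((g • ϑ : Cfsg.IrrCharacter K) : K → ℂ) 1 = (ϑ : K → ℂ) 1 := by
      rw [h7_irrAction_apply]
      exact congrArg _ (Subtype.ext (by simp))
    unfold Cfsg.charDegree
    rw [h1]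
  have hf : ∀ (a : P) (ϑ : Cfsg.IrrCharacter K), f (a • ϑ) = f ϑ := by
    intro a ϑ
    simp only [f]
    rw [Subgroup.smul_def, hdegsmul]
  have hsum : ∑ ϑ : Cfsg.IrrCharacter K, f ϑ = 0 := by
    have h1 := h7_sum_degree_sq K
    have h2 : ∑ ϑ : Cfsg.IrrCharacter K, f ϑ =
        ((∑ ϑ : Cfsg.IrrCharacter K, (Cfsg.charDegree (ϑ : K → ℂ)) ^ 2 : ℕ) : ZMod p) := by
      rw [Nat.cast_sum]
      refine Finset.sum_congr rfl fun ϑ _ => ?_
      simp only [f]
      rw [Nat.cast_pow]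
    rw [h2, h1, ZMod.natCast_eq_zero_iff, ← Nat.card_eq_fintype_card]
    exact hpK
  have hfix := h7_sum_fixed_zmod p P.isPGroup' f hf
  rw [hsum] at hfix
  have hfixinv : ∀ ϑ : Cfsg.IrrCharacter K, (∀ a : P, a • ϑ = ϑ) →
      ∀ (g : G) (n : K), (ϑ : K → ℂ) ⟨g * n * g⁻¹, hKn.conj_mem (n : G) n.2 g⟩ = (ϑ : K → ℂ) n := by
    intro ϑ hϑ
    have hst : MulAction.stabilizer G ϑ = ⊤ := by
      rw [eq_top_iff, ← hKP]
      apply sup_le
      · intro k hk
        rw [MulAction.mem_stabilizer_iff]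
        apply Subtype.ext
        funext n
        rw [h7_irrAction_apply]
        have hcf := h7_irr_isClassFunction ϑ.2
        have := hcf n ⟨k⁻¹, K.inv_mem hk⟩
        rw [← this]
        refine congrArg _ (Subtype.ext ?_)
        simp
      · intro a ha
        rw [MulAction.mem_stabilizer_iff]
        exact hϑ ⟨a, ha⟩
    intro g n
    have h1 : g⁻¹ ∈ MulAction.stabilizer G ϑ := by
      rw [hst]
      exact Subgroup.mem_top _
    rw [MulAction.mem_stabilizer_iff] at h1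
    have h2 := congrArg (fun ψ : Cfsg.IrrCharacter K => (ψ : K → ℂ) n) h1
    rw [h7_irrAction_apply] at h2
    rw [← h2]
    refine congrArg _ (Subtype.ext ?_)
    simp
  have hfval : ∀ ϑ : Cfsg.IrrCharacter K, (∀ a : P, a • ϑ = ϑ) →
      f ϑ = if Cfsg.charDegree (ϑ : K → ℂ) = 1 then 1 else 0 := by
    intro ϑ hϑ
    simp only [f]
    by_cases h1 : Cfsg.charDegree (ϑ : K → ℂ) = 1
    · rw [if_pos h1, h1]
      simp
    · rw [if_neg h1]
      have h2 : p ∣ Cfsg.charDegree (ϑ : K → ℂ) := by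
        by_contra hnd
        exact h1 (h7_thompson_fixed_linear p hdeg K hKidx hmin ϑ ϑ.2 (hfixinv ϑ hϑ) _
          (Cfsg.Agent.Lib.Helper25.charDegree_irr ϑ).1.symm hnd)
      rw [(ZMod.natCast_eq_zero_iff _ _).mpr h2]
      simp
  let S : Finset (Cfsg.IrrCharacter K) := Finset.univ.filter
    (fun ϑ => (∀ a : P, a • ϑ = ϑ) ∧ Cfsg.charDegree (ϑ : K → ℂ) = 1)
  have hS : p ∣ S.card := by
    rw [← ZMod.natCast_eq_zero_iff]
    have h1 : ∀ ϑ ∈ Finset.univ.filter (fun ϑ : Cfsg.IrrCharacter K => ∀ a : P, a • ϑ = ϑ),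
        f ϑ = if Cfsg.charDegree (ϑ : K → ℂ) = 1 then 1 else 0 := by
      intro ϑ hϑ
      exact hfval ϑ (Finset.mem_filter.mp hϑ).2
    have h2 : ∑ ϑ ∈ Finset.univ.filter (fun ϑ : Cfsg.IrrCharacter K => ∀ a : P, a • ϑ = ϑ), f ϑ =
        (S.card : ZMod p) := by
      rw [Finset.sum_congr rfl h1, ← Finset.sum_filter, Finset.filter_filter, Finset.sum_const,
        nsmul_eq_mul, mul_one]
    rw [← h2]
    exact hfix.symm
  have hdeg1 : ∀ ϑ : Cfsg.IrrCharacter K, Cfsg.charDegree (ϑ : K → ℂ) = 1 →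
      (ϑ : K → ℂ) 1 = 1 := by
    intro ϑ h
    rw [← (Cfsg.Agent.Lib.Helper25.charDegree_irr ϑ).1, h]
    simp
  let e : {ϑ // ϑ ∈ S} ≃ h7_invLin K :=
    { toFun := fun ϑ => ⟨Cfsg.Agent.Lib.Helper25.irrLinearHom ϑ.1
          (hdeg1 ϑ.1 (Finset.mem_filter.mp ϑ.2).2.2), by
        intro g n
        apply Units.ext
        exact hfixinv ϑ.1 (Finset.mem_filter.mp ϑ.2).2.1 g n⟩
      invFun := fun μ => ⟨Cfsg.Agent.Lib.Helper25.linIrr μ.1, by
        refine Finset.mem_filter.mpr ⟨Finset.mem_univ _, ?_, ?_⟩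
        · intro a
          apply Subtype.ext
          funext n
          rw [Subgroup.smul_def, h7_irrAction_apply]
          change ((μ.1 _ : ℂˣ) : ℂ) = ((μ.1 n : ℂˣ) : ℂ)
          rw [μ.2 (a : G)⁻¹ n]
        · unfold Cfsg.charDegree
          rw [Cfsg.Agent.Lib.Helper25.linIrr_apply]
          simp⟩
      left_inv := by
        intro ϑ
        apply Subtype.ext
        apply Subtype.ext
        funext n
        rfl
      right_inv := by
        intro μ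
        apply Subtype.ext
        apply MonoidHom.ext
        intro n
        apply Units.ext
        rfl }
  have hcard : p ∣ Nat.card (h7_invLin K) := by
    rw [← Nat.card_congr e, Nat.card_eq_fintype_card, Fintype.card_coe]
    exact hS
  haveI : Finite (K →* ℂˣ) := inferInstance
  obtain ⟨μ, hμ⟩ := exists_prime_orderOf_dvd_card' p hcard
  have h1 := h7_inv_linear_order_coprime p K hKidx hmin μ.1 μ.2
  rw [← Subgroup.orderOf_coe] at hμ
  rw [hμ] at h1
  exact h1 (dvd_refl p)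

end thompson

end Cfsg.Agent.Lib.helper7
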