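import Mathlib
import Cfsg.Prelude.Def_Blocks
import Cfsg.Agent.Lib.helper7.BlockEval
import Cfsg.Agent.Lib.helper7.Clifford
import Cfsg.Agent.Lib.helper7.Thompson

set_option autoImplicit false
set_option linter.style.haveILetI false
set_option linter.unusedSectionVars false
set_option linter.unusedVariables false

namespace Cfsg.Agent.Lib.helper7

open scoped ComplexConjugate
open Cfsg.Agent.Lib.Helper25 Cfsg.Agent.Lib.Helper11

variable {G : Type*} [Group G]

def h7_over (N : Subgroup G) [Fintype N] (T : Set (Cfsg.IrrCharacter N)) :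
    Set (Cfsg.IrrCharacter G) :=
  {χ | ∃ θ ∈ T, Cfsg.classInner (fun n : N => (χ : G → ℂ) n) (θ : N → ℂ) ≠ 0}

def h7_GStable (N : Subgroup G) [hN : N.Normal] (T : Set (Cfsg.IrrCharacter N)) : Prop :=
  ∀ g : G, ∀ θ ∈ T, h7_irrSmul N g θ ∈ T

theorem h7_irrSmul_apply (N : Subgroup G) [hN : N.Normal] (g : G) (θ : Cfsg.IrrCharacter N)
    (n : N) : ((h7_irrSmul N g θ : Cfsg.IrrCharacter N) : N → ℂ) n =
      (θ : N → ℂ) ⟨g⁻¹ * n * g⁻¹⁻¹, hN.conj_mem (n : G) n.2 g⁻¹⟩ := rfl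

theorem h7_irrSmul_one_val (N : Subgroup G) [hN : N.Normal] (g : G) (θ : Cfsg.IrrCharacter N) :
    ((h7_irrSmul N g θ : Cfsg.IrrCharacter N) : N → ℂ) 1 = (θ : N → ℂ) 1 := by
  rw [h7_irrSmul_apply]
  exact congrArg _ (Subtype.ext (by simp))

section

variable [Fintype G] (N : Subgroup G) [hN : N.Normal] [Fintype N]
  [Fintype (Cfsg.IrrCharacter G)] [Fintype (Cfsg.IrrCharacter N)]

theorem h7_blockCoeff_conj (T : Set (Cfsg.IrrCharacter N)) (hT : h7_GStable N T) (g : G) (n : N) :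
    Cfsg.blockCoeff T ⟨g * n * g⁻¹, hN.conj_mem (n : G) n.2 g⟩ = Cfsg.blockCoeff T n := by
  classical
  letI : MulAction G (Cfsg.IrrCharacter N) := h7_irrAction N
  rw [← h7_coef_indicator, ← h7_coef_indicator]
  unfold h7_coef
  congr 1
  rw [← Equiv.sum_comp (MulAction.toPerm g : Equiv.Perm (Cfsg.IrrCharacter N))]
  refine Finset.sum_congr rfl fun θ _ => ?_
  have h1 : ((MulAction.toPerm g : Equiv.Perm (Cfsg.IrrCharacter N)) θ) = h7_irrSmul N g θ := rfl
  rw [h1, h7_irrSmul_one_val, h7_irrSmul_apply]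
  have h2 : (⟨g⁻¹ * ((⟨g * n * g⁻¹, hN.conj_mem (n : G) n.2 g⟩ : N) : G) * g⁻¹⁻¹,
      hN.conj_mem _ (hN.conj_mem (n : G) n.2 g) g⁻¹⟩ : N) = n := by
    apply Subtype.ext
    simp [mul_assoc]
  rw [h2]
  have h3 : h7_irrSmul N g θ ∈ T ↔ θ ∈ T := by
    constructor
    · intro h
      have := hT g⁻¹ _ h
      have e : h7_irrSmul N g⁻¹ (h7_irrSmul N g θ) = θ := by
        have := inv_smul_smul g θ
        exact this
      rwa [e] at this
    · exact hT g θ
  by_cases hθ : θ ∈ T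
  · simp only [if_pos hθ, if_pos (h3.mpr hθ)]
  · simp only [if_neg hθ, if_neg (fun h => hθ (h3.mp h))]

open Classical in
theorem h7_sum_blockCoeff_restrict (T : Set (Cfsg.IrrCharacter N)) (χ : Cfsg.IrrCharacter G) :
    ∑ n : N, Cfsg.blockCoeff T n * (χ : G → ℂ) n =
      ∑ θ : Cfsg.IrrCharacter N, Cfsg.classInner (fun n : N => (χ : G → ℂ) n) (θ : N → ℂ) *
        (if θ ∈ T then (θ : N → ℂ) 1 else 0) := by
  classical
  have hcl : ∀ a b : N, (fun n : N => (χ : G → ℂ) n) (b * a * b⁻¹) =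
      (fun n : N => (χ : G → ℂ) n) a := by
    intro a b
    simp only [Subgroup.coe_mul, Subgroup.coe_inv]
    exact irr_conj_invariant χ _ _
  have hexp := classFunction_expansion (fun n : N => (χ : G → ℂ) n) hcl
  have h1 : ∀ n : N, (χ : G → ℂ) n = ∑ θ : Cfsg.IrrCharacter N,
      Cfsg.classInner (fun n : N => (χ : G → ℂ) n) (θ : N → ℂ) * (θ : N → ℂ) n := by
    intro n
    have := congrFun hexp n
    simpa [Finset.sum_apply] using this
  have h2 : ∀ n : N, Cfsg.blockCoeff T n * (χ : G → ℂ) n = ∑ θ : Cfsg.IrrCharacter N,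
      Cfsg.classInner (fun n : N => (χ : G → ℂ) n) (θ : N → ℂ) *
        (h7_coef (fun θ : Cfsg.IrrCharacter N => if θ ∈ T then (1 : ℂ) else 0) n *
          (θ : N → ℂ) n) := by
    intro n
    rw [h7_coef_indicator]
    conv_lhs => rw [h1 n]
    rw [Finset.mul_sum]
    refine Finset.sum_congr rfl fun θ _ => ?_
    ring
  rw [Finset.sum_congr rfl (fun n _ => h2 n), Finset.sum_comm]
  refine Finset.sum_congr rfl fun θ _ => ?_
  rw [← Finset.mul_sum, h7_coef_eval]
  congr 1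
  split_ifs <;> simp

open Classical in
theorem h7_sum_over (T : Set (Cfsg.IrrCharacter N)) (hT : h7_GStable N T)
    (χ : Cfsg.IrrCharacter G) :
    ∑ n : N, Cfsg.blockCoeff T n * (χ : G → ℂ) n =
      if χ ∈ h7_over N T then (χ : G → ℂ) 1 else 0 := by
  classical
  rw [h7_sum_blockCoeff_restrict]
  by_cases hχ : χ ∈ h7_over N T
  · rw [if_pos hχ]
    obtain ⟨θ₀, hθ₀, hcon⟩ := hχ
    have hcl : ∀ a b : N, (fun n : N => (χ : G → ℂ) n) (b * a * b⁻¹) =
        (fun n : N => (χ : G → ℂ) n) a := by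
      intro a b
      simp only [Subgroup.coe_mul, Subgroup.coe_inv]
      exact irr_conj_invariant χ _ _
    have hexp := classFunction_expansion (fun n : N => (χ : G → ℂ) n) hcl
    have h1 : (χ : G → ℂ) 1 = ∑ θ : Cfsg.IrrCharacter N,
        Cfsg.classInner (fun n : N => (χ : G → ℂ) n) (θ : N → ℂ) * (θ : N → ℂ) 1 := by
      have := congrFun hexp 1
      simpa [Finset.sum_apply] using this
    rw [h1]
    refine Finset.sum_congr rfl fun θ _ => ?_
    by_cases hθ : θ ∈ T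
    · rw [if_pos hθ]
    · rw [if_neg hθ]
      have h0 : Cfsg.classInner (fun n : N => (χ : G → ℂ) n) (θ : N → ℂ) = 0 := by
        by_contra hne
        obtain ⟨g, hg⟩ := h7_clifford_conj N (χ : G → ℂ) χ.2 (θ₀ : N → ℂ) (θ : N → ℂ) θ₀.2 θ.2
          hcon hne
        apply hθ
        have h2 := hT g⁻¹ θ₀ hθ₀
        have h3 : h7_irrSmul N g⁻¹ θ₀ = θ := by
          apply Subtype.ext
          show cj N (θ₀ : N → ℂ) g⁻¹⁻¹ = (θ : N → ℂ)
          rw [inv_inv, hg]
        rwa [h3] at h2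
      rw [h0, zero_mul, zero_mul]
  · rw [if_neg hχ]
    apply Finset.sum_eq_zero
    intro θ _
    by_cases hθ : θ ∈ T
    · have h0 : Cfsg.classInner (fun n : N => (χ : G → ℂ) n) (θ : N → ℂ) = 0 := by
        by_contra hne
        exact hχ ⟨θ, hθ, hne⟩
      rw [h0, zero_mul]
    · rw [if_neg hθ, mul_zero]

theorem h7_cover_coef (T : Set (Cfsg.IrrCharacter N)) (hT : h7_GStable N T) (g : G) :
    Cfsg.blockCoeff (h7_over N T) g =
      Cfsg.extendByZero N (fun n : N => Cfsg.blockCoeff T n) g := by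
  classical
  set F : G → ℂ := fun g => Cfsg.blockCoeff (h7_over N T) g -
    Cfsg.extendByZero N (fun n : N => Cfsg.blockCoeff T n) g with hF
  have hFcl : ∀ g h : G, F (h * g * h⁻¹) = F g := by
    intro g h
    simp only [hF]
    congr 1
    · rw [← h7_coef_indicator, ← h7_coef_indicator, h7_coef_conj]
    · by_cases hg : g ∈ N
      · rw [h7_extendByZero_mem N _ _ hg, h7_extendByZero_mem N _ _ (hN.conj_mem g hg h)]
        exact h7_blockCoeff_conj N T hT h ⟨g, hg⟩
      · rw [h7_extendByZero_not_mem N _ _ hg, h7_extendByZero_not_mem]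
        intro hc
        apply hg
        have := hN.conj_mem _ hc h⁻¹
        simpa [mul_assoc] using this
  have horth : ∀ χ : Cfsg.IrrCharacter G, ∑ g, F g * (χ : G → ℂ) g = 0 := by
    intro χ
    simp only [hF, sub_mul, Finset.sum_sub_distrib]
    have e1 : ∑ g : G, Cfsg.blockCoeff (h7_over N T) g * (χ : G → ℂ) g =
        if χ ∈ h7_over N T then (χ : G → ℂ) 1 else 0 := by
      have := h7_coef_eval (fun χ : Cfsg.IrrCharacter G =>
        if χ ∈ h7_over N T then (1 : ℂ) else 0) χ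
      simp only [h7_coef_indicator] at this
      rw [this]
      split_ifs <;> simp
    have e2 : ∑ g : G, Cfsg.extendByZero N (fun n : N => Cfsg.blockCoeff T n) g * (χ : G → ℂ) g =
        if χ ∈ h7_over N T then (χ : G → ℂ) 1 else 0 := by
      rw [← h7_sum_over N T hT χ]
      have := h7_sum_mul_extendByZero N (fun n : N => Cfsg.blockCoeff T n) (χ : G → ℂ)
      simp only [mul_comm] at this ⊢
      exact this
    rw [e1, e2, sub_self]
  have h0 := eq_zero_of_orthogonal_irr F hFcl horth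
  have := congrFun h0 g
  simp only [hF, Pi.zero_apply] at this
  exact sub_eq_zero.mp this

open Classical in
theorem h7_over_indicator_mem {M : Ideal Cfsg.AlgInt} (hM : M.IsPrime)
    (T : Set (Cfsg.IrrCharacter N)) (hT : h7_GStable N T)
    (hS : ∀ n : N, Cfsg.MemLocalRing M (Cfsg.blockCoeff T n)) :
    (fun χ : Cfsg.IrrCharacter G => if χ ∈ h7_over N T then (1 : ℂ) else 0) ∈
      h7_intSubring (G := G) M hM := by
  apply h7_indicator_mem_of_coeff
  intro g
  rw [h7_cover_coef N T hT]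
  by_cases hg : g ∈ N
  · rw [h7_extendByZero_mem N _ _ hg]
    exact hS _
  · rw [h7_extendByZero_not_mem N _ _ hg]
    exact h7_memLocalRing_zero hM

theorem h7_over_congr {M : Ideal Cfsg.AlgInt} (hM : M.IsPrime)
    (T : Set (Cfsg.IrrCharacter N)) (hT : h7_GStable N T)
    (hS : ∀ n : N, Cfsg.MemLocalRing M (Cfsg.blockCoeff T n))
    (χ ψ : Cfsg.IrrCharacter G) (h : Cfsg.SameBlock M (χ : G → ℂ) (ψ : G → ℂ))
    (hχ : χ ∈ h7_over N T) : ψ ∈ h7_over N T := by
  classical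
  by_contra hψ
  have h1 := h7_eval_congr hM _ (h7_over_indicator_mem N hM T hT hS) χ ψ h
  simp only [if_pos hχ, if_neg hψ, sub_zero] at h1
  exact h7_not_memLocalIdeal_one hM h1

def h7_orbitSet (θ : Cfsg.IrrCharacter N) : Set (Cfsg.IrrCharacter N) :=
  {θ' | ∃ g : G, θ' = h7_irrSmul N g θ}

theorem h7_orbitSet_stable (θ : Cfsg.IrrCharacter N) : h7_GStable N (h7_orbitSet N θ) := by
  letI : MulAction G (Cfsg.IrrCharacter N) := h7_irrAction N
  rintro g θ' ⟨k, rfl⟩
  refine ⟨g * k, ?_⟩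
  exact (mul_smul g k θ).symm

theorem h7_over_orbit_iff (θ : Cfsg.IrrCharacter N) (χ : Cfsg.IrrCharacter G) :
    χ ∈ h7_over N (h7_orbitSet N θ) ↔
      Cfsg.classInner (fun n : N => (χ : G → ℂ) n) (θ : N → ℂ) ≠ 0 := by
  constructor
  · rintro ⟨θ', ⟨g, rfl⟩, hne⟩
    have := h7_classInner_restrict_cj N (χ : G → ℂ) (h7_irr_isClassFunction χ.2) (θ : N → ℂ) g⁻¹
    rw [← this]
    exact hne
  · intro hne
    refine ⟨θ, ⟨1, ?_⟩, hne⟩
    letI : MulAction G (Cfsg.IrrCharacter N) := h7_irrAction N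
    exact (one_smul G θ).symm

end

theorem h7_natCast_not_mem {p : ℕ} {M : Ideal Cfsg.AlgInt} (hM : Cfsg.IsPModular p M) (n : ℕ)
    (h : n.Coprime p) : (n : Cfsg.AlgInt) ∉ M := by
  intro hn
  have hc : IsCoprime (n : ℤ) (p : ℤ) := Nat.isCoprime_iff_coprime.mpr h
  obtain ⟨a, b, hab⟩ := hc
  have h1 : ((a * n + b * p : ℤ) : Cfsg.AlgInt) = 1 := by
    rw [hab]
    simp
  apply h7_one_not_mem hM.2.1.isPrime
  rw [← h1]
  push_cast
  exact M.add_mem (M.mul_mem_left _ hn) (M.mul_mem_left _ hM.2.2)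

theorem h7_memLocalRing_inv_natCast {p : ℕ} {M : Ideal Cfsg.AlgInt} (hM : Cfsg.IsPModular p M)
    (n : ℕ) (h : n.Coprime p) : Cfsg.MemLocalRing M ((n : ℂ)⁻¹) := by
  refine ⟨1, (n : Cfsg.AlgInt), h7_natCast_not_mem hM n h, ?_⟩
  simp

theorem h7_memLocalRing_blockCoeff_of_coprime [Finite G] {p : ℕ} {M : Ideal Cfsg.AlgInt}
    (hM : Cfsg.IsPModular p M) (hG : (Nat.card G).Coprime p) (T : Set (Cfsg.IrrCharacter G))
    (g : G) : Cfsg.MemLocalRing M (Cfsg.blockCoeff T g) := by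
  classical
  haveI : Fintype (Cfsg.IrrCharacter G) := Fintype.ofFinite _
  have hP := hM.2.1.isPrime
  unfold Cfsg.blockCoeff
  apply h7_memLocalRing_mul hP (h7_memLocalRing_inv_natCast hM _ hG)
  rw [finsum_mem_def, finsum_eq_sum_of_fintype]
  apply h7_memLocalRing_sum hP
  intro χ _
  rw [Set.indicator_apply]
  split_ifs
  · apply h7_memLocalRing_of_isIntegral hP
    exact (Cfsg.Agent.Lib.helper2.irr_integral χ 1).mul
      (map_isIntegral_int (starRingEnd ℂ) (Cfsg.Agent.Lib.helper2.irr_integral χ g))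
  · exact h7_memLocalRing_zero hP

end Cfsg.Agent.Lib.helper7
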