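import Mathlib
import Cfsg.Prelude.Def_Blocks
import Cfsg.Agent.Lib.helper7.BlockCover
import Cfsg.Agent.S0932

set_option autoImplicit false
set_option linter.style.haveILetI false
set_option linter.unusedSectionVars false
set_option linter.unusedVariables false

namespace Cfsg.Agent.Lib.helper7

open scoped ComplexConjugate
open Cfsg.Agent.Lib.Helper25 Cfsg.Agent.Lib.Helper11

variable {G : Type*} [Group G]

theorem h7_index_centralizer_equiv {H : Type*} [Group H] [Finite H] (φ : H ≃* H) (n : H) :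
    (Subgroup.centralizer ({φ n} : Set H)).index = (Subgroup.centralizer ({n} : Set H)).index := by
  rw [h7_index_centralizer_eq_card_class, h7_index_centralizer_eq_card_class]
  apply Nat.card_congr
  refine ⟨fun y => ⟨φ.symm y.1, ?_⟩, fun y => ⟨φ y.1, ?_⟩, ?_, ?_⟩
  · have := (φ.symm : H →* H).map_isConj y.2
    simpa using this
  · exact (φ : H →* H).map_isConj y.2
  · intro y
    apply Subtype.ext
    simp
  · intro y
    apply Subtype.ext
    simp

theorem h7_centralChar_irrSmul (N : Subgroup G) [hN : N.Normal] [Finite N] (g : G)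
    (θ : Cfsg.IrrCharacter N) (n : N) :
    Cfsg.centralChar ((h7_irrSmul N g θ : Cfsg.IrrCharacter N) : N → ℂ) n =
      Cfsg.centralChar (θ : N → ℂ) ((MulAut.conjNormal g⁻¹ : N ≃* N) n) := by
  unfold Cfsg.centralChar
  rw [h7_irrSmul_one_val, h7_irrSmul_apply, h7_index_centralizer_equiv]
  have : (MulAut.conjNormal g⁻¹ : N ≃* N) n =
      ⟨g⁻¹ * n * g⁻¹⁻¹, hN.conj_mem (n : G) n.2 g⁻¹⟩ := by
    apply Subtype.ext
    simp
  rw [this]

theorem h7_sameBlock_irrSmul (N : Subgroup G) [hN : N.Normal] [Finite N] {M : Ideal Cfsg.AlgInt}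
    (g : G) (θ₁ θ₂ : Cfsg.IrrCharacter N)
    (h : Cfsg.SameBlock M (θ₁ : N → ℂ) (θ₂ : N → ℂ)) :
    Cfsg.SameBlock M ((h7_irrSmul N g θ₁ : Cfsg.IrrCharacter N) : N → ℂ)
      ((h7_irrSmul N g θ₂ : Cfsg.IrrCharacter N) : N → ℂ) := by
  intro n
  rw [h7_centralChar_irrSmul, h7_centralChar_irrSmul]
  exact h _

def h7_conjUnion (N : Subgroup G) [hN : N.Normal] (M : Ideal Cfsg.AlgInt)
    (θ₀ : Cfsg.IrrCharacter N) : Set (Cfsg.IrrCharacter N) :=
  {θ | ∃ g : G, θ ∈ Cfsg.blockOf M ((h7_irrSmul N g θ₀ : Cfsg.IrrCharacter N) : N → ℂ)}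

theorem h7_conjUnion_stable (N : Subgroup G) [hN : N.Normal] [Finite N] (M : Ideal Cfsg.AlgInt)
    (θ₀ : Cfsg.IrrCharacter N) : h7_GStable N (h7_conjUnion N M θ₀) := by
  letI : MulAction G (Cfsg.IrrCharacter N) := h7_irrAction N
  rintro k θ ⟨g, hg⟩
  refine ⟨k * g, ?_⟩
  have h1 := h7_sameBlock_irrSmul N k _ _ hg
  have h2 : h7_irrSmul N k (h7_irrSmul N g θ₀) = h7_irrSmul N (k * g) θ₀ :=
    (mul_smul k g θ₀).symm
  rw [h2] at h1
  exact h1

theorem h7_mem_conjUnion_iff (N : Subgroup G) [hN : N.Normal] [Finite N] (M : Ideal Cfsg.AlgInt)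
    (θ₀ θ : Cfsg.IrrCharacter N) :
    θ ∈ h7_conjUnion N M θ₀ ↔
      ∃ g : G, ∃ θ' ∈ Cfsg.blockOf M (θ₀ : N → ℂ), θ = h7_irrSmul N g θ' := by
  letI : MulAction G (Cfsg.IrrCharacter N) := h7_irrAction N
  constructor
  · rintro ⟨g, hg⟩
    refine ⟨g, h7_irrSmul N g⁻¹ θ, ?_, ?_⟩
    · have h1 := h7_sameBlock_irrSmul N g⁻¹ _ _ hg
      have h2 : h7_irrSmul N g⁻¹ (h7_irrSmul N g θ₀) = θ₀ := inv_smul_smul g θ₀
      rw [h2] at h1
      exact h1
    · exact (smul_inv_smul g θ).symm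
  · rintro ⟨g, θ', hθ', rfl⟩
    exact ⟨g, h7_sameBlock_irrSmul N g _ _ hθ'⟩

section

variable [Fintype G] (N : Subgroup G) [hN : N.Normal] [Fintype N]
  [Fintype (Cfsg.IrrCharacter G)] [Fintype (Cfsg.IrrCharacter N)]

open Classical in
theorem h7_conjUnion_indicator_mem {M : Ideal Cfsg.AlgInt} (hM : M.IsPrime)
    (θ₀ : Cfsg.IrrCharacter N) :
    (fun θ : Cfsg.IrrCharacter N => if θ ∈ h7_conjUnion N M θ₀ then (1 : ℂ) else 0) ∈
      h7_intSubring (G := N) M hM := by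
  classical
  have h1 : (fun θ : Cfsg.IrrCharacter N => if θ ∈ h7_conjUnion N M θ₀ then (1 : ℂ) else 0) =
      1 - ∏ g : G, (1 - fun θ : Cfsg.IrrCharacter N =>
        if θ ∈ Cfsg.blockOf M ((h7_irrSmul N g θ₀ : Cfsg.IrrCharacter N) : N → ℂ)
        then (1 : ℂ) else 0) := by
    funext θ
    rw [Pi.sub_apply, Finset.prod_apply]
    simp only [Pi.sub_apply, Pi.one_apply]
    by_cases hθ : θ ∈ h7_conjUnion N M θ₀
    · rw [if_pos hθ]
      obtain ⟨g, hg⟩ := hθ
      rw [Finset.prod_eq_zero (Finset.mem_univ g)]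
      · simp
      · rw [if_pos hg, sub_self]
    · rw [if_neg hθ]
      rw [Finset.prod_eq_one]
      · simp
      · intro g _
        rw [if_neg, sub_zero]
        intro hg
        exact hθ ⟨g, hg⟩
  rw [h1]
  apply Subring.sub_mem _ (Subring.one_mem _)
  apply Subring.prod_mem
  intro g _
  exact Subring.sub_mem _ (Subring.one_mem _) (h7_block_indicator_mem hM _)

theorem h7_conjUnion_coeff {M : Ideal Cfsg.AlgInt} (hM : M.IsPrime)
    (θ₀ : Cfsg.IrrCharacter N) (n : N) :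
    Cfsg.MemLocalRing M (Cfsg.blockCoeff (h7_conjUnion N M θ₀) n) := by
  classical
  rw [← h7_coef_indicator]
  exact h7_conjUnion_indicator_mem N hM θ₀ n

open Classical in
theorem h7_ind_eval (T : Set (Cfsg.IrrCharacter N)) (hT : h7_GStable N T)
    (θ : Cfsg.IrrCharacter N) :
    ∑ g : G, Cfsg.blockCoeff (h7_over N T) g * Cfsg.indFun N (θ : N → ℂ) g =
      if θ ∈ T then Cfsg.indFun N (θ : N → ℂ) 1 else 0 := by
  classical
  set Ψ := Cfsg.indFun N (θ : N → ℂ) with hΨ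
  have hcl : ∀ g h : G, Ψ (h * g * h⁻¹) = Ψ g := fun g h => h7_indFun_conj N _ g h
  have hexp := classFunction_expansion Ψ hcl
  have key : ∀ χ : Cfsg.IrrCharacter G, Cfsg.classInner Ψ (χ : G → ℂ) ≠ 0 →
      (χ ∈ h7_over N T ↔ θ ∈ T) := by
    intro χ hne
    have h1 : Cfsg.classInner (fun n : N => (χ : G → ℂ) n) (θ : N → ℂ) ≠ 0 := by
      intro h0
      apply hne
      rw [hΨ, h7_frobenius_irr N (χ : G → ℂ) (h7_irr_isClassFunction χ.2), h0, map_zero]
    constructor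
    · rintro ⟨θ'', hθ'', hne''⟩
      obtain ⟨g, hg⟩ := h7_clifford_conj N (χ : G → ℂ) χ.2 (θ'' : N → ℂ) (θ : N → ℂ) θ''.2 θ.2
        hne'' h1
      have h2 := hT g⁻¹ θ'' hθ''
      have h3 : h7_irrSmul N g⁻¹ θ'' = θ := by
        apply Subtype.ext
        show cj N (θ'' : N → ℂ) g⁻¹⁻¹ = (θ : N → ℂ)
        rw [inv_inv, hg]
      rwa [h3] at h2
    · intro hθ
      exact ⟨θ, hθ, h1⟩
  have h2 : ∀ g : G, Cfsg.blockCoeff (h7_over N T) g * Ψ g =
      ∑ χ : Cfsg.IrrCharacter G, Cfsg.classInner Ψ (χ : G → ℂ) *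
        (h7_coef (fun χ : Cfsg.IrrCharacter G => if χ ∈ h7_over N T then (1 : ℂ) else 0) g *
          (χ : G → ℂ) g) := by
    intro g
    rw [h7_coef_indicator]
    conv_lhs => rw [hexp]
    rw [Finset.sum_apply, Finset.mul_sum]
    refine Finset.sum_congr rfl fun χ _ => ?_
    simp only [Pi.smul_apply, smul_eq_mul]
    ring
  rw [Finset.sum_congr rfl (fun g _ => h2 g), Finset.sum_comm]
  have h3 : ∀ χ : Cfsg.IrrCharacter G, ∑ g : G, Cfsg.classInner Ψ (χ : G → ℂ) *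
        (h7_coef (fun χ : Cfsg.IrrCharacter G => if χ ∈ h7_over N T then (1 : ℂ) else 0) g *
          (χ : G → ℂ) g) =
      (if θ ∈ T then (1 : ℂ) else 0) * (Cfsg.classInner Ψ (χ : G → ℂ) * (χ : G → ℂ) 1) := by
    intro χ
    rw [← Finset.mul_sum, h7_coef_eval]
    by_cases hne : Cfsg.classInner Ψ (χ : G → ℂ) = 0
    · rw [hne]; ring
    · have := key χ hne
      by_cases hθ : θ ∈ T
      · rw [if_pos hθ, if_pos (this.mpr hθ)]; ring
      · rw [if_neg hθ, if_neg (fun h => hθ (this.mp h))]; ring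
  rw [Finset.sum_congr rfl (fun χ _ => h3 χ), ← Finset.mul_sum]
  have h4 : Ψ 1 = ∑ χ : Cfsg.IrrCharacter G, Cfsg.classInner Ψ (χ : G → ℂ) * (χ : G → ℂ) 1 := by
    conv_lhs => rw [hexp]
    rw [Finset.sum_apply]
    rfl
  rw [← h4]
  split_ifs <;> simp

open Classical in
theorem h7_T_expand [Fintype (ConjClasses G)] (T : Set (Cfsg.IrrCharacter N))
    (hT : h7_GStable N T) (θ : Cfsg.IrrCharacter N) :
    (if θ ∈ T then (1 : ℂ) else 0) = ∑ K : ConjClasses G,
      Cfsg.blockCoeff (h7_over N T) (Quotient.out K) *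
        Cfsg.inducedCentralChar N (θ : N → ℂ) (Quotient.out K) := by
  classical
  have h1 := h7_ind_eval N T hT θ
  set Ψ := Cfsg.indFun N (θ : N → ℂ) with hΨ
  have hΨ1 : Ψ 1 ≠ 0 := by
    rw [hΨ, h7_indFun_one]
    have hidx : (N.index : ℂ) ≠ 0 := by
      have : N.index ≠ 0 := Subgroup.index_ne_zero_of_finite
      exact_mod_cast this
    exact mul_ne_zero hidx (irr_one_ne_zero θ)
  have h2 : (if θ ∈ T then (1 : ℂ) else 0) =
      ∑ g : G, Cfsg.blockCoeff (h7_over N T) g * Ψ g / Ψ 1 := by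
    rw [← Finset.sum_div, h1]
    split_ifs
    · field_simp
    · simp
  have hcl : ∀ g h : G, Cfsg.blockCoeff (h7_over N T) (h * g * h⁻¹) * Ψ (h * g * h⁻¹) / Ψ 1 =
      Cfsg.blockCoeff (h7_over N T) g * Ψ g / Ψ 1 := by
    intro g h
    rw [← h7_coef_indicator, ← h7_coef_indicator, h7_coef_conj, hΨ, h7_indFun_conj]
  rw [h2, h7_sum_eq_sum_conjClasses _ hcl]
  refine Finset.sum_congr rfl fun K _ => ?_
  rw [Cfsg.Agent.S0932.induced_eq]
  unfold Cfsg.centralChar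
  rw [nsmul_eq_mul]
  ring

theorem h7_icc_expand [Fintype (ConjClasses N)] (θ : Cfsg.IrrCharacter N) (g : G)
    [DecidablePred (fun h : N => IsConj g (h : G))] :
    Cfsg.inducedCentralChar N (θ : N → ℂ) g = ∑ L : ConjClasses N,
      (if IsConj g ((Quotient.out L : N) : G) then (1 : ℂ) else 0) *
        Cfsg.centralChar (θ : N → ℂ) (Quotient.out L) := by
  classical
  unfold Cfsg.inducedCentralChar
  rw [h7_finsum_mem_fintype]
  change ∑ a : N, (if IsConj g (a : G) then (θ : N → ℂ) a / (θ : N → ℂ) 1 else 0) = _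
  have hcl : ∀ a b : N, (if IsConj g ((b * a * b⁻¹ : N) : G) then
      (θ : N → ℂ) (b * a * b⁻¹) / (θ : N → ℂ) 1 else 0) =
      (if IsConj g (a : G) then (θ : N → ℂ) a / (θ : N → ℂ) 1 else 0) := by
    intro a b
    have h1 : IsConj g ((b * a * b⁻¹ : N) : G) ↔ IsConj g (a : G) := by
      have hc : IsConj (a : G) ((b * a * b⁻¹ : N) : G) := by
        rw [isConj_iff]
        exact ⟨(b : G), by simp⟩
      exact ⟨fun h => h.trans hc.symm, fun h => h.trans hc⟩
    rw [irr_conj_invariant]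
    by_cases h : IsConj g (a : G)
    · rw [if_pos h, if_pos (h1.mpr h)]
    · rw [if_neg h, if_neg (fun h' => h (h1.mp h'))]
  rw [h7_sum_eq_sum_conjClasses _ hcl]
  refine Finset.sum_congr rfl fun L _ => ?_
  unfold Cfsg.centralChar
  rw [nsmul_eq_mul]
  split_ifs
  · ring
  · simp

theorem h7_icc_congr {M : Ideal Cfsg.AlgInt} (hM : M.IsPrime) (θ θ' : Cfsg.IrrCharacter N)
    (h : Cfsg.SameBlock M (θ : N → ℂ) (θ' : N → ℂ)) (g : G) :
    Cfsg.MemLocalIdeal M (Cfsg.inducedCentralChar N (θ : N → ℂ) g -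
      Cfsg.inducedCentralChar N (θ' : N → ℂ) g) := by
  classical
  haveI : Fintype (ConjClasses N) := Fintype.ofFinite _
  rw [h7_icc_expand N θ g, h7_icc_expand N θ' g, ← Finset.sum_sub_distrib]
  apply h7_memLocalIdeal_sum hM
  intro L _
  rw [← mul_sub]
  apply h7_memLocalIdeal_mul_left hM _ (h _)
  split_ifs
  · exact h7_memLocalRing_one hM
  · exact h7_memLocalRing_zero hM

end

end Cfsg.Agent.Lib.helper7
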