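import Mathlib
import Cfsg.Agent.Lib.helper7.OrbitSum

set_option autoImplicit false
set_option linter.style.haveILetI false
set_option linter.unusedSectionVars false
set_option linter.unusedVariables false

namespace Cfsg.Agent.Lib.helper7

variable {G : Type*} [Group G]

open Classical in
noncomputable def h7_wordSum [Fintype G] (ε : G → ℂ) (n : ℕ) (g : G) : ℂ :=
  ∑ W : Fin n → G, if (List.ofFn W).prod = g then ∏ i, ε (W i) else 0

theorem h7_wordSum_zero [Fintype G] (ε : G → ℂ) (g : G) [Decidable (g = 1)] :
    h7_wordSum ε 0 g = if g = 1 then 1 else 0 := by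
  classical
  unfold h7_wordSum
  rw [Fintype.sum_unique]
  simp [eq_comm]

theorem h7_wordSum_succ [Fintype G] (ε : G → ℂ) (n : ℕ) (g : G) :
    h7_wordSum ε (n + 1) g = ∑ h : G, ε h * h7_wordSum ε n (h⁻¹ * g) := by
  classical
  unfold h7_wordSum
  rw [← (Fin.consEquiv (fun _ : Fin (n + 1) => G)).sum_comp, Fintype.sum_prod_type]
  refine Finset.sum_congr rfl fun h _ => ?_
  rw [Finset.mul_sum]
  refine Finset.sum_congr rfl fun W _ => ?_
  have e : (Fin.consEquiv (fun _ : Fin (n + 1) => G)) (h, W) = Fin.cons h W := rfl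
  rw [e, List.ofFn_succ, List.prod_cons, Fin.prod_univ_succ]
  simp only [Fin.cons_zero, Fin.cons_succ]
  by_cases hc : (List.ofFn W).prod = h⁻¹ * g
  · rw [if_pos hc, if_pos]
    rw [hc]; group
  · rw [if_neg hc, if_neg, mul_zero]
    intro hc'
    apply hc
    rw [← hc']; group

theorem h7_wordSum_idem [Fintype G] (ε : G → ℂ)
    (hid : ∀ g : G, ∑ h : G, ε h * ε (h⁻¹ * g) = ε g) (n : ℕ) (g : G) :
    h7_wordSum ε (n + 1) g = ε g := by
  classical
  induction n generalizing g with
  | zero =>
    rw [h7_wordSum_succ]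
    simp only [h7_wordSum_zero]
    rw [Finset.sum_eq_single g]
    · simp
    · intro h _ hne
      rw [if_neg, mul_zero]
      intro hc
      apply hne
      have : g = h := by
        have := congrArg (fun x => h * x) hc
        simpa using this
      exact this.symm
    · intro hg
      exact absurd (Finset.mem_univ g) hg
  | succ n ih =>
    rw [h7_wordSum_succ]
    simp only [ih]
    exact hid g

def h7_wprod (n : ℕ) (W : ZMod n → G) : G :=
  ((List.range n).map (fun i : ℕ => W (i : ZMod n))).prod

open Classical in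
theorem h7_wordSum_zmod [Fintype G] (ε : G → ℂ) (n : ℕ) [NeZero n] (g : G) :
    h7_wordSum ε n g = ∑ W : ZMod n → G, if h7_wprod n W = g then ∏ x, ε (W x) else 0 := by
  classical
  unfold h7_wordSum
  rcases n with _ | k
  · exact absurd rfl (NeZero.ne 0)
  · refine Fintype.sum_equiv (Equiv.refl _) _ _ fun W => ?_
    have h1 : (List.ofFn W).prod = h7_wprod (k + 1) W := by
      unfold h7_wprod
      rw [List.ofFn_eq_map, ← List.map_coe_finRange_eq_range, List.map_map]
      congr 1
      apply List.map_congr_left
      intro i _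
      simp only [Function.comp]
      congr 1
      exact (Fin.cast_val_eq_self i).symm
    rw [h1]
    rfl

theorem h7_wprod_shift (n : ℕ) [NeZero n] (W : ZMod n → G) :
    h7_wprod n (fun x => W (x + 1)) = (W 0)⁻¹ * h7_wprod n W * W 0 := by
  unfold h7_wprod
  set f : ℕ → G := fun i => W (i : ZMod n) with hf
  have h1 : ((List.range (n + 1)).map f).prod =
      f 0 * ((List.range n).map (fun i => f (i + 1))).prod := by
    rw [List.range_succ_eq_map, List.map_cons, List.prod_cons, List.map_map]
    rfl
  have h2 : ((List.range (n + 1)).map f).prod = ((List.range n).map f).prod * f n := by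
    rw [List.range_succ, List.map_append, List.prod_append]
    simp
  have h3 : f n = W 0 := by
    simp only [hf]
    rw [ZMod.natCast_self]
  have h4 : f 0 = W 0 := by
    simp only [hf]
    rw [Nat.cast_zero]
  have h5 : ((List.range n).map (fun i : ℕ => W ((i : ZMod n) + 1))).prod =
      ((List.range n).map (fun i => f (i + 1))).prod := by
    congr 1
    apply List.map_congr_left
    intro i _
    simp only [hf]
    rw [Nat.cast_succ]
  rw [h5]
  rw [h2, h3, h4] at h1
  have : ((List.range n).map (fun i => f (i + 1))).prod =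
      (W 0)⁻¹ * (((List.range n).map f).prod * W 0) := by
    rw [h1]; group
  rw [this]; group

theorem h7_prod_range_periodic (f : ℕ → G) (d : ℕ) (hf : ∀ i, f (i + d) = f i) (q : ℕ) :
    ((List.range (d * q)).map f).prod = (((List.range d).map f).prod) ^ q := by
  have hper : ∀ q i : ℕ, f (d * q + i) = f i := by
    intro q
    induction q with
    | zero => intro i; simp
    | succ q ih =>
      intro i
      have : d * (q + 1) + i = d * q + i + d := by ring
      rw [this, hf, ih]
  induction q with
  | zero => simp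
  | succ q ih =>
    have : d * (q + 1) = d * q + d := by ring
    rw [this, List.range_add, List.map_append, List.prod_append, ih, pow_succ, List.map_map]
    congr 2
    apply List.map_congr_left
    intro i _
    simp only [Function.comp]
    exact hper q i

theorem h7_wprod_periodic (n d q : ℕ) (hn : d * q = n) (W : ZMod n → G)
    (hW : ∀ x, W (x + (d : ZMod n)) = W x) :
    h7_wprod n W = (((List.range d).map (fun i : ℕ => W (i : ZMod n))).prod) ^ q := by
  unfold h7_wprod
  subst hn
  apply h7_prod_range_periodic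
  intro i
  rw [Nat.cast_add]
  exact hW _

@[reducible] def h7_shiftAction (n : ℕ) (G : Type*) :
    MulAction (Multiplicative (ZMod n)) (ZMod n → G) where
  smul a W := fun x => W (x + Multiplicative.toAdd a)
  one_smul W := by
    funext x
    show W (x + 0) = W x
    rw [add_zero]
  mul_smul a b W := by
    funext x
    show W (x + (Multiplicative.toAdd a + Multiplicative.toAdd b)) =
      W (x + Multiplicative.toAdd a + Multiplicative.toAdd b)
    rw [add_assoc]

theorem h7_shift_apply (n : ℕ) (a : Multiplicative (ZMod n)) (W : ZMod n → G) (x : ZMod n) :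
    (letI := h7_shiftAction n G; a • W) x = W (x + Multiplicative.toAdd a) := rfl

theorem h7_wprod_shift_nat (n : ℕ) [NeZero n] (W : ZMod n → G) (j : ℕ) :
    IsConj (h7_wprod n W) (h7_wprod n (fun x => W (x + (j : ZMod n)))) := by
  induction j with
  | zero =>
    have : (fun x => W (x + ((0 : ℕ) : ZMod n))) = W := by
      funext x
      rw [Nat.cast_zero, add_zero]
    rw [this]
  | succ j ih =>
    have e : (fun x => W (x + ((j + 1 : ℕ) : ZMod n))) =
        (fun x => (fun y => W (y + (j : ZMod n))) (x + 1)) := by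
      funext x
      show W (x + ((j + 1 : ℕ) : ZMod n)) = W (x + 1 + (j : ZMod n))
      congr 1
      push_cast
      ring
    rw [e, h7_wprod_shift n (fun y => W (y + (j : ZMod n)))]
    refine ih.trans ?_
    rw [isConj_iff]
    exact ⟨(W ((0 : ZMod n) + (j : ZMod n)))⁻¹, by simp [mul_assoc]⟩

theorem h7_wprod_smul (n : ℕ) [NeZero n] (a : Multiplicative (ZMod n)) (W : ZMod n → G) :
    IsConj (h7_wprod n W) (h7_wprod n (letI := h7_shiftAction n G; a • W)) := by
  have h1 := h7_wprod_shift_nat n W (Multiplicative.toAdd a).val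
  rw [ZMod.natCast_zmod_val] at h1
  exact h1

theorem h7_stabilizer_periodic (n : ℕ) [NeZero n] (W : ZMod n → G) (x : ZMod n) :
    W (x + (((letI := h7_shiftAction n G;
      MulAction.stabilizer (Multiplicative (ZMod n)) W).index : ℕ) : ZMod n)) = W x := by
  letI := h7_shiftAction n G
  set H := MulAction.stabilizer (Multiplicative (ZMod n)) W with hH
  have h1 := Subgroup.pow_index_mem H (Multiplicative.ofAdd (1 : ZMod n))
  rw [← ofAdd_nsmul, nsmul_one, hH, MulAction.mem_stabilizer_iff] at h1
  have h2 := congrFun h1 x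
  rw [h7_shift_apply] at h2
  exact h2

theorem h7_pow_pregular [Fintype G] (p : ℕ) [hp : Fact p.Prime] (z : G) (q : ℕ)
    (hq : p ^ (Nat.card G).factorization p ∣ q) : ¬ p ∣ orderOf (z ^ q) := by
  obtain ⟨q', rfl⟩ := hq
  set a := (Nat.card G).factorization p with ha
  set r := Nat.card G / p ^ a with hr
  have h1 : p ^ a * r = Nat.card G := Nat.ordProj_mul_ordCompl_eq_self (Nat.card G) p
  have h2 : ¬ p ∣ r := Nat.not_dvd_ordCompl hp.out Nat.card_pos.ne'
  have h3 : (z ^ (p ^ a * q')) ^ r = 1 := by
    rw [← pow_mul]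
    have : p ^ a * q' * r = Nat.card G * q' := by rw [← h1]; ring
    rw [this, pow_mul, pow_card_eq_one', one_pow]
  intro h4
  exact h2 (h4.trans (orderOf_dvd_of_pow_eq_one h3))

theorem h7_isConj_orderOf {g h : G} (hc : IsConj g h) : orderOf g = orderOf h := by
  obtain ⟨c, hc⟩ := isConj_iff.mp hc
  rw [← hc]
  exact (orderOf_injective (MulAut.conj c).toMonoidHom (MulAut.conj c).injective g).symm

open Classical in
theorem h7_wordcount [Fintype G] (p : ℕ) [hp : Fact p.Prime] (R : Subring ℂ) (ε : G → ℂ)
    (hε : ∀ g, ε g ∈ R) (y : G) (hy : p ∣ orderOf y) (m : ℕ)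
    (hm : (Nat.card G).factorization p ≤ m) :
    ∃ s ∈ R, (∑ W : ZMod (p ^ m) → G,
      if IsConj y (h7_wprod (p ^ m) W) then ∏ x, ε (W x) else 0) =
      (p : ℂ) ^ (m + 1 - (Nat.card G).factorization p) * s := by
  classical
  set a := (Nat.card G).factorization p with ha
  haveI : NeZero (p ^ m) := ⟨pow_ne_zero _ hp.out.ne_zero⟩
  letI := h7_shiftAction (p ^ m) G
  set A := Multiplicative (ZMod (p ^ m)) with hA
  haveI : Fintype (Quotient (MulAction.orbitRel A (ZMod (p ^ m) → G))) := Fintype.ofFinite _
  have hcardA : Nat.card A = p ^ m := by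
    rw [hA, Nat.card_eq_fintype_card, Fintype.card_multiplicative, ZMod.card]
  set F : (ZMod (p ^ m) → G) → ℂ := fun W =>
    if IsConj y (h7_wprod (p ^ m) W) then ∏ x, ε (W x) else 0 with hF
  have hFinv : ∀ (b : A) (W : ZMod (p ^ m) → G), F (b • W) = F W := by
    intro b W
    simp only [hF]
    have h1 : IsConj y (h7_wprod (p ^ m) (b • W)) ↔ IsConj y (h7_wprod (p ^ m) W) := by
      have hc := h7_wprod_smul (p ^ m) b W
      exact ⟨fun h => h.trans hc.symm, fun h => h.trans hc⟩
    have h2 : ∏ x, ε ((b • W) x) = ∏ x, ε (W x) := by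
      exact Equiv.prod_comp (Equiv.addRight (Multiplicative.toAdd b)) (fun x => ε (W x))
    by_cases h : IsConj y (h7_wprod (p ^ m) W)
    · rw [if_pos h, if_pos (h1.mpr h), h2]
    · rw [if_neg h, if_neg (fun h' => h (h1.mp h'))]
  have hsum := h7_sum_eq_sum_orbits (A := A) F hFinv
  have hterm : ∀ ω : Quotient (MulAction.orbitRel A (ZMod (p ^ m) → G)), ∃ s ∈ R,
      (Nat.card A / Nat.card (MulAction.stabilizer A (Quotient.out ω))) • F (Quotient.out ω) =
        (p : ℂ) ^ (m + 1 - a) * s := by
    intro ω
    set W := Quotient.out ω with hW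
    set H := MulAction.stabilizer A W with hH
    by_cases hc : IsConj y (h7_wprod (p ^ m) W)
    · have hHcard : Nat.card H ∣ p ^ m := by
        have := Subgroup.card_subgroup_dvd_card H
        rwa [hcardA] at this
      obtain ⟨i, hi, hHi⟩ := (Nat.dvd_prime_pow hp.out).mp hHcard
      have hidx : H.index * Nat.card H = p ^ m := by
        rw [Subgroup.index_mul_card, hcardA]
      have hper := h7_stabilizer_periodic (p ^ m) W
      have hprod := h7_wprod_periodic (p ^ m) H.index (Nat.card H) hidx W hper
      have hia : i < a := by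
        by_contra hge
        have hge' : a ≤ i := Nat.le_of_not_lt hge
        have h1 : p ^ a ∣ Nat.card H := by
          rw [hHi]
          exact pow_dvd_pow p hge'
        have h2 := h7_pow_pregular p
          (((List.range H.index).map (fun i : ℕ => W (i : ZMod (p ^ m)))).prod) (Nat.card H) h1
        rw [← hprod, ← h7_isConj_orderOf hc] at h2
        exact h2 hy
      have hquot : Nat.card A / Nat.card H = p ^ (m + 1 - a) * p ^ (a - 1 - i) := by
        rw [hcardA, hHi, Nat.pow_div hi hp.out.pos, ← pow_add]
        congr 1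
        omega
      refine ⟨((p ^ (a - 1 - i) : ℕ) : ℂ) * ∏ x, ε (W x), ?_, ?_⟩
      · apply R.mul_mem (natCast_mem R _)
        exact Subring.prod_mem R fun x _ => hε _
      · rw [hquot]
        simp only [hF, if_pos hc, nsmul_eq_mul]
        push_cast
        ring
    · refine ⟨0, R.zero_mem, ?_⟩
      simp only [hF, if_neg hc, smul_zero, mul_zero]
  choose s hsR hs using hterm
  refine ⟨∑ ω, s ω, Subring.sum_mem R fun ω _ => hsR ω, ?_⟩
  rw [hsum, Finset.mul_sum]
  exact Finset.sum_congr rfl fun ω _ => hs ω

open Classical in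
theorem h7_classSum_eq_wordSum [Fintype G] (ε : G → ℂ)
    (hid : ∀ g : G, ∑ h : G, ε h * ε (h⁻¹ * g) = ε g) (y : G) (n : ℕ) [NeZero n] :
    ∑ k : G, (if IsConj y k then ε k else 0) =
      ∑ W : ZMod n → G, if IsConj y (h7_wprod n W) then ∏ x, ε (W x) else 0 := by
  classical
  obtain ⟨n', rfl⟩ : ∃ n', n = n' + 1 := Nat.exists_eq_succ_of_ne_zero (NeZero.ne n)
  have h1 : ∀ k : G, (if IsConj y k then ε k else 0) =
      ∑ W : ZMod (n' + 1) → G,
        if h7_wprod (n' + 1) W = k then (if IsConj y k then ∏ x, ε (W x) else 0) else 0 := by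
    intro k
    by_cases hk : IsConj y k
    · simp only [if_pos hk]
      rw [← h7_wordSum_idem ε hid n' k, h7_wordSum_zmod]
    · simp only [if_neg hk]
      simp
  rw [Finset.sum_congr rfl (fun k _ => h1 k), Finset.sum_comm]
  refine Finset.sum_congr rfl fun W _ => ?_
  rw [Finset.sum_eq_single (h7_wprod (n' + 1) W)]
  · rw [if_pos rfl]
  · intro k _ hne
    rw [if_neg (fun h => hne h.symm)]
  · intro h
    exact absurd (Finset.mem_univ _) h

end Cfsg.Agent.Lib.helper7
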