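import Mathlib
import Cfsg.Prelude.Def_Blocks
import Cfsg.Agent.Lib.helper7.BlockCover
import Cfsg.Agent.Lib.helper7.WordCount

set_option autoImplicit false
set_option linter.style.haveILetI false
set_option linter.unusedSectionVars false
set_option linter.unusedVariables false

namespace Cfsg.Agent.Lib.helper7

open scoped ComplexConjugate
open Cfsg.Agent.Lib.Helper25

variable {G : Type*} [Group G]

def h7_locSubring (M : Ideal Cfsg.AlgInt) (hM : M.IsPrime) : Subring ℂ where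
  carrier := {z | Cfsg.MemLocalRing M z}
  mul_mem' := fun ha hb => h7_memLocalRing_mul hM ha hb
  one_mem' := h7_memLocalRing_one hM
  add_mem' := fun ha hb => h7_memLocalRing_add hM ha hb
  zero_mem' := h7_memLocalRing_zero hM
  neg_mem' := fun ha => h7_memLocalRing_neg ha

theorem h7_mem_locSubring {M : Ideal Cfsg.AlgInt} (hM : M.IsPrime) (z : ℂ) :
    z ∈ h7_locSubring M hM ↔ Cfsg.MemLocalRing M z := Iff.rfl

theorem h7_inv_p_not_mem {p : ℕ} {M : Ideal Cfsg.AlgInt} (hM : Cfsg.IsPModular p M) :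
    ¬ Cfsg.MemLocalRing M ((p : ℂ)⁻¹) := by
  rintro ⟨u, v, hv, huv⟩
  have hp0 : (p : ℂ) ≠ 0 := by exact_mod_cast hM.1.ne_zero
  have hv0 := h7_coe_ne_zero_of_not_mem hv
  have h1 : (v : ℂ) = (p : ℂ) * (u : ℂ) := by
    field_simp at huv
    rw [← huv, mul_comm]
  have h2 : v = (p : Cfsg.AlgInt) * u := by
    apply Subtype.ext
    rw [h1]
    simp
  apply hv
  rw [h2]
  exact M.mul_mem_right _ hM.2.2

theorem h7_inter_pow_eq_zero {p : ℕ} {M : Ideal Cfsg.AlgInt} (hM : Cfsg.IsPModular p M) (z : ℂ)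
    (h : ∀ k : ℕ, Cfsg.MemLocalRing M (z / (p : ℂ) ^ k)) : z = 0 := by
  have hP := hM.2.1.isPrime
  have hp0 : (p : ℂ) ≠ 0 := by exact_mod_cast hM.1.ne_zero
  by_contra hz
  obtain ⟨a, b, hb, hab⟩ := h 0
  rw [pow_zero, div_one] at hab
  have hb0 := h7_coe_ne_zero_of_not_mem hb
  have ha0 : (a : ℂ) ≠ 0 := by
    intro h0
    apply hz
    rw [← hab, h0, zero_div]
  have haI : IsIntegral ℤ (a : ℂ) := a.2
  set f := minpoly ℤ (a : ℂ) with hf
  have hc0 : f.coeff 0 ≠ 0 := by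
    have hq := minpoly.isIntegrallyClosed_eq_field_fractions' ℚ haI
    have hq0 : (minpoly ℚ (a : ℂ)).coeff 0 ≠ 0 :=
      minpoly.coeff_zero_ne_zero haI.tower_top ha0
    rw [hq, Polynomial.coeff_map] at hq0
    intro h0
    apply hq0
    rw [← hf, h0, map_zero]
  have hev : Polynomial.aeval (a : ℂ) f = 0 := minpoly.aeval ℤ (a : ℂ)
  have hdiv : f = f.divX * Polynomial.X + Polynomial.C (f.coeff 0) :=
    (Polynomial.divX_mul_X_add f).symm
  set w : ℂ := Polynomial.aeval (a : ℂ) f.divX with hw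
  have hwI : IsIntegral ℤ w := by
    have : w = ((Polynomial.aeval a f.divX : Cfsg.AlgInt) : ℂ) :=
      (Polynomial.aeval_subalgebra_coe f.divX Cfsg.AlgInt a).symm
    rw [this]
    exact (Polynomial.aeval a f.divX : Cfsg.AlgInt).2
  have h1 : w * (a : ℂ) + ((f.coeff 0 : ℤ) : ℂ) = 0 := by
    rw [hdiv, map_add, map_mul, Polynomial.aeval_X, Polynomial.aeval_C] at hev
    rw [hw]
    simpa using hev
  set N := (f.coeff 0).natAbs with hN
  have hN0 : N ≠ 0 := Int.natAbs_ne_zero.mpr hc0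
  have hNS : ∀ k : ℕ, Cfsg.MemLocalRing M ((N : ℂ) / (p : ℂ) ^ k) := by
    intro k
    have h2 : ((f.coeff 0 : ℤ) : ℂ) / (p : ℂ) ^ k = -(w * (b : ℂ)) * (z / (p : ℂ) ^ k) := by
      have : ((f.coeff 0 : ℤ) : ℂ) = -(w * (a : ℂ)) := by linear_combination h1
      rw [this, ← hab]
      field_simp
    have h3 : Cfsg.MemLocalRing M (((f.coeff 0 : ℤ) : ℂ) / (p : ℂ) ^ k) := by
      rw [h2]
      apply h7_memLocalRing_mul hP _ (h k)
      apply h7_memLocalRing_neg
      exact h7_memLocalRing_mul hP (h7_memLocalRing_of_isIntegral hP hwI)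
        (h7_memLocalRing_of_algInt hP b)
    rcases Int.natAbs_eq (f.coeff 0) with h4 | h4
    · have : (N : ℂ) = ((f.coeff 0 : ℤ) : ℂ) := by
        rw [h4]
        simp [hN]
      rw [this]
      exact h3
    · have : (N : ℂ) = -((f.coeff 0 : ℤ) : ℂ) := by
        conv_rhs => rw [h4]
        simp [hN]
      rw [this, neg_div]
      exact h7_memLocalRing_neg h3
  obtain ⟨e, n', hn', hNe⟩ := Nat.exists_eq_pow_mul_and_not_dvd hN0 p hM.1.ne_one
  have h5 := hNS (e + 1)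
  have hcop : n'.Coprime p := (Nat.Coprime.symm ((Nat.Prime.coprime_iff_not_dvd hM.1).mpr hn'))
  have h6 := h7_memLocalRing_inv_natCast hM n' hcop
  have hn'0 : (n' : ℂ) ≠ 0 := by
    intro h0
    apply hN0
    have : n' = 0 := by exact_mod_cast h0
    rw [hNe, this, mul_zero]
  have h7 : (p : ℂ)⁻¹ = (n' : ℂ)⁻¹ * ((N : ℂ) / (p : ℂ) ^ (e + 1)) := by
    rw [hNe]
    push_cast
    field_simp
    ring
  apply h7_inv_p_not_mem hM
  rw [h7]
  exact h7_memLocalRing_mul hP h6 h5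

open Classical in
theorem h7_idem_psingular_vanish [Fintype G] {p : ℕ} [hp : Fact p.Prime] {M : Ideal Cfsg.AlgInt}
    (hM : Cfsg.IsPModular p M) (ε : G → ℂ) (hε : ∀ g, Cfsg.MemLocalRing M (ε g))
    (hid : ∀ g : G, ∑ h : G, ε h * ε (h⁻¹ * g) = ε g) (y : G) (hy : p ∣ orderOf y) :
    ∑ k : G, (if IsConj y k then ε k else 0) = 0 := by
  classical
  have hP := hM.2.1.isPrime
  have hp0 : (p : ℂ) ≠ 0 := by exact_mod_cast hM.1.ne_zero
  set a := (Nat.card G).factorization p with ha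
  apply h7_inter_pow_eq_zero hM
  intro k
  haveI : NeZero (p ^ (k + a)) := ⟨pow_ne_zero _ hp.out.ne_zero⟩
  rw [h7_classSum_eq_wordSum ε hid y (p ^ (k + a))]
  obtain ⟨s, hs, hsum⟩ := h7_wordcount p (h7_locSubring M hP) ε hε y hy (k + a)
    (Nat.le_add_left _ _)
  rw [hsum]
  have : k + a + 1 - a = k + 1 := by omega
  rw [← ha, this, pow_succ]
  have e : (p : ℂ) ^ k * (p : ℂ) * s / (p : ℂ) ^ k = (p : ℂ) * s := by
    field_simp
  rw [e]
  exact h7_memLocalRing_mul hP (h7_memLocalRing_of_algInt hP (p : Cfsg.AlgInt)) hs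

end Cfsg.Agent.Lib.helper7
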