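import Mathlib
import Cfsg.Prelude.Def_Characters
import Cfsg.Agent.Lib.helper7.Induction

set_option autoImplicit false
set_option linter.style.haveILetI false
set_option linter.unusedSectionVars false
set_option linter.unusedVariables false

namespace Cfsg.Agent.Lib.helper7

variable {G : Type*} [Group G] [Fintype G]

noncomputable def h7_conv (a b : G → ℂ) : G → ℂ := fun g => ∑ h : G, a h * b (h⁻¹ * g)

theorem h7_conv_apply (a b : G → ℂ) (g : G) : h7_conv a b g = ∑ h : G, a h * b (h⁻¹ * g) := rfl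

theorem h7_conv_apply' (a b : G → ℂ) (g : G) :
    h7_conv a b g = ∑ h : G, a (g * h⁻¹) * b h := by
  rw [h7_conv_apply]
  refine Fintype.sum_bijective (fun h => h⁻¹ * g) ?_ _ _ fun h => ?_
  · refine ⟨fun a b hab => ?_, fun b => ⟨g * b⁻¹, by group⟩⟩
    have := mul_right_cancel hab
    exact inv_injective this
  · congr 2
    group

theorem h7_conv_assoc (a b c : G → ℂ) : h7_conv (h7_conv a b) c = h7_conv a (h7_conv b c) := by
  funext g
  simp only [h7_conv_apply]
  simp only [Finset.sum_mul, Finset.mul_sum]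
  rw [Finset.sum_comm]
  refine Finset.sum_congr rfl fun k _ => ?_
  refine Fintype.sum_bijective (fun h => k⁻¹ * h) (Group.mulLeft_bijective k⁻¹) _ _ fun h => ?_
  rw [mul_assoc]
  congr 3
  group

theorem h7_conv_comm_of_class (e a : G → ℂ) (he : ∀ g h : G, e (h * g * h⁻¹) = e g) :
    h7_conv e a = h7_conv a e := by
  funext g
  rw [h7_conv_apply' e a g, h7_conv_apply a e g]
  refine Finset.sum_congr rfl fun h _ => ?_
  rw [mul_comm]
  congr 1
  have := he (h⁻¹ * g) h
  rw [← this]
  congr 1
  group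

theorem h7_conv_idem_mul (e f : G → ℂ) (he : ∀ g h : G, e (h * g * h⁻¹) = e g)
    (hee : h7_conv e e = e) (hff : h7_conv f f = f) :
    h7_conv (h7_conv e f) (h7_conv e f) = h7_conv e f := by
  rw [h7_conv_assoc, ← h7_conv_assoc f e f, ← h7_conv_comm_of_class e f he, h7_conv_assoc e f f,
    hff, ← h7_conv_assoc, hee]

theorem h7_conv_extendByZero (C : Subgroup G) [Fintype C] (a b : C → ℂ) :
    h7_conv (Cfsg.extendByZero C a) (Cfsg.extendByZero C b) =
      Cfsg.extendByZero C (h7_conv a b) := by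
  classical
  funext g
  rw [h7_conv_apply]
  have h1 : ∑ h : G, Cfsg.extendByZero C a h * Cfsg.extendByZero C b (h⁻¹ * g) =
      ∑ h : G, (fun h => Cfsg.extendByZero C b (h⁻¹ * g)) h * Cfsg.extendByZero C a h := by
    refine Finset.sum_congr rfl fun h _ => ?_
    rw [mul_comm]
  rw [h1, h7_sum_mul_extendByZero]
  by_cases hg : g ∈ C
  · rw [h7_extendByZero_mem C _ g hg, h7_conv_apply]
    refine Finset.sum_congr rfl fun c _ => ?_
    rw [mul_comm]
    congr 1
    have : (c : G)⁻¹ * g = ((c⁻¹ * ⟨g, hg⟩ : C) : G) := by simp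
    rw [this, h7_extendByZero_coe]
  · rw [h7_extendByZero_not_mem C _ g hg]
    apply Finset.sum_eq_zero
    intro c _
    rw [h7_extendByZero_not_mem, zero_mul]
    intro hc
    apply hg
    have := C.mul_mem c.2 hc
    simpa using this

theorem h7_conv_extendByZero_right (C : Subgroup G) [Fintype C] (e : G → ℂ) (b : C → ℂ)
    (g : G) :
    h7_conv e (Cfsg.extendByZero C b) g = ∑ c : C, e (g * (c : G)⁻¹) * b c := by
  rw [h7_conv_apply']
  exact h7_sum_mul_extendByZero C b (fun h => e (g * h⁻¹))

end Cfsg.Agent.Lib.helper7
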