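import Mathlib
import Cfsg.Prelude.Def_Blocks
import Cfsg.Agent.Lib.helper7.BlockSing
import Cfsg.Agent.Lib.helper7.Conv

set_option autoImplicit false
set_option linter.style.haveILetI false
set_option linter.unusedSectionVars false
set_option linter.unusedVariables false

namespace Cfsg.Agent.Lib.helper7

open scoped ComplexConjugate
open Cfsg.Agent.Lib.Helper25

variable {G : Type*} [Group G]

section

variable [Fintype G] [Fintype (Cfsg.IrrCharacter G)]

theorem h7_conv_coef (c d : Cfsg.IrrCharacter G → ℂ) :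
    h7_conv (h7_coef c) (h7_coef d) = h7_coef (c * d) := by
  funext g
  rw [h7_conv_apply', h7_coef_mul]

open Classical in
theorem h7_classSum_shift (χ : Cfsg.IrrCharacter G) (y z : G) :
    ∑ k : G, (if IsConj y k then (χ : G → ℂ) (k * z) else 0) =
      Cfsg.centralChar (χ : G → ℂ) y * (χ : G → ℂ) z := by
  classical
  obtain ⟨n, ρ, hρ, hχ⟩ := χ.2
  haveI := hρ
  have h1 := Cfsg.Agent.Lib.helper2.class_sum_scalar ρ y
  have h2 : ∑ k : G, (if IsConj y k then (χ : G → ℂ) (k * z) else 0) =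
      LinearMap.trace ℂ _ ((∑ x ∈ Finset.univ.filter (fun x : G => IsConj y x), ρ x) * ρ z) := by
    rw [Finset.sum_mul, map_sum, Finset.sum_filter]
    refine Finset.sum_congr rfl fun k _ => ?_
    split_ifs
    · rw [← map_mul, ← hχ]
      rfl
    · rfl
  rw [h2, h1, smul_mul_assoc, map_smul, smul_eq_mul]
  have : (LinearMap.id : (Fin n → ℂ) →ₗ[ℂ] (Fin n → ℂ)) * ρ z = ρ z := by
    rw [Module.End.mul_eq_comp, LinearMap.id_comp]
  rw [this]
  unfold Cfsg.centralChar
  rw [← hχ, Representation.char_one]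
  rfl

open Classical in
theorem h7_weak_orth_aux {p : ℕ} [hp : Fact p.Prime] {M : Ideal Cfsg.AlgInt}
    (hM : Cfsg.IsPModular p M) (χ₀ : Cfsg.IrrCharacter G) (C : Subgroup G) [Fintype C]
    [Fintype (Cfsg.IrrCharacter C)] (hC : (Nat.card C).Coprime p) (y : G) (hy : p ∣ orderOf y)
    (μ : Cfsg.IrrCharacter C) :
    ∑ c : C, (∑ χ : Cfsg.IrrCharacter G,
      (if χ ∈ Cfsg.blockOf M (χ₀ : G → ℂ) then (1 : ℂ) else 0) *
        ((χ : G → ℂ) c * conj ((χ : G → ℂ) y))) * conj ((μ : C → ℂ) c) = 0 := by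
  classical
  have hP := hM.2.1.isPrime
  set B := Cfsg.blockOf M (χ₀ : G → ℂ) with hB
  set iB : Cfsg.IrrCharacter G → ℂ := fun χ => if χ ∈ B then (1 : ℂ) else 0 with hiB
  set e : G → ℂ := h7_coef iB with he
  set dμ : Cfsg.IrrCharacter C → ℂ := fun ν => if ν = μ then (1 : ℂ) else 0 with hdμ
  set f : C → ℂ := h7_coef dμ with hf
  set F : G → ℂ := Cfsg.extendByZero C f with hF
  have hecl : ∀ g h : G, e (h * g * h⁻¹) = e g := fun g h => h7_coef_conj iB g h
  have hee : h7_conv e e = e := by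
    rw [he, h7_conv_coef]
    congr 1
    funext χ
    simp only [hiB, Pi.mul_apply]
    split_ifs <;> simp
  have hff : h7_conv f f = f := by
    rw [hf, h7_conv_coef]
    congr 1
    funext ν
    simp only [hdμ, Pi.mul_apply]
    split_ifs <;> simp
  have hFF : h7_conv F F = F := by
    rw [hF, h7_conv_extendByZero, hff]
  set ε : G → ℂ := h7_conv e F with hε
  have hid : h7_conv ε ε = ε := h7_conv_idem_mul e F hecl hee hFF
  have hfval : ∀ c : C, f c = (Nat.card C : ℂ)⁻¹ * ((μ : C → ℂ) 1 * conj ((μ : C → ℂ) c)) := by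
    intro c
    simp only [hf, h7_coef, hdμ]
    congr 1
    rw [Finset.sum_eq_single μ]
    · rw [if_pos rfl, one_mul]
    · intro ν _ hne
      rw [if_neg hne, zero_mul]
    · intro h
      exact absurd (Finset.mem_univ μ) h
  have heS : ∀ g, Cfsg.MemLocalRing M (e g) := fun g => h7_block_indicator_mem hP χ₀ g
  have hfS : ∀ c : C, Cfsg.MemLocalRing M (f c) := by
    intro c
    rw [hfval]
    apply h7_memLocalRing_mul hP (h7_memLocalRing_inv_natCast hM _ hC)
    apply h7_memLocalRing_of_isIntegral hP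
    exact (Cfsg.Agent.Lib.helper2.irr_integral μ 1).mul
      (map_isIntegral_int (starRingEnd ℂ) (Cfsg.Agent.Lib.helper2.irr_integral μ c))
  have hεval : ∀ g, ε g = ∑ c : C, e (g * (c : G)⁻¹) * f c := fun g =>
    h7_conv_extendByZero_right C e f g
  have hεS : ∀ g, Cfsg.MemLocalRing M (ε g) := by
    intro g
    rw [hεval]
    exact h7_memLocalRing_sum hP _ _ fun c _ => h7_memLocalRing_mul hP (heS _) (hfS c)
  have hid' : ∀ g : G, ∑ h : G, ε h * ε (h⁻¹ * g) = ε g := fun g => congrFun hid g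
  have hvan := h7_idem_psingular_vanish hM ε hεS hid' y hy
  have hsum : ∑ k : G, (if IsConj y k then ε k else 0) =
      ∑ c : C, f c * ∑ k : G, (if IsConj y k then e (k * (c : G)⁻¹) else 0) := by
    have h1 : ∀ k : G, (if IsConj y k then ε k else 0) =
        ∑ c : C, f c * (if IsConj y k then e (k * (c : G)⁻¹) else 0) := by
      intro k
      split_ifs
      · rw [hεval]
        exact Finset.sum_congr rfl fun c _ => mul_comm _ _
      · simp
    rw [Finset.sum_congr rfl (fun k _ => h1 k), Finset.sum_comm]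
    exact Finset.sum_congr rfl fun c _ => (Finset.mul_sum _ _ _).symm
  have hinner : ∀ c : C, ∑ k : G, (if IsConj y k then e (k * (c : G)⁻¹) else 0) =
      (Nat.card G : ℂ)⁻¹ * (((Subgroup.centralizer ({y} : Set G)).index : ℂ) *
        ∑ χ : Cfsg.IrrCharacter G, iB χ * ((χ : G → ℂ) c * conj ((χ : G → ℂ) y))) := by
    intro c
    have h1 : ∀ k : G, (if IsConj y k then e (k * (c : G)⁻¹) else 0) =
        (Nat.card G : ℂ)⁻¹ * ∑ χ : Cfsg.IrrCharacter G, iB χ * ((χ : G → ℂ) 1 *
          conj (if IsConj y k then (χ : G → ℂ) (k * (c : G)⁻¹) else 0)) := by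
      intro k
      split_ifs
      · rfl
      · simp
    rw [Finset.sum_congr rfl (fun k _ => h1 k), ← Finset.mul_sum, Finset.sum_comm]
    congr 1
    rw [Finset.mul_sum]
    refine Finset.sum_congr rfl fun χ _ => ?_
    rw [← Finset.mul_sum, ← Finset.mul_sum, ← map_sum, h7_classSum_shift]
    unfold Cfsg.centralChar
    rw [map_mul, map_div₀, map_mul, h7_irr_conj_one, Complex.conj_natCast, irr_inv,
      Complex.conj_conj]
    have := irr_one_ne_zero χ
    field_simp
  rw [hsum] at hvan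
  simp only [hinner, hfval] at hvan
  have hG : (Nat.card G : ℂ) ≠ 0 := by exact_mod_cast Nat.card_pos.ne'
  have hCc : (Nat.card C : ℂ) ≠ 0 := by exact_mod_cast Nat.card_pos.ne'
  have hidx : ((Subgroup.centralizer ({y} : Set G)).index : ℂ) ≠ 0 := by
    have : (Subgroup.centralizer ({y} : Set G)).index ≠ 0 := Subgroup.index_ne_zero_of_finite
    exact_mod_cast this
  have hμ1 := irr_one_ne_zero μ
  have hfinal : (Nat.card C : ℂ)⁻¹ * (μ : C → ℂ) 1 * (Nat.card G : ℂ)⁻¹ *
      ((Subgroup.centralizer ({y} : Set G)).index : ℂ) *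
      ∑ c : C, (∑ χ : Cfsg.IrrCharacter G,
        iB χ * ((χ : G → ℂ) c * conj ((χ : G → ℂ) y))) * conj ((μ : C → ℂ) c) = 0 := by
    rw [← hvan, Finset.mul_sum]
    refine Finset.sum_congr rfl fun c _ => ?_
    ring
  have hne : (Nat.card C : ℂ)⁻¹ * (μ : C → ℂ) 1 * (Nat.card G : ℂ)⁻¹ *
      ((Subgroup.centralizer ({y} : Set G)).index : ℂ) ≠ 0 :=
    mul_ne_zero (mul_ne_zero (mul_ne_zero (inv_ne_zero hCc) hμ1) (inv_ne_zero hG)) hidx
  exact (mul_eq_zero.mp hfinal).resolve_left hne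

theorem h7_weak_block_orth {p : ℕ} [hp : Fact p.Prime] {M : Ideal Cfsg.AlgInt}
    (hM : Cfsg.IsPModular p M) (χ₀ : Cfsg.IrrCharacter G) (x y : G) (hx : ¬ p ∣ orderOf x)
    (hy : p ∣ orderOf y) :
    ∑ᶠ χ ∈ Cfsg.blockOf M (χ₀ : G → ℂ), (χ : G → ℂ) x * conj ((χ : G → ℂ) y) = 0 := by
  classical
  set C := Subgroup.zpowers x with hC
  haveI : Fintype C := Fintype.ofFinite _
  haveI : Fintype (Cfsg.IrrCharacter C) := Fintype.ofFinite _
  have hCcard : (Nat.card C).Coprime p := by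
    rw [hC, Nat.card_zpowers]
    exact (Nat.Coprime.symm ((Nat.Prime.coprime_iff_not_dvd hp.out).mpr hx))
  set Γ : C → ℂ := fun c => ∑ χ : Cfsg.IrrCharacter G,
      (if χ ∈ Cfsg.blockOf M (χ₀ : G → ℂ) then (1 : ℂ) else 0) *
        ((χ : G → ℂ) c * conj ((χ : G → ℂ) y)) with hΓ
  have haux := h7_weak_orth_aux hM χ₀ C hCcard y hy
  set f : C → ℂ := fun c => conj (Γ c) with hf
  have hfcl : ∀ a b : C, f (b * a * b⁻¹) = f a := by
    intro a b
    simp only [hf, hΓ]
    congr 1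
    refine Finset.sum_congr rfl fun χ _ => ?_
    simp only [Subgroup.coe_mul, Subgroup.coe_inv]
    rw [irr_conj_invariant]
  have horth : ∀ μ : Cfsg.IrrCharacter C, ∑ c, f c * (μ : C → ℂ) c = 0 := by
    intro μ
    have h1 := congrArg (starRingEnd ℂ) (haux μ)
    rw [map_sum, map_zero] at h1
    rw [← h1]
    refine Finset.sum_congr rfl fun c _ => ?_
    rw [map_mul, Complex.conj_conj]
  have h0 := eq_zero_of_orthogonal_irr f hfcl horth
  have h1 := congrFun h0 ⟨x, Subgroup.mem_zpowers x⟩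
  simp only [hf, Pi.zero_apply] at h1
  have h2 : Γ ⟨x, Subgroup.mem_zpowers x⟩ = 0 := by
    have := congrArg (starRingEnd ℂ) h1
    rwa [Complex.conj_conj, map_zero] at this
  rw [finsum_mem_def, finsum_eq_sum_of_fintype]
  rw [← h2]
  refine Finset.sum_congr rfl fun χ _ => ?_
  rw [Set.indicator_apply]
  split_ifs <;> simp

theorem h7_blockCoeff_psingular {p : ℕ} [hp : Fact p.Prime] {M : Ideal Cfsg.AlgInt}
    (hM : Cfsg.IsPModular p M) (χ₀ : Cfsg.IrrCharacter G) (y : G) (hy : p ∣ orderOf y) :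
    Cfsg.blockCoeff (Cfsg.blockOf M (χ₀ : G → ℂ)) y = 0 := by
  unfold Cfsg.blockCoeff
  have h1 : ¬ p ∣ orderOf (1 : G) := by
    rw [orderOf_one]
    exact hp.out.one_lt.ne' ∘ Nat.dvd_one.mp
  rw [h7_weak_block_orth hM χ₀ 1 y h1 hy, mul_zero]

end

end Cfsg.Agent.Lib.helper7
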