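import Mathlib
import Cfsg.Prelude.Def_Blocks
import Cfsg.Agent.Lib.helper7.BlockSing2
import Cfsg.Agent.Lib.helper2.CharInd

set_option autoImplicit false
set_option linter.style.haveILetI false
set_option linter.unusedSectionVars false
set_option linter.unusedVariables false

namespace Cfsg.Agent.Lib.helper7

open scoped ComplexConjugate
open Cfsg.Agent.Lib.Helper25 Cfsg.Agent.Lib.helper2

variable {G : Type*} [Group G]

theorem h7_psingular_mul (p : ℕ) [hp : Fact p.Prime] (u c : G) (huc : Commute u c)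
    (hu : ∃ k : ℕ, orderOf u = p ^ k) (hu1 : u ≠ 1) (hc : ¬ p ∣ orderOf c) :
    p ∣ orderOf (u * c) := by
  obtain ⟨k, hk⟩ := hu
  have hk0 : k ≠ 0 := by
    rintro rfl
    rw [pow_zero, orderOf_eq_one_iff] at hk
    exact hu1 hk
  have hco : (orderOf u).Coprime (orderOf c) := by
    rw [hk]
    exact Nat.Coprime.pow_left k ((Nat.Prime.coprime_iff_not_dvd hp.out).mpr hc)
  rw [huc.orderOf_mul_eq_mul_orderOf_of_coprime hco, hk]
  exact Dvd.dvd.mul_right (dvd_pow_self p hk0) _

theorem h7_char_dvd_of_vanish [Fintype G] (p : ℕ) [hp : Fact p.Prime] (Ψ : G → ℂ)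
    (hΨ : Cfsg.IsCharacter G Ψ) (hvan : ∀ y : G, p ∣ orderOf y → Ψ y = 0) (g : G)
    (hg : ¬ p ∣ orderOf g) (P : Subgroup G) (hP : IsPGroup p P)
    (hPg : ∀ u ∈ P, Commute u g) :
    ∃ α : ℂ, IsIntegral ℤ α ∧ Ψ g = (Nat.card P : ℂ) * α := by
  classical
  set C := Subgroup.zpowers g with hC
  haveI : Fintype C := Fintype.ofFinite _
  haveI : Fintype P := Fintype.ofFinite _
  haveI : Fintype (Cfsg.IrrCharacter C) := Fintype.ofFinite _
  have hcomm : ∀ (u : P) (c : C), Commute (P.subtype u) (C.subtype c) := by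
    intro u c
    obtain ⟨k, hk⟩ := Subgroup.mem_zpowers_iff.mp c.2
    show Commute (u : G) (c : G)
    rw [← hk]
    exact (hPg u u.2).zpow_right k
  let φ : P × C →* G := MonoidHom.noncommCoprod P.subtype C.subtype hcomm
  have hφ : ∀ z : P × C, φ z = (z.1 : G) * (z.2 : G) := fun z => rfl
  have hΨ' : Cfsg.IsCharacter (P × C) (fun z => Ψ (φ z)) := isCharacter_comp_hom hΨ φ
  have hcorder : ∀ c : C, ¬ p ∣ orderOf (c : G) := by
    intro c hpc
    obtain ⟨k, hk⟩ := Subgroup.mem_zpowers_iff.mp c.2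
    apply hg
    rw [← hk] at hpc
    exact hpc.trans (orderOf_dvd_of_pow_eq_one (by
      rw [← zpow_natCast, ← zpow_mul, mul_comm, zpow_mul, zpow_natCast, pow_orderOf_eq_one,
        one_zpow]))
  have hΨcl : ∀ a b : C, (fun c : C => Ψ c) (b * a * b⁻¹) = (fun c : C => Ψ c) a := by
    intro a b
    simp only [Subgroup.coe_mul, Subgroup.coe_inv]
    exact isCharacter_isClassFunction hΨ _ _
  have key : ∀ μ : Cfsg.IrrCharacter C, ∃ n : ℕ,
      Cfsg.classInner (fun c : C => Ψ c) (μ : C → ℂ) = (Nat.card P : ℂ) * (n : ℂ) := by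
    intro μ
    have hμ' : Cfsg.IsCharacter (P × C) (fun z => (μ : C → ℂ) ((MonoidHom.snd P C) z)) :=
      isCharacter_comp_hom (isCharacter_of_irr μ) (MonoidHom.snd P C)
    obtain ⟨n, hn⟩ := classInner_character_nat hΨ' hμ'
    refine ⟨n, ?_⟩
    unfold Cfsg.classInner at hn ⊢
    rw [Fintype.sum_prod_type] at hn
    have h1 : ∀ u : P, ∑ c : C, Ψ (φ (u, c)) * conj ((μ : C → ℂ) ((MonoidHom.snd P C) (u, c))) =
        if u = 1 then ∑ c : C, Ψ c * conj ((μ : C → ℂ) c) else 0 := by
      intro u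
      by_cases hu : u = 1
      · rw [if_pos hu, hu]
        refine Finset.sum_congr rfl fun c _ => ?_
        rw [hφ]
        simp
      · rw [if_neg hu]
        apply Finset.sum_eq_zero
        intro c _
        rw [hφ, hvan, zero_mul]
        apply h7_psingular_mul p _ _ (hcomm u c)
        · obtain ⟨k, hk⟩ := (IsPGroup.iff_orderOf.mp hP) u
          exact ⟨k, by rw [← hk]; exact (Subgroup.orderOf_coe u)⟩
        · intro h1
          apply hu
          exact Subtype.ext h1
        · exact hcorder c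
    rw [Finset.sum_congr rfl (fun u _ => h1 u), Finset.sum_ite_eq' Finset.univ (1 : P)] at hn
    simp only [Finset.mem_univ, if_true] at hn
    rw [Nat.card_prod] at hn
    have hPne : (Nat.card P : ℂ) ≠ 0 := by exact_mod_cast Nat.card_pos.ne'
    have hCne : (Nat.card C : ℂ) ≠ 0 := by exact_mod_cast Nat.card_pos.ne'
    push_cast at hn
    rw [mul_inv, mul_assoc] at hn
    rw [← hn]
    field_simp
  choose n hn using key
  have hexp := classFunction_expansion (fun c : C => Ψ c) hΨcl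
  have h2 := congrFun hexp ⟨g, Subgroup.mem_zpowers g⟩
  rw [Finset.sum_apply] at h2
  simp only [Pi.smul_apply, smul_eq_mul] at h2
  refine ⟨∑ μ : Cfsg.IrrCharacter C, (n μ : ℂ) * (μ : C → ℂ) ⟨g, Subgroup.mem_zpowers g⟩, ?_, ?_⟩
  · apply IsIntegral.sum
    intro μ _
    have h3 : IsIntegral ℤ ((n μ : ℕ) : ℂ) := by
      have := isIntegral_algebraMap (R := ℤ) (A := ℂ) (x := ((n μ : ℕ) : ℤ))
      simpa using this
    exact h3.mul (irr_integral μ _)
  · rw [h2, Finset.mul_sum]
    refine Finset.sum_congr rfl fun μ _ => ?_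
    rw [hn μ]
    ring

end Cfsg.Agent.Lib.helper7
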