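import Mathlib
import Cfsg.Prelude.Def_Blocks
import Cfsg.Agent.Lib.helper7.BlockDefect
import Cfsg.Agent.Lib.Helper25.CharAbelian

set_option autoImplicit false
set_option linter.style.haveILetI false
set_option linter.unusedSectionVars false
set_option linter.unusedVariables false

namespace Cfsg.Agent.Lib.helper7

open scoped ComplexConjugate
open Cfsg.Agent.Lib.Helper25 Cfsg.Agent.Lib.helper2

variable {G : Type*} [Group G]

theorem h7_charDegree_props [Finite G] (χ : Cfsg.IrrCharacter G) :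
    Cfsg.charDegree (χ : G → ℂ) ∣ Nat.card G ∧ 0 < Cfsg.charDegree (χ : G → ℂ) ∧
      ((Cfsg.charDegree (χ : G → ℂ) : ℕ) : ℂ) = (χ : G → ℂ) 1 := by
  obtain ⟨h1, h2⟩ := charDegree_irr χ
  obtain ⟨n, hn, hn1, hnd⟩ := irr_degree_dvd_card χ
  have : Cfsg.charDegree (χ : G → ℂ) = n := by
    have h3 : ((Cfsg.charDegree (χ : G → ℂ) : ℕ) : ℂ) = (n : ℂ) := h1.trans hn1
    exact_mod_cast h3
  exact ⟨this ▸ hnd, h2, h1⟩

theorem h7_memLocalIdeal_p {p : ℕ} {M : Ideal Cfsg.AlgInt} (hM : Cfsg.IsPModular p M) :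
    Cfsg.MemLocalIdeal M (p : ℂ) := by
  have := h7_memLocalIdeal_of_mem hM.2.1.isPrime hM.2.2
  simpa using this

theorem h7_memLocalRing_natCast {M : Ideal Cfsg.AlgInt} (hM : M.IsPrime) (n : ℕ) :
    Cfsg.MemLocalRing M (n : ℂ) := by
  have := h7_memLocalRing_of_algInt hM (n : Cfsg.AlgInt)
  simpa using this

theorem h7_defect_lower [Finite G] {p : ℕ} [hp : Fact p.Prime] {M : Ideal Cfsg.AlgInt}
    (hM : Cfsg.IsPModular p M) (χ : Cfsg.IrrCharacter G) (g : G)
    (h : ¬ Cfsg.MemLocalIdeal M (Cfsg.centralChar (χ : G → ℂ) g)) :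
    (Subgroup.centralizer ({g} : Set G)).index.factorization p ≤
      (Cfsg.charDegree (χ : G → ℂ)).factorization p := by
  have hP := hM.2.1.isPrime
  obtain ⟨hd1, hd2, hd3⟩ := h7_charDegree_props χ
  set d := Cfsg.charDegree (χ : G → ℂ) with hd
  set idx := (Subgroup.centralizer ({g} : Set G)).index with hidx
  set h₀ := d.factorization p with hh₀
  by_contra hlt
  have hlt' : h₀ + 1 ≤ idx.factorization p := Nat.lt_of_not_le hlt
  have hidx0 : idx ≠ 0 := Subgroup.index_ne_zero_of_finite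
  have h1 : p ^ (h₀ + 1) ∣ idx :=
    (hp.out.pow_dvd_iff_le_factorization hidx0).mpr hlt'
  obtain ⟨t, ht⟩ := h1
  set m := d / p ^ h₀ with hm
  have hdm : p ^ h₀ * m = d := Nat.ordProj_mul_ordCompl_eq_self d p
  have hmp : ¬ p ∣ m := Nat.not_dvd_ordCompl hp.out hd2.ne'
  have hmcop : m.Coprime p := (Nat.Coprime.symm ((Nat.Prime.coprime_iff_not_dvd hp.out).mpr hmp))
  apply h
  unfold Cfsg.centralChar
  rw [← hd3, ← hidx, ht, ← hdm]
  have hp0 : (p : ℂ) ≠ 0 := by exact_mod_cast hp.out.ne_zero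
  have hm0 : (m : ℂ) ≠ 0 := by
    intro h0
    have : m = 0 := by exact_mod_cast h0
    rw [this, mul_zero] at hdm
    exact hd2.ne' hdm.symm
  have e : ((p ^ (h₀ + 1) * t : ℕ) : ℂ) * (χ : G → ℂ) g / ((p ^ h₀ * m : ℕ) : ℂ) =
      (p : ℂ) * ((t : ℂ) * (χ : G → ℂ) g * (m : ℂ)⁻¹) := by
    push_cast
    field_simp
    ring
  rw [e]
  apply h7_memLocalIdeal_mul_right hP (h7_memLocalIdeal_p hM)
  apply h7_memLocalRing_mul hP _ (h7_memLocalRing_inv_natCast hM m hmcop)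
  exact h7_memLocalRing_mul hP (h7_memLocalRing_natCast hP t)
    (h7_memLocalRing_of_isIntegral hP (irr_integral χ g))

theorem h7_defect_upper [Fintype G] [Fintype (Cfsg.IrrCharacter G)] {p : ℕ} [hp : Fact p.Prime]
    {M : Ideal Cfsg.AlgInt} (hM : Cfsg.IsPModular p M) (χ₀ : Cfsg.IrrCharacter G) (g : G)
    (hg : ¬ Cfsg.MemLocalIdeal M (Cfsg.blockCoeff (Cfsg.blockOf M (χ₀ : G → ℂ)) g)) (h₀ : ℕ)
    (hh₀ : ∀ χ ∈ Cfsg.blockOf M (χ₀ : G → ℂ), p ^ h₀ ∣ Cfsg.charDegree (χ : G → ℂ))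
    (Q : Subgroup G) (hQ : IsPGroup p Q) (hQg : ∀ u ∈ Q, Commute u g) :
    h₀ + (Nat.card Q).factorization p ≤ (Nat.card G).factorization p := by
  classical
  have hP := hM.2.1.isPrime
  set B := Cfsg.blockOf M (χ₀ : G → ℂ) with hB
  set a := (Nat.card G).factorization p with ha
  obtain ⟨c, hc⟩ := IsPGroup.iff_card.mp hQ
  have hcf : (Nat.card Q).factorization p = c := by
    rw [hc, Nat.factorization_pow, Nat.Prime.factorization hp.out]
    simp
  rw [hcf]
  by_contra hlt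
  have hlt' : a + 1 ≤ h₀ + c := Nat.lt_of_not_le hlt
  apply hg
  by_cases hgs : p ∣ orderOf g
  · rw [h7_blockCoeff_psingular hM χ₀ g hgs]
    exact h7_memLocalIdeal_zero hP
  set nχ : Cfsg.IrrCharacter G → ℕ := fun χ =>
    if χ ∈ B then Cfsg.charDegree (χ : G → ℂ) / p ^ h₀ else 0 with hnχ
  set θ' : G → ℂ := ∑ χ : Cfsg.IrrCharacter G, ((nχ χ : ℕ) : ℂ) • (χ : G → ℂ) with hθ'
  have hθ'c : Cfsg.IsCharacter G θ' :=
    isCharacter_sum _ _ fun χ _ => isCharacter_natCast_smul (isCharacter_of_irr χ) _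
  have hp0 : (p : ℂ) ≠ 0 := by exact_mod_cast hp.out.ne_zero
  have hrel : ∀ y : G, (p : ℂ) ^ h₀ * conj (θ' y) =
      (Nat.card G : ℂ) * Cfsg.blockCoeff B y := by
    intro y
    have hG : (Nat.card G : ℂ) ≠ 0 := by exact_mod_cast Nat.card_pos.ne'
    unfold Cfsg.blockCoeff
    rw [← mul_assoc, mul_inv_cancel₀ hG, one_mul, finsum_mem_def, finsum_eq_sum_of_fintype]
    simp only [hθ', Finset.sum_apply, Pi.smul_apply, smul_eq_mul, map_sum, Finset.mul_sum]
    refine Finset.sum_congr rfl fun χ _ => ?_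
    rw [Set.indicator_apply]
    by_cases hχ : χ ∈ B
    · rw [if_pos hχ]
      simp only [hnχ, if_pos hχ]
      obtain ⟨e, he⟩ := hh₀ χ hχ
      obtain ⟨_, _, hd3⟩ := h7_charDegree_props χ
      rw [← hd3, he, Nat.mul_div_cancel_left _ (pow_pos hp.out.pos _), map_mul,
        Complex.conj_natCast]
      push_cast
      ring
    · rw [if_neg hχ]
      simp only [hnχ, if_neg hχ]
      simp
  have hvan : ∀ y : G, p ∣ orderOf y → θ' y = 0 := by
    intro y hy
    have h1 := hrel y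
    rw [h7_blockCoeff_psingular hM χ₀ y hy, mul_zero] at h1
    have h2 : conj (θ' y) = 0 := by
      rcases mul_eq_zero.mp h1 with h3 | h3
      · exact absurd h3 (pow_ne_zero _ hp0)
      · exact h3
    have := congrArg (starRingEnd ℂ) h2
    rwa [Complex.conj_conj, map_zero] at this
  obtain ⟨α, hα, hθg⟩ := h7_char_dvd_of_vanish p θ' hθ'c hvan g hgs Q hQ hQg
  have h3 := hrel g
  rw [hθg, hc] at h3
  set r := Nat.card G / p ^ a with hr
  have hGr : p ^ a * r = Nat.card G := Nat.ordProj_mul_ordCompl_eq_self (Nat.card G) p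
  have hrp : ¬ p ∣ r := Nat.not_dvd_ordCompl hp.out Nat.card_pos.ne'
  have hrcop : r.Coprime p := (Nat.Coprime.symm ((Nat.Prime.coprime_iff_not_dvd hp.out).mpr hrp))
  have hr0 : (r : ℂ) ≠ 0 := by
    intro h0
    have : r = 0 := by exact_mod_cast h0
    rw [this, mul_zero] at hGr
    exact Nat.card_pos.ne' hGr.symm
  obtain ⟨j, hj⟩ : ∃ j, h₀ + c = a + 1 + j := ⟨h₀ + c - (a + 1), by omega⟩
  have h4 : Cfsg.blockCoeff B g = (p : ℂ) * ((p : ℂ) ^ j * conj α * (r : ℂ)⁻¹) := by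
    have hG' : (Nat.card G : ℂ) = (p : ℂ) ^ a * (r : ℂ) := by
      rw [← hGr]
      push_cast
      rfl
    rw [hG', map_mul, Complex.conj_natCast] at h3
    have h5 : (p : ℂ) ^ h₀ * (((p ^ c : ℕ) : ℂ) * conj α) = (p : ℂ) ^ (a + 1 + j) * conj α := by
      rw [← hj, pow_add]
      push_cast
      ring
    rw [h5] at h3
    have hpa : (p : ℂ) ^ a ≠ 0 := pow_ne_zero _ hp0
    have h6 : Cfsg.blockCoeff B g = (p : ℂ) ^ (a + 1 + j) * conj α / ((p : ℂ) ^ a * (r : ℂ)) := by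
      rw [h3]
      field_simp
    rw [h6, pow_add, pow_add, pow_one]
    field_simp
  rw [h4]
  apply h7_memLocalIdeal_mul_right hP (h7_memLocalIdeal_p hM)
  apply h7_memLocalRing_mul hP _ (h7_memLocalRing_inv_natCast hM r hrcop)
  apply h7_memLocalRing_mul hP
  · have := h7_memLocalRing_natCast hP (M := M) (p ^ j)
    simpa using this
  · exact h7_memLocalRing_of_isIntegral hP (map_isIntegral_int (starRingEnd ℂ) hα)

end Cfsg.Agent.Lib.helper7
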