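import Mathlib
import Cfsg.Prelude.Def_Blocks
import Cfsg.Agent.Lib.helper7.BlockEval
import Cfsg.Agent.Lib.helper7.Clifford
import Cfsg.Agent.S0932

set_option autoImplicit false
set_option linter.style.haveILetI false
set_option linter.unusedSectionVars false
set_option linter.unusedVariables false

namespace Cfsg.Agent.Lib.helper7

open scoped ComplexConjugate
open Cfsg.Agent.Lib.Helper25 Cfsg.Agent.Lib.Helper11

variable {G : Type*} [Group G]

section

variable [Fintype G] [Fintype (Cfsg.IrrCharacter G)]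

theorem h7_sum_coef_mul_classfun (c : Cfsg.IrrCharacter G → ℂ) (Ψ : G → ℂ)
    (hcl : ∀ g h : G, Ψ (h * g * h⁻¹) = Ψ g) :
    ∑ g : G, h7_coef c g * Ψ g =
      ∑ χ : Cfsg.IrrCharacter G, Cfsg.classInner Ψ (χ : G → ℂ) * (c χ * (χ : G → ℂ) 1) := by
  classical
  have hexp := classFunction_expansion Ψ hcl
  have h2 : ∀ g : G, h7_coef c g * Ψ g =
      ∑ χ : Cfsg.IrrCharacter G, Cfsg.classInner Ψ (χ : G → ℂ) *
        (h7_coef c g * (χ : G → ℂ) g) := by
    intro g
    conv_lhs => rw [hexp]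
    rw [Finset.sum_apply, Finset.mul_sum]
    refine Finset.sum_congr rfl fun χ _ => ?_
    simp only [Pi.smul_apply, smul_eq_mul]
    ring
  rw [Finset.sum_congr rfl (fun g _ => h2 g), Finset.sum_comm]
  refine Finset.sum_congr rfl fun χ _ => ?_
  rw [← Finset.mul_sum, h7_coef_eval]

theorem h7_sum_coef_centralChar [Fintype (ConjClasses G)] (c : Cfsg.IrrCharacter G → ℂ)
    (Ψ : G → ℂ) (hcl : ∀ g h : G, Ψ (h * g * h⁻¹) = Ψ g) :
    (∑ g : G, h7_coef c g * Ψ g) / Ψ 1 =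
      ∑ K : ConjClasses G, h7_coef c (Quotient.out K) *
        Cfsg.centralChar Ψ (Quotient.out K) := by
  have hcl' : ∀ g h : G, h7_coef c (h * g * h⁻¹) * Ψ (h * g * h⁻¹) / Ψ 1 =
      h7_coef c g * Ψ g / Ψ 1 := by
    intro g h
    rw [h7_coef_conj, hcl]
  rw [Finset.sum_div, h7_sum_eq_sum_conjClasses _ hcl']
  refine Finset.sum_congr rfl fun K _ => ?_
  unfold Cfsg.centralChar
  rw [nsmul_eq_mul]
  ring

theorem h7_induced_block_over {M : Ideal Cfsg.AlgInt} (hM : M.IsPrime) (H : Subgroup G)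
    [Fintype H] (χ₀ : Cfsg.IrrCharacter G) (ξ : Cfsg.IrrCharacter H)
    (hind : ∀ g : G, Cfsg.MemLocalIdeal M (Cfsg.inducedCentralChar H (ξ : H → ℂ) g -
      Cfsg.centralChar (χ₀ : G → ℂ) g)) :
    ∃ χ ∈ Cfsg.blockOf M (χ₀ : G → ℂ),
      Cfsg.classInner (fun h : H => (χ : G → ℂ) h) (ξ : H → ℂ) ≠ 0 := by
  classical
  haveI : Fintype (ConjClasses G) := Fintype.ofFinite _
  set B := Cfsg.blockOf M (χ₀ : G → ℂ) with hB
  set c : Cfsg.IrrCharacter G → ℂ := fun χ => if χ ∈ B then (1 : ℂ) else 0 with hc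
  have hcm : c ∈ h7_intSubring (G := G) M hM := h7_block_indicator_mem hM χ₀
  have h0 : χ₀ ∈ B := h7_sameBlock_refl hM _
  set Ψ := Cfsg.indFun H (ξ : H → ℂ) with hΨ
  have hcl : ∀ g h : G, Ψ (h * g * h⁻¹) = Ψ g := fun g h => h7_indFun_conj H _ g h
  by_contra hcon
  have hzero : ∀ χ ∈ B, Cfsg.classInner Ψ (χ : G → ℂ) = 0 := by
    intro χ hχ
    rw [hΨ, h7_frobenius_irr H (χ : G → ℂ) (h7_irr_isClassFunction χ.2)]
    have : Cfsg.classInner (fun h : H => (χ : G → ℂ) h) (ξ : H → ℂ) = 0 := by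
      by_contra hne
      exact hcon ⟨χ, hχ, hne⟩
    rw [this, map_zero]
  have h1 : ∑ g : G, h7_coef c g * Ψ g = 0 := by
    rw [h7_sum_coef_mul_classfun c Ψ hcl]
    apply Finset.sum_eq_zero
    intro χ _
    by_cases hχ : χ ∈ B
    · rw [hzero χ hχ, zero_mul]
    · simp only [hc, if_neg hχ, zero_mul, mul_zero]
  have h2 := h7_sum_coef_centralChar c Ψ hcl
  rw [h1, zero_div] at h2
  have h3 := h7_eval_expand c χ₀
  have hc0 : c χ₀ = 1 := by simp only [hc, if_pos h0]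
  rw [hc0] at h3
  apply h7_not_memLocalIdeal_one hM
  have e : (1 : ℂ) = -(∑ K : ConjClasses G, h7_coef c (Quotient.out K) *
        Cfsg.centralChar Ψ (Quotient.out K) -
      ∑ K : ConjClasses G, h7_coef c (Quotient.out K) *
        Cfsg.centralChar (χ₀ : G → ℂ) (Quotient.out K)) := by
    rw [← h2, ← h3]
    ring
  rw [e]
  apply h7_memLocalIdeal_neg
  rw [← Finset.sum_sub_distrib]
  apply h7_memLocalIdeal_sum hM
  intro K _
  rw [← mul_sub]
  apply h7_memLocalIdeal_mul_left hM (hcm _)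
  rw [hΨ, ← Cfsg.Agent.S0932.induced_eq]
  exact hind _

end

end Cfsg.Agent.Lib.helper7
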