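import Mathlib
import Cfsg.Prelude.Def_Blocks
import Cfsg.Agent.Lib.helper7.LocalIdeal

set_option autoImplicit false

namespace Cfsg.Agent.Lib.helper7

variable {M : Ideal Cfsg.AlgInt}

theorem h7_memLocalIdeal_mul_cases (hM : M.IsPrime) {z w : ℂ} (hz : Cfsg.MemLocalRing M z)
    (hw : Cfsg.MemLocalRing M w) (h : Cfsg.MemLocalIdeal M (z * w)) :
    Cfsg.MemLocalIdeal M z ∨ Cfsg.MemLocalIdeal M w := by
  obtain ⟨a, b, hb, rfl⟩ := hz
  obtain ⟨c, d, hd, rfl⟩ := hw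
  obtain ⟨e, f, he, hf, hef⟩ := h
  have hb0 := h7_coe_ne_zero_of_not_mem hb
  have hd0 := h7_coe_ne_zero_of_not_mem hd
  have hf0 := h7_coe_ne_zero_of_not_mem hf
  have h1 : (a : ℂ) * (c : ℂ) * (f : ℂ) = (e : ℂ) * (b : ℂ) * (d : ℂ) := by
    field_simp at hef
    linear_combination -hef
  have h2 : a * c * f = e * b * d := by
    apply Subtype.ext
    push_cast
    exact h1
  have h3 : a * c * f ∈ M := by
    rw [h2]
    exact M.mul_mem_right _ (M.mul_mem_right _ he)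
  rcases hM.mem_or_mem h3 with h4 | h4
  · rcases hM.mem_or_mem h4 with h5 | h5
    · exact Or.inl ⟨a, b, h5, hb, rfl⟩
    · exact Or.inr ⟨c, d, h5, hd, rfl⟩
  · exact absurd h4 hf

end Cfsg.Agent.Lib.helper7
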