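import Mathlib
import Cfsg.Prelude.Def_Blocks
import Cfsg.Agent.Lib.helper7.BlockInd
import Cfsg.Agent.Lib.helper7.BlockSing2
import Cfsg.Agent.Lib.helper7.BlockDefect
import Cfsg.Agent.Lib.helper7.BlockDefect2
import Cfsg.Agent.Lib.helper7.WordCount
import Cfsg.Agent.S0914

set_option autoImplicit false
set_option linter.style.haveILetI false
set_option linter.unusedSectionVars false
set_option linter.unusedVariables false

namespace Cfsg.Agent.Lib.helper7

open scoped ComplexConjugate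
open Cfsg.Agent.Lib.Helper25 Cfsg.Agent.Lib.Helper11 Cfsg.Agent.Lib.helper2

variable {G : Type*} [Group G]

theorem h7_memLocalIdeal_natCast_iff {p : ℕ} [hp : Fact p.Prime] {M : Ideal Cfsg.AlgInt}
    (hM : Cfsg.IsPModular p M) (n : ℕ) : Cfsg.MemLocalIdeal M (n : ℂ) ↔ p ∣ n := by
  have hP := hM.2.1.isPrime
  constructor
  · intro h
    by_contra hnd
    have hco : n.Coprime p := (Nat.Coprime.symm ((Nat.Prime.coprime_iff_not_dvd hp.out).mpr hnd))
    have h1 := h7_natCast_not_mem hM n hco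
    apply h1
    rw [← h7_memLocalIdeal_algInt_iff hP]
    simpa using h
  · rintro ⟨k, rfl⟩
    push_cast
    exact h7_memLocalIdeal_mul_right hP (h7_memLocalIdeal_p hM) (h7_memLocalRing_natCast hP k)

section

variable [Fintype G] [Fintype (Cfsg.IrrCharacter G)]

theorem h7_induced_rel {M : Ideal Cfsg.AlgInt} (hM : M.IsPrime) (Ψ : G → ℂ)
    (hcl : ∀ g h : G, Ψ (h * g * h⁻¹) = Ψ g) (χ ψ : Cfsg.IrrCharacter G)
    (hcong : ∀ g : G, Cfsg.MemLocalIdeal M (Cfsg.centralChar Ψ g - Cfsg.centralChar (χ : G → ℂ) g)) :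
    Cfsg.MemLocalIdeal M (Cfsg.classInner Ψ (ψ : G → ℂ) * (Nat.card G : ℂ) / Ψ 1 -
      (if χ = ψ then (Nat.card G : ℂ) / (χ : G → ℂ) 1 else 0)) := by
  classical
  haveI : Fintype (ConjClasses G) := Fintype.ofFinite _
  have hψ1 := irr_one_ne_zero ψ
  have hG : (Nat.card G : ℂ) ≠ 0 := by exact_mod_cast Nat.card_pos.ne'
  set c : Cfsg.IrrCharacter G → ℂ := fun φ => if φ = ψ then (Nat.card G : ℂ) / (ψ : G → ℂ) 1 else 0
    with hc
  have hcoef : ∀ g : G, h7_coef c g = conj ((ψ : G → ℂ) g) := by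
    intro g
    unfold h7_coef
    rw [Finset.sum_eq_single ψ]
    · simp only [hc, if_pos rfl]
      rw [Nat.card_eq_fintype_card] at hG ⊢
      field_simp
    · intro φ _ hφ
      simp only [hc, if_neg hφ, zero_mul]
    · intro h
      exact absurd (Finset.mem_univ _) h
  have h1 := h7_eval_expand c χ
  have h2 := h7_sum_coef_centralChar c Ψ hcl
  have h3 := h7_sum_coef_mul_classfun c Ψ hcl
  rw [Finset.sum_eq_single ψ] at h3
  rotate_left
  · intro φ _ hφ
    simp only [hc, if_neg hφ, zero_mul, mul_zero]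
  · intro h
    exact absurd (Finset.mem_univ _) h
  have h4 : Cfsg.classInner Ψ (ψ : G → ℂ) * (c ψ * (ψ : G → ℂ) 1) =
      Cfsg.classInner Ψ (ψ : G → ℂ) * (Nat.card G : ℂ) := by
    simp only [hc, if_pos rfl]
    field_simp
  rw [h4] at h3
  have h5 : c χ = if χ = ψ then (Nat.card G : ℂ) / (χ : G → ℂ) 1 else 0 := by
    simp only [hc]
    by_cases h : χ = ψ
    · rw [if_pos h, if_pos h, h]
    · rw [if_neg h, if_neg h]
  rw [← h5, ← h3, h2, h1, ← Finset.sum_sub_distrib]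
  apply h7_memLocalIdeal_sum hM
  intro K _
  rw [← mul_sub]
  apply h7_memLocalIdeal_mul_left hM _ (hcong _)
  rw [hcoef]
  exact h7_memLocalRing_of_isIntegral hM
    (map_isIntegral_int (starRingEnd ℂ) (Cfsg.Agent.Lib.helper2.irr_integral ψ _))

theorem h7_defect_zero_vanish {p : ℕ} [hp : Fact p.Prime] {M : Ideal Cfsg.AlgInt}
    (hM : Cfsg.IsPModular p M) (ξ : Cfsg.IrrCharacter G)
    (h : ¬ p ∣ Nat.card G / Cfsg.charDegree (ξ : G → ℂ)) (y : G) (hy : p ∣ orderOf y) :
    (ξ : G → ℂ) y = 0 := by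
  have h1 := Cfsg.Agent.S0914.forward p M hM ξ h
  have h2 := h7_blockCoeff_psingular hM ξ y hy
  rw [h1, Cfsg.Agent.S0914.blockCoeff_singleton] at h2
  have hG : (Nat.card G : ℂ)⁻¹ ≠ 0 := inv_ne_zero (by exact_mod_cast Nat.card_pos.ne')
  have h3 := (mul_eq_zero.mp ((mul_eq_zero.mp h2).resolve_left hG)).resolve_left
    (irr_one_ne_zero ξ)
  have := congrArg (starRingEnd ℂ) h3
  rwa [Complex.conj_conj, map_zero] at this

theorem h7_pow_dvd_of_vanish (p : ℕ) [hp : Fact p.Prime] (Θ : G → ℂ)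
    (hΘ : Cfsg.IsCharacter G Θ) (hvan : ∀ y : G, p ∣ orderOf y → Θ y = 0) (n : ℕ)
    (hn : Θ 1 = (n : ℂ)) : p ^ (Nat.card G).factorization p ∣ n := by
  classical
  obtain P : Sylow p G := default
  have h1 : ¬ p ∣ orderOf (1 : G) := by
    rw [orderOf_one]
    exact hp.out.one_lt.ne' ∘ Nat.dvd_one.mp
  obtain ⟨α, hα, hval⟩ := h7_char_dvd_of_vanish p Θ hΘ hvan 1 h1 (P : Subgroup G) P.isPGroup'
    (fun u _ => Commute.one_right u)
  have hPc : Nat.card (P : Subgroup G) = p ^ (Nat.card G).factorization p :=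
    Sylow.card_eq_multiplicity P
  rw [hn] at hval
  have hP0 : (Nat.card (P : Subgroup G) : ℂ) ≠ 0 := by exact_mod_cast Nat.card_pos.ne'
  have hα' : α = (n : ℂ) / (Nat.card (P : Subgroup G) : ℂ) := by
    rw [hval]
    field_simp
  rw [hα'] at hα
  have := nat_dvd_of_isIntegral_div n _ Nat.card_pos.ne' hα
  rwa [hPc] at this

end

theorem h7_indFun_vanish_psingular [Fintype G] (p : ℕ) (H : Subgroup G) (ξ : H → ℂ)
    (hξ : ∀ h : H, p ∣ orderOf h → ξ h = 0) (y : G) (hy : p ∣ orderOf y) :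
    Cfsg.indFun H ξ y = 0 := by
  classical
  haveI : Fintype H := Fintype.ofFinite _
  rw [h7_indFun_eq_class_sum]
  have : ∑ h : H, (if IsConj y (h : G) then ξ h else 0) = 0 := by
    apply Finset.sum_eq_zero
    intro h _
    split_ifs with hc
    · apply hξ
      rw [← Subgroup.orderOf_coe, ← h7_isConj_orderOf hc]
      exact hy
    · rfl
  rw [this, mul_zero, mul_zero]

end Cfsg.Agent.Lib.helper7
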