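import Mathlib
import Cfsg.Prelude.Def_Blocks
import Cfsg.Agent.Lib.helper7.BlockSing2

set_option autoImplicit false
set_option linter.style.haveILetI false
set_option linter.unusedSectionVars false
set_option linter.unusedVariables false

namespace Cfsg.Agent.Lib.helper7

open scoped ComplexConjugate
open Cfsg.Agent.Lib.Helper25 Cfsg.Agent.Lib.Helper11

variable {G : Type*} [Group G]

theorem h7_pregular_mem_of_index_pow [Finite G] (p : ℕ) [hp : Fact p.Prime] (N : Subgroup G)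
    [hN : N.Normal] (hidx : ∃ k : ℕ, N.index = p ^ k) (g : G) (hg : ¬ p ∣ orderOf g) : g ∈ N := by
  obtain ⟨k, hk⟩ := hidx
  have h1 : orderOf (QuotientGroup.mk g : G ⧸ N) ∣ orderOf g :=
    orderOf_map_dvd (QuotientGroup.mk' N) g
  have h2 : orderOf (QuotientGroup.mk g : G ⧸ N) ∣ p ^ k := by
    rw [← hk, Subgroup.index_eq_card]
    exact orderOf_dvd_natCard _
  obtain ⟨j, _, hj⟩ := (Nat.dvd_prime_pow hp.out).mp h2
  have hj0 : j = 0 := by
    by_contra hne
    apply hg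
    refine dvd_trans ?_ h1
    rw [hj]
    exact dvd_pow_self p hne
  rw [hj0, pow_zero, orderOf_eq_one_iff] at hj
  exact (QuotientGroup.eq_one_iff g).mp hj

section

variable [Fintype G] (N : Subgroup G) [hN : N.Normal] [Fintype N]
  [Fintype (Cfsg.IrrCharacter G)]

open Classical in
theorem h7_eval_of_support (c : Cfsg.IrrCharacter G → ℂ)
    (hsupp : ∀ g : G, g ∉ N → h7_coef c g = 0) (θ : Cfsg.IrrCharacter N)
    (φ : Cfsg.IrrCharacter G)
    (hφ : Cfsg.classInner (fun n : N => (φ : G → ℂ) n) (θ : N → ℂ) ≠ 0) :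
    ∃ e : ℕ, 0 < e ∧ c φ * (φ : G → ℂ) 1 =
      (e : ℂ) * (((Finset.univ.image (fun g : G => cj N (θ : N → ℂ) g)).card : ℂ) *
        ∑ n : N, h7_coef c n * (θ : N → ℂ) n) := by
  classical
  obtain ⟨e, he, -, hres⟩ := h7_clifford N (φ : G → ℂ) φ.2 (θ : N → ℂ) θ.2 hφ
  refine ⟨e, he, ?_⟩
  rw [← h7_coef_eval c φ]
  have h1 : ∑ g : G, h7_coef c g * (φ : G → ℂ) g =
      ∑ g : G, (if g ∈ N then h7_coef c g * (φ : G → ℂ) g else 0) := by
    refine Finset.sum_congr rfl fun g _ => ?_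
    by_cases hg : g ∈ N
    · rw [if_pos hg]
    · rw [if_neg hg, hsupp g hg, zero_mul]
  rw [h1, h7_sum_subgroup N (fun g => h7_coef c g * (φ : G → ℂ) g)]
  have h2 : ∀ n : N, (φ : G → ℂ) n =
      (e : ℂ) * ∑ ψ ∈ Finset.univ.image (fun g : G => cj N (θ : N → ℂ) g), ψ n := by
    intro n
    have := congrFun hres n
    simpa [Finset.sum_apply] using this
  have h3 : ∀ n : N, h7_coef c n * (φ : G → ℂ) n =
      ∑ ψ ∈ Finset.univ.image (fun g : G => cj N (θ : N → ℂ) g),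
        (e : ℂ) * (h7_coef c n * ψ n) := by
    intro n
    rw [h2 n, Finset.mul_sum, Finset.mul_sum]
    refine Finset.sum_congr rfl fun ψ _ => ?_
    ring
  rw [Finset.sum_congr rfl (fun n _ => h3 n), Finset.sum_comm]
  have h4 : ∀ ψ ∈ Finset.univ.image (fun g : G => cj N (θ : N → ℂ) g),
      ∑ n : N, (e : ℂ) * (h7_coef c n * ψ n) =
        (e : ℂ) * ∑ n : N, h7_coef c n * (θ : N → ℂ) n := by
    intro ψ hψ
    obtain ⟨g, -, rfl⟩ := Finset.mem_image.mp hψ
    rw [← Finset.mul_sum]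
    congr 1
    rw [← Equiv.sum_comp (MulAut.conjNormal g : N ≃* N).toEquiv
      (fun n : N => h7_coef c n * (θ : N → ℂ) n)]
    refine Finset.sum_congr rfl fun n _ => ?_
    have e1 : (((MulAut.conjNormal g : N ≃* N).toEquiv n : N) : G) = g * n * g⁻¹ := by
      simp [MulAut.conjNormal_apply]
    rw [e1, h7_coef_conj, cj_apply]
    congr 2
  rw [Finset.sum_congr rfl h4, Finset.sum_const, nsmul_eq_mul]
  ring

theorem h7_mem_block_of_common {M : Ideal Cfsg.AlgInt} (hM : M.IsPrime)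
    (χ ψ : Cfsg.IrrCharacter G)
    (hsupp : ∀ g : G, g ∉ N → Cfsg.blockCoeff (Cfsg.blockOf M (χ : G → ℂ)) g = 0)
    (θ : Cfsg.IrrCharacter N)
    (hχ : Cfsg.classInner (fun n : N => (χ : G → ℂ) n) (θ : N → ℂ) ≠ 0)
    (hψ : Cfsg.classInner (fun n : N => (ψ : G → ℂ) n) (θ : N → ℂ) ≠ 0) :
    ψ ∈ Cfsg.blockOf M (χ : G → ℂ) := by
  classical
  set B := Cfsg.blockOf M (χ : G → ℂ) with hB
  set c : Cfsg.IrrCharacter G → ℂ := fun φ => if φ ∈ B then (1 : ℂ) else 0 with hc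
  have hsupp' : ∀ g : G, g ∉ N → h7_coef c g = 0 := by
    intro g hg
    rw [h7_coef_indicator]
    exact hsupp g hg
  obtain ⟨e₁, he₁, h1⟩ := h7_eval_of_support N c hsupp' θ χ hχ
  obtain ⟨e₂, he₂, h2⟩ := h7_eval_of_support N c hsupp' θ ψ hψ
  have hχB : χ ∈ B := h7_sameBlock_refl hM _
  have hcχ : c χ = 1 := by simp only [hc, if_pos hχB]
  rw [hcχ, one_mul] at h1
  set σ := ∑ n : N, h7_coef c n * (θ : N → ℂ) n with hσ
  set k := (Finset.univ.image (fun g : G => cj N (θ : N → ℂ) g)).card with hk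
  have hχ1 := irr_one_ne_zero χ
  have hψ1 := irr_one_ne_zero ψ
  have hkσ : (k : ℂ) * σ ≠ 0 := by
    intro h0
    rw [h0, mul_zero] at h1
    exact hχ1 h1
  by_contra hψB
  have hcψ : c ψ = 0 := by simp only [hc, if_neg hψB]
  rw [hcψ, zero_mul] at h2
  have he₂' : (e₂ : ℂ) ≠ 0 := by exact_mod_cast he₂.ne'
  exact (mul_ne_zero he₂' hkσ) h2.symm

end

end Cfsg.Agent.Lib.helper7
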