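import Mathlib
import Cfsg.Prelude.Def_Blocks
import Cfsg.Agent.Lib.helper7.BlockSing2
import Cfsg.Agent.Lib.helper7.BlockInd2
import Cfsg.Agent.Lib.Helper25.Gagola
import Cfsg.Agent.Lib.Helper25.CharQuot
import Cfsg.Agent.S0939

set_option autoImplicit false
set_option linter.style.haveILetI false
set_option linter.unusedSectionVars false
set_option linter.unusedVariables false

namespace Cfsg.Agent.Lib.helper7

open scoped ComplexConjugate
open Cfsg.Agent.Lib.Helper25 Cfsg.Agent.Lib.Helper11 Cfsg.Agent.Lib.helper2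

variable {G : Type*} [Group G]

theorem h7_relIndex_dvd [Finite G] (p : ℕ) [hp : Fact p.Prime] (P : Subgroup G) [hPn : P.Normal]
    (hP : IsPGroup p P) (C H : Subgroup G) (hPH : P ≤ H) (hnot : ¬ P ≤ C) :
    p ∣ C.relIndex H := by
  classical
  have hPH' : IsPGroup p (P.subgroupOf H) := hP.comap_subtype
  have hmod := hPH'.card_modEq_card_fixedPoints (H ⧸ C.subgroupOf H)
  have hempty : IsEmpty (MulAction.fixedPoints (P.subgroupOf H) (H ⧸ C.subgroupOf H)) := by
    constructor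
    rintro ⟨q, hq⟩
    apply hnot
    induction q using QuotientGroup.induction_on with
    | H x =>
      intro u₀ hu₀
      have hmem : (x : G) * u₀ * (x : G)⁻¹ ∈ P := hPn.conj_mem u₀ hu₀ x
      have hmemH : (x : G) * u₀ * (x : G)⁻¹ ∈ H := hPH hmem
      have h1 := hq ⟨⟨(x : G) * u₀ * (x : G)⁻¹, hmemH⟩, by
        rw [Subgroup.mem_subgroupOf]
        exact hmem⟩
      have h2 : (⟨(x : G) * u₀ * (x : G)⁻¹, hmemH⟩ : H) • (QuotientGroup.mk x : H ⧸ C.subgroupOf H) =
          QuotientGroup.mk x := h1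
      rw [MulAction.Quotient.smul_mk, QuotientGroup.eq, Subgroup.mem_subgroupOf] at h2
      have h3 : (((⟨(x : G) * u₀ * (x : G)⁻¹, hmemH⟩ : H) • x)⁻¹ * x : H) =
          ⟨u₀⁻¹, H.inv_mem (hPH hu₀)⟩ := by
        apply Subtype.ext
        simp only [smul_eq_mul, Subgroup.coe_mul, Subgroup.coe_inv]
        group
      rw [h3] at h2
      have := C.inv_mem h2
      simpa using this
  have hcard : Nat.card (MulAction.fixedPoints (P.subgroupOf H) (H ⧸ C.subgroupOf H)) = 0 := by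
    rw [Nat.card_eq_zero]
    exact Or.inl hempty
  rw [hcard] at hmod
  exact (Nat.modEq_zero_iff_dvd.mp hmod)

theorem h7_centralChar_inflate [Finite G] (N : Subgroup G) [hN : N.Normal] (ψ : G ⧸ N → ℂ)
    (g : G) :
    Cfsg.centralChar (fun x : G => ψ (QuotientGroup.mk x)) g =
      (((Subgroup.centralizer ({g} : Set G)).relIndex
        ((Subgroup.centralizer ({(QuotientGroup.mk g : G ⧸ N)} : Set (G ⧸ N))).comap
          (QuotientGroup.mk' N)) : ℕ) : ℂ) *
        Cfsg.centralChar ψ (QuotientGroup.mk g) := by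
  unfold Cfsg.centralChar
  have hle : Subgroup.centralizer ({g} : Set G) ≤
      (Subgroup.centralizer ({(QuotientGroup.mk g : G ⧸ N)} : Set (G ⧸ N))).comap
        (QuotientGroup.mk' N) := by
    intro x hx
    rw [Subgroup.mem_comap, Subgroup.mem_centralizer_singleton_iff]
    rw [Subgroup.mem_centralizer_singleton_iff] at hx
    show (QuotientGroup.mk x : G ⧸ N) * QuotientGroup.mk g = QuotientGroup.mk g * QuotientGroup.mk x
    rw [← QuotientGroup.mk_mul, ← QuotientGroup.mk_mul, hx]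
  have h1 := Subgroup.relIndex_mul_index hle
  rw [Subgroup.index_comap_of_surjective _ (QuotientGroup.mk'_surjective N)] at h1
  rw [← h1]
  push_cast
  have : (QuotientGroup.mk (1 : G) : G ⧸ N) = 1 := rfl
  rw [this]
  ring

theorem h7_deflate [Finite G] (N : Subgroup G) [hN : N.Normal] (ψ : Cfsg.IrrCharacter G)
    (h : ∀ n ∈ N, (ψ : G → ℂ) n = (ψ : G → ℂ) 1) :
    ∃ φ : Cfsg.IrrCharacter (G ⧸ N), ∀ g : G, (φ : G ⧸ N → ℂ) (QuotientGroup.mk g) =
      (ψ : G → ℂ) g := by
  have hspec := Classical.choose_spec (Classical.choose_spec ψ.2)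
  set ρ := Classical.choose (Classical.choose_spec ψ.2) with hρ
  haveI := hspec.1
  have hle : N ≤ ρ.ker := by
    intro n hn
    have : n ∈ irrKer ψ := (mem_irrKer ψ n).2 (h n hn)
    exact this
  haveI := quotient_irreducible ρ N hle
  refine ⟨⟨Representation.character (QuotientGroup.lift N ρ hle : Representation ℂ (G ⧸ N) _),
    isIrrCharacter_of_irreducible (QuotientGroup.lift N ρ hle : Representation ℂ (G ⧸ N) _)⟩, ?_⟩
  intro g
  have h1 := congrFun hspec.2 g
  rw [← h1]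
  rfl

theorem h7_sum_normal_zero [Fintype G] (N : Subgroup G) [hN : N.Normal] [Fintype N]
    (ψ : Cfsg.IrrCharacter G) (h : ¬ ∀ n ∈ N, (ψ : G → ℂ) n = (ψ : G → ℂ) 1) :
    ∑ n : N, (ψ : G → ℂ) n = 0 := by
  have h1 := (Cfsg.Agent.S0939.triv_constituent_iff N ψ).not.2 h
  rw [not_not] at h1
  unfold Cfsg.classInner at h1
  have hN0 : (Nat.card N : ℂ)⁻¹ ≠ 0 := inv_ne_zero (by exact_mod_cast Nat.card_pos.ne')
  have h2 := (mul_eq_zero.mp h1).resolve_left hN0
  rw [← h2]
  refine Finset.sum_congr rfl fun n _ => ?_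
  rw [trivIrr_apply, map_one, mul_one]

theorem h7_dominance [Fintype G] [Fintype (Cfsg.IrrCharacter G)] {p : ℕ} [hp : Fact p.Prime]
    {M : Ideal Cfsg.AlgInt} (hM : Cfsg.IsPModular p M) (P : Subgroup G) [hPn : P.Normal]
    (hP : IsPGroup p P) (χ₀ : Cfsg.IrrCharacter G) :
    ∃ ψ ∈ Cfsg.blockOf M (χ₀ : G → ℂ), ∀ u ∈ P, (ψ : G → ℂ) u = (ψ : G → ℂ) 1 := by
  classical
  haveI : Fintype P := Fintype.ofFinite _
  have hPr := hM.2.1.isPrime
  by_contra hcon
  push Not at hcon
  have hzero : ∀ ψ ∈ Cfsg.blockOf M (χ₀ : G → ℂ), ∑ u : P, (ψ : G → ℂ) u = 0 := by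
    intro ψ hψ
    apply h7_sum_normal_zero P ψ
    intro hall
    obtain ⟨u, hu, hne⟩ := hcon ψ hψ
    exact hne (hall u hu)
  have hsum : ∑ u : P, Cfsg.blockCoeff (Cfsg.blockOf M (χ₀ : G → ℂ)) (u : G) = 0 := by
    unfold Cfsg.blockCoeff
    rw [← Finset.mul_sum]
    simp only [finsum_mem_def]
    simp only [finsum_eq_sum_of_fintype]
    rw [Finset.sum_comm]
    have : ∀ χ : Cfsg.IrrCharacter G, ∑ u : P, (Cfsg.blockOf M (χ₀ : G → ℂ)).indicator
        (fun χ : Cfsg.IrrCharacter G => (χ : G → ℂ) 1 * conj ((χ : G → ℂ) (u : G))) χ = 0 := by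
      intro χ
      by_cases hχ : χ ∈ Cfsg.blockOf M (χ₀ : G → ℂ)
      · simp only [Set.indicator_of_mem hχ]
        rw [← Finset.mul_sum, ← map_sum, hzero χ hχ, map_zero, mul_zero]
      · simp only [Set.indicator_of_notMem hχ]
        exact Finset.sum_const_zero
    rw [Finset.sum_congr rfl (fun χ _ => this χ), Finset.sum_const_zero, mul_zero]
  have hsingle : ∑ u : P, Cfsg.blockCoeff (Cfsg.blockOf M (χ₀ : G → ℂ)) (u : G) =
      Cfsg.blockCoeff (Cfsg.blockOf M (χ₀ : G → ℂ)) 1 := by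
    rw [Finset.sum_eq_single (1 : P)]
    · rfl
    · intro u _ hu
      apply h7_blockCoeff_psingular hM χ₀
      obtain ⟨k, hk⟩ := (IsPGroup.iff_orderOf.mp hP) u
      rw [← Subgroup.orderOf_coe] at hk
      rw [hk]
      have hk0 : k ≠ 0 := by
        rintro rfl
        rw [pow_zero, orderOf_eq_one_iff] at hk
        apply hu
        exact Subtype.ext hk
      exact dvd_pow_self p hk0
    · intro h
      exact absurd (Finset.mem_univ _) h
  rw [hsingle] at hsum
  unfold Cfsg.blockCoeff at hsum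
  have hG : (Nat.card G : ℂ)⁻¹ ≠ 0 := inv_ne_zero (by exact_mod_cast Nat.card_pos.ne')
  have h2 := (mul_eq_zero.mp hsum).resolve_left hG
  rw [finsum_mem_def, finsum_eq_sum_of_fintype] at h2
  have h3 := congrArg Complex.re h2
  rw [Complex.re_sum, Complex.zero_re] at h3
  have hnn : ∀ ψ ∈ (Finset.univ : Finset (Cfsg.IrrCharacter G)),
      0 ≤ ((Cfsg.blockOf M (χ₀ : G → ℂ)).indicator
        (fun χ : Cfsg.IrrCharacter G => (χ : G → ℂ) 1 * conj ((χ : G → ℂ) 1)) ψ).re := by
    intro ψ _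
    rw [Set.indicator_apply]
    split_ifs with hψ
    · rw [Complex.mul_conj]
      simp only [Complex.ofReal_re]
      exact Complex.normSq_nonneg _
    · simp
  have h4 := (Finset.sum_eq_zero_iff_of_nonneg hnn).1 h3 χ₀ (Finset.mem_univ _)
  have hχ₀ : χ₀ ∈ Cfsg.blockOf M (χ₀ : G → ℂ) := h7_sameBlock_refl hPr _
  rw [Set.indicator_apply, if_pos hχ₀, Complex.mul_conj] at h4
  simp only [Complex.ofReal_re] at h4
  exact irr_one_ne_zero χ₀ (Complex.normSq_eq_zero.1 h4)

theorem h7_centralChar_mem_of_not_centralize [Fintype G] [Fintype (Cfsg.IrrCharacter G)] {p : ℕ}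
    [hp : Fact p.Prime] {M : Ideal Cfsg.AlgInt} (hM : Cfsg.IsPModular p M) (P : Subgroup G)
    [hPn : P.Normal] (hP : IsPGroup p P) (χ : Cfsg.IrrCharacter G) (g : G)
    (hg : ¬ P ≤ Subgroup.centralizer ({g} : Set G)) :
    Cfsg.MemLocalIdeal M (Cfsg.centralChar (χ : G → ℂ) g) := by
  have hPr := hM.2.1.isPrime
  obtain ⟨ψ, hψ, hker⟩ := h7_dominance hM P hP χ
  obtain ⟨φ, hφ⟩ := h7_deflate P ψ hker
  have h1 : (ψ : G → ℂ) = fun x : G => (φ : G ⧸ P → ℂ) (QuotientGroup.mk x) := by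
    funext x
    exact (hφ x).symm
  have hPH : P ≤ (Subgroup.centralizer ({(QuotientGroup.mk g : G ⧸ P)} : Set (G ⧸ P))).comap
      (QuotientGroup.mk' P) := by
    intro u hu
    rw [Subgroup.mem_comap]
    have : QuotientGroup.mk' P u = 1 := (QuotientGroup.eq_one_iff u).mpr hu
    rw [this]
    exact Subgroup.one_mem _
  have h2 : Cfsg.MemLocalIdeal M (Cfsg.centralChar (ψ : G → ℂ) g) := by
    rw [h1, h7_centralChar_inflate P (φ : G ⧸ P → ℂ) g]
    apply h7_memLocalIdeal_mul_right hPr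
    · exact (h7_memLocalIdeal_natCast_iff hM _).2 (h7_relIndex_dvd p P hP _ _ hPH hg)
    · exact h7_memLocalRing_centralChar hPr φ _
  have h3 := hψ g
  have := h7_memLocalIdeal_add hPr h3 h2
  rwa [sub_add_cancel] at this

end Cfsg.Agent.Lib.helper7
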