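import Mathlib
import Cfsg.Prelude.Def_Blocks
import Cfsg.Agent.Lib.helper7.BlockQuot
import Cfsg.Agent.Lib.helper7.BlockCover2

set_option autoImplicit false
set_option linter.style.haveILetI false
set_option linter.unusedSectionVars false
set_option linter.unusedVariables false

namespace Cfsg.Agent.Lib.helper7

open scoped ComplexConjugate
open Cfsg.Agent.Lib.Helper25 Cfsg.Agent.Lib.Helper11 Cfsg.Agent.Lib.helper2

variable {G : Type*} [Group G]

theorem h7_conj_mem_centralizer_of_normalizer (P : Subgroup G) (b a : G)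
    (hb : b ∈ Subgroup.normalizer (P : Set G)) :
    b * a * b⁻¹ ∈ Subgroup.centralizer (P : Set G) ↔ a ∈ Subgroup.centralizer (P : Set G) := by
  constructor
  · intro h
    rw [Subgroup.mem_centralizer_iff] at h ⊢
    intro u hu
    have hu' : b * u * b⁻¹ ∈ P := (Subgroup.mem_normalizer_iff.mp hb u).mp hu
    have := h (b * u * b⁻¹) hu'
    have e : b⁻¹ * (b * u * b⁻¹ * (b * a * b⁻¹)) * b = u * a := by group
    have e' : b⁻¹ * (b * a * b⁻¹ * (b * u * b⁻¹)) * b = a * u := by group
    rw [← e, ← e', this]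
  · intro h
    rw [Subgroup.mem_centralizer_iff] at h ⊢
    intro u hu
    have hu' : b⁻¹ * u * b⁻¹⁻¹ ∈ P :=
      (Subgroup.mem_normalizer_iff.mp (Subgroup.inv_mem _ hb) u).mp hu
    have := h (b⁻¹ * u * b⁻¹⁻¹) hu'
    have e : b * (b⁻¹ * u * b⁻¹⁻¹ * a) * b⁻¹ = u * (b * a * b⁻¹) := by group
    have e' : b * (a * (b⁻¹ * u * b⁻¹⁻¹)) * b⁻¹ = b * a * b⁻¹ * u := by group
    rw [← e, ← e', this]

section

variable [Fintype G]

theorem h7_bcc_expand (P H : Subgroup G) [Fintype H] [Fintype (ConjClasses H)]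
    (hHN : H ≤ Subgroup.normalizer (P : Set G)) (ξ : Cfsg.IrrCharacter H) (g : G)
    [DecidablePred (fun h : H => IsConj g (h : G) ∧ (h : G) ∈ Subgroup.centralizer (P : Set G))] :
    Cfsg.brauerCentralChar P H (ξ : H → ℂ) g = ∑ L : ConjClasses H,
      (if IsConj g ((Quotient.out L : H) : G) ∧
          ((Quotient.out L : H) : G) ∈ Subgroup.centralizer (P : Set G) then (1 : ℂ) else 0) *
        Cfsg.centralChar (ξ : H → ℂ) (Quotient.out L) := by
  classical
  unfold Cfsg.brauerCentralChar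
  rw [h7_finsum_mem_fintype]
  change ∑ a : H, (if IsConj g (a : G) ∧ (a : G) ∈ Subgroup.centralizer (P : Set G) then
    (ξ : H → ℂ) a / (ξ : H → ℂ) 1 else 0) = _
  have hcl : ∀ a b : H, (if IsConj g ((b * a * b⁻¹ : H) : G) ∧
      ((b * a * b⁻¹ : H) : G) ∈ Subgroup.centralizer (P : Set G) then
      (ξ : H → ℂ) (b * a * b⁻¹) / (ξ : H → ℂ) 1 else 0) =
      (if IsConj g (a : G) ∧ (a : G) ∈ Subgroup.centralizer (P : Set G) then
        (ξ : H → ℂ) a / (ξ : H → ℂ) 1 else 0) := by
    intro a b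
    have h1 : IsConj g ((b * a * b⁻¹ : H) : G) ↔ IsConj g (a : G) := by
      have hc : IsConj (a : G) ((b * a * b⁻¹ : H) : G) := by
        rw [isConj_iff]
        exact ⟨(b : G), by simp⟩
      exact ⟨fun h => h.trans hc.symm, fun h => h.trans hc⟩
    have h2 : ((b * a * b⁻¹ : H) : G) ∈ Subgroup.centralizer (P : Set G) ↔
        (a : G) ∈ Subgroup.centralizer (P : Set G) := by
      have := h7_conj_mem_centralizer_of_normalizer P (b : G) (a : G) (hHN b.2)
      simpa using this
    rw [irr_conj_invariant]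
    by_cases h : IsConj g (a : G) ∧ (a : G) ∈ Subgroup.centralizer (P : Set G)
    · rw [if_pos h, if_pos ⟨h1.mpr h.1, h2.mpr h.2⟩]
    · rw [if_neg h, if_neg (fun h' => h ⟨h1.mp h'.1, h2.mp h'.2⟩)]
  rw [h7_sum_eq_sum_conjClasses _ hcl]
  refine Finset.sum_congr rfl fun L _ => ?_
  unfold Cfsg.centralChar
  rw [nsmul_eq_mul]
  split_ifs
  · ring
  · simp

theorem h7_icc_expand' (H : Subgroup G) [Fintype H] [Fintype (ConjClasses H)]
    (θ : Cfsg.IrrCharacter H) (g : G)
    [DecidablePred (fun h : H => IsConj g (h : G))] :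
    Cfsg.inducedCentralChar H (θ : H → ℂ) g = ∑ L : ConjClasses H,
      (if IsConj g ((Quotient.out L : H) : G) then (1 : ℂ) else 0) *
        Cfsg.centralChar (θ : H → ℂ) (Quotient.out L) := by
  classical
  unfold Cfsg.inducedCentralChar
  rw [h7_finsum_mem_fintype]
  change ∑ a : H, (if IsConj g (a : G) then (θ : H → ℂ) a / (θ : H → ℂ) 1 else 0) = _
  have hcl : ∀ a b : H, (if IsConj g ((b * a * b⁻¹ : H) : G) then
      (θ : H → ℂ) (b * a * b⁻¹) / (θ : H → ℂ) 1 else 0) =
      (if IsConj g (a : G) then (θ : H → ℂ) a / (θ : H → ℂ) 1 else 0) := by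
    intro a b
    have h1 : IsConj g ((b * a * b⁻¹ : H) : G) ↔ IsConj g (a : G) := by
      have hc : IsConj (a : G) ((b * a * b⁻¹ : H) : G) := by
        rw [isConj_iff]
        exact ⟨(b : G), by simp⟩
      exact ⟨fun h => h.trans hc.symm, fun h => h.trans hc⟩
    rw [irr_conj_invariant]
    by_cases h : IsConj g (a : G)
    · rw [if_pos h, if_pos (h1.mpr h)]
    · rw [if_neg h, if_neg (fun h' => h (h1.mp h'))]
  rw [h7_sum_eq_sum_conjClasses _ hcl]
  refine Finset.sum_congr rfl fun L _ => ?_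
  unfold Cfsg.centralChar
  rw [nsmul_eq_mul]
  split_ifs
  · ring
  · simp

theorem h7_icc_sub_bcc {p : ℕ} [hp : Fact p.Prime] {M : Ideal Cfsg.AlgInt}
    (hM : Cfsg.IsPModular p M) (P H : Subgroup G) (hP : IsPGroup p P) (hPH : P ≤ H)
    (hHN : H ≤ Subgroup.normalizer (P : Set G)) (ξ : Cfsg.IrrCharacter H) (g : G) :
    Cfsg.MemLocalIdeal M (Cfsg.inducedCentralChar H (ξ : H → ℂ) g -
      Cfsg.brauerCentralChar P H (ξ : H → ℂ) g) := by
  classical
  haveI : Fintype H := Fintype.ofFinite _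
  haveI : Fintype (ConjClasses H) := Fintype.ofFinite _
  haveI : Fintype (Cfsg.IrrCharacter H) := Fintype.ofFinite _
  have hPr := hM.2.1.isPrime
  rw [h7_icc_expand' H ξ g, h7_bcc_expand P H hHN ξ g, ← Finset.sum_sub_distrib]
  apply h7_memLocalIdeal_sum hPr
  intro L _
  rw [← sub_mul]
  by_cases hc : ((Quotient.out L : H) : G) ∈ Subgroup.centralizer (P : Set G)
  · have : (if IsConj g ((Quotient.out L : H) : G) then (1 : ℂ) else 0) -
        (if IsConj g ((Quotient.out L : H) : G) ∧
          ((Quotient.out L : H) : G) ∈ Subgroup.centralizer (P : Set G) then (1 : ℂ) else 0) = 0 := by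
      by_cases h1 : IsConj g ((Quotient.out L : H) : G)
      · rw [if_pos h1, if_pos ⟨h1, hc⟩, sub_self]
      · rw [if_neg h1, if_neg (fun h' => h1 h'.1), sub_self]
    rw [this, zero_mul]
    exact h7_memLocalIdeal_zero hPr
  · apply h7_memLocalIdeal_mul_left hPr
    · apply h7_memLocalRing_sub hPr
      · split_ifs
        · exact h7_memLocalRing_one hPr
        · exact h7_memLocalRing_zero hPr
      · split_ifs
        · exact h7_memLocalRing_one hPr
        · exact h7_memLocalRing_zero hPr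
    · haveI : (P.subgroupOf H).Normal := by
        exact Subgroup.normal_subgroupOf_of_le_normalizer hHN
      apply h7_centralChar_mem_of_not_centralize hM (P.subgroupOf H) hP.comap_subtype ξ
      intro hle
      apply hc
      rw [Subgroup.mem_centralizer_iff]
      intro u hu
      have h1 : (⟨u, hPH hu⟩ : H) ∈ Subgroup.centralizer ({Quotient.out L} : Set H) :=
        hle (Subgroup.mem_subgroupOf.mpr hu)
      rw [Subgroup.mem_centralizer_singleton_iff] at h1
      have := congrArg Subtype.val h1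
      simpa using this

end

end Cfsg.Agent.Lib.helper7
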