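import Mathlib
import Cfsg.Prelude.Def_Blocks
import Cfsg.Agent.Lib.helper7.BlockCover
import Cfsg.Agent.Lib.helper7.BlockDefect2

set_option autoImplicit false
set_option linter.style.haveILetI false
set_option linter.unusedSectionVars false
set_option linter.unusedVariables false

namespace Cfsg.Agent.Lib.helper7

open Polynomial

theorem h7_intCast_not_mem {p : ℕ} [hp : Fact p.Prime] {M : Ideal Cfsg.AlgInt}
    (hM : Cfsg.IsPModular p M) (n : ℤ) (h : ¬ (p : ℤ) ∣ n) : (n : Cfsg.AlgInt) ∉ M := by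
  intro hn
  have hc : IsCoprime n (p : ℤ) := by
    have h1 : IsCoprime (p : ℤ) n :=
      (Prime.coprime_iff_not_dvd (Nat.prime_iff_prime_int.mp hp.out)).mpr h
    exact h1.symm
  obtain ⟨a, b, hab⟩ := hc
  have h1 : ((a * n + b * p : ℤ) : Cfsg.AlgInt) = 1 := by
    rw [hab]
    simp
  apply h7_one_not_mem hM.2.1.isPrime
  rw [← h1]
  push_cast
  exact M.add_mem (M.mul_mem_left _ hn) (M.mul_mem_left _ hM.2.2)

theorem h7_pow_mem_p {p : ℕ} [hp : Fact p.Prime] {M : Ideal Cfsg.AlgInt}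
    (hM : Cfsg.IsPModular p M) (a : Cfsg.AlgInt) (ha : a ∈ M) :
    ∃ n : ℕ, ∃ c d : Cfsg.AlgInt, d ∉ M ∧ a ^ n * d = (p : Cfsg.AlgInt) * c := by
  have hPr := hM.2.1.isPrime
  obtain ⟨f, hfm, hfa⟩ := (Algebra.IsIntegral.isIntegral (R := ℤ) a)
  have hfbar : f.map (Int.castRingHom (ZMod p)) ≠ 0 := (hfm.map _).ne_zero
  obtain ⟨q, hq1, hq2⟩ := Polynomial.exists_eq_pow_rootMultiplicity_mul_and_not_dvd
    (f.map (Int.castRingHom (ZMod p))) hfbar 0
  set r := (f.map (Int.castRingHom (ZMod p))).rootMultiplicity 0 with hr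
  obtain ⟨qt, hqt⟩ : ∃ qt : ℤ[X], qt.map (Int.castRingHom (ZMod p)) = q :=
    Polynomial.map_surjective _ (ZMod.intCast_surjective) q
  have hker : (f - X ^ r * qt).map (Int.castRingHom (ZMod p)) = 0 := by
    rw [Polynomial.map_sub, Polynomial.map_mul, Polynomial.map_pow, Polynomial.map_X, hqt]
    rw [sub_eq_zero]
    conv_lhs => rw [hq1]
    rw [map_zero, sub_zero]
  obtain ⟨h, hh⟩ : ∃ h : ℤ[X], f - X ^ r * qt = C (p : ℤ) * h := by
    have : C (p : ℤ) ∣ f - X ^ r * qt := by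
      rw [Polynomial.C_dvd_iff_dvd_coeff]
      intro i
      have h1 := congrArg (fun g => Polynomial.coeff g i) hker
      simp only [Polynomial.coeff_map, Polynomial.coeff_zero] at h1
      exact (ZMod.intCast_zmod_eq_zero_iff_dvd _ p).mp h1
    exact this
  have heval := congrArg (Polynomial.eval₂ (algebraMap ℤ Cfsg.AlgInt) a) hh
  rw [Polynomial.eval₂_sub, hfa, Polynomial.eval₂_mul, Polynomial.eval₂_pow, Polynomial.eval₂_X,
    Polynomial.eval₂_mul, Polynomial.eval₂_C, zero_sub] at heval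
  refine ⟨r, - Polynomial.eval₂ (algebraMap ℤ Cfsg.AlgInt) a h,
    Polynomial.eval₂ (algebraMap ℤ Cfsg.AlgInt) a qt, ?_, ?_⟩
  · intro hd
    have hdvd : a - 0 ∣ (qt.map (algebraMap ℤ Cfsg.AlgInt)).eval a -
        (qt.map (algebraMap ℤ Cfsg.AlgInt)).eval 0 := Polynomial.sub_dvd_eval_sub a 0 _
    rw [sub_zero, Polynomial.eval_map, Polynomial.eval_map] at hdvd
    have h0 : Polynomial.eval₂ (algebraMap ℤ Cfsg.AlgInt) 0 qt ∈ M := by
      obtain ⟨w, hw⟩ := hdvd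
      have : Polynomial.eval₂ (algebraMap ℤ Cfsg.AlgInt) 0 qt =
          Polynomial.eval₂ (algebraMap ℤ Cfsg.AlgInt) a qt - a * w := by
        rw [← hw]; ring
      rw [this]
      exact M.sub_mem hd (M.mul_mem_right _ ha)
    rw [Polynomial.eval₂_at_zero] at h0
    have h1 : (p : ℤ) ∣ qt.coeff 0 := by
      by_contra hnd
      exact h7_intCast_not_mem hM _ hnd (by simpa using h0)
    apply hq2
    rw [Polynomial.dvd_iff_isRoot, Polynomial.IsRoot, ← hqt, Polynomial.eval_map,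
      Polynomial.eval₂_at_zero]
    exact (ZMod.intCast_zmod_eq_zero_iff_dvd _ p).mpr h1
  · have hpc : (algebraMap ℤ Cfsg.AlgInt) (p : ℤ) = (p : Cfsg.AlgInt) := by simp
    rw [hpc] at heval
    rw [mul_neg, ← heval, neg_neg]

theorem h7_memLocalIdeal_pow_div {p : ℕ} [hp : Fact p.Prime] {M : Ideal Cfsg.AlgInt}
    (hM : Cfsg.IsPModular p M) {z : ℂ} (hz : Cfsg.MemLocalIdeal M z) :
    ∃ n : ℕ, Cfsg.MemLocalRing M (z ^ n / (p : ℂ)) := by
  have hPr := hM.2.1.isPrime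
  obtain ⟨a, b, ha, hb, rfl⟩ := hz
  obtain ⟨n, c, d, hd, hcd⟩ := h7_pow_mem_p hM a ha
  refine ⟨n, c, d * b ^ n, ?_, ?_⟩
  · intro hmem
    rcases hPr.mem_or_mem hmem with h | h
    · exact hd h
    · exact hb (hPr.mem_of_pow_mem n h)
  · have hb0 := h7_coe_ne_zero_of_not_mem hb
    have hd0 := h7_coe_ne_zero_of_not_mem hd
    have hp0 : (p : ℂ) ≠ 0 := by exact_mod_cast hp.out.ne_zero
    have hcd' : (a : ℂ) ^ n * (d : ℂ) = (p : ℂ) * (c : ℂ) := by
      have := congrArg (fun x : Cfsg.AlgInt => (x : ℂ)) hcd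
      simpa using this
    have hc : (c : ℂ) = (a : ℂ) ^ n * (d : ℂ) / (p : ℂ) := by
      rw [hcd']; field_simp
    rw [hc]
    push_cast
    rw [div_pow]
    field_simp

theorem h7_memLocalIdeal_pow_div_pow {p : ℕ} [hp : Fact p.Prime] {M : Ideal Cfsg.AlgInt}
    (hM : Cfsg.IsPModular p M) {z : ℂ} (hz : Cfsg.MemLocalIdeal M z) (k : ℕ) :
    ∃ n : ℕ, Cfsg.MemLocalRing M (z ^ n / (p : ℂ) ^ k) := by
  have hPr := hM.2.1.isPrime
  obtain ⟨n, hn⟩ := h7_memLocalIdeal_pow_div hM hz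
  refine ⟨n * k, ?_⟩
  have : z ^ (n * k) / (p : ℂ) ^ k = (z ^ n / (p : ℂ)) ^ k := by
    rw [pow_mul, div_pow]
  rw [this]
  clear this
  induction k with
  | zero => simpa using h7_memLocalRing_one hPr
  | succ k ih =>
    rw [pow_succ]
    exact h7_memLocalRing_mul hPr ih hn

end Cfsg.Agent.Lib.helper7
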