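import Mathlib
import Cfsg.Prelude.Def_Blocks
import Cfsg.Agent.Lib.helper7.LocalVal
import Cfsg.Agent.Lib.helper7.BlockOsima

set_option autoImplicit false
set_option linter.style.haveILetI false
set_option linter.unusedSectionVars false
set_option linter.unusedVariables false

namespace Cfsg.Agent.Lib.helper7

open scoped ComplexConjugate
open Cfsg.Agent.Lib.Helper25 Cfsg.Agent.Lib.Helper11 Cfsg.Agent.Lib.helper2

variable {G : Type*} [Group G] [Fintype G] [Fintype (Cfsg.IrrCharacter G)]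

theorem h7_radical_pow {p : ℕ} [hp : Fact p.Prime] {M : Ideal Cfsg.AlgInt}
    (hM : Cfsg.IsPModular p M) (ν : Cfsg.IrrCharacter G → ℂ)
    (hν : ∀ φ : Cfsg.IrrCharacter G, Cfsg.MemLocalIdeal M (ν φ)) :
    ∃ N : ℕ, ∀ g : G, Cfsg.MemLocalIdeal M (h7_coef (ν ^ (N + 1)) g) := by
  classical
  have hPr := hM.2.1.isPrime
  set a := (Nat.card G).factorization p with ha
  have hnχ : ∀ φ : Cfsg.IrrCharacter G, ∃ n : ℕ, Cfsg.MemLocalRing M
      ((ν φ) ^ n / (p : ℂ) ^ (a + 1)) := fun φ => h7_memLocalIdeal_pow_div_pow hM (hν φ) (a + 1)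
  choose nχ hnχ using hnχ
  refine ⟨∑ φ : Cfsg.IrrCharacter G, nχ φ, ?_⟩
  set N := ∑ φ : Cfsg.IrrCharacter G, nχ φ with hN
  have hpowN : ∀ φ : Cfsg.IrrCharacter G, Cfsg.MemLocalRing M
      ((ν φ) ^ (N + 1) / (p : ℂ) ^ (a + 1)) := by
    intro φ
    have hle : nχ φ ≤ N := Finset.single_le_sum (fun _ _ => Nat.zero_le _) (Finset.mem_univ φ)
    obtain ⟨r, hr⟩ := Nat.exists_eq_add_of_le hle
    have : N + 1 = nχ φ + (r + 1) := by omega
    rw [this, pow_add, mul_div_right_comm]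
    apply h7_memLocalRing_mul hPr (hnχ φ)
    have hzS := h7_memLocalRing_of_memLocalIdeal (hν φ)
    clear this
    induction (r + 1) with
    | zero => simpa using h7_memLocalRing_one hPr
    | succ j ih =>
      rw [pow_succ]
      exact h7_memLocalRing_mul hPr ih hzS
  intro g
  unfold h7_coef
  rw [Finset.mul_sum]
  apply h7_memLocalIdeal_sum hPr
  intro φ _
  rw [← mul_assoc]
  apply h7_memLocalIdeal_mul_right hPr
  · rw [Pi.pow_apply]
    obtain ⟨m', hm'⟩ := Nat.ordProj_dvd (Nat.card G) p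
    have hm'cop : m'.Coprime p := by
      have h1 : m' = Nat.card G / p ^ a := by
        rw [hm', Nat.mul_div_cancel_left _ (pow_pos hp.out.pos _)]
      rw [h1]
      exact (Nat.coprime_ordCompl hp.out Nat.card_pos.ne').symm
    have hm'0 : (m' : ℂ) ≠ 0 := by
      have : m' ≠ 0 := by
        rintro rfl
        rw [mul_zero] at hm'
        exact Nat.card_pos.ne' hm'
      exact_mod_cast this
    have hp0 : (p : ℂ) ≠ 0 := by exact_mod_cast hp.out.ne_zero
    have hGc : (Nat.card G : ℂ) = (p : ℂ) ^ a * (m' : ℂ) := by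
      exact_mod_cast hm'
    have hrew : ((Nat.card G : ℕ) : ℂ)⁻¹ * (ν φ) ^ (N + 1) =
        (p : ℂ) * ((m' : ℂ)⁻¹ * ((ν φ) ^ (N + 1) / (p : ℂ) ^ (a + 1))) := by
      rw [hGc]
      field_simp
      ring
    rw [hrew]
    exact h7_memLocalIdeal_mul_right hPr (h7_memLocalIdeal_p hM)
      (h7_memLocalRing_mul hPr (h7_memLocalRing_inv_natCast hM m' hm'cop) (hpowN φ))
  · exact h7_memLocalRing_of_isIntegral hPr ((Cfsg.Agent.Lib.helper2.irr_integral φ 1).mul
      (map_isIntegral_int (starRingEnd ℂ) (Cfsg.Agent.Lib.helper2.irr_integral φ g)))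

end Cfsg.Agent.Lib.helper7
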