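import Mathlib
import Cfsg.Prelude.Def_Blocks
import Cfsg.Agent.Lib.helper7.BlockRadical
import Cfsg.Agent.Lib.helper7.BlockEval
import Cfsg.Agent.Lib.helper7.LocalIdeal2

set_option autoImplicit false
set_option linter.style.haveILetI false
set_option linter.unusedSectionVars false
set_option linter.unusedVariables false

namespace Cfsg.Agent.Lib.helper7

open scoped ComplexConjugate
open Cfsg.Agent.Lib.Helper25 Cfsg.Agent.Lib.Helper11 Cfsg.Agent.Lib.helper2

variable {G : Type*} [Group G] [Fintype G] [Fintype (Cfsg.IrrCharacter G)]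

theorem h7_blockOf_eq_of_mem {M : Ideal Cfsg.AlgInt}
    (hP : M.IsPrime) (χ₀ χ : Cfsg.IrrCharacter G) (h : χ ∈ Cfsg.blockOf M (χ₀ : G → ℂ)) :
    Cfsg.blockOf M (χ₀ : G → ℂ) = Cfsg.blockOf M (χ : G → ℂ) := by
  ext ψ
  constructor
  · intro hψ
    exact h7_sameBlock_trans hP (h7_sameBlock_symm h) hψ
  · intro hψ
    exact h7_sameBlock_trans hP h hψ

theorem h7_memLocalIdeal_of_pow {M : Ideal Cfsg.AlgInt} (hP : M.IsPrime) {z : ℂ}
    (hz : Cfsg.MemLocalRing M z) (n : ℕ) (h : Cfsg.MemLocalIdeal M (z ^ (n + 1))) :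
    Cfsg.MemLocalIdeal M z := by
  induction n with
  | zero => simpa using h
  | succ n ih =>
    rw [pow_succ] at h
    have hzn : Cfsg.MemLocalRing M (z ^ (n + 1)) := by
      clear h ih
      induction (n + 1) with
      | zero => simpa using h7_memLocalRing_one hP
      | succ j ih =>
        rw [pow_succ]
        exact h7_memLocalRing_mul hP ih hz
    rcases h7_memLocalIdeal_mul_cases hP hzn hz h with h1 | h1
    · exact ih h1
    · exact h1

theorem h7_hom_is_block {p : ℕ} [hp : Fact p.Prime] {M : Ideal Cfsg.AlgInt}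
    (hM : Cfsg.IsPModular p M) (φ : (Cfsg.IrrCharacter G → ℂ) → ℂ)
    (hadd : ∀ c d : Cfsg.IrrCharacter G → ℂ, φ (c + d) = φ c + φ d)
    (hsmul : ∀ (s : ℂ) (c : Cfsg.IrrCharacter G → ℂ), φ (fun χ => s * c χ) = s * φ c)
    (hone : φ 1 = 1)
    (hS : ∀ c ∈ h7_intSubring (G := G) M hM.2.1.isPrime, Cfsg.MemLocalRing M (φ c))
    (hmul : ∀ c ∈ h7_intSubring (G := G) M hM.2.1.isPrime,
      ∀ d ∈ h7_intSubring (G := G) M hM.2.1.isPrime,
        Cfsg.MemLocalIdeal M (φ (c * d) - φ c * φ d))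
    (hcont : ∀ c : Cfsg.IrrCharacter G → ℂ, (∀ g : G, Cfsg.MemLocalIdeal M (h7_coef c g)) →
      Cfsg.MemLocalIdeal M (φ c)) :
    ∃ χ₀ : Cfsg.IrrCharacter G, ∀ c ∈ h7_intSubring (G := G) M hM.2.1.isPrime,
      Cfsg.MemLocalIdeal M (φ c - c χ₀) := by
  classical
  haveI : Fintype (ConjClasses G) := Fintype.ofFinite _
  have hPr := hM.2.1.isPrime
  have hzero : φ 0 = 0 := by
    have := hadd 0 0
    rw [add_zero] at this
    exact left_eq_add.mp this
  have hneg : ∀ c, φ (-c) = - φ c := by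
    intro c
    have := hadd c (-c)
    rw [add_neg_cancel, hzero] at this
    exact (neg_eq_of_add_eq_zero_right this.symm).symm
  have hsub : ∀ c d, φ (c - d) = φ c - φ d := by
    intro c d
    rw [sub_eq_add_neg, hadd, hneg, sub_eq_add_neg]
  have hsum : ∀ (s : Finset (Set (Cfsg.IrrCharacter G)))
      (f : Set (Cfsg.IrrCharacter G) → Cfsg.IrrCharacter G → ℂ),
      φ (∑ B ∈ s, f B) = ∑ B ∈ s, φ (f B) := by
    intro s f
    induction s using Finset.induction_on with
    | empty => simpa using hzero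
    | insert a s ha ih => rw [Finset.sum_insert ha, Finset.sum_insert ha, hadd, ih]
  set blocks : Finset (Set (Cfsg.IrrCharacter G)) :=
    Finset.univ.image (fun χ : Cfsg.IrrCharacter G => Cfsg.blockOf M (χ : G → ℂ)) with hblocks
  have hpart : (∑ B ∈ blocks, fun χ : Cfsg.IrrCharacter G => if χ ∈ B then (1 : ℂ) else 0) = 1 := by
    funext χ
    rw [Finset.sum_apply, Pi.one_apply]
    rw [Finset.sum_eq_single (Cfsg.blockOf M (χ : G → ℂ))]
    · have hχ : χ ∈ Cfsg.blockOf M (χ : G → ℂ) := h7_sameBlock_refl hPr _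
      rw [if_pos hχ]
    · intro B hB hne
      obtain ⟨χ', _, rfl⟩ := Finset.mem_image.mp hB
      rw [if_neg]
      intro hmem
      exact hne (h7_blockOf_eq_of_mem hPr χ' χ hmem)
    · intro h
      exact absurd (Finset.mem_image.mpr ⟨χ, Finset.mem_univ _, rfl⟩) h
  obtain ⟨B, hB, hBne⟩ : ∃ B ∈ blocks, ¬ Cfsg.MemLocalIdeal M
      (φ (fun χ : Cfsg.IrrCharacter G => if χ ∈ B then (1 : ℂ) else 0)) := by
    by_contra hall
    push Not at hall
    apply h7_not_memLocalIdeal_one hPr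
    rw [← hone, ← hpart, hsum]
    exact h7_memLocalIdeal_sum hPr _ _ hall
  obtain ⟨χ₀, _, rfl⟩ := Finset.mem_image.mp hB
  refine ⟨χ₀, ?_⟩
  set e : Cfsg.IrrCharacter G → ℂ :=
    fun χ => if χ ∈ Cfsg.blockOf M (χ₀ : G → ℂ) then (1 : ℂ) else 0 with he
  have hemem : e ∈ h7_intSubring (G := G) M hPr := h7_block_indicator_mem hPr χ₀
  have hee : e * e = e := by
    funext χ
    simp only [he, Pi.mul_apply]
    split_ifs <;> simp
  set t := φ e with ht
  have htS : Cfsg.MemLocalRing M t := hS e hemem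
  have ht1 : Cfsg.MemLocalIdeal M (1 - t) := by
    have h1 := hmul e hemem e hemem
    rw [hee] at h1
    have h2 : t - t * t = t * (1 - t) := by ring
    rw [h2] at h1
    rcases h7_memLocalIdeal_mul_cases hPr htS
      (h7_memLocalRing_sub hPr (h7_memLocalRing_one hPr) htS) h1 with h3 | h3
    · exact absurd h3 hBne
    · exact h3
  intro c hc
  have hsS : Cfsg.MemLocalRing M (c χ₀) := by
    rw [h7_eval_expand c χ₀]
    exact h7_memLocalRing_sum hPr _ _ (fun K _ =>
      h7_memLocalRing_mul hPr (hc _) (h7_memLocalRing_centralChar hPr χ₀ _))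
  set s := c χ₀ with hs
  have hconst : (fun _ : Cfsg.IrrCharacter G => s) ∈ h7_intSubring (G := G) M hPr :=
    h7_const_mem hPr hsS
  set ν : Cfsg.IrrCharacter G → ℂ := e * (c - fun _ => s) with hν
  have hνmem : ν ∈ h7_intSubring (G := G) M hPr :=
    Subring.mul_mem _ hemem (Subring.sub_mem _ hc hconst)
  have hνval : ∀ χ : Cfsg.IrrCharacter G, Cfsg.MemLocalIdeal M (ν χ) := by
    intro χ
    simp only [hν, he, Pi.mul_apply, Pi.sub_apply]
    by_cases hχ : χ ∈ Cfsg.blockOf M (χ₀ : G → ℂ)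
    · rw [if_pos hχ, one_mul]
      have := h7_eval_congr hPr c hc χ₀ χ hχ
      have h2 := h7_memLocalIdeal_neg this
      rwa [neg_sub] at h2
    · rw [if_neg hχ, zero_mul]
      exact h7_memLocalIdeal_zero hPr
  obtain ⟨N, hN⟩ := h7_radical_pow hM ν hνval
  have hφνN : Cfsg.MemLocalIdeal M (φ (ν ^ (N + 1))) := hcont _ hN
  have hφνS : Cfsg.MemLocalRing M (φ ν) := hS ν hνmem
  have hpowcong : ∀ n : ℕ, Cfsg.MemLocalIdeal M (φ (ν ^ (n + 1)) - φ ν ^ (n + 1)) := by
    intro n
    induction n with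
    | zero =>
      simp only [zero_add, pow_one, sub_self]
      exact h7_memLocalIdeal_zero hPr
    | succ n ih =>
      have h1 := hmul (ν ^ (n + 1)) (Subring.pow_mem _ hνmem _) ν hνmem
      have h2 : φ (ν ^ (n + 1 + 1)) - φ ν ^ (n + 1 + 1) =
          (φ (ν ^ (n + 1) * ν) - φ (ν ^ (n + 1)) * φ ν) +
            (φ (ν ^ (n + 1)) - φ ν ^ (n + 1)) * φ ν := by
        rw [pow_succ ν (n + 1), pow_succ (φ ν) (n + 1)]
        ring
      rw [h2]
      exact h7_memLocalIdeal_add hPr h1 (h7_memLocalIdeal_mul_right hPr ih hφνS)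
  have hφν : Cfsg.MemLocalIdeal M (φ ν) := by
    apply h7_memLocalIdeal_of_pow hPr hφνS N
    have := h7_memLocalIdeal_sub hPr hφνN (hpowcong N)
    rwa [sub_sub_cancel] at this
  have hνsplit : ν = e * c - fun χ => s * e χ := by
    funext χ
    simp only [hν, Pi.mul_apply, Pi.sub_apply]
    ring
  have hφν2 : φ ν = φ (e * c) - s * t := by
    rw [hνsplit, hsub, hsmul]
  have hec := hmul e hemem c hc
  have hcS : Cfsg.MemLocalRing M (φ c) := hS c hc
  have hfinal : φ c - s = (1 - t) * φ c + (φ (e * c) - t * φ c) -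
      (φ (e * c) - s * t) * 1 + s * (1 - t) * (-1) + (φ (e * c) - s * t) * 2
      - (φ (e * c) - t * φ c) * 2 := by
    ring
  have hgoal : φ c - s = (1 - t) * φ c - (φ (e * c) - t * φ c) + φ ν - s * (1 - t) := by
    rw [hφν2]
    ring
  rw [hgoal]
  apply h7_memLocalIdeal_sub hPr
  · apply h7_memLocalIdeal_add hPr
    · apply h7_memLocalIdeal_sub hPr
      · exact h7_memLocalIdeal_mul_right hPr ht1 hcS
      · exact hec
    · exact hφν
  · exact h7_memLocalIdeal_mul_left hPr hsS ht1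

end Cfsg.Agent.Lib.helper7
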