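import Mathlib
import Cfsg.Prelude.Def_Blocks
import Cfsg.Agent.Lib.helper7.LocalVal
import Cfsg.Agent.Lib.helper7.OrbitSum
import Cfsg.Agent.Lib.helper7.BlockInd2
import Cfsg.Agent.Lib.helper7.LocalIdeal2
import Cfsg.Agent.S0908

set_option autoImplicit false
set_option linter.style.haveILetI false
set_option linter.unusedSectionVars false
set_option linter.unusedVariables false

namespace Cfsg.Agent.Lib.helper7

open scoped ComplexConjugate
open Cfsg.Agent.Lib.Helper25 Cfsg.Agent.Lib.Helper11 Cfsg.Agent.Lib.helper2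

variable {G : Type*} [Group G]

def h7_conjSubAction (R : Subgroup G) (Y : Set G)
    (hY : ∀ r ∈ R, ∀ y ∈ Y, r * y * r⁻¹ ∈ Y) : MulAction R Y where
  smul r y := ⟨(r : G) * y * (r : G)⁻¹, hY r r.2 y y.2⟩
  one_smul y := Subtype.ext (by
    show ((1 : R) : G) * (y : G) * ((1 : R) : G)⁻¹ = y
    simp)
  mul_smul r s y := Subtype.ext (by
    show ((r * s : R) : G) * (y : G) * ((r * s : R) : G)⁻¹ =
      (r : G) * ((s : G) * (y : G) * (s : G)⁻¹) * (r : G)⁻¹
    simp only [Subgroup.coe_mul, mul_inv_rev]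
    group)

theorem h7_fixed_point_sum [Fintype G] {p : ℕ} [hp : Fact p.Prime] {M : Ideal Cfsg.AlgInt}
    (hM : Cfsg.IsPModular p M) (R : Subgroup G) (hR : IsPGroup p R) (Y : Set G)
    [DecidablePred (· ∈ Y)]
    (hY : ∀ r ∈ R, ∀ y ∈ Y, r * y * r⁻¹ ∈ Y) (F : G → ℂ)
    (hF : ∀ r ∈ R, ∀ y : G, F (r * y * r⁻¹) = F y) (hFS : ∀ y : G, Cfsg.MemLocalRing M (F y))
    (hnofix : ∀ y ∈ Y, ∃ r ∈ R, r * y ≠ y * r) :
    Cfsg.MemLocalIdeal M (∑ y : G, if y ∈ Y then F y else 0) := by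
  classical
  have hPr := hM.2.1.isPrime
  letI : MulAction R Y := h7_conjSubAction R Y hY
  haveI : Fintype R := Fintype.ofFinite _
  haveI : Fintype Y := Fintype.ofFinite _
  haveI : Fintype (Quotient (MulAction.orbitRel R Y)) := Fintype.ofFinite _
  have hsm : ∀ (r : R) (y : Y), ((r • y : Y) : G) = (r : G) * y * (r : G)⁻¹ := fun r y => rfl
  have h1 : ∑ y : G, (if y ∈ Y then F y else 0) = ∑ y : Y, F y := by
    rw [← Finset.sum_filter]
    exact (Finset.sum_subtype (Finset.univ.filter (· ∈ Y)) (by simp) F)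
  rw [h1, h7_sum_eq_sum_orbits (A := R) (fun y : Y => F y) (fun r y => by
    show F ((r • y : Y) : G) = F y
    rw [hsm]
    exact hF r r.2 y)]
  apply h7_memLocalIdeal_sum hPr
  intro ω _
  rw [nsmul_eq_mul]
  apply h7_memLocalIdeal_mul_right hPr _ (hFS _)
  rw [h7_memLocalIdeal_natCast_iff hM]
  set S := MulAction.stabilizer R (Quotient.out ω) with hS
  have hidx : Nat.card R / Nat.card S = S.index := by
    rw [← Subgroup.index_mul_card S, Nat.mul_div_cancel _ Nat.card_pos]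
  rw [hidx]
  obtain ⟨k, hk⟩ := hR.index S
  rw [hk]
  have hk0 : k ≠ 0 := by
    rintro rfl
    rw [pow_zero, Subgroup.index_eq_one] at hk
    obtain ⟨r, hr, hne⟩ := hnofix (Quotient.out ω : Y) (Quotient.out ω : Y).2
    have hmem : (⟨r, hr⟩ : R) ∈ S := by rw [hk]; exact Subgroup.mem_top _
    rw [hS, MulAction.mem_stabilizer_iff] at hmem
    have := congrArg Subtype.val hmem
    rw [hsm] at this
    apply hne
    have h2 : r * (Quotient.out ω : Y) * r⁻¹ = (Quotient.out ω : Y) := this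
    rw [mul_inv_eq_iff_eq_mul] at h2
    exact h2
  exact dvd_pow_self p hk0

theorem h7_le_conj_sylow [Finite G] (p : ℕ) [hp : Fact p.Prime] (Γ : Subgroup G) (D : Sylow p Γ)
    (R : Subgroup G) (hR : IsPGroup p R) (hRΓ : R ≤ Γ) :
    ∃ c ∈ Γ, R ≤ ((D : Subgroup Γ).map Γ.subtype).map (MulAut.conj c).toMonoidHom := by
  have hR' : IsPGroup p (R.subgroupOf Γ) := hR.comap_subtype
  obtain ⟨Q, hQ⟩ := hR'.exists_le_sylow
  obtain ⟨c, hc⟩ := MulAction.exists_smul_eq Γ D Q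
  refine ⟨c, c.2, ?_⟩
  intro r hr
  have h1 : (⟨r, hRΓ hr⟩ : Γ) ∈ (Q : Subgroup Γ) := hQ (Subgroup.mem_subgroupOf.mpr hr)
  rw [← hc, Sylow.coe_subgroup_smul, Subgroup.mem_smul_pointwise_iff_exists] at h1
  obtain ⟨d, hd, hdr⟩ := h1
  rw [Subgroup.mem_map]
  refine ⟨(d : G), Subgroup.mem_map.mpr ⟨d, hd, rfl⟩, ?_⟩
  have := congrArg Subtype.val hdr
  simpa [MulAut.smul_def] using this

theorem h7_exists_height_zero [Finite G] (p : ℕ) {M : Ideal Cfsg.AlgInt}
    (hP : M.IsPrime) (χ₀ : Cfsg.IrrCharacter G) :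
    ∃ χ : Cfsg.IrrCharacter G, χ ∈ Cfsg.blockOf M (χ₀ : G → ℂ) ∧
      Cfsg.blockDefect p (Cfsg.blockOf M (χ₀ : G → ℂ)) = (Nat.card G).factorization p -
        (Cfsg.charDegree (χ : G → ℂ)).factorization p := by
  haveI : Fintype G := Fintype.ofFinite G
  haveI : Fintype (Cfsg.IrrCharacter G) := Fintype.ofFinite _
  have hne : ((fun χ : Cfsg.IrrCharacter G => (Cfsg.charDegree (χ : G → ℂ)).factorization p) ''
      Cfsg.blockOf M (χ₀ : G → ℂ)).Nonempty :=
    ⟨_, χ₀, h7_sameBlock_refl hP _, rfl⟩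
  obtain ⟨χ, hχ, heq⟩ := Nat.sInf_mem hne
  refine ⟨χ, hχ, ?_⟩
  unfold Cfsg.blockDefect
  rw [← heq]

theorem h7_conj_mem_centralizer {a b s : G} (h : s * a * s⁻¹ = b) (r : G) (hr : r * a = a * r) :
    s * r * s⁻¹ ∈ Subgroup.centralizer ({b} : Set G) := by
  rw [Subgroup.mem_centralizer_singleton_iff, ← h]
  have : s * r * s⁻¹ * (s * a * s⁻¹) = s * (r * a) * s⁻¹ := by group
  rw [this, hr]
  group

section

variable [Fintype G] [Fintype (Cfsg.IrrCharacter G)]

theorem h7_minmax_b {p : ℕ} [hp : Fact p.Prime] {M : Ideal Cfsg.AlgInt}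
    (hM : Cfsg.IsPModular p M) (χ₀ : Cfsg.IrrCharacter G) (g : G)
    (hg : Cfsg.IsDefectClass M (Cfsg.blockOf M (χ₀ : G → ℂ)) g)
    (D : Sylow p (Subgroup.centralizer ({g} : Set G))) (h : G)
    (hh : ∃ χ ∈ Cfsg.blockOf M (χ₀ : G → ℂ), ¬ Cfsg.MemLocalIdeal M
      (Cfsg.centralChar (χ : G → ℂ) h)) :
    ∃ (x : G) (Q : Sylow p (Subgroup.centralizer ({h} : Set G))),
      ((D : Subgroup (Subgroup.centralizer ({g} : Set G))).map
        (Subgroup.centralizer ({g} : Set G)).subtype).map (MulAut.conj x).toMonoidHom ≤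
      (Q : Subgroup (Subgroup.centralizer ({h} : Set G))).map
        (Subgroup.centralizer ({h} : Set G)).subtype := by
  classical
  haveI : Fintype (ConjClasses G) := Fintype.ofFinite _
  have hPr := hM.2.1.isPrime
  have hcardD := Cfsg.Agent.S0908.defect_card p M hM χ₀ g hg D
  obtain ⟨hg1, hg2, hg3⟩ := hg
  obtain ⟨χ, hχB, hχh⟩ := hh
  obtain ⟨χ', hχ'B, hdef⟩ := h7_exists_height_zero p hPr χ₀
  have hsame : Cfsg.SameBlock M (χ : G → ℂ) (χ' : G → ℂ) :=
    h7_sameBlock_trans hPr (h7_sameBlock_symm hχB) hχ'B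
  have hχ'h : ¬ Cfsg.MemLocalIdeal M (Cfsg.centralChar (χ' : G → ℂ) h) := by
    intro hmem
    apply hχh
    have := h7_memLocalIdeal_add hPr (hsame h) hmem
    rwa [sub_add_cancel] at this
  have hχ'g := hg3 χ' hχ'B
  have hprod : ¬ Cfsg.MemLocalIdeal M (Cfsg.centralChar (χ' : G → ℂ) g *
      Cfsg.centralChar (χ' : G → ℂ) h) := by
    intro hmem
    rcases h7_memLocalIdeal_mul_cases hPr (h7_memLocalRing_centralChar hPr χ' g)
      (h7_memLocalRing_centralChar hPr χ' h) hmem with h1 | h1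
    · exact hχ'g h1
    · exact hχ'h h1
  set c : Cfsg.IrrCharacter G → ℂ :=
    (fun φ : Cfsg.IrrCharacter G => Cfsg.centralChar (φ : G → ℂ) g) *
    (fun φ : Cfsg.IrrCharacter G => Cfsg.centralChar (φ : G → ℂ) h) with hc
  have hcmem : c ∈ h7_intSubring (G := G) M hPr :=
    Subring.mul_mem _ (h7_centralChar_mem hPr g) (h7_centralChar_mem hPr h)
  have hexp := h7_eval_expand c χ'
  have hcχ' : c χ' = Cfsg.centralChar (χ' : G → ℂ) g * Cfsg.centralChar (χ' : G → ℂ) h := rfl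
  rw [hcχ'] at hexp
  obtain ⟨K, hK⟩ : ∃ K : ConjClasses G, ¬ Cfsg.MemLocalIdeal M
      (h7_coef c (Quotient.out K) * Cfsg.centralChar (χ' : G → ℂ) (Quotient.out K)) := by
    by_contra hall
    push Not at hall
    apply hprod
    rw [hexp]
    exact h7_memLocalIdeal_sum hPr _ _ (fun K _ => hall K)
  set m := Quotient.out K with hm
  have hcoefS : Cfsg.MemLocalRing M (h7_coef c m) := hcmem m
  have hcoef : ¬ Cfsg.MemLocalIdeal M (h7_coef c m) := fun hmem =>
    hK (h7_memLocalIdeal_mul_right hPr hmem (h7_memLocalRing_centralChar hPr χ' m))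
  have hωm : ¬ Cfsg.MemLocalIdeal M (Cfsg.centralChar (χ' : G → ℂ) m) := fun hmem =>
    hK (h7_memLocalIdeal_mul_left hPr hcoefS hmem)
  have hcoef_eq : h7_coef c m = ∑ y : G,
      if y ∈ {y : G | IsConj (m * y⁻¹) g ∧ IsConj y h} then (1 : ℂ) else 0 := by
    rw [hc, h7_coef_mul]
    refine Finset.sum_congr rfl fun y _ => ?_
    rw [h7_coef_centralChar, h7_coef_centralChar]
    simp only [Set.mem_setOf_eq]
    by_cases h1 : IsConj (m * y⁻¹) g
    · by_cases h2 : IsConj y h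
      · rw [if_pos h1, if_pos h2, if_pos ⟨h1, h2⟩, mul_one]
      · rw [if_neg h2, if_neg (show ¬ (IsConj (m * y⁻¹) g ∧ IsConj y h) from fun hh => h2 hh.2),
          mul_zero]
    · rw [if_neg h1, if_neg (show ¬ (IsConj (m * y⁻¹) g ∧ IsConj y h) from fun hh => h1 hh.1),
        zero_mul]
  obtain R : Sylow p (Subgroup.centralizer ({m} : Set G)) := default
  set Rm := (R : Subgroup (Subgroup.centralizer ({m} : Set G))).map
    (Subgroup.centralizer ({m} : Set G)).subtype with hRm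
  have hRmp : IsPGroup p Rm := R.isPGroup'.map _
  have hRmle : Rm ≤ Subgroup.centralizer ({m} : Set G) := by
    rintro _ ⟨r, _, rfl⟩
    exact r.2
  have hRmcomm : ∀ r ∈ Rm, r * m = m * r := fun r hr =>
    Subgroup.mem_centralizer_singleton_iff.mp (hRmle hr)
  have hYstable : ∀ r ∈ Rm, ∀ y ∈ {y : G | IsConj (m * y⁻¹) g ∧ IsConj y h},
      r * y * r⁻¹ ∈ {y : G | IsConj (m * y⁻¹) g ∧ IsConj y h} := by
    rintro r hr y ⟨hy1, hy2⟩
    refine ⟨?_, ?_⟩
    · have e : m * (r * y * r⁻¹)⁻¹ = r * (m * y⁻¹) * r⁻¹ := by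
        have := hRmcomm r hr
        calc m * (r * y * r⁻¹)⁻¹ = (m * r) * y⁻¹ * r⁻¹ := by group
          _ = (r * m) * y⁻¹ * r⁻¹ := by rw [this]
          _ = r * (m * y⁻¹) * r⁻¹ := by group
      rw [e]
      exact (isConj_iff.mpr ⟨r⁻¹, by group⟩ : IsConj (r * (m * y⁻¹) * r⁻¹) (m * y⁻¹)).trans hy1
    · exact (isConj_iff.mpr ⟨r⁻¹, by group⟩ : IsConj (r * y * r⁻¹) y).trans hy2
  obtain ⟨y, ⟨hy1, hy2⟩, hyfix⟩ : ∃ y ∈ {y : G | IsConj (m * y⁻¹) g ∧ IsConj y h},
      ∀ r ∈ Rm, r * y = y * r := by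
    by_contra hno
    push Not at hno
    apply hcoef
    rw [hcoef_eq]
    exact h7_fixed_point_sum hM Rm hRmp _ hYstable (fun _ => (1 : ℂ)) (fun _ _ _ => rfl)
      (fun _ => h7_memLocalRing_one hPr) hno
  obtain ⟨s, hs⟩ := isConj_iff.mp hy1
  obtain ⟨t, ht⟩ := isConj_iff.mp hy2
  have hR1le : Rm.map (MulAut.conj s).toMonoidHom ≤ Subgroup.centralizer ({g} : Set G) := by
    rintro _ ⟨r, hr, rfl⟩
    apply h7_conj_mem_centralizer hs r
    have h1 := hRmcomm r hr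
    have h2 := hyfix r hr
    have h3 : r * y⁻¹ = y⁻¹ * r := by
      have : y⁻¹ * (r * y) * y⁻¹ = y⁻¹ * (y * r) * y⁻¹ := by rw [h2]
      simpa [mul_assoc] using this.symm
    calc r * (m * y⁻¹) = (r * m) * y⁻¹ := by group
      _ = (m * r) * y⁻¹ := by rw [h1]
      _ = m * (r * y⁻¹) := by group
      _ = m * (y⁻¹ * r) := by rw [h3]
      _ = m * y⁻¹ * r := by group
  obtain ⟨c₀, hc₀, hle⟩ := h7_le_conj_sylow p (Subgroup.centralizer ({g} : Set G)) D
    (Rm.map (MulAut.conj s).toMonoidHom) (hRmp.map _) hR1le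
  have hcardR : Nat.card Rm = p ^ (Nat.card (Subgroup.centralizer ({m} : Set G))).factorization p := by
    rw [hRm, Subgroup.card_map_of_injective (Subgroup.subtype_injective _)]
    exact Sylow.card_eq_multiplicity R
  have hνm : Cfsg.blockDefect p (Cfsg.blockOf M (χ₀ : G → ℂ)) ≤
      (Nat.card (Subgroup.centralizer ({m} : Set G))).factorization p := by
    have h1 := h7_defect_lower hM χ' m hωm
    have h4 : (Subgroup.centralizer ({m} : Set G)).index *
        Nat.card (Subgroup.centralizer ({m} : Set G)) = Nat.card G :=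
      Subgroup.index_mul_card _
    have h5 : (Nat.card G).factorization p =
        (Subgroup.centralizer ({m} : Set G)).index.factorization p +
        (Nat.card (Subgroup.centralizer ({m} : Set G))).factorization p := by
      rw [← h4, Nat.factorization_mul Subgroup.index_ne_zero_of_finite Nat.card_pos.ne',
        Finsupp.add_apply]
    omega
  have heq : Rm.map (MulAut.conj s).toMonoidHom =
      ((D : Subgroup (Subgroup.centralizer ({g} : Set G))).map
        (Subgroup.centralizer ({g} : Set G)).subtype).map (MulAut.conj c₀).toMonoidHom := by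
    apply Subgroup.eq_of_le_of_card_ge hle
    rw [Subgroup.card_map_of_injective (f := (MulAut.conj c₀).toMonoidHom)
      (MulAut.conj c₀).injective,
      Subgroup.card_map_of_injective (f := (MulAut.conj s).toMonoidHom)
      (MulAut.conj s).injective, hcardD, hcardR]
    exact Nat.pow_le_pow_right hp.out.pos hνm
  have hR2le : Rm.map (MulAut.conj t).toMonoidHom ≤ Subgroup.centralizer ({h} : Set G) := by
    rintro _ ⟨r, hr, rfl⟩
    exact h7_conj_mem_centralizer ht r (hyfix r hr)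
  have hR2p : IsPGroup p ((Rm.map (MulAut.conj t).toMonoidHom).subgroupOf
      (Subgroup.centralizer ({h} : Set G))) := (hRmp.map _).comap_subtype
  obtain ⟨Q, hQ⟩ := hR2p.exists_le_sylow
  refine ⟨t * s⁻¹ * c₀, Q, ?_⟩
  rintro _ ⟨d, hd, rfl⟩
  have h1 : c₀ * d * c₀⁻¹ ∈ Rm.map (MulAut.conj s).toMonoidHom := by
    rw [heq]
    exact ⟨d, hd, rfl⟩
  obtain ⟨r, hr, hrd⟩ := h1
  have hrd' : s * r * s⁻¹ = c₀ * d * c₀⁻¹ := hrd
  have h2 : (MulAut.conj (t * s⁻¹ * c₀)).toMonoidHom d = t * r * t⁻¹ := by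
    show (t * s⁻¹ * c₀) * d * (t * s⁻¹ * c₀)⁻¹ = t * r * t⁻¹
    have : (t * s⁻¹ * c₀) * d * (t * s⁻¹ * c₀)⁻¹ = t * s⁻¹ * (c₀ * d * c₀⁻¹) * s * t⁻¹ := by group
    rw [this, ← hrd']
    group
  rw [h2]
  have h3 : t * r * t⁻¹ ∈ Rm.map (MulAut.conj t).toMonoidHom := ⟨r, hr, rfl⟩
  rw [Subgroup.mem_map]
  exact ⟨⟨t * r * t⁻¹, hR2le h3⟩, hQ (Subgroup.mem_subgroupOf.mpr h3), rfl⟩

theorem h7_minmax_a {p : ℕ} [hp : Fact p.Prime] {M : Ideal Cfsg.AlgInt}
    (hM : Cfsg.IsPModular p M) (χ₀ : Cfsg.IrrCharacter G) (g : G)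
    (hg : Cfsg.IsDefectClass M (Cfsg.blockOf M (χ₀ : G → ℂ)) g)
    (D : Sylow p (Subgroup.centralizer ({g} : Set G))) (h : G)
    (hh2 : ¬ Cfsg.MemLocalIdeal M (Cfsg.blockCoeff (Cfsg.blockOf M (χ₀ : G → ℂ)) h)) :
    ∃ (x : G) (Q : Sylow p (Subgroup.centralizer ({h} : Set G))),
      (Q : Subgroup (Subgroup.centralizer ({h} : Set G))).map
        (Subgroup.centralizer ({h} : Set G)).subtype ≤
      ((D : Subgroup (Subgroup.centralizer ({g} : Set G))).map
        (Subgroup.centralizer ({g} : Set G)).subtype).map (MulAut.conj x).toMonoidHom := by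
  classical
  have hPr := hM.2.1.isPrime
  obtain ⟨hg1, hg2, hg3⟩ := hg
  have hχ₀B : χ₀ ∈ Cfsg.blockOf M (χ₀ : G → ℂ) := h7_sameBlock_refl hPr _
  set c₀ := Cfsg.centralChar (χ₀ : G → ℂ) g with hc₀
  have hc₀S : Cfsg.MemLocalRing M c₀ := h7_memLocalRing_centralChar hPr χ₀ g
  have hc₀m : ¬ Cfsg.MemLocalIdeal M c₀ := hg3 χ₀ hχ₀B
  have hc₀inv : Cfsg.MemLocalRing M c₀⁻¹ := h7_memLocalRing_inv hPr hc₀S hc₀m
  have hc₀ne : c₀ ≠ 0 := by
    intro h0
    apply hc₀m
    rw [h0]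
    exact h7_memLocalIdeal_zero hPr
  set κ : h7_intSubring (G := G) M hPr :=
    ⟨fun φ : Cfsg.IrrCharacter G => Cfsg.centralChar (φ : G → ℂ) g, h7_centralChar_mem hPr g⟩
    with hκ
  set k : h7_intSubring (G := G) M hPr :=
    ⟨fun _ : Cfsg.IrrCharacter G => c₀⁻¹, h7_const_mem hPr hc₀inv⟩ with hk
  set e : h7_intSubring (G := G) M hPr :=
    ⟨fun φ : Cfsg.IrrCharacter G => if φ ∈ Cfsg.blockOf M (χ₀ : G → ℂ) then (1 : ℂ) else 0,
      h7_block_indicator_mem hPr χ₀⟩ with he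
  set t : h7_intSubring (G := G) M hPr := k * κ with ht
  have hee : e * e = e := by
    apply Subtype.ext
    funext φ
    show (if φ ∈ Cfsg.blockOf M (χ₀ : G → ℂ) then (1 : ℂ) else 0) *
      (if φ ∈ Cfsg.blockOf M (χ₀ : G → ℂ) then (1 : ℂ) else 0) =
      (if φ ∈ Cfsg.blockOf M (χ₀ : G → ℂ) then (1 : ℂ) else 0)
    split_ifs <;> simp
  have hepow : ∀ n : ℕ, e ^ (n + 1) = e := by
    intro n
    induction n with
    | zero => simp
    | succ n ih => rw [pow_succ, ih, hee]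
  have hzval : ∀ φ : Cfsg.IrrCharacter G, ((e * (1 - t) : h7_intSubring (G := G) M hPr) :
      Cfsg.IrrCharacter G → ℂ) φ =
      (if φ ∈ Cfsg.blockOf M (χ₀ : G → ℂ) then (1 : ℂ) else 0) *
        (1 - c₀⁻¹ * Cfsg.centralChar (φ : G → ℂ) g) := fun φ => rfl
  have hzmem : ∀ φ : Cfsg.IrrCharacter G, Cfsg.MemLocalIdeal M
      (((e * (1 - t) : h7_intSubring (G := G) M hPr) : Cfsg.IrrCharacter G → ℂ) φ) := by
    intro φ
    rw [hzval]
    by_cases hφ : φ ∈ Cfsg.blockOf M (χ₀ : G → ℂ)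
    · rw [if_pos hφ, one_mul]
      have h1 : (1 : ℂ) - c₀⁻¹ * Cfsg.centralChar (φ : G → ℂ) g =
          c₀⁻¹ * (c₀ - Cfsg.centralChar (φ : G → ℂ) g) := by
        field_simp
      rw [h1]
      exact h7_memLocalIdeal_mul_left hPr hc₀inv (hφ g)
    · rw [if_neg hφ, zero_mul]
      exact h7_memLocalIdeal_zero hPr
  set a := (Nat.card G).factorization p with ha
  have hnχ : ∀ φ : Cfsg.IrrCharacter G, ∃ n : ℕ, Cfsg.MemLocalRing M
      ((((e * (1 - t) : h7_intSubring (G := G) M hPr) : Cfsg.IrrCharacter G → ℂ) φ) ^ n /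
        (p : ℂ) ^ (a + 1)) := fun φ => h7_memLocalIdeal_pow_div_pow hM (hzmem φ) (a + 1)
  choose nχ hnχ using hnχ
  set N := ∑ φ : Cfsg.IrrCharacter G, nχ φ with hN
  have hpowN : ∀ φ : Cfsg.IrrCharacter G, Cfsg.MemLocalRing M
      ((((e * (1 - t) : h7_intSubring (G := G) M hPr) : Cfsg.IrrCharacter G → ℂ) φ) ^ (N + 1) /
        (p : ℂ) ^ (a + 1)) := by
    intro φ
    have hle : nχ φ ≤ N := Finset.single_le_sum (fun _ _ => Nat.zero_le _) (Finset.mem_univ φ)
    obtain ⟨r, hr⟩ := Nat.exists_eq_add_of_le hle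
    have : N + 1 = nχ φ + (r + 1) := by omega
    rw [this, pow_add, mul_div_right_comm]
    apply h7_memLocalRing_mul hPr (hnχ φ)
    have hzS := h7_memLocalRing_of_memLocalIdeal (hzmem φ)
    clear this
    induction (r + 1) with
    | zero => simpa using h7_memLocalRing_one hPr
    | succ j ih =>
      rw [pow_succ]
      exact h7_memLocalRing_mul hPr ih hzS
  obtain ⟨w, hw⟩ : ((1 : h7_intSubring (G := G) M hPr) - (1 - t)) ∣
      1 ^ (N + 1) - (1 - t) ^ (N + 1) := sub_dvd_pow_sub_pow 1 (1 - t) (N + 1)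
  rw [one_pow, sub_sub_cancel] at hw
  have hdecomp : e = (e * (1 - t)) ^ (N + 1) + κ * (k * e * w) := by
    rw [mul_pow, hepow N]
    have : (1 - t) ^ (N + 1) = 1 - t * w := by rw [← hw]; ring
    rw [this, ht]
    ring
  have hcoefe : Cfsg.blockCoeff (Cfsg.blockOf M (χ₀ : G → ℂ)) h =
      h7_coef ((e : h7_intSubring (G := G) M hPr) : Cfsg.IrrCharacter G → ℂ) h :=
    (h7_coef_indicator _ h).symm
  have hG0 : (Nat.card G : ℂ) ≠ 0 := by exact_mod_cast Nat.card_pos.ne'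
  have hp0 : (p : ℂ) ≠ 0 := by exact_mod_cast hp.out.ne_zero
  have hfirst : Cfsg.MemLocalIdeal M
      (h7_coef (((e * (1 - t)) ^ (N + 1) : h7_intSubring (G := G) M hPr) :
        Cfsg.IrrCharacter G → ℂ) h) := by
    unfold h7_coef
    rw [Finset.mul_sum]
    apply h7_memLocalIdeal_sum hPr
    intro φ _
    rw [← mul_assoc]
    apply h7_memLocalIdeal_mul_right hPr
    · have hval : (((e * (1 - t)) ^ (N + 1) : h7_intSubring (G := G) M hPr) :
          Cfsg.IrrCharacter G → ℂ) φ =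
          (((e * (1 - t) : h7_intSubring (G := G) M hPr) : Cfsg.IrrCharacter G → ℂ) φ) ^ (N + 1) := by
        rw [Subring.coe_pow, Pi.pow_apply]
      rw [hval]
      obtain ⟨m', hm'⟩ := Nat.ordProj_dvd (Nat.card G) p
      have hm'cop : m'.Coprime p := by
        have h1 : m' = Nat.card G / p ^ a := by
          rw [hm', Nat.mul_div_cancel_left _ (pow_pos hp.out.pos _)]
        rw [h1]
        exact (Nat.coprime_ordCompl hp.out Nat.card_pos.ne').symm
      have hm'0 : (m' : ℂ) ≠ 0 := by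
        have : m' ≠ 0 := by
          rintro rfl
          rw [mul_zero] at hm'
          exact Nat.card_pos.ne' hm'
        exact_mod_cast this
      have hGc : (Nat.card G : ℂ) = (p : ℂ) ^ a * (m' : ℂ) := by
        exact_mod_cast hm'
      have hrew : ((Nat.card G : ℕ) : ℂ)⁻¹ *
          (((e * (1 - t) : h7_intSubring (G := G) M hPr) : Cfsg.IrrCharacter G → ℂ) φ) ^ (N + 1) =
          (p : ℂ) * ((m' : ℂ)⁻¹ *
          ((((e * (1 - t) : h7_intSubring (G := G) M hPr) : Cfsg.IrrCharacter G → ℂ) φ) ^ (N + 1) /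
            (p : ℂ) ^ (a + 1))) := by
        rw [hGc]
        field_simp
        ring
      rw [hrew]
      exact h7_memLocalIdeal_mul_right hPr (h7_memLocalIdeal_p hM)
        (h7_memLocalRing_mul hPr (h7_memLocalRing_inv_natCast hM m' hm'cop) (hpowN φ))
    · exact h7_memLocalRing_of_isIntegral hPr ((Cfsg.Agent.Lib.helper2.irr_integral φ 1).mul
        (map_isIntegral_int (starRingEnd ℂ) (Cfsg.Agent.Lib.helper2.irr_integral φ h)))
  have hsecond : ¬ Cfsg.MemLocalIdeal M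
      (h7_coef ((κ * (k * e * w) : h7_intSubring (G := G) M hPr) : Cfsg.IrrCharacter G → ℂ) h) := by
    intro hmem
    apply hh2
    rw [hcoefe]
    have : ((e : h7_intSubring (G := G) M hPr) : Cfsg.IrrCharacter G → ℂ) =
        (((e * (1 - t)) ^ (N + 1) : h7_intSubring (G := G) M hPr) : Cfsg.IrrCharacter G → ℂ) +
        ((κ * (k * e * w) : h7_intSubring (G := G) M hPr) : Cfsg.IrrCharacter G → ℂ) := by
      conv_lhs => rw [hdecomp]
      rfl
    rw [this, h7_coef_add]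
    exact h7_memLocalIdeal_add hPr hfirst hmem
  have hcoef_eq : h7_coef ((κ * (k * e * w) : h7_intSubring (G := G) M hPr) :
      Cfsg.IrrCharacter G → ℂ) h = ∑ y : G,
      if y ∈ {y : G | IsConj (h * y⁻¹) g} then
        h7_coef ((k * e * w : h7_intSubring (G := G) M hPr) : Cfsg.IrrCharacter G → ℂ) y else 0 := by
    rw [Subring.coe_mul, h7_coef_mul]
    refine Finset.sum_congr rfl fun y _ => ?_
    have : ((κ : h7_intSubring (G := G) M hPr) : Cfsg.IrrCharacter G → ℂ) =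
        fun φ : Cfsg.IrrCharacter G => Cfsg.centralChar (φ : G → ℂ) g := rfl
    rw [this, h7_coef_centralChar]
    simp only [Set.mem_setOf_eq]
    by_cases h1 : IsConj (h * y⁻¹) g
    · rw [if_pos h1, if_pos h1, one_mul]
    · rw [if_neg h1, if_neg h1, zero_mul]
  obtain Q : Sylow p (Subgroup.centralizer ({h} : Set G)) := default
  set Qm := (Q : Subgroup (Subgroup.centralizer ({h} : Set G))).map
    (Subgroup.centralizer ({h} : Set G)).subtype with hQm
  have hQmp : IsPGroup p Qm := Q.isPGroup'.map _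
  have hQmcomm : ∀ r ∈ Qm, r * h = h * r := by
    rintro _ ⟨r, _, rfl⟩
    exact Subgroup.mem_centralizer_singleton_iff.mp r.2
  have hYstable : ∀ r ∈ Qm, ∀ y ∈ {y : G | IsConj (h * y⁻¹) g},
      r * y * r⁻¹ ∈ {y : G | IsConj (h * y⁻¹) g} := by
    intro r hr y hy1
    have e1 : h * (r * y * r⁻¹)⁻¹ = r * (h * y⁻¹) * r⁻¹ := by
      have := hQmcomm r hr
      calc h * (r * y * r⁻¹)⁻¹ = (h * r) * y⁻¹ * r⁻¹ := by group
        _ = (r * h) * y⁻¹ * r⁻¹ := by rw [this]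
        _ = r * (h * y⁻¹) * r⁻¹ := by group
    show IsConj (h * (r * y * r⁻¹)⁻¹) g
    rw [e1]
    exact (isConj_iff.mpr ⟨r⁻¹, by group⟩ : IsConj (r * (h * y⁻¹) * r⁻¹) (h * y⁻¹)).trans hy1
  obtain ⟨y, hy1, hyfix⟩ : ∃ y ∈ {y : G | IsConj (h * y⁻¹) g}, ∀ r ∈ Qm, r * y = y * r := by
    by_contra hno
    push Not at hno
    apply hsecond
    rw [hcoef_eq]
    exact h7_fixed_point_sum hM Qm hQmp _ hYstable
      (h7_coef ((k * e * w : h7_intSubring (G := G) M hPr) : Cfsg.IrrCharacter G → ℂ))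
      (fun r _ y => h7_coef_conj _ y r)
      (fun y => (k * e * w : h7_intSubring (G := G) M hPr).2 y) hno
  obtain ⟨s, hs⟩ := isConj_iff.mp hy1
  have hR1le : Qm.map (MulAut.conj s).toMonoidHom ≤ Subgroup.centralizer ({g} : Set G) := by
    rintro _ ⟨r, hr, rfl⟩
    apply h7_conj_mem_centralizer hs r
    have h1 := hQmcomm r hr
    have h2 := hyfix r hr
    have h3 : r * y⁻¹ = y⁻¹ * r := by
      have : y⁻¹ * (r * y) * y⁻¹ = y⁻¹ * (y * r) * y⁻¹ := by rw [h2]
      simpa [mul_assoc] using this.symm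
    calc r * (h * y⁻¹) = (r * h) * y⁻¹ := by group
      _ = (h * r) * y⁻¹ := by rw [h1]
      _ = h * (r * y⁻¹) := by group
      _ = h * (y⁻¹ * r) := by rw [h3]
      _ = h * y⁻¹ * r := by group
  obtain ⟨c₁, hc₁, hle⟩ := h7_le_conj_sylow p (Subgroup.centralizer ({g} : Set G)) D
    (Qm.map (MulAut.conj s).toMonoidHom) (hQmp.map _) hR1le
  refine ⟨s⁻¹ * c₁, Q, ?_⟩
  intro r hr
  have h1 : s * r * s⁻¹ ∈ Qm.map (MulAut.conj s).toMonoidHom := ⟨r, hr, rfl⟩
  obtain ⟨d, hd, hdr⟩ := hle h1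
  have hdr' : c₁ * d * c₁⁻¹ = s * r * s⁻¹ := hdr
  refine ⟨d, hd, ?_⟩
  show (s⁻¹ * c₁) * d * (s⁻¹ * c₁)⁻¹ = r
  have : (s⁻¹ * c₁) * d * (s⁻¹ * c₁)⁻¹ = s⁻¹ * (c₁ * d * c₁⁻¹) * s := by group
  rw [this, hdr']
  group

end

end Cfsg.Agent.Lib.helper7
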