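import Mathlib
import Cfsg.Prelude.Def_Blocks
import Cfsg.Agent.Lib.helper7.BlockSing2
import Cfsg.Agent.Lib.helper7.ClassSum

set_option autoImplicit false
set_option linter.style.haveILetI false
set_option linter.unusedSectionVars false
set_option linter.unusedVariables false

namespace Cfsg.Agent.Lib.helper7

open scoped ComplexConjugate
open Cfsg.Agent.Lib.Helper25 Cfsg.Agent.Lib.Helper11 Cfsg.Agent.Lib.helper2

variable {G : Type*} [Group G] [Fintype G] [Fintype (Cfsg.IrrCharacter G)]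

noncomputable def h7_fourier (z : G → ℂ) : Cfsg.IrrCharacter G → ℂ :=
  fun ψ => (∑ g : G, z g * (ψ : G → ℂ) g) / (ψ : G → ℂ) 1

theorem h7_fourier_apply (z : G → ℂ) (ψ : Cfsg.IrrCharacter G) :
    h7_fourier z ψ = (∑ g : G, z g * (ψ : G → ℂ) g) / (ψ : G → ℂ) 1 := rfl

theorem h7_fourier_coef (c : Cfsg.IrrCharacter G → ℂ) : h7_fourier (h7_coef c) = c := by
  funext ψ
  rw [h7_fourier_apply, h7_coef_eval]
  have := irr_one_ne_zero ψ
  field_simp

theorem h7_coef_fourier (z : G → ℂ) (hz : ∀ g h : G, z (h * g * h⁻¹) = z g) :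
    h7_coef (h7_fourier z) = z := by
  classical
  funext g
  unfold h7_coef
  have h1 : ∀ ψ : Cfsg.IrrCharacter G, h7_fourier z ψ * ((ψ : G → ℂ) 1 * conj ((ψ : G → ℂ) g)) =
      ∑ h : G, z h * ((ψ : G → ℂ) h * conj ((ψ : G → ℂ) g)) := by
    intro ψ
    rw [h7_fourier_apply, Finset.sum_div, Finset.sum_mul]
    refine Finset.sum_congr rfl fun h _ => ?_
    have := irr_one_ne_zero ψ
    field_simp
  rw [Finset.sum_congr rfl (fun ψ _ => h1 ψ), Finset.sum_comm]
  have h2 : ∀ h : G, ∑ ψ : Cfsg.IrrCharacter G, z h * ((ψ : G → ℂ) h * conj ((ψ : G → ℂ) g)) =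
      if IsConj g h then (Nat.card (Subgroup.centralizer ({g} : Set G)) : ℂ) * z g else 0 := by
    intro h
    rw [← Finset.mul_sum, irr_column_orthogonality h g]
    split_ifs with hc
    · obtain ⟨s, hs⟩ := isConj_iff.mp hc
      rw [← hs, hz, mul_comm]
    · rw [mul_zero]
  rw [Finset.sum_congr rfl (fun h _ => h2 h), ← Finset.sum_filter, Finset.sum_const, nsmul_eq_mul]
  have h3 : ((Finset.univ.filter (fun h : G => IsConj g h)).card : ℂ) =
      (Nat.card {x : G // IsConj g x} : ℂ) := by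
    rw [Nat.card_eq_fintype_card, Fintype.card_subtype]
  rw [h3]
  have h4 := h7_card_class_mul_card_centralizer g
  have h5 : (Nat.card {x : G // IsConj g x} : ℂ) *
      (Nat.card (Subgroup.centralizer ({g} : Set G)) : ℂ) = (Nat.card G : ℂ) := by
    exact_mod_cast h4
  have hG : (Nat.card G : ℂ) ≠ 0 := by exact_mod_cast Nat.card_pos.ne'
  rw [← mul_assoc, ← mul_assoc, mul_assoc (Nat.card G : ℂ)⁻¹, h5, inv_mul_cancel₀ hG, one_mul]

theorem h7_fourier_conv (z z' : G → ℂ) (hz : ∀ g h : G, z (h * g * h⁻¹) = z g)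
    (hz' : ∀ g h : G, z' (h * g * h⁻¹) = z' g) :
    h7_fourier (h7_conv z z') = h7_fourier z * h7_fourier z' := by
  conv_lhs => rw [← h7_coef_fourier z hz, ← h7_coef_fourier z' hz', h7_conv_coef, h7_fourier_coef]

end Cfsg.Agent.Lib.helper7
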