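import Mathlib
import Cfsg.Prelude.Def_Blocks
import Cfsg.Agent.Lib.helper7.BlockBrauer
import Cfsg.Agent.Lib.helper7.Fourier
import Cfsg.Agent.Lib.helper7.BlockHom
import Cfsg.Agent.Lib.helper7.BlockMinMax

set_option autoImplicit false
set_option linter.style.haveILetI false
set_option linter.unusedSectionVars false
set_option linter.unusedVariables false

namespace Cfsg.Agent.Lib.helper7

open scoped ComplexConjugate
open Cfsg.Agent.Lib.Helper25 Cfsg.Agent.Lib.Helper11 Cfsg.Agent.Lib.helper2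

variable {G : Type*} [Group G]

open Classical in
noncomputable def h7_brFun (P H : Subgroup G) (f : G → ℂ) : H → ℂ :=
  fun h => if (h : G) ∈ Subgroup.centralizer (P : Set G) then f h else 0

theorem h7_brFun_of_mem (P H : Subgroup G) (f : G → ℂ) (h : H)
    (hh : (h : G) ∈ Subgroup.centralizer (P : Set G)) : h7_brFun P H f h = f h := by
  unfold h7_brFun
  rw [if_pos hh]

theorem h7_brFun_of_not_mem (P H : Subgroup G) (f : G → ℂ) (h : H)
    (hh : (h : G) ∉ Subgroup.centralizer (P : Set G)) : h7_brFun P H f h = 0 := by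
  unfold h7_brFun
  rw [if_neg hh]

theorem h7_brFun_class (P H : Subgroup G) (hHN : H ≤ Subgroup.normalizer (P : Set G))
    (f : G → ℂ) (hf : ∀ g h : G, f (h * g * h⁻¹) = f g) (a b : H) :
    h7_brFun P H f (b * a * b⁻¹) = h7_brFun P H f a := by
  have h2 : ((b * a * b⁻¹ : H) : G) ∈ Subgroup.centralizer (P : Set G) ↔
      (a : G) ∈ Subgroup.centralizer (P : Set G) := by
    have := h7_conj_mem_centralizer_of_normalizer P (b : G) (a : G) (hHN b.2)
    simpa using this
  by_cases ha : (a : G) ∈ Subgroup.centralizer (P : Set G)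
  · rw [h7_brFun_of_mem _ _ _ _ (h2.mpr ha), h7_brFun_of_mem _ _ _ _ ha]
    simp only [Subgroup.coe_mul, Subgroup.coe_inv]
    exact hf _ _
  · rw [h7_brFun_of_not_mem _ _ _ _ (fun h => ha (h2.mp h)), h7_brFun_of_not_mem _ _ _ _ ha]

theorem h7_sum_subgroup_of_support [Fintype G] (K : Subgroup G) [Fintype K] (F : G → ℂ)
    (hF : ∀ g : G, g ∉ K → F g = 0) : ∑ g : G, F g = ∑ k : K, F k := by
  classical
  rw [← Finset.sum_subtype (Finset.univ.filter (· ∈ K)) (by simp) F]
  symm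
  apply Finset.sum_subset (Finset.filter_subset _ _)
  intro g _ hg
  apply hF
  simpa using hg

noncomputable def h7_omega {H : Type*} [Group H] [Fintype H] (β : H → ℂ) (ξ : H → ℂ) : ℂ :=
  ∑ x : H, β x * ξ x / ξ 1

theorem h7_omega_expand {H : Type*} [Group H] [Fintype H] [Fintype (ConjClasses H)]
    (β : H → ℂ) (hβ : ∀ g h : H, β (h * g * h⁻¹) = β g) (ξ : Cfsg.IrrCharacter H) :
    h7_omega β (ξ : H → ℂ) = ∑ K : ConjClasses H, β (Quotient.out K) *
      Cfsg.centralChar (ξ : H → ℂ) (Quotient.out K) := by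
  unfold h7_omega
  have hcl : ∀ g h : H, β (h * g * h⁻¹) * (ξ : H → ℂ) (h * g * h⁻¹) / (ξ : H → ℂ) 1 =
      β g * (ξ : H → ℂ) g / (ξ : H → ℂ) 1 := by
    intro g h
    rw [hβ, irr_conj_invariant]
  rw [h7_sum_eq_sum_conjClasses _ hcl]
  refine Finset.sum_congr rfl fun K _ => ?_
  unfold Cfsg.centralChar
  rw [nsmul_eq_mul]
  ring

theorem h7_omega_mem {H : Type*} [Group H] [Fintype H] {M : Ideal Cfsg.AlgInt} (hM : M.IsPrime)
    (β : H → ℂ) (hβ : ∀ g h : H, β (h * g * h⁻¹) = β g) (hβR : ∀ g, Cfsg.MemLocalRing M (β g))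
    (ξ : Cfsg.IrrCharacter H) : Cfsg.MemLocalRing M (h7_omega β (ξ : H → ℂ)) := by
  classical
  haveI : Fintype (ConjClasses H) := Fintype.ofFinite _
  rw [h7_omega_expand β hβ ξ]
  apply h7_memLocalRing_sum hM
  intro K _
  exact h7_memLocalRing_mul hM (hβR _) (h7_memLocalRing_centralChar hM ξ _)

theorem h7_sum_centralizer [Fintype G] {p : ℕ} [hp : Fact p.Prime]
    {M : Ideal Cfsg.AlgInt} (hM : Cfsg.IsPModular p M) (Q : Subgroup G) (hQ : IsPGroup p Q)
    [Fintype (Subgroup.centralizer (Q : Set G))]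
    (f : G → ℂ) (hf : ∀ u ∈ Q, ∀ x : G, f (u * x * u⁻¹) = f x)
    (hfR : ∀ x, Cfsg.MemLocalRing M (f x)) :
    Cfsg.MemLocalIdeal M (∑ x : G, f x -
      ∑ c : Subgroup.centralizer (Q : Set G), f (c : G)) := by
  classical
  have h1 : ∑ c : Subgroup.centralizer (Q : Set G), f (c : G) =
      ∑ x : G, if x ∈ Subgroup.centralizer (Q : Set G) then f x else 0 := by
    rw [h7_sum_subgroup_of_support (Subgroup.centralizer (Q : Set G)) _ (fun g hg => by
      rw [if_neg hg])]
    refine Finset.sum_congr rfl fun c' _ => ?_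
    rw [if_pos c'.2]
  rw [h1, ← Finset.sum_sub_distrib]
  have h2 : ∀ x : G, f x - (if x ∈ Subgroup.centralizer (Q : Set G) then f x else 0) =
      if x ∈ {y : G | y ∉ Subgroup.centralizer (Q : Set G)} then f x else 0 := by
    intro x
    simp only [Set.mem_setOf_eq]
    by_cases hx : x ∈ Subgroup.centralizer (Q : Set G)
    · rw [if_pos hx, if_neg (not_not.mpr hx), sub_self]
    · rw [if_neg hx, if_pos hx, sub_zero]
  rw [Finset.sum_congr rfl (fun x _ => h2 x)]
  apply h7_fixed_point_sum hM Q hQ _ _ f hf hfR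
  · intro y hy
    simp only [Set.mem_setOf_eq] at hy
    rw [Subgroup.mem_centralizer_iff] at hy
    push Not at hy
    obtain ⟨r, hr, hne⟩ := hy
    exact ⟨r, hr, hne⟩
  · intro r hr y hy
    simp only [Set.mem_setOf_eq] at hy ⊢
    intro h
    exact hy ((h7_conj_mem_centralizer_of_normalizer Q r y (Subgroup.le_normalizer hr)).mp h)

section

variable [Fintype G] [Fintype (Cfsg.IrrCharacter G)]

noncomputable def h7_brEval (P H : Subgroup G) [Fintype H] (ξ : H → ℂ)
    (c : Cfsg.IrrCharacter G → ℂ) : ℂ :=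
  h7_omega (h7_brFun P H (h7_coef c)) ξ

theorem h7_coef_smul (s : ℂ) (c : Cfsg.IrrCharacter G → ℂ) (g : G) :
    h7_coef (fun χ => s * c χ) g = s * h7_coef c g := by
  unfold h7_coef
  rw [Finset.mul_sum, Finset.mul_sum, Finset.mul_sum]
  refine Finset.sum_congr rfl fun χ _ => ?_
  ring

variable (P H : Subgroup G) [Fintype H] [Fintype (Cfsg.IrrCharacter H)]

theorem h7_brEval_add (ξ : H → ℂ) (c d : Cfsg.IrrCharacter G → ℂ) :
    h7_brEval P H ξ (c + d) = h7_brEval P H ξ c + h7_brEval P H ξ d := by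
  classical
  unfold h7_brEval h7_omega
  rw [← Finset.sum_add_distrib]
  refine Finset.sum_congr rfl fun h _ => ?_
  unfold h7_brFun
  split_ifs
  · rw [h7_coef_add]; ring
  · ring

theorem h7_brEval_smul (ξ : H → ℂ) (s : ℂ) (c : Cfsg.IrrCharacter G → ℂ) :
    h7_brEval P H ξ (fun χ => s * c χ) = s * h7_brEval P H ξ c := by
  classical
  unfold h7_brEval h7_omega
  rw [Finset.mul_sum]
  refine Finset.sum_congr rfl fun h _ => ?_
  unfold h7_brFun
  split_ifs
  · rw [h7_coef_smul]; ring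
  · ring

theorem h7_brEval_one (ξ : Cfsg.IrrCharacter H) :
    h7_brEval P H (ξ : H → ℂ) 1 = 1 := by
  classical
  unfold h7_brEval h7_omega
  rw [Finset.sum_eq_single (1 : H)]
  · rw [h7_brFun_of_mem _ _ _ _ (by simp)]
    have : (1 : Cfsg.IrrCharacter G → ℂ) = fun _ => (1 : ℂ) := rfl
    rw [this, h7_coef_const, if_pos (by simp), one_mul]
    exact div_self (irr_one_ne_zero ξ)
  · intro h _ hne
    have : h7_brFun P H (h7_coef (1 : Cfsg.IrrCharacter G → ℂ)) h = 0 := by
      unfold h7_brFun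
      split_ifs
      · have h1 : (1 : Cfsg.IrrCharacter G → ℂ) = fun _ => (1 : ℂ) := rfl
        rw [h1, h7_coef_const, if_neg]
        intro h0
        apply hne
        exact Subtype.ext h0
      · rfl
    rw [this, zero_mul, zero_div]
  · intro h
    exact absurd (Finset.mem_univ _) h

theorem h7_brEval_mem {M : Ideal Cfsg.AlgInt} (hPr : M.IsPrime)
    (hHN : H ≤ Subgroup.normalizer (P : Set G)) (ξ : Cfsg.IrrCharacter H)
    (c : Cfsg.IrrCharacter G → ℂ) (hc : c ∈ h7_intSubring (G := G) M hPr) :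
    Cfsg.MemLocalRing M (h7_brEval P H (ξ : H → ℂ) c) := by
  classical
  apply h7_omega_mem hPr _ (fun a b => h7_brFun_class P H hHN _ (fun g h => h7_coef_conj c g h) a b)
  intro h
  unfold h7_brFun
  split_ifs
  · exact hc _
  · exact h7_memLocalRing_zero hPr

theorem h7_brEval_cont {M : Ideal Cfsg.AlgInt} (hPr : M.IsPrime)
    (hHN : H ≤ Subgroup.normalizer (P : Set G)) (ξ : Cfsg.IrrCharacter H)
    (c : Cfsg.IrrCharacter G → ℂ) (hc : ∀ g : G, Cfsg.MemLocalIdeal M (h7_coef c g)) :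
    Cfsg.MemLocalIdeal M (h7_brEval P H (ξ : H → ℂ) c) := by
  classical
  haveI : Fintype (ConjClasses H) := Fintype.ofFinite _
  unfold h7_brEval
  rw [h7_omega_expand _ (fun a b => h7_brFun_class P H hHN _ (fun g h => h7_coef_conj c g h) a b) ξ]
  apply h7_memLocalIdeal_sum hPr
  intro L _
  apply h7_memLocalIdeal_mul_right hPr _ (h7_memLocalRing_centralChar hPr ξ _)
  unfold h7_brFun
  split_ifs
  · exact hc _
  · exact h7_memLocalIdeal_zero hPr

theorem h7_brEval_centralChar (ξ : H → ℂ) (g : G) :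
    h7_brEval P H ξ (fun χ : Cfsg.IrrCharacter G => Cfsg.centralChar (χ : G → ℂ) g) =
      Cfsg.brauerCentralChar P H ξ g := by
  classical
  unfold h7_brEval h7_omega Cfsg.brauerCentralChar
  rw [h7_finsum_mem_fintype]
  refine Finset.sum_congr rfl fun h _ => ?_
  unfold h7_brFun
  rw [h7_coef_centralChar]
  simp only [Set.mem_setOf_eq]
  by_cases h1 : (h : G) ∈ Subgroup.centralizer (P : Set G)
  · by_cases h2 : IsConj (h : G) g
    · rw [if_pos h1, if_pos h2, if_pos ⟨h2.symm, h1⟩, one_mul]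
    · rw [if_pos h1, if_neg h2, if_neg (fun hh => h2 hh.1.symm), zero_mul, zero_div]
  · rw [if_neg h1, if_neg (fun hh => h1 hh.2), zero_mul, zero_div]

theorem h7_brEval_mul {p : ℕ} [hp : Fact p.Prime] {M : Ideal Cfsg.AlgInt}
    (hM : Cfsg.IsPModular p M) (hP : IsPGroup p P)
    (hCH : Subgroup.centralizer (P : Set G) ≤ H)
    (hHN : H ≤ Subgroup.normalizer (P : Set G)) (ξ : Cfsg.IrrCharacter H)
    (c d : Cfsg.IrrCharacter G → ℂ) (hc : c ∈ h7_intSubring (G := G) M hM.2.1.isPrime)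
    (hd : d ∈ h7_intSubring (G := G) M hM.2.1.isPrime) :
    Cfsg.MemLocalIdeal M (h7_brEval P H (ξ : H → ℂ) (c * d) -
      h7_brEval P H (ξ : H → ℂ) c * h7_brEval P H (ξ : H → ℂ) d) := by
  classical
  haveI : Fintype (ConjClasses H) := Fintype.ofFinite _
  haveI : Fintype (Subgroup.centralizer (P : Set G)) := Fintype.ofFinite _
  have hPr := hM.2.1.isPrime
  set z := h7_brFun P H (h7_coef c) with hz
  set z' := h7_brFun P H (h7_coef d) with hz'
  have hzcl : ∀ a b : H, z (b * a * b⁻¹) = z a :=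
    fun a b => h7_brFun_class P H hHN _ (fun g h => h7_coef_conj c g h) a b
  have hz'cl : ∀ a b : H, z' (b * a * b⁻¹) = z' a :=
    fun a b => h7_brFun_class P H hHN _ (fun g h => h7_coef_conj d g h) a b
  have hconvcl : ∀ a b : H, h7_conv z z' (b * a * b⁻¹) = h7_conv z z' a := by
    intro a b
    have : h7_conv z z' = h7_coef (h7_fourier z * h7_fourier z') := by
      conv_lhs => rw [← h7_coef_fourier z hzcl, ← h7_coef_fourier z' hz'cl, h7_conv_coef]
    rw [this]
    exact h7_coef_conj _ a b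
  have hprod : h7_brEval P H (ξ : H → ℂ) c * h7_brEval P H (ξ : H → ℂ) d =
      h7_omega (h7_conv z z') (ξ : H → ℂ) := by
    have h1 : ∀ w : H → ℂ, h7_omega w (ξ : H → ℂ) = h7_fourier w ξ := by
      intro w
      unfold h7_omega
      rw [h7_fourier_apply, Finset.sum_div]
    unfold h7_brEval
    rw [h1, h1, h1, h7_fourier_conv z z' hzcl hz'cl, Pi.mul_apply]
  rw [hprod]
  unfold h7_brEval
  rw [h7_omega_expand _ (fun a b => h7_brFun_class P H hHN _
    (fun g h => h7_coef_conj (c * d) g h) a b) ξ, h7_omega_expand _ hconvcl ξ,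
    ← Finset.sum_sub_distrib]
  apply h7_memLocalIdeal_sum hPr
  intro L _
  rw [← sub_mul]
  apply h7_memLocalIdeal_mul_right hPr _ (h7_memLocalRing_centralChar hPr ξ _)
  set x := (Quotient.out L : H) with hx
  by_cases hxC : (x : G) ∈ Subgroup.centralizer (P : Set G)
  · rw [h7_brFun_of_mem _ _ _ _ hxC, h7_coef_mul, h7_conv_apply']
    have hsum1 := h7_sum_centralizer hM P hP
      (fun y : G => h7_coef c ((x : G) * y⁻¹) * h7_coef d y)
      (by
        intro u hu' y
        have hu : u * (x : G) = (x : G) * u :=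
          Subgroup.mem_centralizer_iff.mp hxC u hu'
        have e : (x : G) * (u * y * u⁻¹)⁻¹ = u * ((x : G) * y⁻¹) * u⁻¹ := by
          calc (x : G) * (u * y * u⁻¹)⁻¹ = ((x : G) * u) * y⁻¹ * u⁻¹ := by
                group
            _ = (u * (x : G)) * y⁻¹ * u⁻¹ := by rw [hu]
            _ = u * ((x : G) * y⁻¹) * u⁻¹ := by group
        show h7_coef c ((x : G) * (u * y * u⁻¹)⁻¹) * h7_coef d (u * y * u⁻¹) =
          h7_coef c ((x : G) * y⁻¹) * h7_coef d y
        rw [e, h7_coef_conj, h7_coef_conj])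
      (fun y => h7_memLocalRing_mul hPr (hc _) (hd _))
    have hsum2 : ∑ y : H, z (x * y⁻¹) * z' y =
        ∑ c' : Subgroup.centralizer (P : Set G),
          h7_coef c ((x : G) * (c' : G)⁻¹) * h7_coef d (c' : G) := by
      have hF : ∀ (F : G → ℂ), (∀ g, F g = if g ∈ Subgroup.centralizer (P : Set G) then
            h7_coef c ((x : G) * g⁻¹) * h7_coef d g else 0) →
          ∑ y : H, z (x * y⁻¹) * z' y = ∑ c' : Subgroup.centralizer (P : Set G), F (c' : G) := by
        intro F hFdef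
        have e1 : ∑ y : H, z (x * y⁻¹) * z' y = ∑ y : H, F (y : G) := by
          refine Finset.sum_congr rfl fun y _ => ?_
          rw [hFdef]
          by_cases hy : (y : G) ∈ Subgroup.centralizer (P : Set G)
          · have hxy : ((x * y⁻¹ : H) : G) ∈ Subgroup.centralizer (P : Set G) := by
              simp only [Subgroup.coe_mul, Subgroup.coe_inv]
              exact Subgroup.mul_mem _ hxC (Subgroup.inv_mem _ hy)
            rw [hz, hz', h7_brFun_of_mem _ _ _ _ hxy, h7_brFun_of_mem _ _ _ _ hy, if_pos hy]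
            simp only [Subgroup.coe_mul, Subgroup.coe_inv]
          · rw [hz', h7_brFun_of_not_mem _ _ _ _ hy, if_neg hy, mul_zero]
        rw [e1, ← h7_sum_subgroup_of_support H F (fun g hg => by
          rw [hFdef, if_neg (fun h => hg (hCH h))]),
          h7_sum_subgroup_of_support (Subgroup.centralizer (P : Set G)) F (fun g hg => by
          rw [hFdef, if_neg hg])]
      rw [hF _ (fun g => rfl)]
      refine Finset.sum_congr rfl fun c' _ => ?_
      rw [if_pos c'.2]
    rw [hsum2]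
    exact hsum1
  · rw [h7_brFun_of_not_mem _ _ _ _ hxC, h7_conv_apply']
    have : ∑ y : H, z (x * y⁻¹) * z' y = 0 := by
      apply Finset.sum_eq_zero
      intro y _
      by_cases hy : (y : G) ∈ Subgroup.centralizer (P : Set G)
      · have hxy : ((x * y⁻¹ : H) : G) ∉ Subgroup.centralizer (P : Set G) := by
          intro h
          apply hxC
          have := Subgroup.mul_mem _ h hy
          simpa using this
        rw [hz, h7_brFun_of_not_mem _ _ _ _ hxy, zero_mul]
      · rw [hz', h7_brFun_of_not_mem _ _ _ _ hy, mul_zero]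
    rw [this, sub_zero]
    exact h7_memLocalIdeal_zero hPr

theorem h7_brauer_hom_block {p : ℕ} [hp : Fact p.Prime] {M : Ideal Cfsg.AlgInt}
    (hM : Cfsg.IsPModular p M) (hP : IsPGroup p P)
    (hCH : Subgroup.centralizer (P : Set G) ≤ H)
    (hHN : H ≤ Subgroup.normalizer (P : Set G)) (ξ : Cfsg.IrrCharacter H) :
    ∃ χ₀ : Cfsg.IrrCharacter G, ∀ c ∈ h7_intSubring (G := G) M hM.2.1.isPrime,
      Cfsg.MemLocalIdeal M (h7_brEval P H (ξ : H → ℂ) c - c χ₀) := by
  have hPr := hM.2.1.isPrime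
  exact h7_hom_is_block hM (h7_brEval P H (ξ : H → ℂ))
    (fun c d => h7_brEval_add P H _ c d)
    (fun s c => h7_brEval_smul P H _ s c)
    (h7_brEval_one P H ξ)
    (fun c hc => h7_brEval_mem P H hPr hHN ξ c hc)
    (fun c hc d hd => h7_brEval_mul P H hM hP hCH hHN ξ c d hc hd)
    (fun c hc => h7_brEval_cont P H hPr hHN ξ c hc)

theorem h7_icc_congr' {M : Ideal Cfsg.AlgInt} (hPr : M.IsPrime) (ξ ξ' : Cfsg.IrrCharacter H)
    (hs : Cfsg.SameBlock M (ξ : H → ℂ) (ξ' : H → ℂ)) (g : G) :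
    Cfsg.MemLocalIdeal M (Cfsg.inducedCentralChar H (ξ : H → ℂ) g -
      Cfsg.inducedCentralChar H (ξ' : H → ℂ) g) := by
  classical
  haveI : Fintype (ConjClasses H) := Fintype.ofFinite _
  rw [h7_icc_expand' H ξ g, h7_icc_expand' H ξ' g, ← Finset.sum_sub_distrib]
  apply h7_memLocalIdeal_sum hPr
  intro L _
  rw [← mul_sub]
  apply h7_memLocalIdeal_mul_left hPr _ (hs _)
  split_ifs
  · exact h7_memLocalRing_one hPr
  · exact h7_memLocalRing_zero hPr

theorem h7_brauer_induced {p : ℕ} [hp : Fact p.Prime] {M : Ideal Cfsg.AlgInt}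
    (hM : Cfsg.IsPModular p M) (hP : IsPGroup p P) (hPH : P ≤ H)
    (hHN : H ≤ Subgroup.normalizer (P : Set G)) (ξ₀ : Cfsg.IrrCharacter H)
    (χ₀ : Cfsg.IrrCharacter G)
    (hχ₀ : ∀ c ∈ h7_intSubring (G := G) M hM.2.1.isPrime,
      Cfsg.MemLocalIdeal M (h7_brEval P H (ξ₀ : H → ℂ) c - c χ₀)) :
    Cfsg.IsInducedBlock M H (Cfsg.blockOf M (ξ₀ : H → ℂ)) (Cfsg.blockOf M (χ₀ : G → ℂ)) := by
  have hPr := hM.2.1.isPrime
  refine ⟨⟨ξ₀, rfl⟩, ⟨χ₀, rfl⟩, ?_⟩
  intro ξ hξ χ hχ g
  have h1 := h7_icc_congr' H hPr ξ₀ ξ hξ g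
  have h2 := h7_icc_sub_bcc hM P H hP hPH hHN ξ₀ g
  have h3 := hχ₀ _ (h7_centralChar_mem hPr g)
  rw [h7_brEval_centralChar] at h3
  have h4 : Cfsg.MemLocalIdeal M (Cfsg.centralChar (χ₀ : G → ℂ) g -
      Cfsg.centralChar (χ : G → ℂ) g) := hχ g
  have e : Cfsg.inducedCentralChar H (ξ : H → ℂ) g - Cfsg.centralChar (χ : G → ℂ) g =
      -(Cfsg.inducedCentralChar H (ξ₀ : H → ℂ) g - Cfsg.inducedCentralChar H (ξ : H → ℂ) g) +
      (Cfsg.inducedCentralChar H (ξ₀ : H → ℂ) g - Cfsg.brauerCentralChar P H (ξ₀ : H → ℂ) g) +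
      (Cfsg.brauerCentralChar P H (ξ₀ : H → ℂ) g - Cfsg.centralChar (χ₀ : G → ℂ) g) +
      (Cfsg.centralChar (χ₀ : G → ℂ) g - Cfsg.centralChar (χ : G → ℂ) g) := by ring
  rw [e]
  exact h7_memLocalIdeal_add hPr (h7_memLocalIdeal_add hPr (h7_memLocalIdeal_add hPr
    (h7_memLocalIdeal_neg h1) h2) h3) h4

end

end Cfsg.Agent.Lib.helper7
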