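import Mathlib
import Cfsg.Prelude.Def_Blocks
import Cfsg.Agent.Lib.helper7.BlockBrauer2
import Cfsg.Agent.Lib.helper7.BlockRadical

set_option autoImplicit false
set_option linter.style.haveILetI false
set_option linter.unusedSectionVars false
set_option linter.unusedVariables false

namespace Cfsg.Agent.Lib.helper7

open scoped ComplexConjugate
open Cfsg.Agent.Lib.Helper25 Cfsg.Agent.Lib.Helper11 Cfsg.Agent.Lib.helper2

variable {G : Type*} [Group G] [Fintype G] [Fintype (Cfsg.IrrCharacter G)]

variable (P H : Subgroup G) [Fintype H] [Fintype (Cfsg.IrrCharacter H)]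

theorem h7_brFun_mul {p : ℕ} [hp : Fact p.Prime] {M : Ideal Cfsg.AlgInt}
    (hM : Cfsg.IsPModular p M) (hP : IsPGroup p P)
    (hCH : Subgroup.centralizer (P : Set G) ≤ H)
    (c d : Cfsg.IrrCharacter G → ℂ) (hc : c ∈ h7_intSubring (G := G) M hM.2.1.isPrime)
    (hd : d ∈ h7_intSubring (G := G) M hM.2.1.isPrime) (x : H) :
    Cfsg.MemLocalIdeal M (h7_brFun P H (h7_coef (c * d)) x -
      ∑ y : H, h7_brFun P H (h7_coef c) (x * y⁻¹) * h7_brFun P H (h7_coef d) y) := by
  classical
  haveI : Fintype (Subgroup.centralizer (P : Set G)) := Fintype.ofFinite _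
  have hPr := hM.2.1.isPrime
  set z := h7_brFun P H (h7_coef c) with hz
  set z' := h7_brFun P H (h7_coef d) with hz'
  by_cases hxC : (x : G) ∈ Subgroup.centralizer (P : Set G)
  · rw [h7_brFun_of_mem _ _ _ _ hxC, h7_coef_mul]
    have hsum1 := h7_sum_centralizer hM P hP
      (fun y : G => h7_coef c ((x : G) * y⁻¹) * h7_coef d y)
      (by
        intro u hu' y
        have hu : u * (x : G) = (x : G) * u :=
          Subgroup.mem_centralizer_iff.mp hxC u hu'
        have e : (x : G) * (u * y * u⁻¹)⁻¹ = u * ((x : G) * y⁻¹) * u⁻¹ := by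
          calc (x : G) * (u * y * u⁻¹)⁻¹ = ((x : G) * u) * y⁻¹ * u⁻¹ := by
                group
            _ = (u * (x : G)) * y⁻¹ * u⁻¹ := by rw [hu]
            _ = u * ((x : G) * y⁻¹) * u⁻¹ := by group
        show h7_coef c ((x : G) * (u * y * u⁻¹)⁻¹) * h7_coef d (u * y * u⁻¹) =
          h7_coef c ((x : G) * y⁻¹) * h7_coef d y
        rw [e, h7_coef_conj, h7_coef_conj])
      (fun y => h7_memLocalRing_mul hPr (hc _) (hd _))
    have hsum2 : ∑ y : H, z (x * y⁻¹) * z' y =
        ∑ c' : Subgroup.centralizer (P : Set G),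
          h7_coef c ((x : G) * (c' : G)⁻¹) * h7_coef d (c' : G) := by
      have hF : ∀ (F : G → ℂ), (∀ g, F g = if g ∈ Subgroup.centralizer (P : Set G) then
            h7_coef c ((x : G) * g⁻¹) * h7_coef d g else 0) →
          ∑ y : H, z (x * y⁻¹) * z' y = ∑ c' : Subgroup.centralizer (P : Set G), F (c' : G) := by
        intro F hFdef
        have e1 : ∑ y : H, z (x * y⁻¹) * z' y = ∑ y : H, F (y : G) := by
          refine Finset.sum_congr rfl fun y _ => ?_
          rw [hFdef]
          by_cases hy : (y : G) ∈ Subgroup.centralizer (P : Set G)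
          · have hxy : ((x * y⁻¹ : H) : G) ∈ Subgroup.centralizer (P : Set G) := by
              simp only [Subgroup.coe_mul, Subgroup.coe_inv]
              exact Subgroup.mul_mem _ hxC (Subgroup.inv_mem _ hy)
            rw [hz, hz', h7_brFun_of_mem _ _ _ _ hxy, h7_brFun_of_mem _ _ _ _ hy, if_pos hy]
            simp only [Subgroup.coe_mul, Subgroup.coe_inv]
          · rw [hz', h7_brFun_of_not_mem _ _ _ _ hy, if_neg hy, mul_zero]
        rw [e1, ← h7_sum_subgroup_of_support H F (fun g hg => by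
          rw [hFdef, if_neg (fun h => hg (hCH h))]),
          h7_sum_subgroup_of_support (Subgroup.centralizer (P : Set G)) F (fun g hg => by
          rw [hFdef, if_neg hg])]
      rw [hF _ (fun g => rfl)]
      refine Finset.sum_congr rfl fun c' _ => ?_
      rw [if_pos c'.2]
    rw [hsum2]
    exact hsum1
  · rw [h7_brFun_of_not_mem _ _ _ _ hxC]
    have : ∑ y : H, z (x * y⁻¹) * z' y = 0 := by
      apply Finset.sum_eq_zero
      intro y _
      by_cases hy : (y : G) ∈ Subgroup.centralizer (P : Set G)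
      · have hxy : ((x * y⁻¹ : H) : G) ∉ Subgroup.centralizer (P : Set G) := by
          intro h
          apply hxC
          have := Subgroup.mul_mem _ h hy
          simpa using this
        rw [hz, h7_brFun_of_not_mem _ _ _ _ hxy, zero_mul]
      · rw [hz', h7_brFun_of_not_mem _ _ _ _ hy, mul_zero]
    rw [this, sub_zero]
    exact h7_memLocalIdeal_zero hPr

theorem h7_brFun_idem_zero {p : ℕ} [hp : Fact p.Prime] {M : Ideal Cfsg.AlgInt}
    (hM : Cfsg.IsPModular p M) (hP : IsPGroup p P)
    (hCH : Subgroup.centralizer (P : Set G) ≤ H)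
    (hHN : H ≤ Subgroup.normalizer (P : Set G))
    (e : Cfsg.IrrCharacter G → ℂ) (he : e ∈ h7_intSubring (G := G) M hM.2.1.isPrime)
    (hee : e * e = e)
    (hall : ∀ ψ : Cfsg.IrrCharacter H, Cfsg.MemLocalIdeal M (h7_brEval P H (ψ : H → ℂ) e))
    (x : H) : Cfsg.MemLocalIdeal M (h7_brFun P H (h7_coef e) x) := by
  classical
  have hPr := hM.2.1.isPrime
  set ε := h7_brFun P H (h7_coef e) with hε
  have hεcl : ∀ a b : H, ε (b * a * b⁻¹) = ε a :=
    fun a b => h7_brFun_class P H hHN _ (fun g h => h7_coef_conj e g h) a b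
  have hεS : ∀ a : H, Cfsg.MemLocalRing M (ε a) := by
    intro a
    rw [hε]
    unfold h7_brFun
    split_ifs
    · exact he _
    · exact h7_memLocalRing_zero hPr
  set ν := h7_fourier ε with hν
  have hνm : ∀ ψ : Cfsg.IrrCharacter H, Cfsg.MemLocalIdeal M (ν ψ) := by
    intro ψ
    have : ν ψ = h7_brEval P H (ψ : H → ℂ) e := by
      rw [hν, h7_fourier_apply]
      unfold h7_brEval h7_omega
      rw [Finset.sum_div]
    rw [this]
    exact hall ψ
  obtain ⟨n, hn⟩ := h7_radical_pow hM ν hνm
  have hcoefν : h7_coef ν = ε := h7_coef_fourier ε hεcl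
  have hidem : ∀ a : H, Cfsg.MemLocalIdeal M (ε a - ∑ y : H, ε (a * y⁻¹) * ε y) := by
    intro a
    have := h7_brFun_mul P H hM hP hCH e e he he a
    rw [hee] at this
    exact this
  have key : ∀ k : ℕ, ∀ a : H, Cfsg.MemLocalIdeal M (h7_coef (ν ^ (k + 1)) a - ε a) := by
    intro k
    induction k with
    | zero =>
      intro a
      rw [zero_add, pow_one, hcoefν, sub_self]
      exact h7_memLocalIdeal_zero hPr
    | succ k ih =>
      intro a
      rw [pow_succ, h7_coef_mul, hcoefν]
      have e1 : ∑ y : H, h7_coef (ν ^ (k + 1)) (a * y⁻¹) * ε y - ε a =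
          ∑ y : H, (h7_coef (ν ^ (k + 1)) (a * y⁻¹) - ε (a * y⁻¹)) * ε y -
          (ε a - ∑ y : H, ε (a * y⁻¹) * ε y) := by
        simp only [sub_mul, Finset.sum_sub_distrib]
        ring
      rw [e1]
      apply h7_memLocalIdeal_sub hPr _ (hidem a)
      apply h7_memLocalIdeal_sum hPr
      intro y _
      exact h7_memLocalIdeal_mul_right hPr (ih _) (hεS y)
  have h1 := key n x
  have h2 := hn x
  have e2 : ε x = h7_coef (ν ^ (n + 1)) x - (h7_coef (ν ^ (n + 1)) x - ε x) := by ring
  rw [e2]
  exact h7_memLocalIdeal_sub hPr h2 h1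

end Cfsg.Agent.Lib.helper7
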