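import Mathlib
import Cfsg.Prelude.Def_Blocks
import Cfsg.Agent.Lib.helper7.BlockMinMax
import Cfsg.Agent.Lib.helper7.BlockBrauer
import Cfsg.Agent.Lib.Helper25.PrincipalDefect

set_option autoImplicit false
set_option linter.style.haveILetI false
set_option linter.unusedSectionVars false
set_option linter.unusedVariables false

namespace Cfsg.Agent.Lib.helper7

open scoped ComplexConjugate
open Cfsg.Agent.Lib.Helper25 Cfsg.Agent.Lib.Helper11 Cfsg.Agent.Lib.helper2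

variable {G : Type*} [Group G]

theorem h7_isDefectGroup_of_card [Finite G] (p : ℕ) [hp : Fact p.Prime] (M : Ideal Cfsg.AlgInt)
    (B : Set (Cfsg.IrrCharacter G)) (g : G) (hg : Cfsg.IsDefectClass M B g) (D : Subgroup G)
    (hD : D ≤ Subgroup.centralizer ({g} : Set G))
    (hcard : Nat.card D = p ^ (Nat.card (Subgroup.centralizer ({g} : Set G))).factorization p) :
    Cfsg.IsDefectGroup p M B D := by
  have hc : Nat.card (D.subgroupOf (Subgroup.centralizer ({g} : Set G))) =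
      p ^ (Nat.card (Subgroup.centralizer ({g} : Set G))).factorization p := by
    rw [← hcard]
    exact Nat.card_congr (Subgroup.subgroupOfEquivOfLe hD).toEquiv
  refine ⟨g, hg, Sylow.ofCard _ hc, ?_⟩
  rw [Sylow.coe_ofCard, Subgroup.map_subgroupOf_eq_of_le hD]

theorem h7_card_centralizer_conj [Finite G] (g x : G) :
    Nat.card (Subgroup.centralizer ({x * g * x⁻¹} : Set G)) =
      Nat.card (Subgroup.centralizer ({g} : Set G)) := by
  have h : Subgroup.centralizer ({x * g * x⁻¹} : Set G) =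
      (Subgroup.centralizer ({g} : Set G)).map (MulAut.conj x).toMonoidHom := by
    ext y
    rw [Subgroup.mem_map, Subgroup.mem_centralizer_singleton_iff]
    constructor
    · intro hy
      refine ⟨x⁻¹ * y * x, ?_, ?_⟩
      · rw [Subgroup.mem_centralizer_singleton_iff]
        have e1 : x⁻¹ * y * x * g = x⁻¹ * (y * (x * g * x⁻¹)) * x := by group
        have e2 : g * (x⁻¹ * y * x) = x⁻¹ * ((x * g * x⁻¹) * y) * x := by group
        rw [e1, e2, hy]
      · show x * (x⁻¹ * y * x) * x⁻¹ = y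
        group
    · rintro ⟨z, hz, rfl⟩
      rw [Subgroup.mem_centralizer_singleton_iff] at hz
      show x * z * x⁻¹ * (x * g * x⁻¹) = x * g * x⁻¹ * (x * z * x⁻¹)
      have e1 : x * z * x⁻¹ * (x * g * x⁻¹) = x * (z * g) * x⁻¹ := by group
      have e2 : x * g * x⁻¹ * (x * z * x⁻¹) = x * (g * z) * x⁻¹ := by group
      rw [e1, e2, hz]
  rw [h, Subgroup.card_map_of_injective (f := (MulAut.conj x).toMonoidHom)
    (MulAut.conj x).injective]

theorem h7_isDefectGroup_conj [Fintype G] (p : ℕ) [hp : Fact p.Prime] (M : Ideal Cfsg.AlgInt)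
    (B : Set (Cfsg.IrrCharacter G)) (D : Subgroup G) (hD : Cfsg.IsDefectGroup p M B D) (x : G) :
    Cfsg.IsDefectGroup p M B (D.map (MulAut.conj x).toMonoidHom) := by
  obtain ⟨g, hg, Q, rfl⟩ := hD
  apply h7_isDefectGroup_of_card p M B (x * g * x⁻¹) (pb_defectClass_conj M B g x hg)
  · rintro _ ⟨_, ⟨q, _, rfl⟩, rfl⟩
    have hq := Subgroup.mem_centralizer_singleton_iff.mp q.2
    rw [Subgroup.mem_centralizer_singleton_iff]
    show x * (q : G) * x⁻¹ * (x * g * x⁻¹) = x * g * x⁻¹ * (x * (q : G) * x⁻¹)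
    have e1 : x * (q : G) * x⁻¹ * (x * g * x⁻¹) = x * ((q : G) * g) * x⁻¹ := by group
    have e2 : x * g * x⁻¹ * (x * (q : G) * x⁻¹) = x * (g * (q : G)) * x⁻¹ := by group
    rw [e1, e2, hq]
  · rw [Subgroup.card_map_of_injective (f := (MulAut.conj x).toMonoidHom)
      (MulAut.conj x).injective,
      Subgroup.card_map_of_injective (Subgroup.subtype_injective _), h7_card_centralizer_conj]
    exact Sylow.card_eq_multiplicity Q

theorem h7_icc_memLocalRing [Fintype G] {M : Ideal Cfsg.AlgInt} (hM : M.IsPrime) (H : Subgroup G)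
    (ξ : Cfsg.IrrCharacter H) (g : G) :
    Cfsg.MemLocalRing M (Cfsg.inducedCentralChar H (ξ : H → ℂ) g) := by
  classical
  haveI : Fintype H := Fintype.ofFinite _
  haveI : Fintype (ConjClasses H) := Fintype.ofFinite _
  rw [h7_icc_expand' H ξ g]
  apply h7_memLocalRing_sum hM
  intro L _
  apply h7_memLocalRing_mul hM _ (h7_memLocalRing_centralChar hM ξ _)
  split_ifs
  · exact h7_memLocalRing_one hM
  · exact h7_memLocalRing_zero hM

theorem h7_induced_defect_le [Fintype G] [Fintype (Cfsg.IrrCharacter G)] {p : ℕ}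
    [hp : Fact p.Prime] {M : Ideal Cfsg.AlgInt} (hM : Cfsg.IsPModular p M) (H : Subgroup G)
    (ξ₀ : Cfsg.IrrCharacter H) (χ₀ : Cfsg.IrrCharacter G)
    (hcong : ∀ g : G, Cfsg.MemLocalIdeal M
      (Cfsg.inducedCentralChar H (ξ₀ : H → ℂ) g - Cfsg.centralChar (χ₀ : G → ℂ) g))
    (D : Subgroup H) (hD : Cfsg.IsDefectGroup p M (Cfsg.blockOf M (ξ₀ : H → ℂ)) D) :
    ∃ E : Subgroup G, Cfsg.IsDefectGroup p M (Cfsg.blockOf M (χ₀ : G → ℂ)) E ∧
      D.map H.subtype ≤ E := by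
  classical
  haveI : Fintype H := Fintype.ofFinite _
  haveI : Fintype (Cfsg.IrrCharacter H) := Fintype.ofFinite _
  haveI : Fintype (ConjClasses G) := Fintype.ofFinite _
  haveI : Fintype (ConjClasses H) := Fintype.ofFinite _
  have hPr := hM.2.1.isPrime
  obtain ⟨h₀, hh₀, Q₀, rfl⟩ := hD
  have hχ₀B : χ₀ ∈ Cfsg.blockOf M (χ₀ : G → ℂ) := h7_sameBlock_refl hPr _
  have e1 := h7_eval_expand
    (fun φ : Cfsg.IrrCharacter G => if φ ∈ Cfsg.blockOf M (χ₀ : G → ℂ) then (1 : ℂ) else 0) χ₀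
  simp only [if_pos hχ₀B] at e1
  obtain ⟨K, hK⟩ : ∃ K : ConjClasses G, ¬ Cfsg.MemLocalIdeal M
      (Cfsg.blockCoeff (Cfsg.blockOf M (χ₀ : G → ℂ)) (Quotient.out K) *
        Cfsg.inducedCentralChar H (ξ₀ : H → ℂ) (Quotient.out K)) := by
    by_contra hall
    push Not at hall
    apply h7_not_memLocalIdeal_one hPr
    have h1 : Cfsg.MemLocalIdeal M (∑ K : ConjClasses G,
        h7_coef (fun φ : Cfsg.IrrCharacter G =>
          if φ ∈ Cfsg.blockOf M (χ₀ : G → ℂ) then (1 : ℂ) else 0) (Quotient.out K) *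
          Cfsg.centralChar (χ₀ : G → ℂ) (Quotient.out K)) := by
      apply h7_memLocalIdeal_sum hPr
      intro K _
      have : h7_coef (fun φ : Cfsg.IrrCharacter G =>
          if φ ∈ Cfsg.blockOf M (χ₀ : G → ℂ) then (1 : ℂ) else 0) (Quotient.out K) *
          Cfsg.centralChar (χ₀ : G → ℂ) (Quotient.out K) =
          Cfsg.blockCoeff (Cfsg.blockOf M (χ₀ : G → ℂ)) (Quotient.out K) *
            Cfsg.inducedCentralChar H (ξ₀ : H → ℂ) (Quotient.out K) -
          Cfsg.blockCoeff (Cfsg.blockOf M (χ₀ : G → ℂ)) (Quotient.out K) *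
            (Cfsg.inducedCentralChar H (ξ₀ : H → ℂ) (Quotient.out K) -
              Cfsg.centralChar (χ₀ : G → ℂ) (Quotient.out K)) := by
        rw [h7_coef_indicator]
        ring
      rw [this]
      exact h7_memLocalIdeal_sub hPr (hall K)
        (h7_memLocalIdeal_mul_left hPr (h7_osima hPr χ₀ _) (hcong _))
    rw [← e1] at h1
    exact h1
  set k := Quotient.out K with hk
  have he : ¬ Cfsg.MemLocalIdeal M (Cfsg.blockCoeff (Cfsg.blockOf M (χ₀ : G → ℂ)) k) :=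
    fun hmem => hK (h7_memLocalIdeal_mul_right hPr hmem (h7_icc_memLocalRing hPr H ξ₀ k))
  have hicc : ¬ Cfsg.MemLocalIdeal M (Cfsg.inducedCentralChar H (ξ₀ : H → ℂ) k) :=
    fun hmem => hK (h7_memLocalIdeal_mul_left hPr (h7_osima hPr χ₀ _) hmem)
  rw [h7_icc_expand' H ξ₀ k] at hicc
  obtain ⟨L, hL⟩ : ∃ L : ConjClasses H, ¬ Cfsg.MemLocalIdeal M
      ((if IsConj k ((Quotient.out L : H) : G) then (1 : ℂ) else 0) *
        Cfsg.centralChar (ξ₀ : H → ℂ) (Quotient.out L)) := by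
    by_contra hall
    push Not at hall
    exact hicc (h7_memLocalIdeal_sum hPr _ _ (fun L _ => hall L))
  set l := (Quotient.out L : H) with hl
  have hkl : IsConj k (l : G) := by
    by_contra hno
    apply hL
    rw [if_neg hno, zero_mul]
    exact h7_memLocalIdeal_zero hPr
  have hωl : ¬ Cfsg.MemLocalIdeal M (Cfsg.centralChar (ξ₀ : H → ℂ) l) := by
    intro hmem
    apply hL
    rw [if_pos hkl, one_mul]
    exact hmem
  obtain ⟨x, Ql, hxQ⟩ := h7_minmax_b hM ξ₀ h₀ hh₀ Q₀ l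
    ⟨ξ₀, h7_sameBlock_refl hPr _, hωl⟩
  obtain ⟨g, hg⟩ := h7_exists_defect_class hPr χ₀
  obtain Dg : Sylow p (Subgroup.centralizer ({g} : Set G)) := default
  obtain ⟨z, Qk, hzQ⟩ := h7_minmax_a hM χ₀ g hg Dg k he
  obtain ⟨s, hs⟩ := isConj_iff.mp hkl
  have hs' : s⁻¹ * (l : G) * s⁻¹⁻¹ = k := by
    rw [← hs]
    group
  set R := ((Ql : Subgroup (Subgroup.centralizer ({l} : Set H))).map
    (Subgroup.centralizer ({l} : Set H)).subtype).map H.subtype with hR
  have hRp : IsPGroup p R := (Ql.isPGroup'.map _).map _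
  have hR'le : R.map (MulAut.conj s⁻¹).toMonoidHom ≤ Subgroup.centralizer ({k} : Set G) := by
    rintro _ ⟨_, ⟨_, ⟨q, _, rfl⟩, rfl⟩, rfl⟩
    apply h7_conj_mem_centralizer hs'
    have hq := Subgroup.mem_centralizer_singleton_iff.mp q.2
    have := congrArg Subtype.val hq
    simpa using this
  obtain ⟨c, hc, hcle⟩ := h7_le_conj_sylow p (Subgroup.centralizer ({k} : Set G)) Qk
    (R.map (MulAut.conj s⁻¹).toMonoidHom) (hRp.map _) hR'le
  refine ⟨((Dg : Subgroup (Subgroup.centralizer ({g} : Set G))).map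
    (Subgroup.centralizer ({g} : Set G)).subtype).map
      (MulAut.conj ((x : G)⁻¹ * s * c * z)).toMonoidHom,
    h7_isDefectGroup_conj p M _ _ ⟨g, hg, Dg, rfl⟩ _, ?_⟩
  rintro _ ⟨d, hd, rfl⟩
  have h1 : x * d * x⁻¹ ∈ (Ql : Subgroup (Subgroup.centralizer ({l} : Set H))).map
      (Subgroup.centralizer ({l} : Set H)).subtype := hxQ ⟨d, hd, rfl⟩
  have h2 : ((x * d * x⁻¹ : H) : G) ∈ R := ⟨x * d * x⁻¹, h1, rfl⟩
  have h3 : s⁻¹ * ((x * d * x⁻¹ : H) : G) * s⁻¹⁻¹ ∈ R.map (MulAut.conj s⁻¹).toMonoidHom :=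
    ⟨_, h2, rfl⟩
  obtain ⟨q, hq, hqe⟩ := hcle h3
  obtain ⟨e, hee, heq⟩ := hzQ hq
  have hqe' : c * q * c⁻¹ = s⁻¹ * ((x * d * x⁻¹ : H) : G) * s⁻¹⁻¹ := hqe
  have heq' : z * e * z⁻¹ = q := heq
  refine ⟨e, hee, ?_⟩
  show ((x : G)⁻¹ * s * c * z) * e * ((x : G)⁻¹ * s * c * z)⁻¹ = ((d : H) : G)
  have e2 : ((x : G)⁻¹ * s * c * z) * e * ((x : G)⁻¹ * s * c * z)⁻¹ =
      (x : G)⁻¹ * s * (c * (z * e * z⁻¹) * c⁻¹) * s⁻¹ * (x : G) := by group
  rw [e2, heq', hqe']
  simp only [Subgroup.coe_mul, Subgroup.coe_inv]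
  group

end Cfsg.Agent.Lib.helper7
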