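import Mathlib
import Cfsg.Prelude.Def_Blocks
import Cfsg.Agent.Lib.helper7.BlockBrauer3
import Cfsg.Agent.Lib.helper7.BlockDefGrp
import Cfsg.Agent.S0916
import Cfsg.Agent.S0906

set_option autoImplicit false
set_option linter.style.haveILetI false
set_option linter.unusedSectionVars false
set_option linter.unusedVariables false

namespace Cfsg.Agent.Lib.helper7

open scoped ComplexConjugate
open Cfsg.Agent.Lib.Helper25 Cfsg.Agent.Lib.Helper11 Cfsg.Agent.Lib.helper2

variable {G : Type*} [Group G]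

theorem h7_centralChar_conj [Finite G] (χ : Cfsg.IrrCharacter G) (g x : G) :
    Cfsg.centralChar (χ : G → ℂ) (x * g * x⁻¹) = Cfsg.centralChar (χ : G → ℂ) g := by
  unfold Cfsg.centralChar
  rw [irr_conj_invariant]
  have := h7_index_centralizer_equiv (MulAut.conj x) g
  rw [MulAut.conj_apply] at this
  rw [this]

theorem h7_centralChar_of_isConj [Finite G] (χ : Cfsg.IrrCharacter G) {g h : G}
    (hc : IsConj g h) : Cfsg.centralChar (χ : G → ℂ) g = Cfsg.centralChar (χ : G → ℂ) h := by
  obtain ⟨x, hx⟩ := isConj_iff.mp hc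
  rw [← hx, h7_centralChar_conj]

theorem h7_centralizer_sub_map (H : Subgroup G) (l : H) :
    (Subgroup.centralizer ({l} : Set H)).map H.subtype =
      Subgroup.centralizer ({(l : G)} : Set G) ⊓ H := by
  ext y
  rw [Subgroup.mem_map, Subgroup.mem_inf, Subgroup.mem_centralizer_singleton_iff]
  constructor
  · rintro ⟨z, hz, rfl⟩
    rw [Subgroup.mem_centralizer_singleton_iff] at hz
    refine ⟨?_, z.2⟩
    have := congrArg (fun t : H => (t : G)) hz
    simpa using this
  · rintro ⟨h1, h2⟩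
    refine ⟨⟨y, h2⟩, ?_, rfl⟩
    rw [Subgroup.mem_centralizer_singleton_iff]
    exact Subtype.ext h1

theorem h7_card_centralizer_sub (H : Subgroup G) (l : H) :
    Nat.card (Subgroup.centralizer ({l} : Set H)) =
      Nat.card (Subgroup.centralizer ({(l : G)} : Set G) ⊓ H : Subgroup G) := by
  rw [← h7_centralizer_sub_map, Subgroup.card_map_of_injective H.subtype_injective]

theorem h7_card_subgroupOf {P H : Subgroup G} (hPH : P ≤ H) :
    Nat.card (P.subgroupOf H) = Nat.card P :=
  Nat.card_congr (Subgroup.subgroupOfEquivOfLe hPH).toEquiv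

theorem h7_le_centralizer_of_mem {P : Subgroup G} {g : G}
    (hg : g ∈ Subgroup.centralizer (P : Set G)) : P ≤ Subgroup.centralizer ({g} : Set G) := by
  intro u hu
  rw [Subgroup.mem_centralizer_singleton_iff]
  exact Subgroup.mem_centralizer_iff.mp hg u hu

theorem h7_mem_centralizer_of_le {P : Subgroup G} {g : G}
    (h : P ≤ Subgroup.centralizer ({g} : Set G)) : g ∈ Subgroup.centralizer (P : Set G) := by
  rw [Subgroup.mem_centralizer_iff]
  intro u hu
  exact Subgroup.mem_centralizer_singleton_iff.mp (h hu)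

theorem h7_sylow_transfer [Finite G] (p : ℕ) [hp : Fact p.Prime] (P : Subgroup G)
    (hP : IsPGroup p P) (l : Subgroup.normalizer (P : Set G))
    (hl : (l : G) ∈ Subgroup.centralizer (P : Set G))
    (hcard : Nat.card P = p ^ (Nat.card (Subgroup.centralizer
      ({l} : Set (Subgroup.normalizer (P : Set G))))).factorization p) :
    Nat.card P = p ^ (Nat.card (Subgroup.centralizer ({(l : G)} : Set G))).factorization p := by
  have hPC : P ≤ Subgroup.centralizer ({(l : G)} : Set G) := h7_le_centralizer_of_mem hl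
  rw [h7_card_centralizer_sub] at hcard
  have h1 : ∃ S : Sylow p (Subgroup.centralizer ({(l : G)} : Set G) ⊓
      Subgroup.normalizer (P : Set G) : Subgroup G),
      (S : Subgroup ↥(Subgroup.centralizer ({(l : G)} : Set G) ⊓
        Subgroup.normalizer (P : Set G))).map
        (Subgroup.centralizer ({(l : G)} : Set G) ⊓ Subgroup.normalizer (P : Set G)).subtype = P :=
    (Cfsg.Agent.S0916.sylow_iff_card p P _).mpr ⟨le_inf hPC Subgroup.le_normalizer, hcard⟩
  have h2 := (Cfsg.Agent.S0916.result p P hP).2 (l : G) hl h1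
  exact ((Cfsg.Agent.S0916.sylow_iff_card p P _).mp h2).2

theorem h7_mem_centralizer_of_centralChar [Finite G] {p : ℕ} [hp : Fact p.Prime]
    {M : Ideal Cfsg.AlgInt} (hM : Cfsg.IsPModular p M) (P : Subgroup G) (hP : IsPGroup p P)
    (ξ : Cfsg.IrrCharacter (Subgroup.normalizer (P : Set G)))
    (l : Subgroup.normalizer (P : Set G))
    (h : ¬ Cfsg.MemLocalIdeal M
      (Cfsg.centralChar (ξ : Subgroup.normalizer (P : Set G) → ℂ) l)) :
    (l : G) ∈ Subgroup.centralizer (P : Set G) := by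
  classical
  haveI : Fintype (Subgroup.normalizer (P : Set G)) := Fintype.ofFinite _
  haveI : Fintype (Cfsg.IrrCharacter (Subgroup.normalizer (P : Set G))) := Fintype.ofFinite _
  by_contra hl
  apply h
  haveI : (P.subgroupOf (Subgroup.normalizer (P : Set G))).Normal := Subgroup.normal_in_normalizer
  apply h7_centralChar_mem_of_not_centralize hM (P.subgroupOf (Subgroup.normalizer (P : Set G)))
    hP.comap_subtype ξ l
  intro hle
  apply hl
  rw [Subgroup.mem_centralizer_iff]
  intro u hu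
  have h1 : (⟨u, Subgroup.le_normalizer hu⟩ : Subgroup.normalizer (P : Set G)) ∈
      P.subgroupOf (Subgroup.normalizer (P : Set G)) := Subgroup.mem_subgroupOf.mpr hu
  have h2 := Subgroup.mem_centralizer_singleton_iff.mp (hle h1)
  have h3 := congrArg (fun t : Subgroup.normalizer (P : Set G) => (t : G)) h2
  simp only [Subgroup.coe_mul] at h3
  exact h3

theorem h7_bcc_single [Fintype G] (p : ℕ) [hp : Fact p.Prime] (P : Subgroup G)
    (ξ : Cfsg.IrrCharacter (Subgroup.normalizer (P : Set G)))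
    (l : Subgroup.normalizer (P : Set G))
    (hl : (l : G) ∈ Subgroup.centralizer (P : Set G))
    (hcard : Nat.card P =
      p ^ (Nat.card (Subgroup.centralizer ({(l : G)} : Set G))).factorization p) :
    Cfsg.brauerCentralChar P (Subgroup.normalizer (P : Set G))
      (ξ : Subgroup.normalizer (P : Set G) → ℂ) (l : G) =
      Cfsg.centralChar (ξ : Subgroup.normalizer (P : Set G) → ℂ) l := by
  classical
  haveI : Fintype (Subgroup.normalizer (P : Set G)) := Fintype.ofFinite _
  haveI : Fintype (ConjClasses (Subgroup.normalizer (P : Set G))) := Fintype.ofFinite _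
  rw [h7_bcc_expand P (Subgroup.normalizer (P : Set G)) le_rfl ξ (l : G)]
  have hout : IsConj (Quotient.out (ConjClasses.mk l)) l :=
    ConjClasses.mk_eq_mk_iff_isConj.mp (Quotient.out_eq (ConjClasses.mk l))
  rw [Finset.sum_eq_single (ConjClasses.mk l)]
  · have h1 : IsConj (l : G) ((Quotient.out (ConjClasses.mk l) :
        Subgroup.normalizer (P : Set G)) : G) :=
      ((Subgroup.normalizer (P : Set G)).subtype).map_isConj hout.symm
    have h2 : ((Quotient.out (ConjClasses.mk l) : Subgroup.normalizer (P : Set G)) : G) ∈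
        Subgroup.centralizer (P : Set G) := by
      obtain ⟨n, hn⟩ := isConj_iff.mp hout.symm
      rw [← hn]
      simp only [Subgroup.coe_mul, Subgroup.coe_inv]
      exact (h7_conj_mem_centralizer_of_normalizer P (n : G) (l : G) n.2).mpr hl
    rw [if_pos ⟨h1, h2⟩, one_mul]
    exact h7_centralChar_of_isConj ξ hout
  · intro L _ hL
    rw [if_neg, zero_mul]
    rintro ⟨h1, h2⟩
    apply hL
    obtain ⟨n, hn, hn2⟩ := Cfsg.Agent.S0916.part_one p P (l : G)
      ⟨h7_le_centralizer_of_mem hl, hcard⟩ _ h1 h2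
    rw [← Quotient.out_eq L]
    exact ConjClasses.mk_eq_mk_iff_isConj.mpr (isConj_iff.mpr ⟨⟨n, hn⟩, Subtype.ext hn2⟩)
  · intro h
    exact absurd (Finset.mem_univ _) h

theorem h7_card_defect_sylow {p : ℕ} [hp : Fact p.Prime] {Γ : Type*} [Group Γ] [Finite Γ]
    (K : Subgroup Γ) (Q : Sylow p K) :
    Nat.card ((Q : Subgroup K).map K.subtype) = p ^ (Nat.card K).factorization p := by
  rw [Subgroup.card_map_of_injective K.subtype_injective]
  exact Sylow.card_eq_multiplicity Q

theorem h7_first_main_i [Fintype G] [Fintype (Cfsg.IrrCharacter G)] {p : ℕ} [hp : Fact p.Prime]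
    {M : Ideal Cfsg.AlgInt} (hM : Cfsg.IsPModular p M) (P : Subgroup G) (hP : IsPGroup p P)
    (b : Set (Cfsg.IrrCharacter (Subgroup.normalizer (P : Set G)))) (hb : Cfsg.IsPBlock M b)
    (hD : Cfsg.IsDefectGroup p M b (P.subgroupOf (Subgroup.normalizer (P : Set G)))) :
    ∃ B : Set (Cfsg.IrrCharacter G), Cfsg.IsPBlock M B ∧ Cfsg.IsDefectGroup p M B P ∧
      Cfsg.IsInducedBlock M (Subgroup.normalizer (P : Set G)) b B := by
  classical
  haveI : Fintype (Subgroup.normalizer (P : Set G)) := Fintype.ofFinite _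
  haveI : Fintype (Cfsg.IrrCharacter (Subgroup.normalizer (P : Set G))) := Fintype.ofFinite _
  have hPr := hM.2.1.isPrime
  obtain ⟨ξ₀, rfl⟩ := hb
  have hPN : P ≤ Subgroup.normalizer (P : Set G) := Subgroup.le_normalizer
  have hCN : Subgroup.centralizer (P : Set G) ≤ Subgroup.normalizer (P : Set G) :=
    Subgroup.centralizer_le_normalizer _
  have hD' := hD
  obtain ⟨l, hl, Q, hQ⟩ := hD
  have hξ₀b : ξ₀ ∈ Cfsg.blockOf M (ξ₀ : Subgroup.normalizer (P : Set G) → ℂ) :=
    h7_sameBlock_refl hPr _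
  have hωl : ¬ Cfsg.MemLocalIdeal M
      (Cfsg.centralChar (ξ₀ : Subgroup.normalizer (P : Set G) → ℂ) l) := hl.2.2 ξ₀ hξ₀b
  have hlC : (l : G) ∈ Subgroup.centralizer (P : Set G) :=
    h7_mem_centralizer_of_centralChar hM P hP ξ₀ l hωl
  have hcardN : Nat.card P = p ^ (Nat.card (Subgroup.centralizer
      ({l} : Set (Subgroup.normalizer (P : Set G))))).factorization p := by
    rw [← h7_card_subgroupOf hPN, hQ]
    exact h7_card_defect_sylow _ Q
  have hcardG := h7_sylow_transfer p P hP l hlC hcardN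
  have hsingle := h7_bcc_single p P ξ₀ l hlC hcardG
  obtain ⟨χ₀, hχ₀⟩ := h7_brauer_hom_block P (Subgroup.normalizer (P : Set G)) hM hP hCN le_rfl ξ₀
  have hind := h7_brauer_induced P (Subgroup.normalizer (P : Set G)) hM hP hPN le_rfl ξ₀ χ₀ hχ₀
  refine ⟨Cfsg.blockOf M (χ₀ : G → ℂ), ⟨χ₀, rfl⟩, ?_, hind⟩
  have h3 := hχ₀ _ (h7_centralChar_mem hPr (l : G))
  rw [h7_brEval_centralChar, hsingle] at h3
  have hωχ : ¬ Cfsg.MemLocalIdeal M (Cfsg.centralChar (χ₀ : G → ℂ) (l : G)) := by
    intro h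
    apply hωl
    have := h7_memLocalIdeal_add hPr h3 h
    rwa [sub_add_cancel] at this
  obtain ⟨g', hg'⟩ := Cfsg.Agent.S0906.result p M hM (Cfsg.blockOf M (χ₀ : G → ℂ)) ⟨χ₀, rfl⟩
  obtain ⟨Q'⟩ : Nonempty (Sylow p (Subgroup.centralizer ({g'} : Set G))) := inferInstance
  have hχ₀B : χ₀ ∈ Cfsg.blockOf M (χ₀ : G → ℂ) := h7_sameBlock_refl hPr _
  obtain ⟨x, Q'', hle⟩ := h7_minmax_b hM χ₀ g' hg' Q' (l : G) ⟨χ₀, hχ₀B, hωχ⟩
  have hcardQ' : Nat.card ((Q' : Subgroup (Subgroup.centralizer ({g'} : Set G))).map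
      (Subgroup.centralizer ({g'} : Set G)).subtype) ≤ Nat.card P := by
    have h1 := Subgroup.card_le_of_le hle
    rw [Subgroup.card_map_of_injective (f := (MulAut.conj x).toMonoidHom)
      (MulAut.conj x).injective, h7_card_defect_sylow _ Q'', ← hcardG] at h1
    exact h1
  obtain ⟨E, hE, hPE⟩ := h7_induced_defect_le hM (Subgroup.normalizer (P : Set G)) ξ₀ χ₀
    (fun g => hind.2.2 ξ₀ hξ₀b χ₀ hχ₀B g) (P.subgroupOf (Subgroup.normalizer (P : Set G))) hD'
  rw [Subgroup.map_subgroupOf_eq_of_le hPN] at hPE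
  have hE' := hE
  obtain ⟨gE, hgE, QE, hQE⟩ := hE
  have c1 := Cfsg.Agent.S0908.defect_card p M hM χ₀ gE hgE QE
  have c2 := Cfsg.Agent.S0908.defect_card p M hM χ₀ g' hg' Q'
  have hEP : P = E := Subgroup.eq_of_le_of_card_ge hPE (by
    rw [hQE, c1, ← c2]
    exact hcardQ')
  rw [hEP]
  exact hE'

theorem h7_subgroupOf_le_centralizer (P : Subgroup G)
    (l : Subgroup.normalizer (P : Set G)) (hl : (l : G) ∈ Subgroup.centralizer (P : Set G)) :
    P.subgroupOf (Subgroup.normalizer (P : Set G)) ≤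
      Subgroup.centralizer ({l} : Set (Subgroup.normalizer (P : Set G))) := by
  intro u hu
  rw [Subgroup.mem_centralizer_singleton_iff]
  apply Subtype.ext
  simp only [Subgroup.coe_mul]
  exact Subgroup.mem_centralizer_iff.mp hl (u : G) (Subgroup.mem_subgroupOf.mp hu)

theorem h7_first_main_exists [Fintype G] [Fintype (Cfsg.IrrCharacter G)] {p : ℕ}
    [hp : Fact p.Prime] {M : Ideal Cfsg.AlgInt} (hM : Cfsg.IsPModular p M) (P : Subgroup G)
    (hP : IsPGroup p P) (B : Set (Cfsg.IrrCharacter G)) (hB : Cfsg.IsPBlock M B)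
    (hD : Cfsg.IsDefectGroup p M B P) :
    ∃ b : Set (Cfsg.IrrCharacter (Subgroup.normalizer (P : Set G))), Cfsg.IsPBlock M b ∧
      Cfsg.IsDefectGroup p M b (P.subgroupOf (Subgroup.normalizer (P : Set G))) ∧
      Cfsg.IsInducedBlock M (Subgroup.normalizer (P : Set G)) b B := by
  classical
  haveI : Fintype (Subgroup.normalizer (P : Set G)) := Fintype.ofFinite _
  haveI : Fintype (Cfsg.IrrCharacter (Subgroup.normalizer (P : Set G))) := Fintype.ofFinite _
  have hPr := hM.2.1.isPrime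
  have hPN : P ≤ Subgroup.normalizer (P : Set G) := Subgroup.le_normalizer
  have hCN : Subgroup.centralizer (P : Set G) ≤ Subgroup.normalizer (P : Set G) :=
    Subgroup.centralizer_le_normalizer _
  obtain ⟨χ₀, rfl⟩ := hB
  obtain ⟨g, hg, Q, hQ⟩ := hD
  have hPC : P ≤ Subgroup.centralizer ({g} : Set G) := by
    rw [hQ]
    exact Subgroup.map_subtype_le _
  have hgC : g ∈ Subgroup.centralizer (P : Set G) := h7_mem_centralizer_of_le hPC
  have hgN : g ∈ Subgroup.normalizer (P : Set G) := hCN hgC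
  have hcardP : Nat.card P = p ^ Cfsg.blockDefect p (Cfsg.blockOf M (χ₀ : G → ℂ)) := by
    rw [hQ]
    exact Cfsg.Agent.S0908.defect_card p M hM χ₀ g hg Q
  set e : Cfsg.IrrCharacter G → ℂ :=
    fun χ => if χ ∈ Cfsg.blockOf M (χ₀ : G → ℂ) then (1 : ℂ) else 0 with he
  have heS : e ∈ h7_intSubring (G := G) M hPr := h7_block_indicator_mem hPr χ₀
  have hee : e * e = e := by
    funext χ
    rw [Pi.mul_apply, he]
    by_cases h : χ ∈ Cfsg.blockOf M (χ₀ : G → ℂ)
    · simp only [if_pos h, mul_one]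
    · simp only [if_neg h, mul_zero]
  obtain ⟨ψ, hψ⟩ : ∃ ψ : Cfsg.IrrCharacter (Subgroup.normalizer (P : Set G)),
      ¬ Cfsg.MemLocalIdeal M (h7_brEval P (Subgroup.normalizer (P : Set G))
        (ψ : Subgroup.normalizer (P : Set G) → ℂ) e) := by
    by_contra hall
    push Not at hall
    have h1 := h7_brFun_idem_zero P (Subgroup.normalizer (P : Set G)) hM hP hCN le_rfl e heS hee
      hall ⟨g, hgN⟩
    rw [h7_brFun_of_mem _ _ _ _ hgC, he, h7_coef_indicator] at h1
    exact hg.2.1 h1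
  obtain ⟨χψ, hχψ⟩ := h7_brauer_hom_block P (Subgroup.normalizer (P : Set G)) hM hP hCN le_rfl ψ
  have h1 := hχψ e heS
  have hχψB : χψ ∈ Cfsg.blockOf M (χ₀ : G → ℂ) := by
    by_contra hne
    have h0 : e χψ = 0 := if_neg hne
    rw [h0, sub_zero] at h1
    exact hψ h1
  have hBeq := h7_blockOf_eq_of_mem hPr χ₀ χψ hχψB
  have hind := h7_brauer_induced P (Subgroup.normalizer (P : Set G)) hM hP hPN le_rfl ψ χψ hχψ
  rw [← hBeq] at hind
  refine ⟨Cfsg.blockOf M (ψ : Subgroup.normalizer (P : Set G) → ℂ), ⟨ψ, rfl⟩, ?_, hind⟩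
  obtain ⟨l, hl⟩ := Cfsg.Agent.S0906.result p M hM
    (Cfsg.blockOf M (ψ : Subgroup.normalizer (P : Set G) → ℂ)) ⟨ψ, rfl⟩
  obtain ⟨Q''⟩ : Nonempty (Sylow p (Subgroup.centralizer
    ({l} : Set (Subgroup.normalizer (P : Set G))))) := inferInstance
  have hψb : ψ ∈ Cfsg.blockOf M (ψ : Subgroup.normalizer (P : Set G) → ℂ) :=
    h7_sameBlock_refl hPr _
  have hχ₀B : χ₀ ∈ Cfsg.blockOf M (χ₀ : G → ℂ) := h7_sameBlock_refl hPr _
  have hlC : (l : G) ∈ Subgroup.centralizer (P : Set G) :=
    h7_mem_centralizer_of_centralChar hM P hP ψ l (hl.2.2 ψ hψb)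
  have hPl := h7_subgroupOf_le_centralizer P l hlC
  apply h7_isDefectGroup_of_card p M _ l hl _ hPl
  obtain ⟨E, hE, hle⟩ := h7_induced_defect_le hM (Subgroup.normalizer (P : Set G)) ψ χ₀
    (fun g => hind.2.2 ψ hψb χ₀ hχ₀B g)
    ((Q'' : Subgroup (Subgroup.centralizer ({l} : Set (Subgroup.normalizer (P : Set G))))).map
      (Subgroup.centralizer ({l} : Set (Subgroup.normalizer (P : Set G)))).subtype)
    ⟨l, hl, Q'', rfl⟩
  obtain ⟨gE, hgE, QE, hQE⟩ := hE
  have c1 := Cfsg.Agent.S0908.defect_card p M hM χ₀ gE hgE QE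
  have hEP : Nat.card E = Nat.card P := by
    rw [hQE, c1, hcardP]
  have h2 := Subgroup.card_le_of_le hle
  rw [Subgroup.card_map_of_injective (Subgroup.subtype_injective _), h7_card_defect_sylow,
    hEP] at h2
  have h3 := Cfsg.Agent.S0916.pgroup_card_dvd p
    (P.subgroupOf (Subgroup.normalizer (P : Set G)))
    (Subgroup.centralizer ({l} : Set (Subgroup.normalizer (P : Set G)))) hP.comap_subtype hPl
  rw [h7_card_subgroupOf hPN] at h3 ⊢
  exact le_antisymm (Nat.le_of_dvd (pow_pos hp.out.pos _) h3) h2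

theorem h7_first_main_unique [Fintype G] [Fintype (Cfsg.IrrCharacter G)] {p : ℕ}
    [hp : Fact p.Prime] {M : Ideal Cfsg.AlgInt} (hM : Cfsg.IsPModular p M) (P : Subgroup G)
    (hP : IsPGroup p P) (B : Set (Cfsg.IrrCharacter G))
    (b1 b2 : Set (Cfsg.IrrCharacter (Subgroup.normalizer (P : Set G))))
    (hD1 : Cfsg.IsDefectGroup p M b1 (P.subgroupOf (Subgroup.normalizer (P : Set G))))
    (hI1 : Cfsg.IsInducedBlock M (Subgroup.normalizer (P : Set G)) b1 B)
    (hI2 : Cfsg.IsInducedBlock M (Subgroup.normalizer (P : Set G)) b2 B) : b1 = b2 := by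
  classical
  haveI : Fintype (Subgroup.normalizer (P : Set G)) := Fintype.ofFinite _
  haveI : Fintype (Cfsg.IrrCharacter (Subgroup.normalizer (P : Set G))) := Fintype.ofFinite _
  haveI : Fintype (ConjClasses (Subgroup.normalizer (P : Set G))) := Fintype.ofFinite _
  have hPr := hM.2.1.isPrime
  have hPN : P ≤ Subgroup.normalizer (P : Set G) := Subgroup.le_normalizer
  obtain ⟨ξ1, rfl⟩ := hI1.1
  obtain ⟨ξ2, rfl⟩ := hI2.1
  obtain ⟨χ₀, rfl⟩ := hI1.2.1
  have hξ1 : ξ1 ∈ Cfsg.blockOf M (ξ1 : Subgroup.normalizer (P : Set G) → ℂ) :=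
    h7_sameBlock_refl hPr _
  have hξ2 : ξ2 ∈ Cfsg.blockOf M (ξ2 : Subgroup.normalizer (P : Set G) → ℂ) :=
    h7_sameBlock_refl hPr _
  have hχ₀B : χ₀ ∈ Cfsg.blockOf M (χ₀ : G → ℂ) := h7_sameBlock_refl hPr _
  set e : Cfsg.IrrCharacter (Subgroup.normalizer (P : Set G)) → ℂ :=
    fun ξ => if ξ ∈ Cfsg.blockOf M (ξ1 : Subgroup.normalizer (P : Set G) → ℂ) then (1 : ℂ) else 0
    with he
  have heS : e ∈ h7_intSubring (G := Subgroup.normalizer (P : Set G)) M hPr :=
    h7_block_indicator_mem hPr ξ1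
  have e1 := h7_eval_expand e ξ1
  have e2 := h7_eval_expand e ξ2
  have hdiff : Cfsg.MemLocalIdeal M (e ξ2 - e ξ1) := by
    rw [e1, e2, ← Finset.sum_sub_distrib]
    apply h7_memLocalIdeal_sum hPr
    intro L _
    rw [← mul_sub]
    set l := Quotient.out L with hl
    by_cases hc : Cfsg.MemLocalIdeal M (h7_coef e l)
    · exact h7_memLocalIdeal_mul_right hPr hc (h7_memLocalRing_sub hPr
        (h7_memLocalRing_centralChar hPr ξ2 l) (h7_memLocalRing_centralChar hPr ξ1 l))
    · apply h7_memLocalIdeal_mul_left hPr (heS l)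
      by_cases hlC : (l : G) ∈ Subgroup.centralizer (P : Set G)
      · obtain ⟨l1, hl1, Q1, hQ1⟩ := hD1
        have hc' : ¬ Cfsg.MemLocalIdeal M (Cfsg.blockCoeff
            (Cfsg.blockOf M (ξ1 : Subgroup.normalizer (P : Set G) → ℂ)) l) := by
          rwa [← h7_coef_indicator]
        obtain ⟨x, Q, hQle⟩ := h7_minmax_a hM ξ1 l1 hl1 Q1 l hc'
        have hPl := h7_subgroupOf_le_centralizer P l hlC
        have hcardN : Nat.card P = p ^ (Nat.card (Subgroup.centralizer
            ({l} : Set (Subgroup.normalizer (P : Set G))))).factorization p := by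
          have h1 := Subgroup.card_le_of_le hQle
          rw [Subgroup.card_map_of_injective (f := (MulAut.conj x).toMonoidHom)
            (MulAut.conj x).injective, ← hQ1, h7_card_subgroupOf hPN, h7_card_defect_sylow] at h1
          have h3 := Cfsg.Agent.S0916.pgroup_card_dvd p
            (P.subgroupOf (Subgroup.normalizer (P : Set G)))
            (Subgroup.centralizer ({l} : Set (Subgroup.normalizer (P : Set G))))
            hP.comap_subtype hPl
          rw [h7_card_subgroupOf hPN] at h3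
          exact le_antisymm (Nat.le_of_dvd (pow_pos hp.out.pos _) h3) h1
        have hcardG := h7_sylow_transfer p P hP l hlC hcardN
        have s1 := h7_bcc_single p P ξ1 l hlC hcardG
        have s2 := h7_bcc_single p P ξ2 l hlC hcardG
        have a1 := hI1.2.2 ξ1 hξ1 χ₀ hχ₀B (l : G)
        have a2 := hI2.2.2 ξ2 hξ2 χ₀ hχ₀B (l : G)
        have b1 := h7_icc_sub_bcc hM P (Subgroup.normalizer (P : Set G)) hP hPN le_rfl ξ1 (l : G)
        have b2 := h7_icc_sub_bcc hM P (Subgroup.normalizer (P : Set G)) hP hPN le_rfl ξ2 (l : G)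
        rw [s1] at b1
        rw [s2] at b2
        have e3 : Cfsg.centralChar (ξ2 : Subgroup.normalizer (P : Set G) → ℂ) l -
            Cfsg.centralChar (ξ1 : Subgroup.normalizer (P : Set G) → ℂ) l =
            -(Cfsg.inducedCentralChar (Subgroup.normalizer (P : Set G))
              (ξ2 : Subgroup.normalizer (P : Set G) → ℂ) (l : G) -
              Cfsg.centralChar (ξ2 : Subgroup.normalizer (P : Set G) → ℂ) l) +
            (Cfsg.inducedCentralChar (Subgroup.normalizer (P : Set G))
              (ξ2 : Subgroup.normalizer (P : Set G) → ℂ) (l : G) -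
              Cfsg.centralChar (χ₀ : G → ℂ) (l : G)) -
            (Cfsg.inducedCentralChar (Subgroup.normalizer (P : Set G))
              (ξ1 : Subgroup.normalizer (P : Set G) → ℂ) (l : G) -
              Cfsg.centralChar (χ₀ : G → ℂ) (l : G)) +
            (Cfsg.inducedCentralChar (Subgroup.normalizer (P : Set G))
              (ξ1 : Subgroup.normalizer (P : Set G) → ℂ) (l : G) -
              Cfsg.centralChar (ξ1 : Subgroup.normalizer (P : Set G) → ℂ) l) := by ring
        rw [e3]
        exact h7_memLocalIdeal_add hPr (h7_memLocalIdeal_sub hPr (h7_memLocalIdeal_add hPr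
          (h7_memLocalIdeal_neg b2) a2) a1) b1
      · have m1 : Cfsg.MemLocalIdeal M
            (Cfsg.centralChar (ξ1 : Subgroup.normalizer (P : Set G) → ℂ) l) := by
          by_contra h
          exact hlC (h7_mem_centralizer_of_centralChar hM P hP ξ1 l h)
        have m2 : Cfsg.MemLocalIdeal M
            (Cfsg.centralChar (ξ2 : Subgroup.normalizer (P : Set G) → ℂ) l) := by
          by_contra h
          exact hlC (h7_mem_centralizer_of_centralChar hM P hP ξ2 l h)
        exact h7_memLocalIdeal_sub hPr m2 m1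
  have he1 : e ξ1 = 1 := if_pos hξ1
  have hξ2b1 : ξ2 ∈ Cfsg.blockOf M (ξ1 : Subgroup.normalizer (P : Set G) → ℂ) := by
    by_contra hne
    have he2 : e ξ2 = 0 := if_neg hne
    rw [he1, he2, zero_sub] at hdiff
    have := h7_memLocalIdeal_neg hdiff
    rw [neg_neg] at this
    exact h7_not_memLocalIdeal_one hPr this
  exact h7_blockOf_eq_of_mem hPr ξ1 ξ2 hξ2b1

end Cfsg.Agent.Lib.helper7
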