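import Mathlib
import Cfsg.Prelude.Def_Blocks
import Cfsg.Agent.Lib.helper7.BlockFirstMain

set_option autoImplicit false
set_option linter.style.haveILetI false
set_option linter.unusedSectionVars false
set_option linter.unusedVariables false

namespace Cfsg.Agent.Lib.helper7

open scoped ComplexConjugate
open Cfsg.Agent.Lib.Helper25 Cfsg.Agent.Lib.Helper11 Cfsg.Agent.Lib.helper2

variable {G : Type*} [Group G]

theorem h7_exists_induced [Fintype G] [Fintype (Cfsg.IrrCharacter G)] {p : ℕ}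
    [hp : Fact p.Prime] {M : Ideal Cfsg.AlgInt} (hM : Cfsg.IsPModular p M) (P H : Subgroup G)
    (hP : IsPGroup p P) (hPH : P ≤ H) (hCH : Subgroup.centralizer (P : Set G) ≤ H)
    (hHN : H ≤ Subgroup.normalizer (P : Set G)) (χ₀ : Cfsg.IrrCharacter G) (g : G)
    (hgC : g ∈ Subgroup.centralizer (P : Set G))
    (hg : ¬ Cfsg.MemLocalIdeal M (Cfsg.blockCoeff (Cfsg.blockOf M (χ₀ : G → ℂ)) g)) :
    ∃ ψ : Cfsg.IrrCharacter H,
      Cfsg.IsInducedBlock M H (Cfsg.blockOf M (ψ : H → ℂ)) (Cfsg.blockOf M (χ₀ : G → ℂ)) := by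
  classical
  haveI : Fintype H := Fintype.ofFinite _
  haveI : Fintype (Cfsg.IrrCharacter H) := Fintype.ofFinite _
  have hPr := hM.2.1.isPrime
  set e : Cfsg.IrrCharacter G → ℂ :=
    fun χ => if χ ∈ Cfsg.blockOf M (χ₀ : G → ℂ) then (1 : ℂ) else 0 with he
  have heS : e ∈ h7_intSubring (G := G) M hPr := h7_block_indicator_mem hPr χ₀
  have hee : e * e = e := by
    funext χ
    rw [Pi.mul_apply, he]
    by_cases h : χ ∈ Cfsg.blockOf M (χ₀ : G → ℂ)
    · simp only [if_pos h, mul_one]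
    · simp only [if_neg h, mul_zero]
  obtain ⟨ψ, hψ⟩ : ∃ ψ : Cfsg.IrrCharacter H,
      ¬ Cfsg.MemLocalIdeal M (h7_brEval P H (ψ : H → ℂ) e) := by
    by_contra hall
    push Not at hall
    have h1 := h7_brFun_idem_zero P H hM hP hCH hHN e heS hee hall ⟨g, hCH hgC⟩
    rw [h7_brFun_of_mem _ _ _ _ hgC, he, h7_coef_indicator] at h1
    exact hg h1
  obtain ⟨χψ, hχψ⟩ := h7_brauer_hom_block P H hM hP hCH hHN ψ
  have h1 := hχψ e heS
  have hχψB : χψ ∈ Cfsg.blockOf M (χ₀ : G → ℂ) := by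
    by_contra hne
    have h0 : e χψ = 0 := if_neg hne
    rw [h0, sub_zero] at h1
    exact hψ h1
  have hBeq := h7_blockOf_eq_of_mem hPr χ₀ χψ hχψB
  have hind := h7_brauer_induced P H hM hP hPH hHN ψ χψ hχψ
  rw [← hBeq] at hind
  exact ⟨ψ, hind⟩

end Cfsg.Agent.Lib.helper7
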