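import Mathlib
import Cfsg.Prelude.Def_Characters
import Cfsg.Agent.Lib.helper7.Clifford

set_option autoImplicit false

namespace Cfsg.Agent.Lib.helper7

open scoped ComplexConjugate
open Cfsg.Agent.Lib.Helper11

variable {G : Type*} [Group G]

theorem h7_isCharacter_mul {φ ψ : G → ℂ} (hφ : Cfsg.IsCharacter G φ) (hψ : Cfsg.IsCharacter G ψ) :
    Cfsg.IsCharacter G (φ * ψ) := by
  obtain ⟨n, ρ, rfl⟩ := hφ
  obtain ⟨m, σ, rfl⟩ := hψ
  rw [← Representation.char_tensor]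
  exact Cfsg.Agent.Lib.helper2.isCharacter_of_rep (Representation.tprod ρ σ)

theorem h7_extendByZero_mul (N : Subgroup G) (φ : N → ℂ) (χ : G → ℂ) (y : G) :
    Cfsg.extendByZero N (φ * fun n : N => χ n) y = Cfsg.extendByZero N φ y * χ y := by
  by_cases hy : y ∈ N
  · rw [h7_extendByZero_mem N _ y hy, h7_extendByZero_mem N _ y hy]
    rfl
  · rw [h7_extendByZero_not_mem N _ y hy, h7_extendByZero_not_mem N _ y hy, zero_mul]

theorem h7_indFun_mul_restrict [Fintype G] (N : Subgroup G) (φ : N → ℂ) (χ : G → ℂ)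
    (hχ : Cfsg.IsClassFunction G χ) :
    Cfsg.indFun N (φ * fun n : N => χ n) = Cfsg.indFun N φ * χ := by
  funext g
  rw [Pi.mul_apply]
  unfold Cfsg.indFun
  rw [mul_assoc, Finset.sum_mul]
  congr 1
  apply Finset.sum_congr rfl
  intro x _
  rw [h7_extendByZero_mul]
  congr 1
  have := hχ g x⁻¹
  simpa using this

theorem h7_indFun_restrict_invariant [Fintype G] (N : Subgroup G) [hN : N.Normal] (θ : N → ℂ)
    (hinv : ∀ g : G, cj N θ g = θ) (n : N) :
    Cfsg.indFun N θ (n : G) = (N.index : ℂ) * θ n := by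
  rw [indFun_normal_apply]
  simp only [hinv, Finset.sum_const, Finset.card_univ, nsmul_eq_mul]
  have hN0 : (Nat.card N : ℂ) ≠ 0 := by exact_mod_cast Nat.card_pos.ne'
  have hidx : (Nat.card G : ℂ) = (N.index : ℂ) * (Nat.card N : ℂ) := by
    rw [← Subgroup.index_mul_card N]; push_cast; ring
  rw [← Nat.card_eq_fintype_card, hidx]
  field_simp

theorem h7_norm_indFun_invariant [Fintype G] (N : Subgroup G) [hN : N.Normal] [Fintype N]
    (θ : N → ℂ) (hθ : Cfsg.IsIrrCharacter N θ) (hinv : ∀ g : G, cj N θ g = θ) :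
    Cfsg.classInner (Cfsg.indFun N θ) (Cfsg.indFun N θ) = (N.index : ℂ) := by
  rw [h7_frobenius_reciprocity N θ _ (h7_indFun_isClassFunction N θ)]
  have : (fun h : N => Cfsg.indFun N θ (h : G)) = (N.index : ℂ) • θ := by
    funext n
    rw [h7_indFun_restrict_invariant N θ hinv n]
    rfl
  rw [this, h7_classInner_smul_right, h7_irr_norm hθ, mul_one, Complex.conj_natCast]

theorem h7_char_norm_pos [Fintype G] {ψ : G → ℂ} (hψ : Cfsg.IsCharacter G ψ) (h1 : ψ 1 ≠ 0) :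
    ∃ k : ℕ, 0 < k ∧ Cfsg.classInner ψ ψ = (k : ℂ) := by
  obtain ⟨μ, m, hm, hμ⟩ := Cfsg.Agent.Lib.helper2.isCharacter_exists_constituent hψ h1
  have hne : Cfsg.classInner ψ (μ : G → ℂ) ≠ 0 := by
    rw [hμ]; exact_mod_cast hm.ne'
  obtain ⟨Δ, hΔ, hsplit⟩ := h7_char_split hψ (μ : G → ℂ) μ.2 hne
  have hμc := Cfsg.Agent.Lib.helper2.isCharacter_of_irr μ
  obtain ⟨a, ha⟩ := h7_char_split_inner_nat hμc hΔ
  obtain ⟨b, hb⟩ := h7_char_split_inner_nat hΔ hμc
  obtain ⟨c, hc⟩ := h7_char_split_inner_nat hΔ hΔ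
  refine ⟨1 + a + (b + c), by omega, ?_⟩
  rw [hsplit, Cfsg.Agent.Lib.Helper25.classInner_add_left, h7_classInner_add_right,
    h7_classInner_add_right, h7_irr_norm μ.2, ha, hb, hc]
  push_cast
  ring

end Cfsg.Agent.Lib.helper7
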