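import Mathlib
import Cfsg.Prelude.Def_Characters
import Cfsg.Agent.Lib.helper7.Clifford

set_option autoImplicit false

namespace Cfsg.Agent.Lib.helper7

open scoped ComplexConjugate
open Cfsg.Agent.Lib.Helper11

variable {G : Type*} [Group G]

theorem h7_isIrr_comp_equiv {A B : Type*} [Group A] [Group B] (e : A ≃* B) (ϑ : B → ℂ)
    (hϑ : Cfsg.IsIrrCharacter B ϑ) : Cfsg.IsIrrCharacter A (fun a => ϑ (e a)) := by
  obtain ⟨n, ρ, hρ, hχ⟩ := hϑ
  refine ⟨n, (ρ.comp e.toMonoidHom : Representation ℂ A (Fin n → ℂ)),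
    isIrreducible_comp_equiv ρ e, ?_⟩
  funext a
  rw [← hχ]
  rfl

theorem h7_classInner_comp_equiv {A B : Type*} [Group A] [Group B] [Fintype A] [Fintype B]
    (e : A ≃* B) (f g : B → ℂ) :
    Cfsg.classInner (fun a => f (e a)) (fun a => g (e a)) = Cfsg.classInner f g := by
  unfold Cfsg.classInner
  rw [Nat.card_congr e.toEquiv]
  congr 1
  exact Equiv.sum_comp e.toEquiv (fun b => f b * conj (g b))

theorem h7_clifford_invariant_le (H T : Subgroup G) [hN : H.Normal] [Fintype H] [Fintype T]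
    (hHT : H ≤ T) (ψ : T → ℂ) (hψ : Cfsg.IsIrrCharacter T ψ) (ϑ : H → ℂ)
    (hϑ : Cfsg.IsIrrCharacter H ϑ)
    (hcon : Cfsg.classInner (fun n : H => ψ ⟨(n : G), hHT n.2⟩) ϑ ≠ 0)
    (hinv : ∀ t ∈ T, ∀ n : H, ϑ ⟨t * n * t⁻¹, hN.conj_mem (n : G) n.2 t⟩ = ϑ n) :
    ∃ f : ℕ, 0 < f ∧ Cfsg.classInner (fun n : H => ψ ⟨(n : G), hHT n.2⟩) ϑ = (f : ℂ) ∧
      (fun n : H => ψ ⟨(n : G), hHT n.2⟩) = (f : ℂ) • ϑ := by
  classical
  have : Fintype (H.subgroupOf T) := Fintype.ofFinite _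
  let e : H.subgroupOf T ≃* H := Subgroup.subgroupOfEquivOfLe hHT
  have he : ∀ k : H.subgroupOf T, ((e k : H) : G) = ((k : T) : G) := fun k => rfl
  have hψe : (fun k : H.subgroupOf T => ψ (k : T)) =
      fun k => (fun n : H => ψ ⟨(n : G), hHT n.2⟩) (e k) := by
    funext k
    rfl
  have hce := h7_classInner_comp_equiv e (fun n : H => ψ ⟨(n : G), hHT n.2⟩) ϑ
  have hcon' : Cfsg.classInner (fun k : H.subgroupOf T => ψ (k : T)) (fun k => ϑ (e k)) ≠ 0 := by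
    rw [hψe, hce]
    exact hcon
  have hinv' : ∀ t : T, cj (H.subgroupOf T) (fun k => ϑ (e k)) t = fun k => ϑ (e k) := by
    intro t
    funext k
    rw [cj_apply]
    have := hinv (t : G) t.2 (e k)
    rw [← this]
    congr 1
  obtain ⟨f, hf, h1, h2⟩ := h7_clifford_invariant (H.subgroupOf T) ψ hψ (fun k => ϑ (e k))
    (h7_isIrr_comp_equiv e ϑ hϑ) hcon' hinv'
  refine ⟨f, hf, ?_, ?_⟩
  · rw [hψe, hce] at h1
    exact h1
  · funext n
    have := congrFun h2 (e.symm n)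
    simp only [Pi.smul_apply, smul_eq_mul, MulEquiv.apply_symm_apply] at this
    simp only [Pi.smul_apply, smul_eq_mul]
    rw [← this]
    congr 1

end Cfsg.Agent.Lib.helper7
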