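import Mathlib
import Cfsg.Prelude.Def_Blocks
import Cfsg.Agent.Lib.helper7.BlockSing

set_option autoImplicit false
set_option linter.style.haveILetI false
set_option linter.unusedSectionVars false
set_option linter.unusedVariables false

namespace Cfsg.Agent.Lib.helper7

def h7_locIdeal (M : Ideal Cfsg.AlgInt) (hM : M.IsPrime) : Ideal (h7_locSubring M hM) where
  carrier := {z | Cfsg.MemLocalIdeal M (z : ℂ)}
  add_mem' := fun ha hb => h7_memLocalIdeal_add hM ha hb
  zero_mem' := h7_memLocalIdeal_zero hM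
  smul_mem' := fun c x hx => h7_memLocalIdeal_mul_left hM c.2 hx

theorem h7_mem_locIdeal {M : Ideal Cfsg.AlgInt} (hM : M.IsPrime) (z : h7_locSubring M hM) :
    z ∈ h7_locIdeal M hM ↔ Cfsg.MemLocalIdeal M (z : ℂ) := Iff.rfl

abbrev h7_resRing (M : Ideal Cfsg.AlgInt) (hM : M.IsPrime) : Type :=
  (h7_locSubring M hM) ⧸ (h7_locIdeal M hM)

theorem h7_locIdeal_ne_top {M : Ideal Cfsg.AlgInt} (hM : M.IsPrime) : h7_locIdeal M hM ≠ ⊤ := by
  intro h
  have h1 : (1 : h7_locSubring M hM) ∈ h7_locIdeal M hM := by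
    rw [h]
    exact Submodule.mem_top
  exact h7_not_memLocalIdeal_one hM h1

instance h7_resRing_nontrivial (M : Ideal Cfsg.AlgInt) (hM : M.IsPrime) :
    Nontrivial (h7_resRing M hM) :=
  Ideal.Quotient.nontrivial_iff.mpr (h7_locIdeal_ne_top hM)

open Classical in
noncomputable def h7_res (M : Ideal Cfsg.AlgInt) (hM : M.IsPrime) (z : ℂ) : h7_resRing M hM :=
  if hz : Cfsg.MemLocalRing M z then Ideal.Quotient.mk (h7_locIdeal M hM) ⟨z, hz⟩ else 0

theorem h7_res_of_mem {M : Ideal Cfsg.AlgInt} (hM : M.IsPrime) {z : ℂ}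
    (hz : Cfsg.MemLocalRing M z) :
    h7_res M hM z = Ideal.Quotient.mk (h7_locIdeal M hM) ⟨z, hz⟩ := by
  unfold h7_res
  rw [dif_pos hz]

theorem h7_res_add {M : Ideal Cfsg.AlgInt} (hM : M.IsPrime) {z w : ℂ}
    (hz : Cfsg.MemLocalRing M z) (hw : Cfsg.MemLocalRing M w) :
    h7_res M hM (z + w) = h7_res M hM z + h7_res M hM w := by
  rw [h7_res_of_mem hM hz, h7_res_of_mem hM hw, h7_res_of_mem hM (h7_memLocalRing_add hM hz hw),
    ← map_add]
  rfl

theorem h7_res_mul {M : Ideal Cfsg.AlgInt} (hM : M.IsPrime) {z w : ℂ}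
    (hz : Cfsg.MemLocalRing M z) (hw : Cfsg.MemLocalRing M w) :
    h7_res M hM (z * w) = h7_res M hM z * h7_res M hM w := by
  rw [h7_res_of_mem hM hz, h7_res_of_mem hM hw, h7_res_of_mem hM (h7_memLocalRing_mul hM hz hw),
    ← map_mul]
  rfl

theorem h7_res_zero {M : Ideal Cfsg.AlgInt} (hM : M.IsPrime) : h7_res M hM 0 = 0 := by
  rw [h7_res_of_mem hM (h7_memLocalRing_zero hM)]
  exact map_zero _

theorem h7_res_one {M : Ideal Cfsg.AlgInt} (hM : M.IsPrime) : h7_res M hM 1 = 1 := by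
  rw [h7_res_of_mem hM (h7_memLocalRing_one hM)]
  exact map_one _

theorem h7_res_eq_zero_iff {M : Ideal Cfsg.AlgInt} (hM : M.IsPrime) {z : ℂ}
    (hz : Cfsg.MemLocalRing M z) : h7_res M hM z = 0 ↔ Cfsg.MemLocalIdeal M z := by
  rw [h7_res_of_mem hM hz, Ideal.Quotient.eq_zero_iff_mem]
  rfl

theorem h7_res_eq_iff {M : Ideal Cfsg.AlgInt} (hM : M.IsPrime) {z w : ℂ}
    (hz : Cfsg.MemLocalRing M z) (hw : Cfsg.MemLocalRing M w) :
    h7_res M hM z = h7_res M hM w ↔ Cfsg.MemLocalIdeal M (z - w) := by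
  rw [h7_res_of_mem hM hz, h7_res_of_mem hM hw, Ideal.Quotient.eq]
  rfl

theorem h7_res_sum {M : Ideal Cfsg.AlgInt} (hM : M.IsPrime) {ι : Type*} (s : Finset ι)
    (f : ι → ℂ) (hf : ∀ i ∈ s, Cfsg.MemLocalRing M (f i)) :
    h7_res M hM (∑ i ∈ s, f i) = ∑ i ∈ s, h7_res M hM (f i) := by
  classical
  induction s using Finset.induction_on with
  | empty => simp [h7_res_zero]
  | insert a s ha ih =>
    rw [Finset.sum_insert ha, Finset.sum_insert ha,
      h7_res_add hM (hf a (Finset.mem_insert_self a s))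
        (h7_memLocalRing_sum hM s f (fun i hi => hf i (Finset.mem_insert_of_mem hi))),
      ih (fun i hi => hf i (Finset.mem_insert_of_mem hi))]

theorem h7_card_le_of_mul_eq_one {R : Type*} [CommRing R] [Nontrivial R] {n m : Type*}
    [Fintype n] [Fintype m] [DecidableEq n] [DecidableEq m] (A : Matrix n m R)
    (W : Matrix m n R) (h : A * W = 1) : Fintype.card n ≤ Fintype.card m := by
  apply card_le_of_surjective R A.mulVecLin
  intro y
  refine ⟨W.mulVec y, ?_⟩
  rw [Matrix.mulVecLin_apply, Matrix.mulVec_mulVec, h, Matrix.one_mulVec]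

end Cfsg.Agent.Lib.helper7
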