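import Mathlib
import Cfsg.Prelude.Def_Blocks
import Cfsg.Agent.Lib.helper7.BlockResidue
import Cfsg.Agent.Lib.helper7.BlockInd2

/-!
Residue field of the local ring at M (field structure, characteristic p, map from ZMod p),
and two rank lemmas: invariance of the rank of a square matrix under a field homomorphism,
and the rank of `Uᵀ * V` for `U`, `V` with independent rows.
-/

set_option autoImplicit false
set_option linter.style.haveILetI false
set_option linter.unusedSectionVars false
set_option linter.unusedVariables false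

namespace Cfsg.Agent.Lib.helper7

theorem h7_locIdeal_isMaximal {M : Ideal Cfsg.AlgInt} (hM : M.IsPrime) :
    (h7_locIdeal M hM).IsMaximal := by
  rw [Ideal.isMaximal_iff]
  refine ⟨fun h => h7_not_memLocalIdeal_one hM h, ?_⟩
  intro J x hIJ hxI hxJ
  have hx : ¬ Cfsg.MemLocalIdeal M (x : ℂ) := hxI
  have hinv : Cfsg.MemLocalRing M ((x : ℂ)⁻¹) := h7_memLocalRing_inv hM x.2 hx
  have hx0 : (x : ℂ) ≠ 0 := by
    intro h0
    apply hx
    rw [h0]
    exact h7_memLocalIdeal_zero hM
  have h1 : (⟨(x : ℂ)⁻¹, hinv⟩ : h7_locSubring M hM) * x = 1 := by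
    apply Subtype.ext
    show (x : ℂ)⁻¹ * (x : ℂ) = 1
    exact inv_mul_cancel₀ hx0
  rw [← h1]
  exact J.mul_mem_left _ hxJ

noncomputable instance h7_resRing_field (M : Ideal Cfsg.AlgInt) (hM : M.IsPrime) :
    Field (h7_resRing M hM) :=
  @Ideal.Quotient.field _ _ (h7_locIdeal M hM) (h7_locIdeal_isMaximal hM)

theorem h7_res_natCast {M : Ideal Cfsg.AlgInt} (hM : M.IsPrime) (n : ℕ) :
    h7_res M hM (n : ℂ) = (n : h7_resRing M hM) := by
  rw [h7_res_of_mem hM (h7_memLocalRing_natCast hM n)]
  have : (⟨(n : ℂ), h7_memLocalRing_natCast hM n⟩ : h7_locSubring M hM) =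
      ((n : ℕ) : h7_locSubring M hM) := by
    apply Subtype.ext
    simp
  rw [this, map_natCast]

theorem h7_resRing_charP {p : ℕ} [hp : Fact p.Prime] {M : Ideal Cfsg.AlgInt}
    (hM : Cfsg.IsPModular p M) : CharP (h7_resRing M hM.2.1.isPrime) p := by
  have hPr := hM.2.1.isPrime
  rw [CharP.charP_iff_prime_eq_zero hp.out]
  rw [← h7_res_natCast hPr p, h7_res_eq_zero_iff hPr (h7_memLocalRing_natCast hPr p)]
  exact h7_memLocalIdeal_p hM

/-- the canonical map `ZMod p → R/𝔪` -/
noncomputable def h7_zmodHom {p : ℕ} [hp : Fact p.Prime] {M : Ideal Cfsg.AlgInt}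
    (hM : Cfsg.IsPModular p M) : ZMod p →+* h7_resRing M hM.2.1.isPrime :=
  haveI := h7_resRing_charP hM
  ZMod.castHom (dvd_refl p) (h7_resRing M hM.2.1.isPrime)

theorem h7_zmodHom_natCast {p : ℕ} [hp : Fact p.Prime] {M : Ideal Cfsg.AlgInt}
    (hM : Cfsg.IsPModular p M) (n : ℕ) :
    h7_zmodHom hM (n : ZMod p) = h7_res M hM.2.1.isPrime (n : ℂ) := by
  rw [map_natCast, h7_res_natCast]

section rank

theorem h7_rank_diagonal_map {K L : Type*} [Field K] [Field L] (f : K →+* L) {m : Type*}
    [Fintype m] [DecidableEq m] (w : m → K) :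
    ((Matrix.diagonal w).map f).rank = (Matrix.diagonal w).rank := by
  classical
  have h1 : (Matrix.diagonal w).map f = Matrix.diagonal (fun i => f (w i)) := by
    ext i j
    by_cases hij : i = j
    · subst hij
      simp
    · simp [Matrix.diagonal_apply_ne _ hij]
  rw [h1, Matrix.rank_diagonal, Matrix.rank_diagonal]
  apply Fintype.card_congr
  refine Equiv.subtypeEquivRight fun i => ?_
  rw [Ne, Ne, map_eq_zero]

/-- the rank of a square matrix over a field does not change under a field homomorphism -/
theorem h7_rank_map_field {K L : Type*} [Field K] [Field L] (f : K →+* L) {m : Type*}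
    [Fintype m] [DecidableEq m] (A : Matrix m m K) : (A.map f).rank = A.rank := by
  classical
  obtain ⟨V, U, e, hV, hU, hVAU⟩ := Matrix.exists_rank_normal_form A
  rw [← Matrix.diagonal_one, ← Matrix.diagonal_zero, Matrix.fromBlocks_diagonal,
    Matrix.submatrix_diagonal_equiv] at hVAU
  set w := (Sum.elim (fun _ : Fin A.rank => (1 : K))
    (fun _ : Fin (Fintype.card m - A.rank) => (0 : K))) ∘ e with hw
  have hVd : IsUnit V.det := (Matrix.isUnit_iff_isUnit_det _).1 hV
  have hUd : IsUnit U.det := (Matrix.isUnit_iff_isUnit_det _).1 hU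
  have hVd' : IsUnit (V.map f).det := by
    rw [← RingHom.mapMatrix_apply, ← RingHom.map_det]
    exact hVd.map f
  have hUd' : IsUnit (U.map f).det := by
    rw [← RingHom.mapMatrix_apply, ← RingHom.map_det]
    exact hUd.map f
  have hmap : V.map f * A.map f * U.map f = (Matrix.diagonal w).map f := by
    rw [← hVAU, Matrix.map_mul, Matrix.map_mul]
  have h1 : (A.map f).rank = ((Matrix.diagonal w).map f).rank := by
    rw [← hmap, Matrix.rank_mul_eq_left_of_isUnit_det (U.map f) _ hUd',
      Matrix.rank_mul_eq_right_of_isUnit_det (V.map f) _ hVd']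
  have h2 : A.rank = (Matrix.diagonal w).rank := by
    rw [← hVAU, Matrix.rank_mul_eq_left_of_isUnit_det U _ hUd,
      Matrix.rank_mul_eq_right_of_isUnit_det V _ hVd]
  rw [h1, h2, h7_rank_diagonal_map]

/-- `Uᵀ * V` has rank the number of rows when both `U` and `V` have independent rows -/
theorem h7_rank_transpose_mul {F : Type*} [Field F] {β ι : Type*} [Fintype β] [Fintype ι]
    [DecidableEq β] [DecidableEq ι] (U V : Matrix β ι F)
    (hU : LinearIndependent F (fun b => U b)) (hV : LinearIndependent F (fun b => V b)) :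
    (U.transpose * V).rank = Fintype.card β := by
  have hVr : V.rank = Fintype.card β := hV.rank_matrix
  have hUr : U.transpose.rank = Fintype.card β := by
    rw [Matrix.rank_transpose]
    exact hU.rank_matrix
  -- V.mulVecLin is surjective
  have hVsurj : LinearMap.range V.mulVecLin = ⊤ := by
    apply Submodule.eq_top_of_finrank_eq
    have : Module.finrank F (LinearMap.range V.mulVecLin) = V.rank := rfl
    rw [this, hVr]
    simp
  have hrange : LinearMap.range (U.transpose * V).mulVecLin =
      LinearMap.range U.transpose.mulVecLin := by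
    rw [Matrix.mulVecLin_mul, LinearMap.range_comp, hVsurj, Submodule.map_top]
  have h3 : (U.transpose * V).rank =
      Module.finrank F (LinearMap.range (U.transpose * V).mulVecLin) := rfl
  rw [h3, hrange]
  exact hUr

end rank

end Cfsg.Agent.Lib.helper7
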