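import Mathlib
import Cfsg.Prelude.Def_Blocks
import Cfsg.Agent.Lib.helper7.BlockQuot
import Cfsg.Agent.Lib.helper7.BlockCover3

set_option autoImplicit false
set_option linter.style.haveILetI false
set_option linter.unusedSectionVars false
set_option linter.unusedVariables false

namespace Cfsg.Agent.Lib.helper7

open scoped ComplexConjugate
open Cfsg.Agent.Lib.Helper25 Cfsg.Agent.Lib.Helper11 Cfsg.Agent.Lib.helper2

variable {G : Type*} [Group G]

theorem h7_sameBlock_of_pregular [Fintype G] [Fintype (Cfsg.IrrCharacter G)] {p : ℕ}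
    [hp : Fact p.Prime] {M : Ideal Cfsg.AlgInt} (hM : Cfsg.IsPModular p M)
    (χ ψ : Cfsg.IrrCharacter G)
    (h : ∀ x : G, ¬ p ∣ orderOf x → Cfsg.MemLocalIdeal M
      (Cfsg.centralChar (χ : G → ℂ) x - Cfsg.centralChar (ψ : G → ℂ) x)) :
    Cfsg.SameBlock M (χ : G → ℂ) (ψ : G → ℂ) := by
  classical
  haveI : Fintype (ConjClasses G) := Fintype.ofFinite _
  have hPr := hM.2.1.isPrime
  by_contra hnot
  have hχ : χ ∈ Cfsg.blockOf M (χ : G → ℂ) := h7_sameBlock_refl hPr _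
  have hψ : ψ ∉ Cfsg.blockOf M (χ : G → ℂ) := hnot
  have e1 := h7_eval_expand
    (fun φ : Cfsg.IrrCharacter G => if φ ∈ Cfsg.blockOf M (χ : G → ℂ) then (1 : ℂ) else 0) χ
  have e2 := h7_eval_expand
    (fun φ : Cfsg.IrrCharacter G => if φ ∈ Cfsg.blockOf M (χ : G → ℂ) then (1 : ℂ) else 0) ψ
  simp only [if_pos hχ] at e1
  simp only [if_neg hψ] at e2
  have hdiff : Cfsg.MemLocalIdeal M ((∑ K : ConjClasses G,
      h7_coef (fun φ : Cfsg.IrrCharacter G =>
        if φ ∈ Cfsg.blockOf M (χ : G → ℂ) then (1 : ℂ) else 0) (Quotient.out K) *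
        Cfsg.centralChar (χ : G → ℂ) (Quotient.out K)) - ∑ K : ConjClasses G,
      h7_coef (fun φ : Cfsg.IrrCharacter G =>
        if φ ∈ Cfsg.blockOf M (χ : G → ℂ) then (1 : ℂ) else 0) (Quotient.out K) *
        Cfsg.centralChar (ψ : G → ℂ) (Quotient.out K)) := by
    rw [← Finset.sum_sub_distrib]
    apply h7_memLocalIdeal_sum hPr
    intro K _
    rw [← mul_sub, h7_coef_indicator]
    by_cases hreg : p ∣ orderOf (Quotient.out K)
    · rw [h7_blockCoeff_psingular hM χ _ hreg, zero_mul]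
      exact h7_memLocalIdeal_zero hPr
    · exact h7_memLocalIdeal_mul_left hPr (h7_osima hPr χ _) (h _ hreg)
  rw [← e1, ← e2, sub_zero] at hdiff
  exact h7_not_memLocalIdeal_one hPr hdiff

theorem h7_lift_pregular [Finite G] (p : ℕ) [hp : Fact p.Prime] (P : Subgroup G) [hPn : P.Normal]
    (hP : IsPGroup p P) (x : G ⧸ P) (hx : ¬ p ∣ orderOf x) :
    ∃ g : G, (QuotientGroup.mk g : G ⧸ P) = x ∧ ¬ p ∣ orderOf g := by
  obtain ⟨g₀, rfl⟩ := QuotientGroup.mk_surjective x
  obtain ⟨b, hb⟩ := IsPGroup.iff_card.mp hP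
  set m := orderOf (QuotientGroup.mk g₀ : G ⧸ P) with hm
  have hcop : (Nat.card (Subgroup.zpowers (QuotientGroup.mk g₀ : G ⧸ P))).Coprime (p ^ b) := by
    rw [Nat.card_zpowers]
    exact Nat.Coprime.pow_right b
      (Nat.Coprime.symm ((Nat.Prime.coprime_iff_not_dvd hp.out).mpr hx))
  obtain ⟨y, hy⟩ := (Nat.Coprime.pow_left_bijective hcop).2
    ⟨(QuotientGroup.mk g₀ : G ⧸ P), Subgroup.mem_zpowers _⟩
  obtain ⟨k, hk⟩ := Subgroup.mem_zpowers_iff.mp y.2
  have hy' : ((QuotientGroup.mk g₀ : G ⧸ P) ^ k) ^ (p ^ b) = QuotientGroup.mk g₀ := by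
    have := congrArg Subtype.val hy
    simp only [Subgroup.coe_pow] at this
    rw [hk]
    exact this
  refine ⟨(g₀ ^ k) ^ (p ^ b), ?_, ?_⟩
  · rw [QuotientGroup.mk_pow, QuotientGroup.mk_zpow]
    exact hy'
  · have hmem : (g₀ ^ k) ^ m ∈ P := by
      rw [← QuotientGroup.eq_one_iff, QuotientGroup.mk_pow, QuotientGroup.mk_zpow,
        ← zpow_natCast, ← zpow_mul, mul_comm, zpow_mul, zpow_natCast, hm, pow_orderOf_eq_one,
        one_zpow]
    have h1 : ((g₀ ^ k) ^ (p ^ b)) ^ m = 1 := by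
      rw [← pow_mul, mul_comm, pow_mul]
      have h2 : (⟨(g₀ ^ k) ^ m, hmem⟩ : P) ^ Nat.card P = 1 := pow_card_eq_one'
      rw [hb] at h2
      have := congrArg Subtype.val h2
      simpa using this
    have h3 : orderOf ((g₀ ^ k) ^ (p ^ b)) ∣ m := orderOf_dvd_of_pow_eq_one h1
    intro hdvd
    exact hx (hdvd.trans h3)

theorem h7_comap_centralizer_le [Finite G] (p : ℕ) [hp : Fact p.Prime] (P : Subgroup G)
    [hPn : P.Normal] (hP : IsPGroup p P) (g : G) (hg : ¬ p ∣ orderOf g)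
    (hgc : g ∈ Subgroup.centralizer (P : Set G)) :
    (Subgroup.centralizer ({(QuotientGroup.mk g : G ⧸ P)} : Set (G ⧸ P))).comap
      (QuotientGroup.mk' P) ≤ Subgroup.centralizer ({g} : Set G) := by
  intro x hx
  rw [Subgroup.mem_comap, Subgroup.mem_centralizer_singleton_iff] at hx
  rw [Subgroup.mem_centralizer_singleton_iff]
  have h1 : (QuotientGroup.mk (x * g) : G ⧸ P) = QuotientGroup.mk (g * x) := by
    rw [QuotientGroup.mk_mul, QuotientGroup.mk_mul]
    exact hx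
  rw [QuotientGroup.eq] at h1
  set u := (x * g)⁻¹ * (g * x) with hu
  have hxu : x⁻¹ * g * x = g * u := by
    rw [hu]
    group
  by_contra hne
  have hu1 : u ≠ 1 := by
    intro h1'
    apply hne
    have : (x * g)⁻¹ * (g * x) = 1 := h1'
    rw [inv_mul_eq_one] at this
    exact this
  have hcomm : Commute u g := by
    exact Subgroup.mem_centralizer_iff.mp hgc u h1
  have hupow : ∃ k : ℕ, orderOf u = p ^ k := by
    obtain ⟨k, hk⟩ := (IsPGroup.iff_orderOf.mp hP) ⟨u, h1⟩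
    rw [← Subgroup.orderOf_coe] at hk
    exact ⟨k, hk⟩
  have h2 := h7_psingular_mul p u g hcomm hupow hu1 hg
  rw [hcomm.eq, ← hxu] at h2
  have h3 : orderOf (x⁻¹ * g * x) = orderOf g := by
    have hc : IsConj g (x⁻¹ * g * x) := by
      rw [isConj_iff]
      exact ⟨x⁻¹, by group⟩
    exact (h7_isConj_orderOf hc).symm
  rw [h3] at h2
  exact hg h2

end Cfsg.Agent.Lib.helper7
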