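import Mathlib
import Cfsg.Prelude.Def_Blocks
import Cfsg.Agent.Lib.helper7.OrbitSum
import Cfsg.Agent.Lib.helper7.BlockSing

set_option autoImplicit false
set_option linter.style.haveILetI false
set_option linter.unusedSectionVars false
set_option linter.unusedVariables false

namespace Cfsg.Agent.Lib.helper7

theorem h7_perm_sum_dvd {𝒲 : Type*} [Fintype 𝒲] (σ : Equiv.Perm 𝒲) (F : 𝒲 → ℂ)
    (R : Subring ℂ) (hR : ∀ W, F W ∈ R) (hF : ∀ W, F (σ W) = F W) (q : ℕ)
    (hq : ∀ W, F W ≠ 0 → ∀ d : ℕ, 0 < d → (σ ^ d) W = W → q ∣ d) :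
    ∃ s ∈ R, ∑ W, F W = (q : ℂ) * s := by
  classical
  set A := Subgroup.zpowers σ with hA
  haveI : Fintype A := Fintype.ofFinite _
  haveI : Fintype (Quotient (MulAction.orbitRel A 𝒲)) := Fintype.ofFinite _
  have hFz : ∀ (k : ℤ) (W : 𝒲), F ((σ ^ k) W) = F W := by
    intro k
    induction k using Int.induction_on with
    | zero => intro W; simp
    | succ i ih =>
      intro W
      rw [zpow_add, zpow_one, Equiv.Perm.mul_apply, ih, hF]
    | pred i ih =>
      intro W
      rw [zpow_sub, zpow_one, Equiv.Perm.mul_apply, ih]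
      have := hF (σ⁻¹ W)
      have e : σ (σ⁻¹ W) = W := by simp
      rw [e] at this
      exact this.symm
  have hFinv : ∀ (a : A) (W : 𝒲), F (a • W) = F W := by
    rintro ⟨a, ha⟩ W
    obtain ⟨k, rfl⟩ := Subgroup.mem_zpowers_iff.mp ha
    exact hFz k W
  have hsum := h7_sum_eq_sum_orbits (A := A) F hFinv
  have hterm : ∀ ω : Quotient (MulAction.orbitRel A 𝒲), ∃ s ∈ R,
      (Nat.card A / Nat.card (MulAction.stabilizer A (Quotient.out ω))) • F (Quotient.out ω) =
        (q : ℂ) * s := by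
    intro ω
    set W := Quotient.out ω with hW
    set H := MulAction.stabilizer A W with hH
    by_cases hc : F W = 0
    · refine ⟨0, R.zero_mem, ?_⟩
      rw [hc, smul_zero, mul_zero]
    · have hidx : Nat.card A / Nat.card H = H.index := by
        rw [← Subgroup.index_mul_card H, Nat.mul_div_cancel _ Nat.card_pos]
      have hpos : 0 < H.index := Nat.pos_of_ne_zero Subgroup.index_ne_zero_of_finite
      have hmem := Subgroup.pow_index_mem H (⟨σ, Subgroup.mem_zpowers σ⟩ : A)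
      rw [hH, MulAction.mem_stabilizer_iff] at hmem
      have hfix : (σ ^ H.index) W = W := by
        have : ((⟨σ, Subgroup.mem_zpowers σ⟩ : A) ^ H.index) • W = (σ ^ H.index) W := rfl
        rw [← this]
        exact hmem
      obtain ⟨c, hc'⟩ := hq W hc H.index hpos hfix
      refine ⟨(c : ℂ) * F W, R.mul_mem (natCast_mem R c) (hR W), ?_⟩
      rw [hidx, hc', nsmul_eq_mul]
      push_cast
      ring
  choose s hsR hs using hterm
  refine ⟨∑ ω, s ω, Subring.sum_mem R fun ω _ => hsR ω, ?_⟩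
  rw [hsum, Finset.mul_sum]
  exact Finset.sum_congr rfl fun ω _ => hs ω

section QExt

variable {Ω : Type*} (τ : Equiv.Perm Ω) (n : ℕ) [NeZero n]

def h7_qext (W : ZMod n → Ω) : ℤ → Ω := fun x => (τ ^ (x / (n : ℤ))) (W (x : ZMod n))

def h7_qres (V : ℤ → Ω) : ZMod n → Ω := fun r => V (r.val : ℤ)

theorem h7_qext_add (W : ZMod n → Ω) (x : ℤ) :
    h7_qext τ n W (x + n) = τ (h7_qext τ n W x) := by
  unfold h7_qext
  have hn : (n : ℤ) ≠ 0 := by exact_mod_cast NeZero.ne n
  have h1 : (x + (n : ℤ)) / (n : ℤ) = 1 + x / (n : ℤ) := by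
    have : x + (n : ℤ) = x + 1 * (n : ℤ) := by ring
    rw [this, Int.add_mul_ediv_right _ _ hn]
    ring
  have h2 : ((x + (n : ℤ) : ℤ) : ZMod n) = (x : ZMod n) := by
    push_cast
    rw [ZMod.natCast_self, add_zero]
  rw [h1, h2, zpow_add, zpow_one, Equiv.Perm.mul_apply]

theorem h7_qres_qext (W : ZMod n → Ω) : h7_qres n (h7_qext τ n W) = W := by
  funext r
  unfold h7_qres h7_qext
  have h1 : ((r.val : ℕ) : ℤ) / (n : ℤ) = 0 :=
    Int.ediv_eq_zero_of_lt (Int.natCast_nonneg _) (by exact_mod_cast ZMod.val_lt r)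
  rw [h1, zpow_zero, Equiv.Perm.one_apply, Int.cast_natCast, ZMod.natCast_zmod_val]

theorem h7_qp_mul (V : ℤ → Ω) (hV : ∀ x, V (x + n) = τ (V x)) (q : ℤ) (y : ℤ) :
    V (y + q * n) = (τ ^ q) (V y) := by
  induction q using Int.induction_on with
  | zero => simp
  | succ i ih =>
    have : y + ((i : ℤ) + 1) * (n : ℤ) = (y + (i : ℤ) * n) + n := by ring
    rw [this, hV, ih, add_comm (i : ℤ) 1, zpow_add, zpow_one, Equiv.Perm.mul_apply]
  | pred i ih =>
    have h1 := hV (y + (-(i : ℤ) - 1) * n)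
    have : y + (-(i : ℤ) - 1) * (n : ℤ) + n = y + -(i : ℤ) * n := by ring
    rw [this, ih] at h1
    have h2 : (τ ^ (-(i : ℤ) - 1)) (V y) = τ⁻¹ ((τ ^ (-(i : ℤ))) (V y)) := by
      rw [sub_eq_add_neg, add_comm, zpow_add, zpow_neg_one, Equiv.Perm.mul_apply]
    rw [h2, h1]
    simp

theorem h7_qext_qres (V : ℤ → Ω) (hV : ∀ x, V (x + n) = τ (V x)) :
    h7_qext τ n (h7_qres n V) = V := by
  funext x
  unfold h7_qext h7_qres
  rw [ZMod.val_intCast, ← h7_qp_mul τ n V hV]
  congr 1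
  have := Int.emod_add_mul_ediv x (n : ℤ)
  linarith [mul_comm (x / (n : ℤ)) (n : ℤ)]

def h7_qsigma : Equiv.Perm (ZMod n → Ω) where
  toFun W := h7_qres n (fun x => h7_qext τ n W (x + 1))
  invFun W := h7_qres n (fun x => h7_qext τ n W (x - 1))
  left_inv W := by
    have h1 : h7_qext τ n (h7_qres n (fun x => h7_qext τ n W (x + 1))) =
        fun x => h7_qext τ n W (x + 1) := by
      apply h7_qext_qres
      intro x
      have : x + (n : ℤ) + 1 = (x + 1) + n := by ring
      rw [this, h7_qext_add]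
    show h7_qres n (fun x => h7_qext τ n (h7_qres n (fun x => h7_qext τ n W (x + 1))) (x - 1)) = W
    rw [h1]
    simp only [sub_add_cancel]
    exact h7_qres_qext τ n W
  right_inv W := by
    have h1 : h7_qext τ n (h7_qres n (fun x => h7_qext τ n W (x - 1))) =
        fun x => h7_qext τ n W (x - 1) := by
      apply h7_qext_qres
      intro x
      have : x + (n : ℤ) - 1 = (x - 1) + n := by ring
      rw [this, h7_qext_add]
    show h7_qres n (fun x => h7_qext τ n (h7_qres n (fun x => h7_qext τ n W (x - 1))) (x + 1)) = W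
    rw [h1]
    simp only [add_sub_cancel_right]
    exact h7_qres_qext τ n W

theorem h7_qext_sigma (W : ZMod n → Ω) :
    h7_qext τ n (h7_qsigma τ n W) = fun x => h7_qext τ n W (x + 1) := by
  show h7_qext τ n (h7_qres n (fun x => h7_qext τ n W (x + 1))) = _
  apply h7_qext_qres
  intro x
  have : x + (n : ℤ) + 1 = (x + 1) + n := by ring
  rw [this, h7_qext_add]

theorem h7_qext_sigma_pow (d : ℕ) (W : ZMod n → Ω) :
    h7_qext τ n ((h7_qsigma τ n ^ d) W) = fun x => h7_qext τ n W (x + d) := by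
  induction d generalizing W with
  | zero => simp
  | succ d ih =>
    rw [pow_succ, Equiv.Perm.mul_apply, ih, h7_qext_sigma]
    funext x
    push_cast
    rw [add_assoc, add_comm (d : ℤ) 1]

end QExt

section TW

variable {Ω : Type*} (τ : Equiv.Perm Ω) (n : ℕ) [NeZero n] (P : Ω → Ω → ℂ)

noncomputable def h7_qweight (W : ZMod n → Ω) : ℂ :=
  ∏ i ∈ Finset.range n, P (h7_qext τ n W ((i : ℤ) + 1)) (h7_qext τ n W (i : ℤ))

theorem h7_qweight_sigma (hP : ∀ a b, P (τ a) (τ b) = P a b) (W : ZMod n → Ω) :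
    h7_qweight τ n P (h7_qsigma τ n W) = h7_qweight τ n P W := by
  unfold h7_qweight
  rw [h7_qext_sigma]
  obtain ⟨k, hk⟩ : ∃ k, n = k + 1 := Nat.exists_eq_succ_of_ne_zero (NeZero.ne n)
  set V := h7_qext τ n W with hV
  have hstep : ∀ x, V (x + n) = τ (V x) := fun x => h7_qext_add τ n W x
  set g : ℕ → ℂ := fun i => P (V ((i : ℤ) + 1)) (V (i : ℤ)) with hg
  have h1 : ∏ i ∈ Finset.range n, P (V ((i : ℤ) + 1 + 1)) (V ((i : ℤ) + 1)) =
      ∏ i ∈ Finset.range n, g (i + 1) := by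
    refine Finset.prod_congr rfl fun i _ => ?_
    simp only [hg]
    push_cast
    rfl
  have h2 : ∏ i ∈ Finset.range n, P (V ((i : ℤ) + 1)) (V (i : ℤ)) =
      ∏ i ∈ Finset.range n, g i := rfl
  show ∏ i ∈ Finset.range n, P (V ((i : ℤ) + 1 + 1)) (V ((i : ℤ) + 1)) = _
  rw [h1, h2, hk, Finset.prod_range_succ, Finset.prod_range_succ']
  congr 1
  simp only [hg]
  have e1 : ((k + 1 : ℕ) : ℤ) + 1 = 1 + (n : ℤ) := by rw [hk]; push_cast; ring
  have e2 : ((k + 1 : ℕ) : ℤ) = 0 + (n : ℤ) := by rw [hk]; push_cast; ring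
  have e3 : ((0 : ℕ) : ℤ) + 1 = 1 := by simp
  rw [e1, hstep, e3]
  conv_lhs => rw [e2, hstep]
  rw [hP]
  simp

theorem h7_qext_of_lt (W : ZMod n → Ω) (j : ℕ) (hj : j < n) :
    h7_qext τ n W (j : ℤ) = W (j : ZMod n) := by
  unfold h7_qext
  have h1 : (j : ℤ) / (n : ℤ) = 0 :=
    Int.ediv_eq_zero_of_lt (Int.natCast_nonneg _) (by exact_mod_cast hj)
  rw [h1, zpow_zero, Equiv.Perm.one_apply, Int.cast_natCast]

theorem h7_qweight_ne_zero_first (W : ZMod n → Ω) (h : h7_qweight τ n P W ≠ 0) :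
    P (h7_qext τ n W 1) (h7_qext τ n W 0) ≠ 0 := by
  unfold h7_qweight at h
  rw [Finset.prod_ne_zero_iff] at h
  have := h 0 (Finset.mem_range.mpr (Nat.pos_of_ne_zero (NeZero.ne n)))
  simpa using this

theorem h7_qext_periodic_mul (V : ℤ → Ω) (d : ℕ) (hd : ∀ x, V (x + d) = V x) (t : ℕ) (x : ℤ) :
    V (x + (d * t : ℕ)) = V x := by
  induction t with
  | zero => simp
  | succ t ih =>
    have : x + ((d * (t + 1) : ℕ) : ℤ) = x + ((d * t : ℕ) : ℤ) + d := by push_cast; ring
    rw [this, hd, ih]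

end TW

section Path

variable {Ω : Type*} [Fintype Ω] [DecidableEq Ω] (P : Ω → Ω → ℂ)

theorem h7_path_sum (hid : ∀ a b, ∑ c, P a c * P c b = P a b) (k : ℕ) (g : Ω → Ω → ℂ) :
    ∑ W : Fin (k + 1) → Ω, g (W 0) (W (Fin.last k)) *
        ∏ i : Fin k, P (W i.succ) (W i.castSucc) =
      if k = 0 then ∑ a, g a a else ∑ a, ∑ c, g a c * P c a := by
  induction k generalizing g with
  | zero =>
    rw [if_pos rfl]
    refine Fintype.sum_equiv (Equiv.funUnique (Fin 1) Ω) _ _ fun W => ?_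
    simp
  | succ k ih =>
    rw [if_neg (Nat.succ_ne_zero k)]
    rw [← (Fin.snocEquiv (fun _ : Fin (k + 2) => Ω)).sum_comp, Fintype.sum_prod_type]
    have h1 : ∀ (c : Ω) (W' : Fin (k + 1) → Ω),
        g ((Fin.snocEquiv (fun _ : Fin (k + 2) => Ω)) (c, W') 0)
          ((Fin.snocEquiv (fun _ : Fin (k + 2) => Ω)) (c, W') (Fin.last (k + 1))) *
        ∏ i : Fin (k + 1), P ((Fin.snocEquiv (fun _ : Fin (k + 2) => Ω)) (c, W') i.succ)
          ((Fin.snocEquiv (fun _ : Fin (k + 2) => Ω)) (c, W') i.castSucc) =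
        (g (W' 0) c * P c (W' (Fin.last k))) * ∏ i : Fin k, P (W' i.succ) (W' i.castSucc) := by
      intro c W'
      have e : (Fin.snocEquiv (fun _ : Fin (k + 2) => Ω)) (c, W') =
          Fin.snoc (α := fun _ : Fin (k + 2) => Ω) W' c := rfl
      rw [e, Fin.prod_univ_castSucc]
      have e0 : (0 : Fin (k + 2)) = Fin.castSucc (0 : Fin (k + 1)) := rfl
      rw [e0]
      simp only [Fin.succ_castSucc, Fin.snoc_castSucc, Fin.snoc_last, Fin.succ_last]
      ring
    simp only [h1]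
    have h2 : ∀ c : Ω, ∑ W' : Fin (k + 1) → Ω, (g (W' 0) c * P c (W' (Fin.last k))) *
        ∏ i : Fin k, P (W' i.succ) (W' i.castSucc) =
        if k = 0 then ∑ a, g a c * P c a else ∑ a, ∑ c', (g a c * P c c') * P c' a :=
      fun c => ih (fun a c' => g a c * P c c')
    simp only [h2]
    by_cases hk : k = 0
    · simp only [if_pos hk]
      exact Finset.sum_comm
    · simp only [if_neg hk]
      rw [Finset.sum_comm]
      refine Finset.sum_congr rfl fun a _ => Finset.sum_congr rfl fun c _ => ?_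
      rw [← hid c a, Finset.mul_sum]
      refine Finset.sum_congr rfl fun c' _ => ?_
      ring

end Path

section Main

variable {Ω : Type*} [Fintype Ω] [DecidableEq Ω]

theorem h7_qweight_fin (τ : Equiv.Perm Ω) (P : Ω → Ω → ℂ) (k : ℕ) (W : ZMod (k + 1) → Ω) :
    h7_qweight τ (k + 1) P W =
      P (τ (W (0 : Fin (k + 1)))) (W (Fin.last k)) *
        ∏ i : Fin k, P (W i.succ) (W i.castSucc) := by
  unfold h7_qweight
  rw [Finset.prod_range_succ, mul_comm]
  congr 1
  · have e1 : ((k : ℕ) : ℤ) + 1 = 0 + ((k + 1 : ℕ) : ℤ) := by push_cast; ring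
    rw [e1, h7_qext_add]
    have h0 := h7_qext_of_lt τ (k + 1) W 0 (Nat.succ_pos k)
    have hk := h7_qext_of_lt τ (k + 1) W k (Nat.lt_succ_self k)
    rw [Nat.cast_zero] at h0
    rw [h0, hk]
    congr 2
    have := Fin.cast_val_eq_self (Fin.last k)
    rw [Fin.val_last] at this
    exact this
  · rw [Finset.prod_range]
    refine Finset.prod_congr rfl fun i _ => ?_
    have h1 := h7_qext_of_lt τ (k + 1) W ((i : ℕ) + 1) (Nat.succ_lt_succ i.2)
    have h2 := h7_qext_of_lt τ (k + 1) W (i : ℕ) (Nat.lt_succ_of_lt i.2)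
    rw [Nat.cast_succ] at h1
    rw [h1, h2]
    congr 2
    · have := Fin.cast_val_eq_self i.succ
      rw [Fin.val_succ] at this
      exact this
    · have := Fin.cast_val_eq_self i.castSucc
      rw [Fin.val_castSucc] at this
      exact this

theorem h7_qweight_sum (τ : Equiv.Perm Ω) (P : Ω → Ω → ℂ)
    (hid : ∀ a b, ∑ c, P a c * P c b = P a b) (n : ℕ) [NeZero n] :
    ∑ W : ZMod n → Ω, h7_qweight τ n P W = ∑ a, P (τ a) a := by
  obtain ⟨k, rfl⟩ : ∃ k, n = k + 1 := Nat.exists_eq_succ_of_ne_zero (NeZero.ne n)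
  have h1 : ∑ W : ZMod (k + 1) → Ω, h7_qweight τ (k + 1) P W =
      ∑ W : Fin (k + 1) → Ω, P (τ (W 0)) (W (Fin.last k)) *
        ∏ i : Fin k, P (W i.succ) (W i.castSucc) :=
    Finset.sum_congr rfl fun W _ => h7_qweight_fin τ P k W
  rw [h1, h7_path_sum P hid k (fun a c => P (τ a) c)]
  split_ifs with hk
  · rfl
  · exact Finset.sum_congr rfl fun a _ => hid (τ a) a

theorem h7_twisted_trace_zero {p : ℕ} [hp : Fact p.Prime] {M : Ideal Cfsg.AlgInt}
    (hM : Cfsg.IsPModular p M) (τ : Equiv.Perm Ω) (P : Ω → Ω → ℂ)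
    (hS : ∀ a b, Cfsg.MemLocalRing M (P a b))
    (hinv : ∀ a b, P (τ a) (τ b) = P a b)
    (hid : ∀ a b, ∑ c, P a c * P c b = P a b)
    (hnull : ∀ a, (∃ k : ℕ, ¬ p ∣ k ∧ (τ ^ k) a = a) → ∀ b, P a b = 0) :
    ∑ a, P (τ a) a = 0 := by
  have hPr := hM.2.1.isPrime
  have hp0 : (p : ℂ) ≠ 0 := by exact_mod_cast hM.1.ne_zero
  apply h7_inter_pow_eq_zero hM
  intro m
  haveI : NeZero (p ^ m) := ⟨pow_ne_zero _ hp.out.ne_zero⟩
  rw [← h7_qweight_sum τ P hid (p ^ m)]
  obtain ⟨s, hs, hsum⟩ := h7_perm_sum_dvd (h7_qsigma τ (p ^ m)) (h7_qweight τ (p ^ m) P)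
    (h7_locSubring M hPr)
    (fun W => Subring.prod_mem _ fun i _ => hS _ _)
    (fun W => h7_qweight_sigma τ (p ^ m) P hinv W) (p ^ m) (by
      intro W hW d hd hfix
      by_contra hnd
      have hd0 : d ≠ 0 := hd.ne'
      obtain ⟨i, d', hd', hdd⟩ := Nat.exists_eq_pow_mul_and_not_dvd hd0 p hp.out.ne_one
      have him : i < m := by
        by_contra hc
        push Not at hc
        apply hnd
        rw [hdd]
        exact Dvd.dvd.mul_right (pow_dvd_pow p hc) d'
      have hper : ∀ x, h7_qext τ (p ^ m) W (x + d) = h7_qext τ (p ^ m) W x := by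
        intro x
        have := h7_qext_sigma_pow τ (p ^ m) d W
        rw [hfix] at this
        exact (congrFun this x).symm
      have h2 := h7_qext_periodic_mul (h7_qext τ (p ^ m) W) d hper (p ^ (m - i)) 1
      have h3 : ((d * p ^ (m - i) : ℕ) : ℤ) = (d' : ℤ) * ((p ^ m : ℕ) : ℤ) := by
        have : d * p ^ (m - i) = d' * p ^ m := by
          rw [hdd]
          have : p ^ m = p ^ i * p ^ (m - i) := by
            rw [← pow_add]
            congr 1
            omega
          rw [this]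
          ring
        rw [this]
        push_cast
        ring
      rw [h3, h7_qp_mul τ (p ^ m) _ (fun x => h7_qext_add τ (p ^ m) W x)] at h2
      have h4 := hnull (h7_qext τ (p ^ m) W 1) ⟨d', hd', by
        rw [← zpow_natCast]
        exact h2⟩ (h7_qext τ (p ^ m) W 0)
      exact h7_qweight_ne_zero_first τ (p ^ m) P W hW h4)
  rw [hsum]
  have e : ((p ^ m : ℕ) : ℂ) * s / (p : ℂ) ^ m = s := by
    push_cast
    field_simp
  rw [e]
  exact hs

end Main

end Cfsg.Agent.Lib.helper7
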