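import Mathlib
import Cfsg.Prelude.Def_Blocks
import Cfsg.Agent.Lib.helper7.TwistedCount
import Cfsg.Agent.Lib.helper7.BlockSing2
import Cfsg.Agent.Lib.helper7.Fourier
import Cfsg.Agent.Lib.helper7.BlockEval
import Cfsg.Agent.Lib.helper7.Induction
import Cfsg.Agent.Lib.helper2.PParts

set_option autoImplicit false
set_option linter.style.haveILetI false
set_option linter.unusedSectionVars false
set_option linter.unusedVariables false

namespace Cfsg.Agent.Lib.helper7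

open scoped ComplexConjugate
open Cfsg.Agent.Lib.Helper25

variable {G : Type*} [Group G]

section ConvAlg

variable [Fintype G]

theorem h7_conv_sub_left (a b c : G → ℂ) :
    h7_conv (a - b) c = h7_conv a c - h7_conv b c := by
  funext g
  simp only [h7_conv_apply, Pi.sub_apply, sub_mul, Finset.sum_sub_distrib]

theorem h7_conv_sub_right (a b c : G → ℂ) :
    h7_conv a (b - c) = h7_conv a b - h7_conv a c := by
  funext g
  simp only [h7_conv_apply, Pi.sub_apply, mul_sub, Finset.sum_sub_distrib]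

theorem h7_conv_zero_right (a : G → ℂ) : h7_conv a (0 : G → ℂ) = 0 := by
  funext g
  simp [h7_conv_apply]

theorem h7_conv_memLocalRing {M : Ideal Cfsg.AlgInt} (hM : M.IsPrime) (a b : G → ℂ)
    (ha : ∀ g, Cfsg.MemLocalRing M (a g)) (hb : ∀ g, Cfsg.MemLocalRing M (b g)) (g : G) :
    Cfsg.MemLocalRing M (h7_conv a b g) := by
  rw [h7_conv_apply]
  exact h7_memLocalRing_sum hM _ _ fun h _ => h7_memLocalRing_mul hM (ha _) (hb _)

theorem h7_conv_inv_of_inv (H : Subgroup G) (a b : G → ℂ)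
    (ha : ∀ k ∈ H, ∀ g, a (k * g * k⁻¹) = a g) (hb : ∀ k ∈ H, ∀ g, b (k * g * k⁻¹) = b g)
    (k : G) (hk : k ∈ H) (g : G) : h7_conv a b (k * g * k⁻¹) = h7_conv a b g := by
  rw [h7_conv_apply, h7_conv_apply]
  refine Fintype.sum_bijective (fun h => k⁻¹ * h * k) ?_ _ _ fun h => ?_
  · refine ⟨fun x y hxy => ?_, fun y => ⟨k * y * k⁻¹, by group⟩⟩
    have := congrArg (fun z => k * z * k⁻¹) hxy
    simpa [mul_assoc] using this
  · have h1 : a h = a (k⁻¹ * h * k) := by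
      have := ha k hk (k⁻¹ * h * k)
      rw [← this]
      congr 1
      group
    have h2 : b (h⁻¹ * (k * g * k⁻¹)) = b ((k⁻¹ * h * k)⁻¹ * g) := by
      have := hb k hk ((k⁻¹ * h * k)⁻¹ * g)
      rw [← this]
      congr 1
      group
    rw [h1, h2]

end ConvAlg

section Unit

variable [Fintype G] [Fintype (Cfsg.IrrCharacter G)]

theorem h7_intSubring_val_mem {M : Ideal Cfsg.AlgInt} (hM : M.IsPrime)
    (c : Cfsg.IrrCharacter G → ℂ) (hc : c ∈ h7_intSubring (G := G) M hM)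
    (χ : Cfsg.IrrCharacter G) : Cfsg.MemLocalRing M (c χ) := by
  classical
  haveI : Fintype (ConjClasses G) := Fintype.ofFinite _
  rw [h7_eval_expand c χ]
  exact h7_memLocalRing_sum hM _ _ (fun K _ =>
    h7_memLocalRing_mul hM (hc _) (h7_memLocalRing_centralChar hM χ _))

theorem h7_intSubring_unit {M : Ideal Cfsg.AlgInt} (hM : M.IsPrime)
    (a : Cfsg.IrrCharacter G → ℂ) (ha : a ∈ h7_intSubring (G := G) M hM)
    (hu : ∀ χ, ¬ Cfsg.MemLocalIdeal M (a χ)) :
    ∃ y ∈ h7_intSubring (G := G) M hM, a * y = 1 := by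
  classical
  have key : ∀ T : Finset (Cfsg.IrrCharacter G), ∃ y ∈ h7_intSubring (G := G) M hM,
      ∀ χ ∈ T, a χ * y χ = 1 := by
    intro T
    induction T using Finset.induction_on with
    | empty => exact ⟨0, Subring.zero_mem _, by simp⟩
    | insert χ₀ T hχ₀ ih =>
      obtain ⟨y, hy, hT⟩ := ih
      set α := a χ₀ with hα
      have hαS : Cfsg.MemLocalRing M α := h7_intSubring_val_mem hM a ha χ₀
      have hα0 : α ≠ 0 := by
        intro h0
        apply hu χ₀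
        rw [← hα, h0]
        exact h7_memLocalIdeal_zero hM
      have hinvS : Cfsg.MemLocalRing M α⁻¹ := h7_memLocalRing_inv hM hαS (hu χ₀)
      have hconst : (fun _ : Cfsg.IrrCharacter G => α⁻¹) ∈ h7_intSubring (G := G) M hM :=
        h7_const_mem hM hinvS
      refine ⟨y + (fun _ => α⁻¹) - (fun _ => α⁻¹) * a * y, ?_, ?_⟩
      · exact Subring.sub_mem _ (Subring.add_mem _ hy hconst)
          (Subring.mul_mem _ (Subring.mul_mem _ hconst ha) hy)
      · intro χ hχ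
        simp only [Pi.add_apply, Pi.sub_apply, Pi.mul_apply]
        rcases Finset.mem_insert.mp hχ with rfl | hχT
        · field_simp
          ring
        · have := hT χ hχT
          linear_combination (1 - α⁻¹ * a χ) * this
  obtain ⟨y, hy, hall⟩ := key Finset.univ
  refine ⟨y, hy, ?_⟩
  funext χ
  exact hall χ (Finset.mem_univ χ)

end Unit

section Restrict

variable [Fintype G] [Fintype (Cfsg.IrrCharacter G)]

theorem h7_sum_classes_icc (H : Subgroup G) [Fintype H] [Fintype (ConjClasses G)]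
    (e : G → ℂ) (he : ∀ g h : G, e (h * g * h⁻¹) = e g) (ξ : H → ℂ) :
    ∑ K : ConjClasses G, e (Quotient.out K) *
      Cfsg.inducedCentralChar H ξ (Quotient.out K) = ∑ k : H, e k * ξ k / ξ 1 := by
  classical
  have h1 : ∀ K : ConjClasses G, e (Quotient.out K) *
      Cfsg.inducedCentralChar H ξ (Quotient.out K) =
      ∑ k : H, if ConjClasses.mk (k : G) = K then e k * ξ k / ξ 1 else 0 := by
    intro K
    unfold Cfsg.inducedCentralChar
    rw [h7_finsum_mem_fintype, Finset.mul_sum]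
    refine Finset.sum_congr rfl fun k _ => ?_
    simp only [Set.mem_ofPred_eq]
    have hiff : IsConj (Quotient.out K) (k : G) ↔ ConjClasses.mk (k : G) = K := by
      rw [← ConjClasses.mk_eq_mk_iff_isConj]
      have : ConjClasses.mk (Quotient.out K) = K := Quotient.out_eq K
      rw [this]
      exact eq_comm
    by_cases hc : IsConj (Quotient.out K) (k : G)
    · rw [if_pos hc, if_pos (hiff.mp hc)]
      obtain ⟨c, hc'⟩ := isConj_iff.mp hc
      rw [← hc', he]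
      ring
    · rw [if_neg hc, if_neg (fun h => hc (hiff.mpr h)), mul_zero]
  rw [Finset.sum_congr rfl (fun K _ => h1 K), Finset.sum_comm]
  refine Finset.sum_congr rfl fun k _ => ?_
  rw [Finset.sum_ite_eq]
  simp

theorem h7_restrict_congr {M : Ideal Cfsg.AlgInt} (hM : M.IsPrime) (H : Subgroup G) [Fintype H]
    (c : Cfsg.IrrCharacter G → ℂ) (hc : c ∈ h7_intSubring (G := G) M hM)
    (χ : Cfsg.IrrCharacter G) (ξ : H → ℂ)
    (hind : ∀ g : G, Cfsg.MemLocalIdeal M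
      (Cfsg.inducedCentralChar H ξ g - Cfsg.centralChar (χ : G → ℂ) g)) :
    Cfsg.MemLocalIdeal M (∑ k : H, h7_coef c k * ξ k / ξ 1 - c χ) := by
  classical
  haveI : Fintype (ConjClasses G) := Fintype.ofFinite _
  rw [← h7_sum_classes_icc H (h7_coef c) (fun g h => h7_coef_conj c g h) ξ, h7_eval_expand c χ,
    ← Finset.sum_sub_distrib]
  apply h7_memLocalIdeal_sum hM
  intro K _
  rw [← mul_sub]
  exact h7_memLocalIdeal_mul_left hM (hc _) (hind _)

theorem h7_coef_shift_eval (c : Cfsg.IrrCharacter G → ℂ) (χ : Cfsg.IrrCharacter G) (t : G) :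
    ∑ h : G, h7_coef c h * (χ : G → ℂ) (h * t) = c χ * (χ : G → ℂ) t := by
  classical
  haveI : Fintype (ConjClasses G) := Fintype.ofFinite _
  have hG : (Nat.card G : ℂ) ≠ 0 := by exact_mod_cast Nat.card_pos.ne'
  have hχ1 := irr_one_ne_zero χ
  unfold h7_coef
  have e1 : ∀ h : G, ((Nat.card G : ℂ)⁻¹ * ∑ ψ : Cfsg.IrrCharacter G,
      c ψ * ((ψ : G → ℂ) 1 * conj ((ψ : G → ℂ) h))) * (χ : G → ℂ) (h * t) =
      (Nat.card G : ℂ)⁻¹ * ∑ ψ : Cfsg.IrrCharacter G,
        c ψ * (ψ : G → ℂ) 1 * (conj ((ψ : G → ℂ) h) * (χ : G → ℂ) (h * t)) := by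
    intro h
    rw [mul_assoc, Finset.sum_mul]
    congr 1
    refine Finset.sum_congr rfl fun ψ _ => ?_
    ring
  rw [Finset.sum_congr rfl (fun h _ => e1 h), ← Finset.mul_sum, Finset.sum_comm]
  have e2 : ∀ ψ : Cfsg.IrrCharacter G, ∑ h : G,
      c ψ * (ψ : G → ℂ) 1 * (conj ((ψ : G → ℂ) h) * (χ : G → ℂ) (h * t)) =
      if χ = ψ then c ψ * (ψ : G → ℂ) 1 * ((Nat.card G : ℂ) * (χ : G → ℂ) t / (χ : G → ℂ) 1)
      else 0 := by
    intro ψ
    rw [← Finset.mul_sum]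
    have h3 : ∑ h : G, conj ((ψ : G → ℂ) h) * (χ : G → ℂ) (h * t) =
        ∑ h : G, (χ : G → ℂ) (t * h⁻¹) * (ψ : G → ℂ) h := by
      refine Fintype.sum_bijective (fun h => h⁻¹) (Equiv.inv G).bijective _ _ fun h => ?_
      rw [inv_inv, mul_comm]
      congr 1
      · have := irr_conj_invariant χ (t * h) h
        rw [← this]
        group
      · exact (irr_inv ψ h).symm
    rw [h3, h7_gen_orth]
    split_ifs
    · rfl
    · rw [mul_zero]
  rw [Finset.sum_congr rfl (fun ψ _ => e2 ψ), Finset.sum_ite_eq]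
  simp only [Finset.mem_univ, if_true]
  field_simp

end Restrict

section Trace

variable [Fintype G]

def h7_tau (g s : G) : Equiv.Perm (G × G) where
  toFun a := (g * a.1 * s⁻¹, s * a.2 * s⁻¹)
  invFun a := (g⁻¹ * a.1 * s, s⁻¹ * a.2 * s)
  left_inv a := by ext <;> simp [mul_assoc]
  right_inv a := by ext <;> simp [mul_assoc]

theorem h7_tau_pow_snd (g s : G) (k : ℕ) (a : G × G) :
    (((h7_tau g s) ^ k) a).2 = s ^ k * a.2 * (s ^ k)⁻¹ := by
  induction k with
  | zero => simp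
  | succ k ih =>
    rw [pow_succ', Equiv.Perm.mul_apply]
    show s * (((h7_tau g s) ^ k) a).2 * s⁻¹ = _
    rw [ih, pow_succ']
    group

theorem h7_trace_vanish {p : ℕ} [hp : Fact p.Prime] {M : Ideal Cfsg.AlgInt}
    (hM : Cfsg.IsPModular p M) (H : Subgroup G) (w n₁ : G → ℂ)
    (hwS : ∀ g, Cfsg.MemLocalRing M (w g)) (hnS : ∀ g, Cfsg.MemLocalRing M (n₁ g))
    (hwH : ∀ k ∈ H, ∀ g, w (k * g * k⁻¹) = w g) (hnH : ∀ k ∈ H, ∀ g, n₁ (k * g * k⁻¹) = n₁ g)
    (hn0 : ∀ k ∈ H, n₁ k = 0)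
    (hww : h7_conv w w = w) (hnw : h7_conv n₁ w = w)
    (s : G) (hs : s ∈ H)
    (hC : ∀ z : G, (∃ k : ℕ, ¬ p ∣ k ∧ s ^ k * z * (s ^ k)⁻¹ = z) → z ∈ H) (g : G) :
    ∑ x : G, w (x⁻¹ * g * x * s⁻¹) = 0 := by
  classical
  have hPr := hM.2.1.isPrime
  set P : G × G → G × G → ℂ := fun a' a => w ((a.1 * a.2)⁻¹ * a'.1) * n₁ a'.2 with hP
  have h := h7_twisted_trace_zero hM (h7_tau g s) P ?_ ?_ ?_ ?_
  · rw [Fintype.sum_prod_type] at h
    rw [← h]
    refine Finset.sum_congr rfl fun x _ => ?_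
    have : w (x⁻¹ * g * x * s⁻¹) = h7_conv n₁ w (x⁻¹ * g * x * s⁻¹) := by rw [hnw]
    rw [this, h7_conv_apply]
    refine Finset.sum_congr rfl fun z _ => ?_
    simp only [hP]
    show n₁ z * w (z⁻¹ * (x⁻¹ * g * x * s⁻¹)) =
      w ((x * z)⁻¹ * (g * x * s⁻¹)) * n₁ (s * z * s⁻¹)
    rw [hnH s hs, mul_comm]
    congr 2
    group
  · intro a b
    exact h7_memLocalRing_mul hPr (hwS _) (hnS _)
  · rintro ⟨x', z'⟩ ⟨x, z⟩
    simp only [hP]
    show w ((g * x * s⁻¹ * (s * z * s⁻¹))⁻¹ * (g * x' * s⁻¹)) * n₁ (s * z' * s⁻¹) =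
      w ((x * z)⁻¹ * x') * n₁ z'
    rw [hnH s hs]
    have e : (g * x * s⁻¹ * (s * z * s⁻¹))⁻¹ * (g * x' * s⁻¹) =
        s * ((x * z)⁻¹ * x') * s⁻¹ := by group
    rw [e, hwH s hs]
  · rintro ⟨x', z'⟩ ⟨x, z⟩
    rw [Fintype.sum_prod_type]
    simp only [hP]
    have h1 : ∀ x'' : G, ∑ z'' : G,
        w ((x'' * z'')⁻¹ * x') * n₁ z' * (w ((x * z)⁻¹ * x'') * n₁ z'') =
        n₁ z' * (w ((x * z)⁻¹ * x'') * w (x''⁻¹ * x')) := by
      intro x''
      have : w (x''⁻¹ * x') = h7_conv n₁ w (x''⁻¹ * x') := by rw [hnw]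
      rw [this, h7_conv_apply, Finset.mul_sum, Finset.mul_sum]
      refine Finset.sum_congr rfl fun z'' _ => ?_
      have e : (x'' * z'')⁻¹ * x' = z''⁻¹ * (x''⁻¹ * x') := by group
      rw [e]
      ring
    rw [Finset.sum_congr rfl (fun x'' _ => h1 x''), ← Finset.mul_sum]
    have h2 : ∑ x'' : G, w ((x * z)⁻¹ * x'') * w (x''⁻¹ * x') = w ((x * z)⁻¹ * x') := by
      conv_rhs => rw [← hww, h7_conv_apply]
      refine Fintype.sum_bijective (fun x'' => (x * z)⁻¹ * x'')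
        (Group.mulLeft_bijective _) _ _ fun x'' => ?_
      congr 2
      group
    rw [h2]
    ring
  · rintro ⟨x', z'⟩ ⟨k, hk, hfix⟩ b
    have h2 := congrArg Prod.snd hfix
    rw [h7_tau_pow_snd] at h2
    have hz : z' ∈ H := hC z' ⟨k, hk, h2⟩
    simp only [hP]
    rw [hn0 z' hz, mul_zero]

theorem h7_char_sum_of_trace (w : G → ℂ) (s : G) (χ : Cfsg.IrrCharacter G)
    (h : ∀ g, ∑ x : G, w (x⁻¹ * g * x * s⁻¹) = 0) :
    ∑ y : G, w y * (χ : G → ℂ) (y * s) = 0 := by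
  classical
  have hG : (Nat.card G : ℂ) ≠ 0 := by exact_mod_cast Nat.card_pos.ne'
  have h1 : (Nat.card G : ℂ) * ∑ y : G, w y * (χ : G → ℂ) (y * s) =
      ∑ g : G, (χ : G → ℂ) g * ∑ x : G, w (x⁻¹ * g * x * s⁻¹) := by
    have e1 : (Nat.card G : ℂ) * ∑ y : G, w y * (χ : G → ℂ) (y * s) =
        ∑ x : G, ∑ y : G, w y * (χ : G → ℂ) (y * s) := by
      rw [Finset.sum_const, Finset.card_univ, nsmul_eq_mul, Nat.card_eq_fintype_card]
    have e2 : ∑ g : G, (χ : G → ℂ) g * ∑ x : G, w (x⁻¹ * g * x * s⁻¹) =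
        ∑ x : G, ∑ g : G, (χ : G → ℂ) g * w (x⁻¹ * g * x * s⁻¹) := by
      simp only [Finset.mul_sum]
      exact Finset.sum_comm
    rw [e1, e2]
    refine Finset.sum_congr rfl fun x _ => ?_
    refine Fintype.sum_bijective (fun y => x * (y * s) * x⁻¹) ?_ _ _ fun y => ?_
    · refine ⟨fun a b hab => ?_, fun b => ⟨x⁻¹ * b * x * s⁻¹, by group⟩⟩
      have := congrArg (fun z => x⁻¹ * z * x * s⁻¹) hab
      simpa [mul_assoc] using this
    · rw [irr_conj_invariant, mul_comm]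
      congr 2
      group
  have h2 : ∑ g : G, (χ : G → ℂ) g * ∑ x : G, w (x⁻¹ * g * x * s⁻¹) = 0 := by
    apply Finset.sum_eq_zero
    intro g _
    rw [h g, mul_zero]
  rw [h2] at h1
  rcases mul_eq_zero.mp h1 with h3 | h3
  · exact absurd h3 hG
  · exact h3

end Trace

section Assemble

theorem h7_ppart_mem_zpowers_pow (p : ℕ) [hp : Fact p.Prime] (s u : G) (hu : Cfsg.IsPPart p s u)
    (k : ℕ) (hk : ¬ p ∣ k) : u ∈ Subgroup.zpowers (s ^ k) := by
  obtain ⟨y, rfl, hc, ⟨j, hj⟩, hy⟩ := hu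
  set m := orderOf y with hm
  have h1 : ((u * y) ^ k) ^ m = u ^ (k * m) := by
    rw [← pow_mul, hc.mul_pow, pow_mul' y k m, hm, pow_orderOf_eq_one, one_pow, mul_one]
  have hcop : (k * m).Coprime (orderOf u) := by
    rw [hj]
    apply Nat.Coprime.pow_right
    apply Nat.Coprime.symm
    rw [Nat.Prime.coprime_iff_not_dvd hp.out]
    intro hd
    rcases (Nat.Prime.dvd_mul hp.out).mp hd with h | h
    · exact hk h
    · exact hy h
  obtain ⟨m', hm'⟩ := exists_pow_eq_self_of_coprime hcop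
  have hmem := Subgroup.npow_mem_zpowers ((u * y) ^ k) (m * m')
  rw [pow_mul, h1, hm'] at hmem
  exact hmem

variable [Fintype G] [Fintype (Cfsg.IrrCharacter G)]

theorem h7_second_main {p : ℕ} [hp : Fact p.Prime] {M : Ideal Cfsg.AlgInt}
    (hM : Cfsg.IsPModular p M) (H : Subgroup G) [Fintype H] [Fintype (Cfsg.IrrCharacter H)]
    (ξ₀ : Cfsg.IrrCharacter H) (χ₀ : Cfsg.IrrCharacter G)
    (hind : ∀ ξ ∈ Cfsg.blockOf M (ξ₀ : H → ℂ), ∀ χ ∈ Cfsg.blockOf M (χ₀ : G → ℂ), ∀ g : G,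
      Cfsg.MemLocalIdeal M
        (Cfsg.inducedCentralChar H (ξ : H → ℂ) g - Cfsg.centralChar (χ : G → ℂ) g))
    (s : H) (hC : ∀ z : G, Cfsg.IsPPart p (s : G) z → Subgroup.centralizer ({z} : Set G) ≤ H)
    (χ : Cfsg.IrrCharacter G) (hχ : χ ∉ Cfsg.blockOf M (χ₀ : G → ℂ)) :
    ∑ k : H, Cfsg.blockCoeff (Cfsg.blockOf M (ξ₀ : H → ℂ)) k *
      (χ : G → ℂ) ((k : G) * (s : G)) = 0 := by
  classical
  have hPr := hM.2.1.isPrime
  set B := Cfsg.blockOf M (χ₀ : G → ℂ) with hB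
  set b := Cfsg.blockOf M (ξ₀ : H → ℂ) with hb
  set iB : Cfsg.IrrCharacter G → ℂ := fun χ => if χ ∈ B then (1 : ℂ) else 0 with hiBdef
  set ib : Cfsg.IrrCharacter H → ℂ := fun ξ => if ξ ∈ b then (1 : ℂ) else 0 with hibdef
  have hiB : iB ∈ h7_intSubring (G := G) M hPr := h7_block_indicator_mem hPr χ₀
  have hib : ib ∈ h7_intSubring (G := H) M hPr := h7_block_indicator_mem hPr ξ₀
  have hiBB : iB * iB = iB := by
    funext χ
    simp only [hiBdef, Pi.mul_apply]
    split_ifs <;> simp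
  have hibb : ib * ib = ib := by
    funext ξ
    simp only [hibdef, Pi.mul_apply]
    split_ifs <;> simp
  obtain ⟨e, he⟩ : ∃ e : G → ℂ, e = h7_coef iB := ⟨_, rfl⟩
  obtain ⟨f, hf⟩ : ∃ f : H → ℂ, f = h7_coef ib := ⟨_, rfl⟩
  have heS : ∀ g, Cfsg.MemLocalRing M (e g) := fun g => by rw [he]; exact hiB g
  have hfS : ∀ k, Cfsg.MemLocalRing M (f k) := fun k => by rw [hf]; exact hib k
  have hecl : ∀ g h : G, e (h * g * h⁻¹) = e g := fun g h => by rw [he]; exact h7_coef_conj iB g h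
  have hfcl : ∀ g h : H, f (h * g * h⁻¹) = f g := fun g h => by rw [hf]; exact h7_coef_conj ib g h
  have hee : h7_conv e e = e := by rw [he, h7_conv_coef, hiBB]
  have hff : h7_conv f f = f := by rw [hf, h7_conv_coef, hibb]
  obtain ⟨eH, heH⟩ : ∃ eH : H → ℂ, eH = fun k : H => e (k : G) := ⟨_, rfl⟩
  have heHcl : ∀ a c : H, eH (c * a * c⁻¹) = eH a := by
    intro a c
    rw [heH]
    simp only [Subgroup.coe_mul, Subgroup.coe_inv]
    exact hecl _ _
  set ce : Cfsg.IrrCharacter H → ℂ := h7_fourier eH with hcedef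
  have hce_coef : h7_coef ce = eH := h7_coef_fourier eH heHcl
  have hce : ce ∈ h7_intSubring (G := H) M hPr := by
    intro k
    rw [hce_coef, heH]
    exact heS _
  have hχ₀B : χ₀ ∈ B := h7_sameBlock_refl hPr _
  have hcong : ∀ ξ ∈ b, Cfsg.MemLocalIdeal M (ce ξ - 1) := by
    intro ξ hξ
    have h1 := h7_restrict_congr hPr H iB hiB χ₀ (ξ : H → ℂ) (hind ξ hξ χ₀ hχ₀B)
    have h2 : iB χ₀ = 1 := by simp only [hiBdef, if_pos hχ₀B]
    have h3 : ∑ k : H, h7_coef iB k * (ξ : H → ℂ) k / (ξ : H → ℂ) 1 = ce ξ := by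
      rw [hcedef, h7_fourier_apply, Finset.sum_div, heH, he]
    rw [h2, h3] at h1
    exact h1
  set a : Cfsg.IrrCharacter H → ℂ := ib * ce + (1 - ib) with hadef
  have ha : a ∈ h7_intSubring (G := H) M hPr :=
    Subring.add_mem _ (Subring.mul_mem _ hib hce) (Subring.sub_mem _ (Subring.one_mem _) hib)
  have hau : ∀ ξ, ¬ Cfsg.MemLocalIdeal M (a ξ) := by
    intro ξ hmem
    by_cases hξ : ξ ∈ b
    · have h1 : a ξ = ce ξ := by
        simp only [hadef, hibdef, Pi.add_apply, Pi.mul_apply, Pi.sub_apply, Pi.one_apply,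
          if_pos hξ]
        ring
      apply h7_not_memLocalIdeal_one hPr
      have e1 : (1 : ℂ) = a ξ - (ce ξ - 1) := by rw [h1]; ring
      rw [e1]
      exact h7_memLocalIdeal_sub hPr hmem (hcong ξ hξ)
    · have h1 : a ξ = 1 := by
        simp only [hadef, hibdef, Pi.add_apply, Pi.mul_apply, Pi.sub_apply, Pi.one_apply,
          if_neg hξ]
        ring
      rw [h1] at hmem
      exact h7_not_memLocalIdeal_one hPr hmem
  obtain ⟨y, hy, hay⟩ := h7_intSubring_unit hPr a ha hau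
  set v : Cfsg.IrrCharacter H → ℂ := ib * y with hvdef
  have hv : v ∈ h7_intSubring (G := H) M hPr := Subring.mul_mem _ hib hy
  have hcev : ce * v = ib := by
    funext ξ
    have h1 := congrFun hay ξ
    simp only [hadef, hvdef, hibdef, Pi.add_apply, Pi.mul_apply, Pi.sub_apply,
      Pi.one_apply] at h1 ⊢
    by_cases hξ : ξ ∈ b
    · simp only [if_pos hξ] at h1 ⊢
      linear_combination h1
    · simp only [if_neg hξ]
      ring
  obtain ⟨g₁, hg₁⟩ : ∃ g₁ : H → ℂ, g₁ = h7_coef v := ⟨_, rfl⟩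
  have hg₁S : ∀ k, Cfsg.MemLocalRing M (g₁ k) := fun k => by rw [hg₁]; exact hv k
  have hg₁cl : ∀ g h : H, g₁ (h * g * h⁻¹) = g₁ g := fun g h => by
    rw [hg₁]; exact h7_coef_conj v g h
  have hconvH : h7_conv eH g₁ = f := by rw [← hce_coef, hg₁, h7_conv_coef, hcev, hf]
  obtain ⟨F, hF⟩ : ∃ F : G → ℂ, F = Cfsg.extendByZero H f := ⟨_, rfl⟩
  obtain ⟨Gt, hGt⟩ : ∃ Gt : G → ℂ, Gt = Cfsg.extendByZero H g₁ := ⟨_, rfl⟩
  have hFF : h7_conv F F = F := by rw [hF, h7_conv_extendByZero, hff]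
  have hextS : ∀ (θ : H → ℂ), (∀ k, Cfsg.MemLocalRing M (θ k)) →
      ∀ g, Cfsg.MemLocalRing M (Cfsg.extendByZero H θ g) := by
    intro θ hθ g
    by_cases hg : g ∈ H
    · have := h7_extendByZero_coe H θ ⟨g, hg⟩
      simp only at this
      rw [this]
      exact hθ _
    · rw [h7_extendByZero_not_mem H θ g hg]
      exact h7_memLocalRing_zero hPr
  have hextH : ∀ (θ : H → ℂ), (∀ g h : H, θ (h * g * h⁻¹) = θ g) →
      ∀ k ∈ H, ∀ g, Cfsg.extendByZero H θ (k * g * k⁻¹) = Cfsg.extendByZero H θ g := by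
    intro θ hθ k hk g
    by_cases hg : g ∈ H
    · have h1 := h7_extendByZero_coe H θ ⟨g, hg⟩
      have h2 := h7_extendByZero_coe H θ (⟨k, hk⟩ * ⟨g, hg⟩ * ⟨k, hk⟩⁻¹)
      simp only [Subgroup.coe_mul, Subgroup.coe_inv] at h1 h2
      rw [h1, h2]
      exact hθ _ _
    · have hg' : k * g * k⁻¹ ∉ H := by
        intro hc
        apply hg
        have := H.mul_mem (H.mul_mem (H.inv_mem hk) hc) hk
        have e1 : k⁻¹ * (k * g * k⁻¹) * k = g := by group
        rwa [e1] at this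
      rw [h7_extendByZero_not_mem H θ g hg, h7_extendByZero_not_mem H θ _ hg']
  have hFS : ∀ g, Cfsg.MemLocalRing M (F g) := fun g => by rw [hF]; exact hextS f hfS g
  have hGtS : ∀ g, Cfsg.MemLocalRing M (Gt g) := fun g => by rw [hGt]; exact hextS g₁ hg₁S g
  have hFH : ∀ k ∈ H, ∀ g, F (k * g * k⁻¹) = F g := fun k hk g => by
    rw [hF]; exact hextH f hfcl k hk g
  have hGtH : ∀ k ∈ H, ∀ g, Gt (k * g * k⁻¹) = Gt g := fun k hk g => by
    rw [hGt]; exact hextH g₁ hg₁cl k hk g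
  have heH' : ∀ k ∈ H, ∀ g, e (k * g * k⁻¹) = e g := fun k _ g => hecl g k
  obtain ⟨n₁, hn₁⟩ : ∃ n₁ : G → ℂ, n₁ = F - h7_conv e Gt := ⟨_, rfl⟩
  obtain ⟨w, hw⟩ : ∃ w : G → ℂ, w = F - h7_conv e F := ⟨_, rfl⟩
  have hnS : ∀ g, Cfsg.MemLocalRing M (n₁ g) := fun g => by
    rw [hn₁, Pi.sub_apply]
    exact h7_memLocalRing_sub hPr (hFS g) (h7_conv_memLocalRing hPr e Gt heS hGtS g)
  have hwS : ∀ g, Cfsg.MemLocalRing M (w g) := fun g => by
    rw [hw, Pi.sub_apply]
    exact h7_memLocalRing_sub hPr (hFS g) (h7_conv_memLocalRing hPr e F heS hFS g)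
  have hnH : ∀ k ∈ H, ∀ g, n₁ (k * g * k⁻¹) = n₁ g := fun k hk g => by
    rw [hn₁, Pi.sub_apply, Pi.sub_apply, hFH k hk, h7_conv_inv_of_inv H e Gt heH' hGtH k hk]
  have hwH : ∀ k ∈ H, ∀ g, w (k * g * k⁻¹) = w g := fun k hk g => by
    rw [hw, Pi.sub_apply, Pi.sub_apply, hFH k hk, h7_conv_inv_of_inv H e F heH' hFH k hk]
  have hn0 : ∀ k ∈ H, n₁ k = 0 := by
    intro k hk
    rw [hn₁, Pi.sub_apply, hGt, h7_conv_extendByZero_right, hF]
    have h1 := h7_extendByZero_coe H f ⟨k, hk⟩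
    simp only at h1
    rw [h1, ← hconvH, h7_conv_apply', heH]
    simp only [Subgroup.coe_mul, Subgroup.coe_inv]
    exact sub_self _
  have hcomm : ∀ x : G → ℂ, h7_conv e x = h7_conv x e :=
    fun x => h7_conv_comm_of_class e x hecl
  have hew : h7_conv e w = 0 := by
    rw [hw, h7_conv_sub_right, ← h7_conv_assoc, hee, sub_self]
  have hFw : h7_conv F w = w := by
    rw [hw, h7_conv_sub_right, hFF, ← h7_conv_assoc, ← hcomm F, h7_conv_assoc, hFF]
  have hww : h7_conv w w = w := by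
    have h1 : h7_conv w w = h7_conv (F - h7_conv e F) w := by rw [← hw]
    rw [h1, h7_conv_sub_left, hFw, h7_conv_assoc, hFw, hew, sub_zero]
  have hnw : h7_conv n₁ w = w := by
    rw [hn₁, h7_conv_sub_left, hFw, hcomm Gt, h7_conv_assoc, hew, h7_conv_zero_right, sub_zero]
  obtain ⟨r, u, hru, hcomm_ru, hr, hu, -, -⟩ := Cfsg.Agent.Lib.helper2.pp_exists p hp.out (s : G)
  have hpp : Cfsg.IsPPart p (s : G) u := ⟨r, by rw [← hcomm_ru.eq]; exact hru, hcomm_ru.symm, hu, hr⟩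
  have hCu := hC u hpp
  have hC' : ∀ z : G, (∃ k : ℕ, ¬ p ∣ k ∧ (s : G) ^ k * z * ((s : G) ^ k)⁻¹ = z) → z ∈ H := by
    rintro z ⟨k, hk, hz⟩
    apply hCu
    rw [Subgroup.mem_centralizer_singleton_iff]
    have hu' := h7_ppart_mem_zpowers_pow p (s : G) u hpp k hk
    have hzc : Commute ((s : G) ^ k) z := by
      have h0 : (s : G) ^ k * z = z * (s : G) ^ k := by
        have := congrArg (fun t => t * (s : G) ^ k) hz
        simpa [mul_assoc] using this
      exact h0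
    obtain ⟨j, hj⟩ := Subgroup.mem_zpowers_iff.mp hu'
    rw [← hj]
    exact ((hzc.zpow_left j).eq).symm
  have htr : ∀ g : G, ∑ x : G, w (x⁻¹ * g * x * (s : G)⁻¹) = 0 :=
    h7_trace_vanish hM H w n₁ hwS hnS hwH hnH hn0 hww hnw (s : G) s.2 hC'
  have h1 := h7_char_sum_of_trace w (s : G) χ htr
  have h2 : ∑ y : G, h7_conv e F y * (χ : G → ℂ) (y * (s : G)) = 0 := by
    have e1 : ∀ y : G, h7_conv e F y * (χ : G → ℂ) (y * (s : G)) =
        ∑ h : G, F h * (e (y * h⁻¹) * (χ : G → ℂ) (y * (s : G))) := by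
      intro y
      rw [h7_conv_apply', Finset.sum_mul]
      refine Finset.sum_congr rfl fun h _ => ?_
      ring
    rw [Finset.sum_congr rfl (fun y _ => e1 y), Finset.sum_comm]
    apply Finset.sum_eq_zero
    intro h _
    rw [← Finset.mul_sum]
    have e2 : ∑ y : G, e (y * h⁻¹) * (χ : G → ℂ) (y * (s : G)) =
        ∑ y' : G, e y' * (χ : G → ℂ) (y' * (h * (s : G))) := by
      refine Fintype.sum_bijective (fun y => y * h⁻¹) (Group.mulRight_bijective _) _ _
        fun y => ?_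
      congr 2
      group
    rw [e2, he, h7_coef_shift_eval]
    simp only [hiBdef, if_neg hχ, zero_mul, mul_zero]
  have h3 : ∑ y : G, F y * (χ : G → ℂ) (y * (s : G)) = 0 := by
    have e1 : ∀ y : G, F y * (χ : G → ℂ) (y * (s : G)) =
        w y * (χ : G → ℂ) (y * (s : G)) + h7_conv e F y * (χ : G → ℂ) (y * (s : G)) := by
      intro y
      rw [hw, Pi.sub_apply]
      ring
    rw [Finset.sum_congr rfl (fun y _ => e1 y), Finset.sum_add_distrib, h1, h2, add_zero]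
  have h4 := h7_sum_mul_extendByZero H f (fun y => (χ : G → ℂ) (y * (s : G)))
  rw [← hF] at h4
  have h5 : ∑ k : H, Cfsg.blockCoeff b k * (χ : G → ℂ) ((k : G) * (s : G)) =
      ∑ k : H, (χ : G → ℂ) ((k : G) * (s : G)) * f k := by
    refine Finset.sum_congr rfl fun k _ => ?_
    rw [hf, h7_coef_indicator, mul_comm]
  rw [h5, ← h4]
  rw [← h3]
  exact Finset.sum_congr rfl fun y _ => mul_comm _ _

end Assemble

section BlockPart

theorem h7_blockPart_eq {K : Type*} [Group K] [Finite K] (b : Set (Cfsg.IrrCharacter K))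
    (ϑ : K → ℂ) (hϑ : ∀ g h : K, ϑ (h * g * h⁻¹) = ϑ g) (y : K) :
    Cfsg.blockPart b ϑ y = ∑ᶠ k : K, Cfsg.blockCoeff b k * ϑ (k * y) := by
  classical
  letI : Fintype K := Fintype.ofFinite K
  haveI : Fintype (Cfsg.IrrCharacter K) := Fintype.ofFinite _
  unfold Cfsg.blockPart
  rw [h7_finsum_mem_fintype, finsum_eq_sum_of_fintype]
  have hexp := classFunction_expansion ϑ hϑ
  have h1 : ∀ k : K, Cfsg.blockCoeff b k * ϑ (k * y) =
      ∑ χ : Cfsg.IrrCharacter K, Cfsg.classInner ϑ (χ : K → ℂ) *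
        (h7_coef (fun χ : Cfsg.IrrCharacter K => if χ ∈ b then (1 : ℂ) else 0) k *
          (χ : K → ℂ) (k * y)) := by
    intro k
    conv_lhs => rw [hexp]
    rw [h7_coef_indicator, Finset.sum_apply, Finset.mul_sum]
    refine Finset.sum_congr rfl fun χ _ => ?_
    simp only [Pi.smul_apply, smul_eq_mul]
    ring
  rw [Finset.sum_congr rfl (fun k _ => h1 k), Finset.sum_comm]
  refine Finset.sum_congr rfl fun χ _ => ?_
  rw [← Finset.mul_sum, h7_coef_shift_eval]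
  split_ifs <;> simp

end BlockPart

end Cfsg.Agent.Lib.helper7
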