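import Mathlib
import Cfsg.Prelude.Def_Blocks
import Cfsg.Agent.Lib.helper7.SecondMain
import Cfsg.Agent.Lib.helper7.BlockDefGrp
import Cfsg.Agent.Lib.Helper25.PCoreBlocks
import Cfsg.Agent.Lib.Helper1.Cores
import Cfsg.Agent.Lib.helper7.BlockHom

set_option autoImplicit false
set_option linter.style.haveILetI false
set_option linter.unusedSectionVars false
set_option linter.unusedVariables false

namespace Cfsg.Agent.Lib.helper7

open scoped ComplexConjugate
open Cfsg.Agent.Lib.Helper25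

variable {G : Type*} [Group G]

theorem h7_sum_eq_zero_of_blocks [Fintype G] [Fintype (Cfsg.IrrCharacter G)]
    {M : Ideal Cfsg.AlgInt} (hPr : M.IsPrime) (F : Cfsg.IrrCharacter G → ℂ)
    (h : ∀ B : Set (Cfsg.IrrCharacter G), Cfsg.IsPBlock M B → ∑ᶠ ψ ∈ B, F ψ = 0) :
    ∑ ψ, F ψ = 0 := by
  classical
  set blocks : Finset (Set (Cfsg.IrrCharacter G)) :=
    Finset.univ.image (fun χ : Cfsg.IrrCharacter G => Cfsg.blockOf M (χ : G → ℂ)) with hblocks
  have key : ∀ ψ : Cfsg.IrrCharacter G, F ψ = ∑ B ∈ blocks, if ψ ∈ B then F ψ else 0 := by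
    intro χ
    rw [Finset.sum_eq_single (Cfsg.blockOf M (χ : G → ℂ))]
    · have hχ : χ ∈ Cfsg.blockOf M (χ : G → ℂ) := h7_sameBlock_refl hPr _
      rw [if_pos hχ]
    · intro B hB hne
      obtain ⟨χ', _, rfl⟩ := Finset.mem_image.mp hB
      rw [if_neg]
      intro hmem
      exact hne (h7_blockOf_eq_of_mem hPr χ' χ hmem)
    · intro h
      exact absurd (Finset.mem_image.mpr ⟨χ, Finset.mem_univ _, rfl⟩) h
  rw [Finset.sum_congr rfl (fun ψ _ => key ψ), Finset.sum_comm]
  apply Finset.sum_eq_zero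
  intro B hB
  obtain ⟨χ', _, rfl⟩ := Finset.mem_image.mp hB
  rw [← h7_finsum_mem_fintype]
  exact h _ ⟨χ', rfl⟩

theorem h7_central_pelement_mem_defect [Finite G] (p : ℕ) [hp : Fact p.Prime]
    (M : Ideal Cfsg.AlgInt) (hM : Cfsg.IsPModular p M) (z : G) (hz : ∀ g : G, g * z = z * g)
    (hzp : ∃ k : ℕ, orderOf z = p ^ k) (B : Set (Cfsg.IrrCharacter G))
    (hB : Cfsg.IsPBlock M B) (D : Subgroup G) (hD : Cfsg.IsDefectGroup p M B D) : z ∈ D := by
  have h1 := an_pCore_le_defectGroup p M hM B hB D hD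
  apply h1
  have hN : (Subgroup.zpowers z).Normal := by
    constructor
    intro n hn g
    obtain ⟨j, rfl⟩ := Subgroup.mem_zpowers_iff.mp hn
    have hc : Commute g z := hz g
    have : g * z ^ j * g⁻¹ = z ^ j := by
      rw [(hc.zpow_right j).eq]
      group
    rw [this]
    exact Subgroup.zpow_mem_zpowers z j
  have hP : IsPGroup p (Subgroup.zpowers z) := by
    obtain ⟨k, hk⟩ := hzp
    apply IsPGroup.of_card (n := k)
    rw [Nat.card_zpowers, hk]
  exact Cfsg.Agent.Lib.Helper1.le_pCore hN hP (Subgroup.mem_zpowers z)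

end Cfsg.Agent.Lib.helper7
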