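import Mathlib
import Cfsg.Prelude.Def_ChevStructure
import Cfsg.Agent.Lib.helper8.ChevTri
import Cfsg.Agent.Lib.helper8.ChevBase
import Cfsg.Agent.Lib.helper8.ChevUnits

set_option autoImplicit false

/-!
The coefficient of a unipotent element at a fundamental root: for an element `g` of the group `U`
generated by the positive root subgroups, the matrix entry of `g` in row `h_{p_i}` and column
`e_{-p_i}` is additive in `g`, it is `t` on `x_{p_i}(t)` and `0` on every other positive root
element.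
-/

namespace Cfsg.Agent.Lib.helper7.Sf

open Cfsg.Lie Cfsg.Lie.ChevalleyDatum Cfsg.Agent.Lib.helper8

universe u

variable {F : Type u} [Field F]

/-- Table check behind the coefficient maps. -/
def piChk (D : ChevalleyDatum) : Bool :=
  (List.range D.rank).all fun i =>
    decide (D.simple i < D.nroots) && decide (D.nroots / 2 ≤ D.simple i) &&
    decide (D.neg (D.simple i) < D.nroots / 2) &&
    decide ((D.coroot.getD (D.simple i) #[]).getD i 0 = 1) &&
    (List.range D.nroots).all fun r =>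
      decide (r < D.nroots / 2) ||
        ((decide (r = D.simple i) || decide (D.negIdx.getD r 0 ≠ D.neg (D.simple i))) &&
         (D.chain.getD r #[]).toList.all fun e =>
           decide (e.1 ≠ D.neg (D.simple i)) ||
             e.2.toList.all fun q => decide (D.nroots / 2 ≤ q.1))

theorem piChk_spec (D : ChevalleyDatum) (h : piChk D = true) (i : ℕ) (hi : i < D.rank) :
    D.simple i < D.nroots ∧ D.nroots / 2 ≤ D.simple i ∧ D.neg (D.simple i) < D.nroots / 2 ∧
    (D.coroot.getD (D.simple i) #[]).getD i 0 = 1 ∧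
    ∀ r, r < D.nroots → D.nroots / 2 ≤ r →
      (r ≠ D.simple i → D.negIdx.getD r 0 ≠ D.neg (D.simple i)) ∧
      ∀ e ∈ (D.chain.getD r #[]).toList, e.1 = D.neg (D.simple i) →
        ∀ q ∈ e.2.toList, D.nroots / 2 ≤ q.1 := by
  unfold piChk at h
  rw [List.all_eq_true] at h
  have h1 := h i (List.mem_range.mpr hi)
  simp only [Bool.and_eq_true, decide_eq_true_eq, List.all_eq_true, List.mem_range,
    Bool.or_eq_true] at h1
  obtain ⟨⟨⟨⟨a1, a2⟩, a3⟩, a4⟩, a5⟩ := h1
  refine ⟨a1, a2, a3, a4, ?_⟩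
  intro r hr hrp
  rcases a5 r hr with h2 | h2
  · omega
  · refine ⟨?_, ?_⟩
    · intro hne
      rcases h2.1 with h3 | h3
      · exact absurd h3 hne
      · exact h3
    · intro e he hes q hq
      rcases h2.2 e he with h3 | h3
      · exact absurd hes h3
      · exact h3 q hq

/-- The shape of the matrices of `U` that makes the coefficient at `m = -p_i` additive. -/
structure PiShape (D : ChevalleyDatum) (m : Fin D.nroots) (g : Matrix D.Idx D.Idx F) : Prop where
  cc : ∀ j j' : Fin D.rank, g (Sum.inl j) (Sum.inl j') = if j = j' then 1 else 0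
  cp : ∀ (j : Fin D.rank) (s : Fin D.nroots), D.nroots / 2 ≤ s.val → g (Sum.inl j) (Sum.inr s) = 0
  nc : ∀ (v : Fin D.nroots) (j : Fin D.rank), v.val < D.nroots / 2 → g (Sum.inr v) (Sum.inl j) = 0
  np : ∀ (v s : Fin D.nroots), v.val < D.nroots / 2 → D.nroots / 2 ≤ s.val →
    g (Sum.inr v) (Sum.inr s) = 0
  nm : ∀ v : Fin D.nroots, v.val < D.nroots / 2 →
    g (Sum.inr v) (Sum.inr m) = if v = m then 1 else 0

theorem PiShape.one (D : ChevalleyDatum) (m : Fin D.nroots) :
    PiShape D m (1 : Matrix D.Idx D.Idx F) where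
  cc := by
    intro j j'
    rw [Matrix.one_apply]
    by_cases h : j = j'
    · rw [if_pos h, if_pos (by rw [h])]
    · rw [if_neg h, if_neg (fun e => h (Sum.inl.inj e))]
  cp := by
    intro j s _
    rw [Matrix.one_apply_ne (by simp)]
  nc := by
    intro v j _
    rw [Matrix.one_apply_ne (by simp)]
  np := by
    intro v s hv hs
    rw [Matrix.one_apply_ne]
    intro e
    have := Sum.inr.inj e
    rw [this] at hv
    omega
  nm := by
    intro v _
    rw [Matrix.one_apply]
    by_cases h : v = m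
    · rw [if_pos h, if_pos (by rw [h])]
    · rw [if_neg h, if_neg (fun e => h (Sum.inr.inj e))]

theorem PiShape.mul (D : ChevalleyDatum) (m : Fin D.nroots) (hm : m.val < D.nroots / 2)
    {g₁ g₂ : Matrix D.Idx D.Idx F} (h₁ : PiShape D m g₁) (h₂ : PiShape D m g₂) :
    PiShape D m (g₁ * g₂) where
  cc := by
    intro j j'
    rw [Matrix.mul_apply, Fintype.sum_sum_type]
    have e1 : ∑ j'' : Fin D.rank, g₁ (Sum.inl j) (Sum.inl j'') * g₂ (Sum.inl j'') (Sum.inl j') =
        g₂ (Sum.inl j) (Sum.inl j') := by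
      rw [Finset.sum_eq_single j]
      · rw [h₁.cc, if_pos rfl, one_mul]
      · intro b _ hb
        rw [h₁.cc, if_neg (Ne.symm hb), zero_mul]
      · intro h
        exact absurd (Finset.mem_univ j) h
    have e2 : ∑ v : Fin D.nroots, g₁ (Sum.inl j) (Sum.inr v) * g₂ (Sum.inr v) (Sum.inl j') = 0 := by
      apply Finset.sum_eq_zero
      intro v _
      by_cases hv : v.val < D.nroots / 2
      · rw [h₂.nc v j' hv, mul_zero]
      · rw [h₁.cp j v (by omega), zero_mul]
    rw [e1, e2, add_zero, h₂.cc]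
  cp := by
    intro j s hs
    rw [Matrix.mul_apply, Fintype.sum_sum_type]
    have e1 : ∑ j'' : Fin D.rank, g₁ (Sum.inl j) (Sum.inl j'') * g₂ (Sum.inl j'') (Sum.inr s) = 0 := by
      apply Finset.sum_eq_zero
      intro j'' _
      rw [h₂.cp j'' s hs, mul_zero]
    have e2 : ∑ v : Fin D.nroots, g₁ (Sum.inl j) (Sum.inr v) * g₂ (Sum.inr v) (Sum.inr s) = 0 := by
      apply Finset.sum_eq_zero
      intro v _
      by_cases hv : v.val < D.nroots / 2
      · rw [h₂.np v s hv hs, mul_zero]
      · rw [h₁.cp j v (by omega), zero_mul]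
    rw [e1, e2, add_zero]
  nc := by
    intro v j hv
    rw [Matrix.mul_apply, Fintype.sum_sum_type]
    have e1 : ∑ j'' : Fin D.rank, g₁ (Sum.inr v) (Sum.inl j'') * g₂ (Sum.inl j'') (Sum.inl j) = 0 := by
      apply Finset.sum_eq_zero
      intro j'' _
      rw [h₁.nc v j'' hv, zero_mul]
    have e2 : ∑ w : Fin D.nroots, g₁ (Sum.inr v) (Sum.inr w) * g₂ (Sum.inr w) (Sum.inl j) = 0 := by
      apply Finset.sum_eq_zero
      intro w _
      by_cases hw : w.val < D.nroots / 2
      · rw [h₂.nc w j hw, mul_zero]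
      · rw [h₁.np v w hv (by omega), zero_mul]
    rw [e1, e2, add_zero]
  np := by
    intro v s hv hs
    rw [Matrix.mul_apply, Fintype.sum_sum_type]
    have e1 : ∑ j'' : Fin D.rank, g₁ (Sum.inr v) (Sum.inl j'') * g₂ (Sum.inl j'') (Sum.inr s) = 0 := by
      apply Finset.sum_eq_zero
      intro j'' _
      rw [h₁.nc v j'' hv, zero_mul]
    have e2 : ∑ w : Fin D.nroots, g₁ (Sum.inr v) (Sum.inr w) * g₂ (Sum.inr w) (Sum.inr s) = 0 := by
      apply Finset.sum_eq_zero
      intro w _
      by_cases hw : w.val < D.nroots / 2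
      · rw [h₂.np w s hw hs, mul_zero]
      · rw [h₁.np v w hv (by omega), zero_mul]
    rw [e1, e2, add_zero]
  nm := by
    intro v hv
    rw [Matrix.mul_apply, Fintype.sum_sum_type]
    have e1 : ∑ j'' : Fin D.rank, g₁ (Sum.inr v) (Sum.inl j'') * g₂ (Sum.inl j'') (Sum.inr m) = 0 := by
      apply Finset.sum_eq_zero
      intro j'' _
      rw [h₁.nc v j'' hv, zero_mul]
    have e2 : ∑ w : Fin D.nroots, g₁ (Sum.inr v) (Sum.inr w) * g₂ (Sum.inr w) (Sum.inr m) =
        g₁ (Sum.inr v) (Sum.inr m) := by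
      rw [Finset.sum_eq_single m]
      · rw [h₂.nm m hm, if_pos rfl, mul_one]
      · intro w _ hw
        by_cases hw2 : w.val < D.nroots / 2
        · rw [h₂.nm w hw2, if_neg hw, mul_zero]
        · rw [h₁.np v w hv (by omega), zero_mul]
      · intro h
        exact absurd (Finset.mem_univ m) h
    rw [e1, e2, zero_add, h₁.nm v hv]

/-- The coefficient at `m` is additive on matrices of the shape. -/
theorem PiShape.coef_mul (D : ChevalleyDatum) (m : Fin D.nroots) (hm : m.val < D.nroots / 2)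
    {g₁ g₂ : Matrix D.Idx D.Idx F} (h₁ : PiShape D m g₁) (h₂ : PiShape D m g₂) (i : Fin D.rank) :
    (g₁ * g₂) (Sum.inl i) (Sum.inr m) = g₁ (Sum.inl i) (Sum.inr m) + g₂ (Sum.inl i) (Sum.inr m) := by
  rw [Matrix.mul_apply, Fintype.sum_sum_type]
  have e1 : ∑ j'' : Fin D.rank, g₁ (Sum.inl i) (Sum.inl j'') * g₂ (Sum.inl j'') (Sum.inr m) =
      g₂ (Sum.inl i) (Sum.inr m) := by
    rw [Finset.sum_eq_single i]
    · rw [h₁.cc, if_pos rfl, one_mul]
    · intro b _ hb
      rw [h₁.cc, if_neg (Ne.symm hb), zero_mul]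
    · intro h
      exact absurd (Finset.mem_univ i) h
  have e2 : ∑ w : Fin D.nroots, g₁ (Sum.inl i) (Sum.inr w) * g₂ (Sum.inr w) (Sum.inr m) =
      g₁ (Sum.inl i) (Sum.inr m) := by
    rw [Finset.sum_eq_single m]
    · rw [h₂.nm m hm, if_pos rfl, mul_one]
    · intro w _ hw
      by_cases hw2 : w.val < D.nroots / 2
      · rw [h₂.nm w hw2, if_neg hw, mul_zero]
      · rw [h₁.cp i w (by omega), zero_mul]
    · intro h
      exact absurd (Finset.mem_univ m) h
  rw [e1, e2, add_comm]

/-- The matrix of a positive root element has the shape. -/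
theorem PiShape.xMat (D : ChevalleyDatum) (hpos : h8PosOK D = true) (hpi : piChk D = true)
    (i : ℕ) (hi : i < D.rank) (m : Fin D.nroots) (hm : m.val = D.neg (D.simple i))
    (r : Fin D.nroots) (hr : D.IsPosRoot r.val) (t : F) : PiShape D m (D.xMat F r t) := by
  obtain ⟨h1, h2, h3⟩ := h8PosOK_spec hpos hr
  obtain ⟨b1, b2, b3, b4, b5⟩ := piChk_spec D hpi i hi
  obtain ⟨_, b6⟩ := b5 r.val r.2 h1
  have hmlt : m.val < D.nroots / 2 := by rw [hm]; exact b3
  refine ⟨?_, ?_, ?_, ?_, ?_⟩
  · intro j j'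
    unfold ChevalleyDatum.xMat
    rw [Matrix.of_apply]
  · intro j s hs
    unfold ChevalleyDatum.xMat
    rw [Matrix.of_apply]
    dsimp only
    by_cases hsr : s = r
    · rw [if_pos hsr]
    · rw [if_neg hsr]
      have hsn : ¬ s.val = D.negIdx.getD r.val 0 := by omega
      rw [if_neg hsn]
  · intro v j hv
    unfold ChevalleyDatum.xMat
    rw [Matrix.of_apply]
    dsimp only
    have hvr : ¬ v = r := fun e => by rw [e] at hv; omega
    rw [if_neg hvr]
  · intro v s hv hs
    unfold ChevalleyDatum.xMat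
    rw [Matrix.of_apply]
    dsimp only
    have hvr : ¬ v = r := fun e => by rw [e] at hv; omega
    have hvs : ¬ v = s := fun e => by rw [e] at hv; omega
    by_cases hsr : s = r
    · rw [if_pos hsr, if_neg hvr]
    · rw [if_neg hsr]
      have hsn : ¬ s.val = D.negIdx.getD r.val 0 := by omega
      rw [if_neg hsn, if_neg hvs, zero_add]
      have hcc : D.chainCoeff r.val s.val v.val = [] := by
        by_contra hcc
        obtain ⟨e, he, hes, q, hq, hqu⟩ := h8_chainCoeff_ne_nil D _ _ _ hcc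
        have := h3 e he q hq
        omega
      rw [hcc]
      rfl
  · intro v hv
    unfold ChevalleyDatum.xMat
    rw [Matrix.of_apply]
    dsimp only
    have hvr : ¬ v = r := fun e => by rw [e] at hv; omega
    have hmr : ¬ m = r := fun e => by rw [e] at hmlt; omega
    rw [if_neg hmr]
    by_cases hmn : m.val = D.negIdx.getD r.val 0
    · rw [if_pos hmn]
      by_cases hvm : v = m
      · rw [if_pos hvm, if_pos hvm]
      · rw [if_neg hvm, if_neg hvm, if_neg hvr]
    · rw [if_neg hmn]
      have hcc : D.chainCoeff r.val m.val v.val = [] := by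
        by_contra hcc
        obtain ⟨e, he, hes, q, hq, hqu⟩ := h8_chainCoeff_ne_nil D _ _ _ hcc
        have := b6 e he (by rw [hes, hm]) q hq
        omega
      rw [hcc]
      simp

/-- The coefficient at `-p_i` of a positive root element. -/
theorem xMat_coef (D : ChevalleyDatum) (hpos : h8PosOK D = true) (hpi : piChk D = true)
    (i : Fin D.rank) (m : Fin D.nroots) (hm : m.val = D.neg (D.simple i.val))
    (r : Fin D.nroots) (hr : D.IsPosRoot r.val) (t : F) :
    D.xMat F r t (Sum.inl i) (Sum.inr m) = if r.val = D.simple i.val then t else 0 := by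
  obtain ⟨h1, h2, h3⟩ := h8PosOK_spec hpos hr
  obtain ⟨b1, b2, b3, b4, b5⟩ := piChk_spec D hpi i.val i.2
  obtain ⟨b7, _⟩ := b5 r.val r.2 h1
  have hmlt : m.val < D.nroots / 2 := by rw [hm]; exact b3
  unfold ChevalleyDatum.xMat
  rw [Matrix.of_apply]
  dsimp only
  have hmr : ¬ m = r := fun e => by rw [e] at hmlt; omega
  rw [if_neg hmr]
  by_cases hrs : r.val = D.simple i.val
  · rw [if_pos hrs]
    have hmn : m.val = D.negIdx.getD r.val 0 := by rw [hm, hrs]; rfl
    rw [if_pos hmn, hrs, b4, Int.cast_one, one_mul]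
  · rw [if_neg hrs]
    have hmn : ¬ m.val = D.negIdx.getD r.val 0 := by
      intro e
      exact b7 hrs (by rw [← e, hm])
    rw [if_neg hmn]

section unipotent

variable (D : ChevalleyDatum) (hB : H8Base.{u} D) (hpi : piChk D = true)

include hB hpi

/-- Every element of `U` has the shape. -/
theorem shape_of_mem_U (i : ℕ) (hi : i < D.rank) (m : Fin D.nroots)
    (hm : m.val = D.neg (D.simple i)) (g : GL D.Idx F) (hg : g ∈ D.posUnipotent F) :
    PiShape D m (g : Matrix D.Idx D.Idx F) := by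
  have hmlt : m.val < D.nroots / 2 := by rw [hm]; exact (piChk_spec D hpi i hi).2.2.1
  have key : g ∈ Submonoid.closure {g : GL D.Idx F | ∃ (r : ℕ) (t : F), D.IsPosRoot r ∧
      (g : Matrix D.Idx D.Idx F) = D.x F r t} := by
    unfold ChevalleyDatum.posUnipotent at hg
    rw [← Subgroup.mem_toSubmonoid, Subgroup.closure_toSubmonoid] at hg
    refine Submonoid.closure_mono ?_ hg
    rintro y (hy | hy)
    · exact hy
    · obtain ⟨r, t, hr, hy⟩ := hy
      refine ⟨r, -t, hr, ?_⟩
      have e1 : y⁻¹ = h8xU D hB r t := Units.ext (by rw [hy, h8xU_val])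
      have e2 : y = h8xU D hB r (-t) := by
        rw [← inv_inv y, e1]
        apply Units.ext
        rfl
      rw [e2, h8xU_val]
  clear hg
  induction key using Submonoid.closure_induction with
  | mem y hy =>
    obtain ⟨r, t, hr, hy⟩ := hy
    rw [hy]
    unfold ChevalleyDatum.x
    rw [dif_pos hr.1]
    exact PiShape.xMat D hB.posOK hpi i hi m hm ⟨r, hr.1⟩ hr t
  | one =>
    rw [Units.val_one]
    exact PiShape.one D m
  | mul a b _ _ ha hb =>
    rw [Units.val_mul]
    exact PiShape.mul D m hmlt ha hb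

/-- The coefficient at `-p_i` is additive on `U`. -/
theorem coef_mul_U (i : Fin D.rank) (m : Fin D.nroots) (hm : m.val = D.neg (D.simple i.val))
    (g₁ g₂ : GL D.Idx F) (h₁ : g₁ ∈ D.posUnipotent F) (h₂ : g₂ ∈ D.posUnipotent F) :
    ((g₁ * g₂ : GL D.Idx F) : Matrix D.Idx D.Idx F) (Sum.inl i) (Sum.inr m) =
      (g₁ : Matrix D.Idx D.Idx F) (Sum.inl i) (Sum.inr m) +
        (g₂ : Matrix D.Idx D.Idx F) (Sum.inl i) (Sum.inr m) := by
  have hmlt : m.val < D.nroots / 2 := by rw [hm]; exact (piChk_spec D hpi i.val i.2).2.2.1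
  rw [Units.val_mul]
  exact PiShape.coef_mul D m hmlt (shape_of_mem_U D hB hpi i.val i.2 m hm g₁ h₁)
    (shape_of_mem_U D hB hpi i.val i.2 m hm g₂ h₂) i

/-- The coefficient at `-p_i` of `x_{p_i}(t)` is `t`. -/
theorem coef_xU_simple (hsp : ∀ i < D.rank, D.IsPosRoot (D.simple i)) (i : Fin D.rank)
    (m : Fin D.nroots) (hm : m.val = D.neg (D.simple i.val)) (t : F) :
    ((h8xU D hB (D.simple i.val) t : GL D.Idx F) : Matrix D.Idx D.Idx F) (Sum.inl i) (Sum.inr m) =
      t := by
  obtain ⟨b1, b2, b3, b4, b5⟩ := piChk_spec D hpi i.val i.2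
  rw [h8xU_val]
  unfold ChevalleyDatum.x
  rw [dif_pos b1]
  have hr : D.IsPosRoot (D.simple i.val) := hsp i.val i.2
  rw [xMat_coef D hB.posOK hpi i m hm ⟨D.simple i.val, b1⟩ hr t, if_pos rfl]

/-- The coefficient at `-p_i` vanishes on the group generated by the other positive root
subgroups. -/
theorem coef_zero_of_mem (i : Fin D.rank) (m : Fin D.nroots)
    (hm : m.val = D.neg (D.simple i.val)) (g : GL D.Idx F)
    (hg : g ∈ Subgroup.closure {g : GL D.Idx F | ∃ (r : ℕ) (c : F), D.IsPosRoot r ∧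
      r ≠ D.simple i.val ∧ g = h8xU D hB r c}) :
    (g : Matrix D.Idx D.Idx F) (Sum.inl i) (Sum.inr m) = 0 := by
  have hle : Subgroup.closure {g : GL D.Idx F | ∃ (r : ℕ) (c : F), D.IsPosRoot r ∧
      r ≠ D.simple i.val ∧ g = h8xU D hB r c} ≤ D.posUnipotent F := by
    unfold ChevalleyDatum.posUnipotent
    apply Subgroup.closure_mono
    rintro y ⟨r, c, hr, _, rfl⟩
    exact ⟨r, c, hr, h8xU_val D hB r c⟩
  induction hg using Subgroup.closure_induction with
  | mem y hy =>
    obtain ⟨r, c, hr, hne, rfl⟩ := hy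
    rw [h8xU_val]
    unfold ChevalleyDatum.x
    rw [dif_pos hr.1, xMat_coef D hB.posOK hpi i m hm ⟨r, hr.1⟩ hr c, if_neg hne]
  | one =>
    rw [Units.val_one, Matrix.one_apply_ne (by simp)]
  | mul a b ha hb iha ihb =>
    rw [coef_mul_U D hB hpi i m hm a b (hle ha) (hle hb), iha, ihb, add_zero]
  | inv a ha iha =>
    have h1 := coef_mul_U D hB hpi i m hm a a⁻¹ (hle ha) (Subgroup.inv_mem _ (hle ha))
    rw [mul_inv_cancel, Units.val_one, Matrix.one_apply_ne (by simp), iha, zero_add] at h1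
    exact h1.symm

end unipotent

end Cfsg.Agent.Lib.helper7.Sf
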