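import Mathlib
import Cfsg.Prelude.Def_ChevG2
import Cfsg.Prelude.Def_ChevB2
import Cfsg.Prelude.Def_ChevD4
import Cfsg.Prelude.Def_ChevF4
import Cfsg.Prelude.Def_ChevE6
import Cfsg.Prelude.Def_ChevE7
import Cfsg.Prelude.Def_ChevE8
import Cfsg.Agent.Lib.helper7.SfA

set_option autoImplicit false

/-! The table check `piChk` for the seven types. -/

namespace Cfsg.Agent.Lib.helper7.Sf

open Cfsg.Lie Cfsg.Lie.ChevalleyDatum

theorem piChk_G2 : piChk chevG2 = true := by decide +kernel
theorem piChk_B2 : piChk chevB2 = true := by decide +kernel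
theorem piChk_D4 : piChk chevD4 = true := by decide +kernel
theorem piChk_F4 : piChk chevF4 = true := by decide +kernel
theorem piChk_E6 : piChk chevE6 = true := by decide +kernel
theorem piChk_E7 : piChk chevE7 = true := by decide +kernel
theorem piChk_E8 : piChk chevE8 = true := by decide +kernel

theorem piChk_all (D : ChevalleyDatum)
    (hD : D ∈ [chevG2, chevB2, chevD4, chevF4, chevE6, chevE7, chevE8]) : piChk D = true := by
  simp only [List.mem_cons, List.not_mem_nil, or_false] at hD
  rcases hD with rfl | rfl | rfl | rfl | rfl | rfl | rfl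
  · exact piChk_G2
  · exact piChk_B2
  · exact piChk_D4
  · exact piChk_F4
  · exact piChk_E6
  · exact piChk_E7
  · exact piChk_E8

end Cfsg.Agent.Lib.helper7.Sf
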