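import Mathlib
import Cfsg.Prelude.Def_ChevStructure
import Cfsg.Agent.Lib.helper8.ChevBr4
import Cfsg.Agent.Lib.helper8.ChevTits2
import Cfsg.Agent.Lib.helper8.ChevCore
import Cfsg.Agent.Lib.helper8.ChevBaseAll
import Cfsg.Agent.Lib.helper8.ChevReflAll
import Cfsg.Agent.Lib.helper8.ChevCommAll
import Cfsg.Agent.Lib.helper8.ChevBNAll
import Cfsg.Agent.Lib.helper8.ChevBNAll2
import Cfsg.Agent.Lib.helper8.ChevOrdAll
import Cfsg.Agent.Lib.helper7.SfT

set_option autoImplicit false

/-!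
An element of a Chevalley group (of one of the seven types, over any field) that commutes with the
root elements `x_r(1)` of all roots `r` is the identity.
-/

namespace Cfsg.Agent.Lib.helper7.Sf

open Cfsg.Lie Cfsg.Lie.ChevalleyDatum Cfsg.Agent.Lib.helper8

universe u

variable {F : Type u} [Field F]

/-- `t ↦ x_s(t)` is injective. -/
theorem h8xU_inj_t' (D : ChevalleyDatum) (hB : H8Base.{u} D) (hA : H8ReflAll D) (hW : H8BN2 D)
    (s : ℕ) (hs : s < D.nroots) (t t' : F) (h : h8xU D hB s t = h8xU D hB s t') : t = t' := by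
  obtain ⟨w, hw⟩ := hW.w0
  obtain ⟨_, _, _, hne⟩ := h8w0Chk_spec D hA w hw
  have h1 : h8xU D hB s (t + -t') = 1 := by
    rw [← h8xU_add D hB s hs, ← h8xU_inv, h, mul_inv_cancel]
  have h2 := h8x_eq_one D (fun s hs => ⟨hW.neglt s hs, hne s hs⟩) s hs (t + -t') (by
    rw [← h8xU_val D hB, h1]
    rfl)
  exact add_neg_eq_zero.mp h2

/-- An element commuting with `x_{p_i}(1)` for every fundamental root lies in `B`. -/
theorem cent_mem_B (D : ChevalleyDatum)
    (hD : D ∈ [chevG2, chevB2, chevD4, chevF4, chevE6, chevE7, chevE8])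
    (c : GL D.Idx F) (hc : c ∈ D.group F)
    (hcomm : ∀ i < D.rank, c * h8xU D (h8base_all.{u} D hD) (D.simple i) 1 =
      h8xU D (h8base_all.{u} D hD) (D.simple i) 1 * c) : c ∈ D.borelSubgroup F := by
  classical
  have hB := h8base_all.{u} D hD
  have hA := h8reflAll D hD
  have hC := h8commAll.{u} D hD
  have hBN := h8bn_all D hD
  have hW := h8bn2_all D hD
  have hpi := piChk_all D hD
  obtain ⟨hO, hO2⟩ := h8ord_all D hD
  obtain ⟨dep, par, horb⟩ := hBN.orb
  obtain ⟨b, hb, n, hn, u, hu, rfl⟩ := h8normal_exists D hB hA hC hBN hW hO c hc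
  have hmemB : b ∈ ((D.posUnipotent F ⊔ D.diagonalSubgroup F : Subgroup (GL D.Idx F)) :
      Set (GL D.Idx F)) := hb
  rw [Subgroup.coe_mul_of_right_le_normalizer_left _ _ (h8_H_le_normalizer_U D hB)] at hmemB
  obtain ⟨u1, hu1, h, hh, rfl⟩ := hmemB
  have hHN : D.diagonalSubgroup F ≤ D.monomialSubgroup F := by
    unfold ChevalleyDatum.monomialSubgroup
    exact le_sup_left
  have hn' : h * n ∈ D.monomialSubgroup F := Subgroup.mul_mem _ (hHN hh) hn
  have hu' : u ∈ Subgroup.closure (h8UmSet D F (h * n)) := by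
    have hsub := h8UmSet_mono_H D hB n h 1 hh (Subgroup.one_mem _)
    rw [mul_one] at hsub
    exact Subgroup.closure_mono hsub hu
  have e0 : u1 * h * n * u = u1 * (h * n) * u := by group
  rw [e0] at hcomm ⊢
  generalize h * n = n' at hn' hu' hcomm ⊢
  have huU : u ∈ D.posUnipotent F := h8Um_le_U D n' hu'
  by_cases hT : n' ∈ D.diagonalSubgroup F
  · exact Subgroup.mul_mem _ (Subgroup.mul_mem _ (h8U_le_B D hu1) (h8H_le_B D hT)) (h8U_le_B D huU)
  exfalso
  obtain ⟨i, hi, r', hr', c2, hc2, f2⟩ := h8N_not_T D hB hA hBN hW hO2 n' hn' hT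
  obtain ⟨σ, τ, a1, a2, a3, a4, a5, a6, a7⟩ := h8perm_N D hB hA dep par horb n' hn'
  -- no positive root with positive image goes to `p_i`
  have F1 : ∀ r, D.IsPosRoot r → σ r ≠ D.simple i := by
    intro r hr heq
    have hnr : D.negIdx.getD r 0 < D.nroots := hW.neglt r hr.1
    have e1 := a5 r hr.1
    rw [heq] at e1
    obtain ⟨c1, hc1, f1⟩ := a7 _ hnr
    rw [e1] at f1
    have e2 : h8xU D hB (D.negIdx.getD r 0) (1 : F) = h8xU D hB r' (c2 * (c1 * 1)) := by
      rw [← f2, ← f1]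
      group
    have hmem : h8xU D hB (D.negIdx.getD r 0) (1 : F) ∈ D.borelSubgroup F := by
      rw [e2]
      exact h8U_le_B D (h8xU_mem_U D hB r' hr' _)
    exact h8xneg_not_mem_B D hB hA hBN hW r hr 1 one_ne_zero hmem
  have hsp := h8simple_pos D hBN i hi
  set x : GL D.Idx F := h8xU D hB (D.simple i) 1 with hx
  have hxU : x ∈ D.posUnipotent F := h8xU_mem_U D hB _ hsp 1
  have huxU : u * x ∈ D.posUnipotent F := Subgroup.mul_mem _ huU hxU
  obtain ⟨t, ht⟩ := h8split_main D hB hC hO (fun r => decide (D.IsPosRoot (σ r))) (u * x) huxU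
  have hP := h8ordP_mem D hB (fun r => decide (D.IsPosRoot (σ r))) 0 t
  have hQ := h8ordQ_mem D hB (fun r => decide (D.IsPosRoot (σ r))) 0 t
  set yP : GL D.Idx F := h8wordU D hB (h8ordP D (fun r => decide (D.IsPosRoot (σ r))) 0 t) with hyP
  set yQ : GL D.Idx F := h8wordU D hB (h8ordQ D (fun r => decide (D.IsPosRoot (σ r))) 0 t) with hyQ
  -- the conjugate of the `P`-part avoids the root `p_i`
  have F2 : ∀ y : GL D.Idx F, y ∈ Subgroup.closure
      {g : GL D.Idx F | ∃ (r : ℕ) (c : F), D.IsPosRoot r ∧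
        (fun r => decide (D.IsPosRoot (σ r))) r = true ∧ g = h8xU D hB r c} →
      n' * y * n'⁻¹ ∈ Subgroup.closure {g : GL D.Idx F | ∃ (r : ℕ) (c : F), D.IsPosRoot r ∧
        r ≠ D.simple i ∧ g = h8xU D hB r c} := by
    intro y hy
    induction hy using Subgroup.closure_induction with
    | mem z hz =>
      obtain ⟨r, c, hr, hPr, rfl⟩ := hz
      obtain ⟨c', _, hact⟩ := a7 r hr.1
      rw [hact]
      apply Subgroup.subset_closure
      exact ⟨σ r, c' * c, by simpa using hPr, F1 r hr, rfl⟩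
    | one =>
      have : n' * 1 * n'⁻¹ = 1 := by group
      rw [this]
      exact Subgroup.one_mem _
    | mul a b _ _ ha hb =>
      have : n' * (a * b) * n'⁻¹ = (n' * a * n'⁻¹) * (n' * b * n'⁻¹) := by group
      rw [this]
      exact Subgroup.mul_mem _ ha hb
    | inv a _ ha =>
      have : n' * a⁻¹ * n'⁻¹ = (n' * a * n'⁻¹)⁻¹ := by group
      rw [this]
      exact Subgroup.inv_mem _ ha
  have F3 : Subgroup.closure
      {g : GL D.Idx F | ∃ (r : ℕ) (c : F), D.IsPosRoot r ∧
        (fun r => decide (D.IsPosRoot (σ r))) r = false ∧ g = h8xU D hB r c} ≤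
      Subgroup.closure (h8UmSet D F n') := by
    apply Subgroup.closure_mono
    rintro y ⟨r, c, hr, hPr, rfl⟩
    refine ⟨r, c, hr, ?_, h8xU_val D hB r c⟩
    have hneg : D.IsNegRoot (σ r) := by
      rcases hB.posneg (σ r) (a1 r hr.1) with hp | hn
      · simp [hp] at hPr
      · exact hn
    intro z hz
    rw [Subgroup.mem_map] at hz
    obtain ⟨y, hy, rfl⟩ := hz
    obtain ⟨s, rfl⟩ := h8rootSubgroup_mem D hB r hr.1 y hy
    obtain ⟨c', _, hact⟩ := a7 r hr.1
    show n' * h8xU D hB r s * n'⁻¹ ∈ D.negUnipotent F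
    rw [hact]
    exact h8xU_mem_V D hB _ hneg _
  have hle : Subgroup.closure {g : GL D.Idx F | ∃ (r : ℕ) (c : F), D.IsPosRoot r ∧
      r ≠ D.simple i ∧ g = h8xU D hB r c} ≤ D.posUnipotent F := by
    unfold ChevalleyDatum.posUnipotent
    apply Subgroup.closure_mono
    rintro y ⟨r, c, hr, _, rfl⟩
    exact ⟨r, c, hr, h8xU_val D hB r c⟩
  have hzU : n' * yP * n'⁻¹ ∈ D.posUnipotent F := hle (F2 yP hP)
  have eL : u1 * n' * u * x = (u1 * (n' * yP * n'⁻¹)) * n' * yQ := by
    have : u1 * n' * u * x = u1 * n' * (u * x) := by group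
    rw [this, ht]
    group
  have eR : x * (u1 * n' * u) = (x * u1) * n' * u := by group
  have hcm := hcomm i hi
  rw [eL, eR] at hcm
  obtain ⟨_, h3, _⟩ := h8normal_unique_strong D hB hA hC hBN (u1 * (n' * yP * n'⁻¹)) (x * u1)
    n' n' yQ u (Subgroup.mul_mem _ hu1 hzU) (Subgroup.mul_mem _ hxU hu1) hn' hn' (F3 hQ) hu' hcm
  -- compare the coefficients at `-p_i`
  obtain ⟨b1, b2, b3, b4, b5⟩ := piChk_spec D hpi i hi
  have hmn : D.neg (D.simple i) < D.nroots := by omega
  set m : Fin D.nroots := ⟨D.neg (D.simple i), hmn⟩ with hm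
  have g1 := coef_mul_U D hB hpi ⟨i, hi⟩ m rfl u1 (n' * yP * n'⁻¹) hu1 hzU
  have g2 := coef_mul_U D hB hpi ⟨i, hi⟩ m rfl x u1 hxU hu1
  have g3 := coef_zero_of_mem D hB hpi ⟨i, hi⟩ m rfl (n' * yP * n'⁻¹) (F2 yP hP)
  have g4 := coef_xU_simple (F := F) D hB hpi (fun j hj => h8simple_pos D hBN j hj) ⟨i, hi⟩ m rfl 1
  rw [h3, g2, g3, add_zero] at g1
  have g5 : ((x : GL D.Idx F) : Matrix D.Idx D.Idx F) (Sum.inl ⟨i, hi⟩) (Sum.inr m) = 1 := g4
  rw [g5] at g1
  have : (1 : F) = 0 := by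
    have := g1
    linear_combination this
  exact one_ne_zero this

/-- An element commuting with `x_r(1)` for every root `r` lies in `H`. -/
theorem cent_mem_H (D : ChevalleyDatum)
    (hD : D ∈ [chevG2, chevB2, chevD4, chevF4, chevE6, chevE7, chevE8])
    (c : GL D.Idx F) (hc : c ∈ D.group F)
    (hcomm : ∀ r < D.nroots, c * h8xU D (h8base_all.{u} D hD) r 1 =
      h8xU D (h8base_all.{u} D hD) r 1 * c) : c ∈ D.diagonalSubgroup F := by
  have hB := h8base_all.{u} D hD
  have hA := h8reflAll D hD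
  have hBN := h8bn_all D hD
  have hW := h8bn2_all D hD
  obtain ⟨w, hw0⟩ := hW.w0
  obtain ⟨hw, _, _, _⟩ := h8w0Chk_spec D hA w hw0
  have h1 : c ∈ D.borelSubgroup F :=
    cent_mem_B D hD c hc (fun i hi => hcomm _ (h8simple_pos D hBN i hi).1)
  -- `c` commutes with the representative of the longest element
  have hcx : ∀ r < D.nroots, ∀ t : F, (t = 1 ∨ t = -1) → c * h8xU D hB r t = h8xU D hB r t * c := by
    intro r hr t ht
    rcases ht with rfl | rfl
    · exact hcomm r hr
    · have e1 : h8xU D hB r (-1 : F) = (h8xU D hB r 1)⁻¹ := (h8xU_inv D hB r 1).symm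
      rw [e1]
      have := hcomm r hr
      calc c * (h8xU D hB r 1)⁻¹ = (h8xU D hB r 1)⁻¹ * (h8xU D hB r 1 * c) * (h8xU D hB r 1)⁻¹ := by
            group
        _ = (h8xU D hB r 1)⁻¹ * (c * h8xU D hB r 1) * (h8xU D hB r 1)⁻¹ := by rw [this]
        _ = (h8xU D hB r 1)⁻¹ * c := by group
  have hcn : ∀ i < D.rank, c * h8nU D hB (D.simple i) (1 : F) = h8nU D hB (D.simple i) 1 * c := by
    intro i hi
    have hs := (h8simple_pos D hBN i hi).1
    have hns := hW.neglt _ hs
    have e : h8nU D hB (D.simple i) (1 : F) =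
        h8xU D hB (D.simple i) 1 * (h8xU D hB (D.neg (D.simple i)) (-1) *
          (h8xU D hB (D.simple i) 1 * 1)) := by
      unfold h8nU ChevalleyDatum.nWord
      rw [h8wordU_cons, h8wordU_cons, h8wordU_cons]
      have : (-(1 : F)⁻¹) = -1 := by rw [inv_one]
      simp only [this]
      rfl
    rw [e]
    have c1 := hcx _ hs 1 (Or.inl rfl)
    have c2 := hcx _ hns (-1) (Or.inr rfl)
    have hn2 : D.neg (D.simple i) = D.negIdx.getD (D.simple i) 0 := rfl
    rw [← hn2] at c2
    calc c * (h8xU D hB (D.simple i) 1 * (h8xU D hB (D.neg (D.simple i)) (-1) *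
          (h8xU D hB (D.simple i) 1 * 1)))
        = (c * h8xU D hB (D.simple i) 1) * h8xU D hB (D.neg (D.simple i)) (-1) *
          h8xU D hB (D.simple i) 1 := by group
      _ = h8xU D hB (D.simple i) 1 * (c * h8xU D hB (D.neg (D.simple i)) (-1)) *
          h8xU D hB (D.simple i) 1 := by rw [c1]; group
      _ = h8xU D hB (D.simple i) 1 * h8xU D hB (D.neg (D.simple i)) (-1) *
          (c * h8xU D hB (D.simple i) 1) := by rw [c2]; group
      _ = h8xU D hB (D.simple i) 1 * (h8xU D hB (D.neg (D.simple i)) (-1) *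
          (h8xU D hB (D.simple i) 1 * 1)) * c := by rw [c1]; group
  have hcw : ∀ v : List ℕ, (∀ i ∈ v, i < D.rank) →
      c * (h8nWU D hB v : GL D.Idx F) = h8nWU D hB v * c := by
    intro v
    induction v with
    | nil =>
      intro _
      have : (h8nWU D hB [] : GL D.Idx F) = 1 := rfl
      rw [this, mul_one, one_mul]
    | cons i v ih =>
      intro hv
      have hi := hv i List.mem_cons_self
      have hv' : ∀ j ∈ v, j < D.rank := fun j hj => hv j (List.mem_cons_of_mem _ hj)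
      rw [h8nWU_cons, ← mul_assoc, hcn i hi, mul_assoc, ih hv', ← mul_assoc]
  have hc0 := hcw w hw
  have h2 : (h8nWU D hB w : GL D.Idx F)⁻¹ * c * ((h8nWU D hB w : GL D.Idx F)⁻¹)⁻¹ = c := by
    rw [inv_inv, mul_assoc, hc0]
    group
  have h3 : c ∈ (D.borelSubgroup F).map
      (MulAut.conj (h8nWU D hB w : GL D.Idx F)).toMonoidHom := by
    rw [Subgroup.mem_map]
    refine ⟨c, h1, ?_⟩
    show h8nWU D hB w * c * (h8nWU D hB w)⁻¹ = c
    rw [← hc0]
    group
  have h4 : (D.borelSubgroup F).map (MulAut.conj (h8nWU D hB w : GL D.Idx F)).toMonoidHom =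
      D.negUnipotent F ⊔ D.diagonalSubgroup F := by
    unfold ChevalleyDatum.borelSubgroup
    rw [Subgroup.map_sup, h8_conj_U_eq_V D hB hA w hw0,
      h8map_conj_normalizer _ _ (h8nWU_mem_normalizer_H D hB hA w hw)]
  rw [h4] at h3
  have h5 : c ∈ D.borelSubgroup F ⊓ (D.negUnipotent F ⊔ D.diagonalSubgroup F) :=
    Subgroup.mem_inf.mpr ⟨h1, h3⟩
  rwa [h8_B_inf_VH D hB hBN.negOK] at h5

/-- An element commuting with `x_r(1)` for every root `r` commutes with all root elements. -/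
theorem cent_comm_all (D : ChevalleyDatum)
    (hD : D ∈ [chevG2, chevB2, chevD4, chevF4, chevE6, chevE7, chevE8])
    (c : GL D.Idx F) (hc : c ∈ D.group F)
    (hcomm : ∀ r < D.nroots, c * h8xU D (h8base_all.{u} D hD) r 1 =
      h8xU D (h8base_all.{u} D hD) r 1 * c) :
    ∀ g ∈ D.group F, c * g = g * c := by
  have hB := h8base_all.{u} D hD
  have hA := h8reflAll D hD
  have hW := h8bn2_all D hD
  have hH := cent_mem_H D hD c hc hcomm
  have hact := h8perm_H_id D hB c hH
  have key : ∀ r < D.nroots, ∀ t : F, c * h8xU D hB r t = h8xU D hB r t * c := by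
    intro r hr t
    obtain ⟨c0, hc0, f⟩ := hact r hr
    have h1 := f 1
    have e1 : c * h8xU D hB r 1 * c⁻¹ = h8xU D hB r 1 := by
      rw [hcomm r hr]
      group
    rw [e1, mul_one] at h1
    have hc1 : c0 = 1 := (h8xU_inj_t' D hB hA hW r hr 1 c0 h1).symm
    have h2 := f t
    rw [hc1, one_mul] at h2
    calc c * h8xU D hB r t = (c * h8xU D hB r t * c⁻¹) * c := by group
      _ = h8xU D hB r t * c := by rw [h2]
  intro g hg
  unfold ChevalleyDatum.group at hg
  induction hg using Subgroup.closure_induction with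
  | mem y hy =>
    obtain ⟨r, t, hy⟩ := hy
    have : y = h8xU D hB r.val t := by
      apply Units.ext
      rw [hy, h8xU_val]
      unfold ChevalleyDatum.x
      rw [dif_pos r.2]
    rw [this]
    exact key r.val r.2 t
  | one => rw [mul_one, one_mul]
  | mul a b _ _ ha hb => rw [← mul_assoc, ha, mul_assoc, hb, ← mul_assoc]
  | inv a _ ha =>
    calc c * a⁻¹ = a⁻¹ * (a * c) * a⁻¹ := by group
      _ = a⁻¹ * (c * a) * a⁻¹ := by rw [ha]
      _ = a⁻¹ * c := by group

end Cfsg.Agent.Lib.helper7.Sf
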