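import Mathlib
import Cfsg.Prelude.Def_ChevStructure
import Cfsg.Agent.Lib.helper8.ChevFix3

set_option autoImplicit false

/-!
Descent for the fixed points of an entrywise field endomorphism on a Chevalley group of one of the
seven types, without any hypothesis on the Cartan matrix: a fixed element is a product
`l * t * l'` with `l`, `l'` in the image of the group over the fixed field and `t` a fixed element
of the diagonal subgroup `H`.
-/

namespace Cfsg.Agent.Lib.helper7.Sf

open Cfsg.Lie Cfsg.Lie.ChevalleyDatum Cfsg.Agent.Lib.helper8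

universe u v

variable {K : Type v} [Field K] {F : Type u} [Field F]

theorem descent_gen (D : ChevalleyDatum)
    (hD : D ∈ [chevG2, chevB2, chevD4, chevF4, chevE6, chevE7, chevE8])
    (ι : K →+* F) (s s' : F →+* F) (hss' : ∀ a, s (s' a) = a)
    (hfix : ∀ a : F, s a = a → ∃ b : K, ι b = a)
    (g : GL D.Idx F) (hg : g ∈ D.group F) (hsg : h8Psi D s g = g) :
    ∃ l ∈ (D.group K).map (h8Psi D ι), ∃ t ∈ D.diagonalSubgroup F, h8Psi D s t = t ∧
      ∃ l' ∈ (D.group K).map (h8Psi D ι), g = l * t * l' := by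
  classical
  have hBF := h8base_all.{u} D hD
  have hBK := h8base_all.{v} D hD
  have hA := h8reflAll D hD
  have hC := h8commAll.{u} D hD
  have hBN := h8bn_all D hD
  have hW := h8bn2_all D hD
  obtain ⟨hO, hO2⟩ := h8ord_all D hD
  obtain ⟨b, hb, n, hn, u, hu, rfl⟩ := h8normal_exists D hBF hA hC hBN hW hO g hg
  have hmemB : b ∈ ((D.posUnipotent F ⊔ D.diagonalSubgroup F : Subgroup (GL D.Idx F)) :
      Set (GL D.Idx F)) := hb
  rw [Subgroup.coe_mul_of_right_le_normalizer_left _ _ (h8_H_le_normalizer_U D hBF)] at hmemB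
  obtain ⟨u1, hu1, h, hh, rfl⟩ := hmemB
  have hHN : D.diagonalSubgroup F ≤ D.monomialSubgroup F := by
    unfold ChevalleyDatum.monomialSubgroup
    exact le_sup_left
  have hn' : h * n ∈ D.monomialSubgroup F := Subgroup.mul_mem _ (hHN hh) hn
  have hu' : u ∈ Subgroup.closure (h8UmSet D F (h * n)) := by
    have hsub := h8UmSet_mono_H D hBF n h 1 hh (Subgroup.one_mem _)
    rw [mul_one] at hsub
    exact Subgroup.closure_mono hsub hu
  have e0 : u1 * h * n * u = u1 * (h * n) * u := by group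
  rw [e0] at hsg ⊢
  generalize h * n = n' at hn' hu' hsg ⊢
  have hSu1 : h8Psi D s u1 ∈ D.posUnipotent F :=
    h8Psi_U_le D hBF hBF s (Subgroup.mem_map_of_mem _ hu1)
  have hSn' : h8Psi D s n' ∈ D.monomialSubgroup F :=
    h8Psi_N_le D hBF hBF s (Subgroup.mem_map_of_mem _ hn')
  have hSu : h8Psi D s u ∈ Subgroup.closure (h8UmSet D F (h8Psi D s n')) := by
    have h1 : (Subgroup.closure (h8UmSet D F n')).map (h8Psi D s) ≤
        Subgroup.closure (h8UmSet D F (h8Psi D s n')) := by
      rw [MonoidHom.map_closure, Subgroup.closure_le]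
      rintro _ ⟨x, ⟨r, t, hr, hle, hx⟩, rfl⟩
      apply Subgroup.subset_closure
      refine ⟨r, s t, hr, ?_, ?_⟩
      · intro z hz
        rw [Subgroup.mem_map] at hz
        obtain ⟨y, hy, rfl⟩ := hz
        obtain ⟨c, rfl⟩ := h8rootSubgroup_mem D hBF r hr.1 y hy
        have e1 : (MulAut.conj (h8Psi D s n')).toMonoidHom (h8xU D hBF r c) =
            h8Psi D s (n' * h8xU D hBF r (s' c) * n'⁻¹) := by
          rw [map_mul, map_mul, map_inv, h8Psi_xU D hBF hBF, hss']
          rfl
        rw [e1]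
        apply h8Psi_V_le D hBF hBF s
        apply Subgroup.mem_map_of_mem
        apply hle
        rw [Subgroup.mem_map]
        exact ⟨_, h8xU_mem_rootSubgroup D hBF r _, rfl⟩
      · rw [h8Psi_val, hx, h8x_map]
    exact h1 (Subgroup.mem_map_of_mem _ hu')
  have e' : h8Psi D s u1 * h8Psi D s n' * h8Psi D s u = u1 * n' * u := by
    rw [← map_mul, ← map_mul, hsg]
  obtain ⟨hn_eq, hu1_eq, hu_eq⟩ := h8normal_unique_strong D hBF hA hC hBN _ u1 _ n' _ u
    hSu1 hu1 hSn' hn' hSu hu' e'
  have hUle : Subgroup.closure (h8UmSet D F n') ≤ D.posUnipotent F := h8Um_le_U D n'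
  have m1 := h8descent_U D hD ι s hfix u1 hu1 hu1_eq
  have m2 := h8descent_U D hD ι s hfix u (hUle hu') hu_eq
  obtain ⟨t, ht, w, hw, rfl⟩ := h8N_word D hBF hA hBN n' hn'
  rw [map_mul, h8Psi_nWU D hBF hBF] at hn_eq
  have hst : h8Psi D s t = t := mul_right_cancel hn_eq
  have m3 : (h8nWU D hBF w : GL D.Idx F) ∈ (D.group K).map (h8Psi D ι) := by
    rw [← h8Psi_nWU D hBK hBF ι w]
    exact Subgroup.mem_map_of_mem _ (h8_N_le_group D hBK (h8nWU_mem_N D hBK hA w hw))
  refine ⟨u1, m1, t, ht, hst, h8nWU D hBF w * u, Subgroup.mul_mem _ m3 m2, ?_⟩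
  group

end Cfsg.Agent.Lib.helper7.Sf
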