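import Mathlib
import Cfsg.Prelude.Def_ChevStructure
import Cfsg.Agent.Lib.helper8.ChevSt28
import Cfsg.Agent.Lib.helper7.SfB
import Cfsg.Agent.Lib.helper7.SfC

set_option autoImplicit false

/-!
Centralizer and normalizer, in a Chevalley group `G` of one of the seven types over a field `k`, of
a subgroup `K` lying between the group generated by the root elements with parameter fixed by a
field automorphism `σ` and the group of `σ`-fixed elements of `G`: the centralizer is trivial and
the normalizer is the group of `σ`-fixed elements.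
-/

namespace Cfsg.Agent.Lib.helper7.Sf

open Cfsg.Lie Cfsg.Lie.ChevalleyDatum Cfsg.Agent.Lib.helper8

universe u

variable {k : Type u} [Field k]

/-- The group generated by the root elements with parameter fixed by `σ`. -/
def fixL (D : ChevalleyDatum) (σ : k ≃+* k) : Subgroup (GL D.Idx k) :=
  Subgroup.closure {g : GL D.Idx k | ∃ (s : ℕ) (t : k), σ t = t ∧
    (g : Matrix D.Idx D.Idx k) = D.x k s t}

theorem xU_mem_fixL (D : ChevalleyDatum) (hB : H8Base.{u} D) (σ : k ≃+* k) (s : ℕ) (t : k)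
    (ht : σ t = t) : h8xU D hB s t ∈ fixL D σ :=
  Subgroup.subset_closure ⟨s, t, ht, h8xU_val D hB s t⟩

/-- The image of the group over the fixed field lies in `fixL`. -/
theorem map_le_fixL (D : ChevalleyDatum) (σ : k ≃+* k) :
    (D.group ↥(RingHom.eqLocusField (σ : k →+* k) (RingHom.id k))).map
      (h8Psi D (RingHom.eqLocusField (σ : k →+* k) (RingHom.id k)).subtype) ≤ fixL D σ := by
  unfold ChevalleyDatum.group
  rw [MonoidHom.map_closure, Subgroup.closure_le]
  rintro g ⟨g', ⟨r, t, hg'⟩, rfl⟩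
  apply Subgroup.subset_closure
  refine ⟨r.val, (t : k), t.2, ?_⟩
  rw [h8Psi_val, hg', h8xMat_map]
  unfold ChevalleyDatum.x
  rw [dif_pos r.2]
  rfl

/-- A `σ`-fixed element of `H` normalizes `fixL`. -/
theorem fixH_conj_fixL (D : ChevalleyDatum)
    (hD : D ∈ [chevG2, chevB2, chevD4, chevF4, chevE6, chevE7, chevE8]) (σ : k ≃+* k)
    (t : GL D.Idx k) (ht : t ∈ D.diagonalSubgroup k) (hσt : h8Psi D (σ : k →+* k) t = t)
    (l : GL D.Idx k) (hl : l ∈ fixL D σ) : t * l * t⁻¹ ∈ fixL D σ := by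
  have hB := h8base_all.{u} D hD
  have hA := h8reflAll D hD
  have hW := h8bn2_all D hD
  have hact := h8perm_H_id D hB t ht
  unfold fixL at hl
  induction hl using Subgroup.closure_induction with
  | mem y hy =>
    obtain ⟨s, c, hc, hy⟩ := hy
    have hy' : y = h8xU D hB s c := Units.ext (by rw [hy, h8xU_val])
    rw [hy']
    by_cases hs : s < D.nroots
    · obtain ⟨c0, hc0, f⟩ := hact s hs
      rw [f c]
      apply xU_mem_fixL
      have h1 := f 1
      have h2 := congrArg (h8Psi D (σ : k →+* k)) h1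
      rw [map_mul, map_mul, map_inv, hσt, h8Psi_xU D hB hB, h8Psi_xU D hB hB] at h2
      have e1 : ((σ : k →+* k) : k → k) 1 = 1 := map_one _
      rw [e1, h1] at h2
      have h3 := h8xU_inj_t' D hB hA hW s hs _ _ h2
      rw [mul_one] at h3
      have h4 : σ c0 = c0 := h3.symm
      rw [map_mul, h4, hc]
    · have : h8xU D hB s c = 1 := by
        apply Units.ext
        rw [h8xU_val]
        unfold ChevalleyDatum.x
        rw [dif_neg hs]
        rfl
      rw [this]
      have : t * 1 * t⁻¹ = 1 := by group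
      rw [this]
      exact Subgroup.one_mem _
  | one =>
    have : t * 1 * t⁻¹ = 1 := by group
    rw [this]
    exact Subgroup.one_mem _
  | mul a b _ _ ha hb =>
    have : t * (a * b) * t⁻¹ = (t * a * t⁻¹) * (t * b * t⁻¹) := by group
    rw [this]
    exact Subgroup.mul_mem _ ha hb
  | inv a _ ha =>
    have : t * a⁻¹ * t⁻¹ = (t * a * t⁻¹)⁻¹ := by group
    rw [this]
    exact Subgroup.inv_mem _ ha

theorem subfield_main (D : ChevalleyDatum)
    (hD : D ∈ [chevG2, chevB2, chevD4, chevF4, chevE6, chevE7, chevE8]) (σ : k ≃+* k)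
    (K : Subgroup (GL D.Idx k)) (hKG : K ≤ D.group k) (hLK : fixL D σ ≤ K)
    (hKfix : ∀ g ∈ K, h8Psi D (σ : k →+* k) g = g) :
    D.group k ⊓ Subgroup.centralizer (K : Set (GL D.Idx k)) = ⊥ ∧
    ∀ g : GL D.Idx k, g ∈ D.group k →
      (g ∈ Subgroup.normalizer (K : Set (GL D.Idx k)) ↔ h8Psi D (σ : k →+* k) g = g) := by
  have hB := h8base_all.{u} D hD
  have hB0 := h8base_all.{u} D hD
  -- the centralizer
  have hcent : D.group k ⊓ Subgroup.centralizer (K : Set (GL D.Idx k)) = ⊥ := by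
    rw [eq_bot_iff]
    intro c hc
    rw [Subgroup.mem_inf] at hc
    obtain ⟨hcG, hcK⟩ := hc
    rw [Subgroup.mem_bot]
    have hcomm : ∀ r < D.nroots, c * h8xU D (h8base_all.{u} D hD) r 1 =
        h8xU D (h8base_all.{u} D hD) r 1 * c := by
      intro r _
      have hx : h8xU D hB r (1 : k) ∈ K := hLK (xU_mem_fixL D hB σ r 1 (map_one σ))
      exact (Subgroup.mem_centralizer_iff.mp hcK _ hx).symm
    have hall := cent_comm_all D hD c hcG hcomm
    have hz : (⟨c, hcG⟩ : ↥(D.group k)) ∈ Subgroup.center ↥(D.group k) := by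
      rw [Subgroup.mem_center_iff]
      rintro ⟨g, hg⟩
      apply Subtype.ext
      exact (hall g hg).symm
    rw [h8group_center D hD, Subgroup.mem_bot] at hz
    exact congrArg Subtype.val hz
  refine ⟨hcent, ?_⟩
  -- the set of fixed elements
  let K0 := RingHom.eqLocusField (σ : k →+* k) (RingHom.id k)
  have hfix : ∀ a : k, (σ : k →+* k) a = a → ∃ b : ↥K0, K0.subtype b = a :=
    fun a ha => ⟨⟨a, ha⟩, rfl⟩
  have hss' : ∀ a : k, (σ : k →+* k) ((σ.symm : k →+* k) a) = a := fun a => σ.apply_symm_apply a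
  have hdesc : ∀ g : GL D.Idx k, g ∈ D.group k → h8Psi D (σ : k →+* k) g = g →
      ∃ l ∈ fixL D σ, ∃ t ∈ D.diagonalSubgroup k, h8Psi D (σ : k →+* k) t = t ∧
        ∃ l' ∈ fixL D σ, g = l * t * l' := by
    intro g hg hsg
    obtain ⟨l, hl, t, ht, hst, l', hl', e⟩ :=
      descent_gen D hD K0.subtype (σ : k →+* k) (σ.symm : k →+* k) hss' hfix g hg hsg
    exact ⟨l, map_le_fixL D σ hl, t, ht, hst, l', map_le_fixL D σ hl', e⟩
  -- fixed elements of `H` conjugate `K` into itself
  have hHK : ∀ t : GL D.Idx k, t ∈ D.diagonalSubgroup k → h8Psi D (σ : k →+* k) t = t →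
      ∀ y ∈ K, t * y * t⁻¹ ∈ K := by
    intro t ht hst y hy
    obtain ⟨l, hl, t1, ht1, _, l', hl', e⟩ := hdesc y (hKG hy) (hKfix y hy)
    have ht1K : t1 ∈ K := by
      have : t1 = l⁻¹ * y * l'⁻¹ := by rw [e]; group
      rw [this]
      exact Subgroup.mul_mem _ (Subgroup.mul_mem _ (Subgroup.inv_mem _ (hLK hl)) hy)
        (Subgroup.inv_mem _ (hLK hl'))
    have hcm : t * t1 = t1 * t := h8_H_comm D hB t t1 ht ht1
    have e2 : t * y * t⁻¹ = (t * l * t⁻¹) * t1 * (t * l' * t⁻¹) := by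
      rw [e]
      calc t * (l * t1 * l') * t⁻¹ = t * l * (t⁻¹ * (t * t1)) * l' * t⁻¹ := by group
        _ = t * l * (t⁻¹ * (t1 * t)) * l' * t⁻¹ := by rw [hcm]
        _ = (t * l * t⁻¹) * t1 * (t * l' * t⁻¹) := by group
    rw [e2]
    exact Subgroup.mul_mem _ (Subgroup.mul_mem _ (hLK (fixH_conj_fixL D hD σ t ht hst l hl)) ht1K)
      (hLK (fixH_conj_fixL D hD σ t ht hst l' hl'))
  intro g hg
  constructor
  · intro hgN
    have hg' : h8Psi D (σ : k →+* k) g ∈ D.group k :=
      h8Psi_group_le D hB hB (σ : k →+* k) (Subgroup.mem_map_of_mem _ hg)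
    have hmem : g⁻¹ * h8Psi D (σ : k →+* k) g ∈
        D.group k ⊓ Subgroup.centralizer (K : Set (GL D.Idx k)) := by
      rw [Subgroup.mem_inf]
      refine ⟨Subgroup.mul_mem _ (Subgroup.inv_mem _ hg) hg', ?_⟩
      rw [Subgroup.mem_centralizer_iff]
      intro y hy
      have h1 : g * y * g⁻¹ ∈ K := (Subgroup.mem_normalizer_iff.mp hgN y).mp hy
      have h2 := hKfix _ h1
      rw [map_mul, map_mul, map_inv, hKfix y hy] at h2
      calc y * (g⁻¹ * h8Psi D (σ : k →+* k) g)
          = g⁻¹ * (g * y * g⁻¹) * h8Psi D (σ : k →+* k) g := by group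
        _ = g⁻¹ * (h8Psi D (σ : k →+* k) g * y * (h8Psi D (σ : k →+* k) g)⁻¹) *
            h8Psi D (σ : k →+* k) g := by rw [h2]
        _ = g⁻¹ * h8Psi D (σ : k →+* k) g * y := by group
    rw [hcent, Subgroup.mem_bot] at hmem
    have : h8Psi D (σ : k →+* k) g = g * (g⁻¹ * h8Psi D (σ : k →+* k) g) := by group
    rw [this, hmem, mul_one]
  · intro hsg
    obtain ⟨l, hl, t, ht, hst, l', hl', e⟩ := hdesc g hg hsg
    have hKN : K ≤ Subgroup.normalizer (K : Set (GL D.Idx k)) := Subgroup.le_normalizer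
    have htN : t ∈ Subgroup.normalizer (K : Set (GL D.Idx k)) := by
      rw [Subgroup.mem_normalizer_iff]
      intro y
      constructor
      · exact hHK t ht hst y
      · intro hy
        have hst' : h8Psi D (σ : k →+* k) t⁻¹ = t⁻¹ := by rw [map_inv, hst]
        have := hHK t⁻¹ (Subgroup.inv_mem _ ht) hst' _ hy
        have e3 : t⁻¹ * (t * y * t⁻¹) * t⁻¹⁻¹ = y := by group
        rwa [e3] at this
    rw [e]
    exact Subgroup.mul_mem _ (Subgroup.mul_mem _ (hKN (hLK hl)) htN) (hKN (hLK hl'))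

end Cfsg.Agent.Lib.helper7.Sf
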