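import Mathlib
import Cfsg.Prelude.Def_Blocks
import Cfsg.Agent.Lib.helper7.BlockMinMax
import Cfsg.Agent.Lib.helper7.BlockInd2
import Cfsg.Agent.Lib.helper2.PModular

set_option autoImplicit false
set_option linter.style.haveILetI false
set_option linter.unusedSectionVars false
set_option linter.unusedVariables false

namespace Cfsg.Agent.Lib.helper7

open scoped ComplexConjugate
open Cfsg.Agent.Lib.Helper25 Cfsg.Agent.Lib.Helper11 Cfsg.Agent.Lib.helper2

variable {G : Type*} [Group G]

theorem h7_ppart_pow [Finite G] {p : ℕ} [hp : Fact p.Prime] (x y : G) (hc : Commute x y)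
    (hx : ∃ k : ℕ, orderOf x = p ^ k) (hy : ¬ p ∣ orderOf y) :
    ∃ (m n e e' r : ℕ), Nat.card G = m * n ∧ m = p ^ r ∧ n ∣ e' ∧ e + e' ≡ 1 [MOD m * n] ∧
      (x * y) ^ e = y := by
  have hG0 : Nat.card G ≠ 0 := Nat.card_pos.ne'
  have hmn : Nat.card G = p ^ (Nat.card G).factorization p *
      (Nat.card G / p ^ (Nat.card G).factorization p) :=
    (Nat.ordProj_mul_ordCompl_eq_self (Nat.card G) p).symm
  have hcop1 : Nat.Coprime p (Nat.card G / p ^ (Nat.card G).factorization p) :=
    Nat.coprime_ordCompl hp.out hG0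
  have hcop : Nat.Coprime (p ^ (Nat.card G).factorization p)
      (Nat.card G / p ^ (Nat.card G).factorization p) := hcop1.pow_left _
  obtain ⟨e, e', hme, hen, hne', he'm, hee⟩ := exists_crt_exponent _ _ hcop
  refine ⟨_, _, e, e', _, hmn, rfl, hne', hee, ?_⟩
  obtain ⟨k, hk⟩ := hx
  have hx1 : Nat.Coprime (orderOf x) (Nat.card G / p ^ (Nat.card G).factorization p) := by
    rw [hk]
    exact hcop1.pow_left k
  have hy1 : Nat.Coprime (orderOf y) (p ^ (Nat.card G).factorization p) :=
    Nat.Coprime.pow_right _ ((Nat.Prime.coprime_iff_not_dvd hp.out).mpr hy).symm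
  rw [hc.mul_pow, pow_crt_of_coprime_right hmn hme hx1, pow_crt_of_coprime_left hmn hen hy1,
    one_mul]

theorem h7_char_pmul_congr [Finite G] {p : ℕ} [hp : Fact p.Prime] {M : Ideal Cfsg.AlgInt}
    (hM : Cfsg.IsPModular p M) {χ : G → ℂ} (hχ : Cfsg.IsCharacter G χ) (x y : G)
    (hc : Commute x y) (hx : ∃ k : ℕ, orderOf x = p ^ k) (hy : ¬ p ∣ orderOf y) :
    Cfsg.MemLocalIdeal M (χ (x * y) - χ y) := by
  obtain ⟨m, n, e, e', r, hmn, hm, hne', hee, hpow⟩ := h7_ppart_pow (p := p) x y hc hx hy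
  have h1 := char_sub_pow_crt_memLocalIdeal hM hmn hm hne' hee hχ (x * y)
  rwa [hpow] at h1

theorem h7_centralChar_height_zero [Finite G] {p : ℕ} [hp : Fact p.Prime]
    {M : Ideal Cfsg.AlgInt} (hM : Cfsg.IsPModular p M) (χ : Cfsg.IrrCharacter G) (g : G)
    (hval : (Nat.card G).factorization p =
      (Nat.card (Subgroup.centralizer ({g} : Set G))).factorization p +
      (Cfsg.charDegree (χ : G → ℂ)).factorization p) :
    Cfsg.MemLocalIdeal M (Cfsg.centralChar (χ : G → ℂ) g) ↔
      Cfsg.MemLocalIdeal M ((χ : G → ℂ) g) := by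
  have hPr := hM.2.1.isPrime
  obtain ⟨hd1, hd2, hd3⟩ := h7_charDegree_props χ
  set C := Subgroup.centralizer ({g} : Set G) with hC
  set s := (Cfsg.charDegree (χ : G → ℂ)).factorization p with hs
  have hidx : C.index * Nat.card C = Nat.card G := Subgroup.index_mul_card C
  have hidx0 : C.index ≠ 0 := Subgroup.index_ne_zero_of_finite
  have hC0 : Nat.card C ≠ 0 := Nat.card_pos.ne'
  have hvidx : C.index.factorization p = s := by
    have := congrArg (fun t => t.factorization p) hidx
    simp only [Nat.factorization_mul hidx0 hC0, Finsupp.add_apply] at this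
    omega
  set u := C.index / p ^ C.index.factorization p with hu
  set v := Cfsg.charDegree (χ : G → ℂ) / p ^ s with hv
  have hu1 : p ^ s * u = C.index := by
    rw [hu, hvidx.symm]
    exact Nat.ordProj_mul_ordCompl_eq_self _ p
  have hv1 : p ^ s * v = Cfsg.charDegree (χ : G → ℂ) :=
    Nat.ordProj_mul_ordCompl_eq_self _ p
  have hucop : Nat.Coprime u p := (Nat.coprime_ordCompl hp.out hidx0).symm
  have hvcop : Nat.Coprime v p := (Nat.coprime_ordCompl hp.out hd2.ne').symm
  have hp0 : (p : ℂ) ≠ 0 := by exact_mod_cast hp.out.ne_zero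
  have hv0 : (v : ℂ) ≠ 0 := by
    have : v ≠ 0 := by
      rintro h0
      rw [h0, mul_zero] at hv1
      exact hd2.ne' hv1.symm
    exact_mod_cast this
  have hu0 : (u : ℂ) ≠ 0 := by
    have : u ≠ 0 := by
      rintro h0
      rw [h0, mul_zero] at hu1
      exact hidx0 hu1.symm
    exact_mod_cast this
  have hform : Cfsg.centralChar (χ : G → ℂ) g = (u : ℂ) * (v : ℂ)⁻¹ * (χ : G → ℂ) g := by
    unfold Cfsg.centralChar
    rw [← hd3, ← hC, ← hu1, ← hv1]
    push_cast
    field_simp
  have hχS : Cfsg.MemLocalRing M ((χ : G → ℂ) g) :=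
    h7_memLocalRing_of_isIntegral hPr (irr_integral χ g)
  rw [hform]
  constructor
  · intro h
    have h1 := h7_memLocalIdeal_mul_left hPr (h7_memLocalRing_mul hPr
      (h7_memLocalRing_natCast hPr v) (h7_memLocalRing_inv_natCast hM u hucop)) h
    have e : (v : ℂ) * (u : ℂ)⁻¹ * ((u : ℂ) * (v : ℂ)⁻¹ * (χ : G → ℂ) g) = (χ : G → ℂ) g := by
      field_simp
    rwa [e] at h1
  · intro h
    exact h7_memLocalIdeal_mul_left hPr (h7_memLocalRing_mul hPr
      (h7_memLocalRing_natCast hPr u) (h7_memLocalRing_inv_natCast hM v hvcop)) h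

end Cfsg.Agent.Lib.helper7
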