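import Mathlib
import Cfsg.Prelude.Def_Blocks
import Cfsg.Agent.Lib.helper7.BlockHeightZero

set_option autoImplicit false
set_option linter.style.haveILetI false
set_option linter.unusedSectionVars false
set_option linter.unusedVariables false

namespace Cfsg.Agent.Lib.helper7

open scoped ComplexConjugate
open Cfsg.Agent.Lib.Helper25 Cfsg.Agent.Lib.Helper11 Cfsg.Agent.Lib.helper2

variable {G : Type*} [Group G]

theorem h7_ppart_pow2 [Finite G] {p : ℕ} [hp : Fact p.Prime] (x y : G) (hc : Commute x y)
    (hx : ∃ k : ℕ, orderOf x = p ^ k) (hy : ¬ p ∣ orderOf y) :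
    ∃ (e e' : ℕ), (x * y) ^ e = y ∧ (x * y) ^ e' = x := by
  have hG0 : Nat.card G ≠ 0 := Nat.card_pos.ne'
  have hmn : Nat.card G = p ^ (Nat.card G).factorization p *
      (Nat.card G / p ^ (Nat.card G).factorization p) :=
    (Nat.ordProj_mul_ordCompl_eq_self (Nat.card G) p).symm
  have hmn' : Nat.card G = (Nat.card G / p ^ (Nat.card G).factorization p) *
      p ^ (Nat.card G).factorization p := by
    rw [mul_comm]
    exact hmn
  have hcop1 : Nat.Coprime p (Nat.card G / p ^ (Nat.card G).factorization p) :=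
    Nat.coprime_ordCompl hp.out hG0
  have hcop : Nat.Coprime (p ^ (Nat.card G).factorization p)
      (Nat.card G / p ^ (Nat.card G).factorization p) := hcop1.pow_left _
  obtain ⟨e, e', hme, hen, hne', he'm, hee⟩ := exists_crt_exponent _ _ hcop
  obtain ⟨k, hk⟩ := hx
  have hx1 : Nat.Coprime (orderOf x) (Nat.card G / p ^ (Nat.card G).factorization p) := by
    rw [hk]
    exact hcop1.pow_left k
  have hy1 : Nat.Coprime (orderOf y) (p ^ (Nat.card G).factorization p) :=
    Nat.Coprime.pow_right _ ((Nat.Prime.coprime_iff_not_dvd hp.out).mpr hy).symm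
  refine ⟨e, e', ?_, ?_⟩
  · rw [hc.mul_pow, pow_crt_of_coprime_right hmn hme hx1, pow_crt_of_coprime_left hmn hen hy1,
      one_mul]
  · rw [hc.mul_pow, pow_crt_of_coprime_left hmn' he'm hx1, pow_crt_of_coprime_right hmn' hne' hy1,
      mul_one]

end Cfsg.Agent.Lib.helper7
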