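import Mathlib
import Cfsg.Prelude.Def_Blocks
import Cfsg.Agent.Lib.helper7.SecondMain2

set_option autoImplicit false
set_option linter.style.haveILetI false
set_option linter.unusedSectionVars false
set_option linter.unusedVariables false

namespace Cfsg.Agent.Lib.helper7

open scoped ComplexConjugate
open Cfsg.Agent.Lib.Helper25

variable {G : Type*} [Group G]

theorem h7_induced_unique [Fintype G] [Fintype (Cfsg.IrrCharacter G)] {M : Ideal Cfsg.AlgInt}
    (hPr : M.IsPrime) (H : Subgroup G) (b : Set (Cfsg.IrrCharacter H))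
    (B B' : Set (Cfsg.IrrCharacter G)) (h1 : Cfsg.IsInducedBlock M H b B)
    (h2 : Cfsg.IsInducedBlock M H b B') : B = B' := by
  haveI : Fintype H := Fintype.ofFinite H
  haveI : Fintype (Cfsg.IrrCharacter H) := Fintype.ofFinite _
  obtain ⟨⟨ξ₀, rfl⟩, ⟨χ₁, rfl⟩, h1'⟩ := h1
  obtain ⟨-, ⟨χ₂, rfl⟩, h2'⟩ := h2
  have hξ : ξ₀ ∈ Cfsg.blockOf M (ξ₀ : H → ℂ) := h7_sameBlock_refl hPr _
  have hχ₁ : χ₁ ∈ Cfsg.blockOf M (χ₁ : G → ℂ) := h7_sameBlock_refl hPr _
  have hχ₂ : χ₂ ∈ Cfsg.blockOf M (χ₂ : G → ℂ) := h7_sameBlock_refl hPr _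
  apply h7_blockOf_eq_of_mem hPr χ₁ χ₂
  intro g
  have e : Cfsg.centralChar (χ₁ : G → ℂ) g - Cfsg.centralChar (χ₂ : G → ℂ) g =
      (Cfsg.inducedCentralChar H (ξ₀ : H → ℂ) g - Cfsg.centralChar (χ₂ : G → ℂ) g) -
      (Cfsg.inducedCentralChar H (ξ₀ : H → ℂ) g - Cfsg.centralChar (χ₁ : G → ℂ) g) := by ring
  rw [e]
  exact h7_memLocalIdeal_sub hPr (h2' ξ₀ hξ χ₂ hχ₂ g) (h1' ξ₀ hξ χ₁ hχ₁ g)

theorem h7_blockPart_vanish_pregular {K : Type*} [Group K] [Finite K] {p : ℕ} [hp : Fact p.Prime]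
    {M : Ideal Cfsg.AlgInt} (hM : Cfsg.IsPModular p M) (ξ₀ : Cfsg.IrrCharacter K) (θ : K → ℂ)
    (hθ : ∀ c : K, ¬ p ∣ orderOf c → θ c = 0) (y : K) (hy : ¬ p ∣ orderOf y) :
    Cfsg.blockPart (Cfsg.blockOf M (ξ₀ : K → ℂ)) θ y = 0 := by
  classical
  letI : Fintype K := Fintype.ofFinite K
  haveI : Fintype (Cfsg.IrrCharacter K) := Fintype.ofFinite _
  unfold Cfsg.blockPart Cfsg.classInner
  rw [h7_finsum_mem_fintype]
  have h1 : ∀ ψ : Cfsg.IrrCharacter K,
      (if ψ ∈ Cfsg.blockOf M (ξ₀ : K → ℂ) then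
        ((Nat.card K : ℂ)⁻¹ * ∑ c : K, θ c * conj ((ψ : K → ℂ) c)) * (ψ : K → ℂ) y else 0) =
      (Nat.card K : ℂ)⁻¹ * ∑ c : K, θ c *
        (if ψ ∈ Cfsg.blockOf M (ξ₀ : K → ℂ) then
          (ψ : K → ℂ) y * conj ((ψ : K → ℂ) c) else 0) := by
    intro ψ
    split_ifs
    · rw [mul_assoc, Finset.sum_mul]
      congr 1
      refine Finset.sum_congr rfl fun c _ => ?_
      ring
    · simp
  rw [Finset.sum_congr rfl (fun ψ _ => h1 ψ), ← Finset.mul_sum, Finset.sum_comm]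
  have h2 : ∀ c : K, ∑ ψ : Cfsg.IrrCharacter K, θ c *
      (if ψ ∈ Cfsg.blockOf M (ξ₀ : K → ℂ) then
        (ψ : K → ℂ) y * conj ((ψ : K → ℂ) c) else 0) = 0 := by
    intro c
    rw [← Finset.mul_sum]
    by_cases hc : p ∣ orderOf c
    · have := h7_weak_block_orth hM ξ₀ y c hy hc
      rw [h7_finsum_mem_fintype] at this
      rw [this, mul_zero]
    · rw [hθ c hc, zero_mul]
  rw [Finset.sum_congr rfl (fun c _ => h2 c)]
  simp

theorem h7_blockPart_shift_linear [Finite G] [Fintype (Cfsg.IrrCharacter G)] (x : G)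
    (a : Cfsg.IrrCharacter G → ℂ)
    (b : Set (Cfsg.IrrCharacter (Subgroup.centralizer ({x} : Set G))))
    (y : Subgroup.centralizer ({x} : Set G)) :
    Cfsg.blockPart b (fun c : Subgroup.centralizer ({x} : Set G) =>
      ∑ χ : Cfsg.IrrCharacter G, a χ * (χ : G → ℂ) (x * (c : G))) y =
    ∑ χ : Cfsg.IrrCharacter G, a χ *
      Cfsg.blockPart b (fun c : Subgroup.centralizer ({x} : Set G) =>
        (χ : G → ℂ) (x * (c : G))) y := by
  classical
  letI : Fintype (Subgroup.centralizer ({x} : Set G)) := Fintype.ofFinite _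
  haveI : Fintype (Cfsg.IrrCharacter (Subgroup.centralizer ({x} : Set G))) := Fintype.ofFinite _
  unfold Cfsg.blockPart Cfsg.classInner
  simp only [h7_finsum_mem_fintype]
  simp only [Finset.mul_sum]
  rw [Finset.sum_comm]
  refine Finset.sum_congr rfl fun ψ _ => ?_
  split_ifs
  · simp only [Finset.sum_mul, Finset.mul_sum]
    rw [Finset.sum_comm]
    refine Finset.sum_congr rfl fun χ _ => ?_
    refine Finset.sum_congr rfl fun c _ => ?_
    ring
  · simp

theorem h7_blockPart_sum_form [Finite G] [Fintype (Cfsg.IrrCharacter G)]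
    (B : Set (Cfsg.IrrCharacter G)) [DecidablePred (· ∈ B)] (ϑ : G → ℂ) (g : G) :
    Cfsg.blockPart B ϑ g = ∑ χ : Cfsg.IrrCharacter G,
      (if χ ∈ B then @Cfsg.classInner G _ (Fintype.ofFinite G) ϑ (χ : G → ℂ) else 0) *
        (χ : G → ℂ) g := by
  classical
  unfold Cfsg.blockPart
  rw [h7_finsum_mem_fintype]
  refine Finset.sum_congr rfl fun χ _ => ?_
  split_ifs
  · rfl
  · rw [zero_mul]

theorem h7_shift_class (x : G) (Θ : G → ℂ) (hΘ : ∀ g h : G, Θ (h * g * h⁻¹) = Θ g)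
    (g h : Subgroup.centralizer ({x} : Set G)) :
    Θ (x * ((h * g * h⁻¹ : Subgroup.centralizer ({x} : Set G)) : G)) = Θ (x * (g : G)) := by
  simp only [Subgroup.coe_mul, Subgroup.coe_inv]
  have hh : Commute x (h : G) := by
    have := Subgroup.mem_centralizer_singleton_iff.mp h.2
    exact this.symm
  have e : x * ((h : G) * (g : G) * (h : G)⁻¹) = (h : G) * (x * (g : G)) * (h : G)⁻¹ := by
    rw [← mul_assoc, ← mul_assoc, hh.eq, mul_assoc (h : G) x (g : G)]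
  rw [e]
  exact hΘ _ _

theorem h7_blockPart_section_core [Finite G] {p : ℕ} [hp : Fact p.Prime] {M : Ideal Cfsg.AlgInt}
    (hM : Cfsg.IsPModular p M) (x : G) (ϑ : G → ℂ) (hϑcl : ∀ g h : G, ϑ (h * g * h⁻¹) = ϑ g)
    (hϑ0 : ∀ c : Subgroup.centralizer ({x} : Set G), ¬ p ∣ orderOf c → ϑ (x * (c : G)) = 0)
    (B : Set (Cfsg.IrrCharacter G)) (hB : Cfsg.IsPBlock M B)
    (bp_vanish : ∀ (χ : Cfsg.IrrCharacter G)
      (b : Set (Cfsg.IrrCharacter (Subgroup.centralizer ({x} : Set G)))), Cfsg.IsPBlock M b →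
      ¬ Cfsg.IsInducedBlock M (Subgroup.centralizer ({x} : Set G)) b
        (Cfsg.blockOf M (χ : G → ℂ)) →
      ∀ y : Subgroup.centralizer ({x} : Set G), ¬ p ∣ orderOf y →
        Cfsg.blockPart b (fun c : Subgroup.centralizer ({x} : Set G) =>
          (χ : G → ℂ) (x * (c : G))) y = 0)
    (y : Subgroup.centralizer ({x} : Set G)) (hy : ¬ p ∣ orderOf y) :
    Cfsg.blockPart B ϑ (x * (y : G)) = 0 := by
  classical
  letI : Fintype G := Fintype.ofFinite G
  haveI : Fintype (Cfsg.IrrCharacter G) := Fintype.ofFinite _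
  letI : Fintype (Subgroup.centralizer ({x} : Set G)) := Fintype.ofFinite _
  haveI : Fintype (Cfsg.IrrCharacter (Subgroup.centralizer ({x} : Set G))) := Fintype.ofFinite _
  have hPr := hM.2.1.isPrime
  obtain ⟨a, ha⟩ : ∃ a : Cfsg.IrrCharacter G → ℂ,
      a = fun χ : Cfsg.IrrCharacter G => Cfsg.classInner ϑ (χ : G → ℂ) := ⟨_, rfl⟩
  have hexp : ∀ g : G, ϑ g = ∑ χ : Cfsg.IrrCharacter G, a χ * (χ : G → ℂ) g := by
    intro g
    have h0 := classFunction_expansion ϑ hϑcl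
    conv_lhs => rw [h0]
    rw [Finset.sum_apply, ha]
    refine Finset.sum_congr rfl fun χ _ => ?_
    simp only [Pi.smul_apply, smul_eq_mul]
  obtain ⟨aB, haB⟩ : ∃ aB : Cfsg.IrrCharacter G → ℂ,
      aB = fun χ : Cfsg.IrrCharacter G => if χ ∈ B then a χ else 0 := ⟨_, rfl⟩
  have hBsum : ∀ g : G, Cfsg.blockPart B ϑ g =
      ∑ χ : Cfsg.IrrCharacter G, aB χ * (χ : G → ℂ) g := by
    intro g
    rw [h7_blockPart_sum_form B ϑ g, haB, ha]
  have hBcl : ∀ g h : G, Cfsg.blockPart B ϑ (h * g * h⁻¹) = Cfsg.blockPart B ϑ g := by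
    intro g h
    rw [hBsum, hBsum]
    refine Finset.sum_congr rfl fun χ _ => ?_
    rw [irr_conj_invariant]
  obtain ⟨Θ, hΘ⟩ : ∃ Θ : Subgroup.centralizer ({x} : Set G) → ℂ,
      Θ = fun c : Subgroup.centralizer ({x} : Set G) =>
        Cfsg.blockPart B ϑ (x * (c : G)) := ⟨_, rfl⟩
  have hΘcl : ∀ g h : Subgroup.centralizer ({x} : Set G), Θ (h * g * h⁻¹) = Θ g := by
    intro g h
    rw [hΘ]
    exact h7_shift_class x _ hBcl g h
  have hΘsum : Θ = fun c : Subgroup.centralizer ({x} : Set G) =>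
      ∑ χ : Cfsg.IrrCharacter G, aB χ * (χ : G → ℂ) (x * (c : G)) := by
    rw [hΘ]
    funext c
    exact hBsum _
  have hexpC := classFunction_expansion Θ hΘcl
  have h1 : Cfsg.blockPart B ϑ (x * (y : G)) =
      ∑ ψ : Cfsg.IrrCharacter (Subgroup.centralizer ({x} : Set G)),
        Cfsg.classInner Θ (ψ : Subgroup.centralizer ({x} : Set G) → ℂ) *
          (ψ : Subgroup.centralizer ({x} : Set G) → ℂ) y := by
    have h0 : Cfsg.blockPart B ϑ (x * (y : G)) = Θ y := by rw [hΘ]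
    rw [h0]
    conv_lhs => rw [hexpC]
    rw [Finset.sum_apply]
    refine Finset.sum_congr rfl fun ψ _ => ?_
    simp only [Pi.smul_apply, smul_eq_mul]
  rw [h1]
  apply h7_sum_eq_zero_of_blocks hPr
  intro b hb
  have h2 : ∑ᶠ ψ ∈ b, Cfsg.classInner Θ (ψ : Subgroup.centralizer ({x} : Set G) → ℂ) *
      (ψ : Subgroup.centralizer ({x} : Set G) → ℂ) y = Cfsg.blockPart b Θ y := by
    unfold Cfsg.blockPart
    rfl
  rw [h2, hΘsum, h7_blockPart_shift_linear x aB b y]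
  by_cases hind : Cfsg.IsInducedBlock M (Subgroup.centralizer ({x} : Set G)) b B
  · have e2 : ∑ χ : Cfsg.IrrCharacter G, aB χ *
        Cfsg.blockPart b (fun c : Subgroup.centralizer ({x} : Set G) =>
          (χ : G → ℂ) (x * (c : G))) y =
        ∑ χ : Cfsg.IrrCharacter G, a χ *
        Cfsg.blockPart b (fun c : Subgroup.centralizer ({x} : Set G) =>
          (χ : G → ℂ) (x * (c : G))) y := by
      refine Finset.sum_congr rfl fun χ _ => ?_
      by_cases hχ : χ ∈ B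
      · rw [haB]
        simp only [if_pos hχ]
      · have hnot : ¬ Cfsg.IsInducedBlock M (Subgroup.centralizer ({x} : Set G)) b
            (Cfsg.blockOf M (χ : G → ℂ)) := by
          intro hc
          apply hχ
          rw [h7_induced_unique hPr _ b B _ hind hc]
          exact h7_sameBlock_refl hPr _
        rw [bp_vanish χ b hb hnot y hy, mul_zero, mul_zero]
    rw [e2, ← h7_blockPart_shift_linear x a b y]
    have e3 : (fun c : Subgroup.centralizer ({x} : Set G) =>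
        ∑ χ : Cfsg.IrrCharacter G, a χ * (χ : G → ℂ) (x * (c : G))) =
        fun c : Subgroup.centralizer ({x} : Set G) => ϑ (x * (c : G)) := by
      funext c
      exact (hexp _).symm
    rw [e3]
    obtain ⟨ξ₀, rfl⟩ := hb
    exact h7_blockPart_vanish_pregular hM ξ₀ _ hϑ0 y hy
  · apply Finset.sum_eq_zero
    intro χ _
    by_cases hχ : χ ∈ B
    · obtain ⟨χ₁, rfl⟩ := hB
      have e1 := h7_blockOf_eq_of_mem hPr χ₁ χ hχ
      rw [e1] at hind
      rw [bp_vanish χ b hb hind y hy, mul_zero]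
    · rw [haB]
      simp only [if_neg hχ, zero_mul]

theorem h7_orderOf_conj (c y : G) : orderOf (c * y * c⁻¹) = orderOf y := by
  have := MulEquiv.orderOf_eq (MulAut.conj c) y
  rwa [MulAut.conj_apply] at this

theorem h7_isPPart_conj {p : ℕ} (c h y : G) (hy : Cfsg.IsPPart p h y) :
    Cfsg.IsPPart p (c * h * c⁻¹) (c * y * c⁻¹) := by
  obtain ⟨y', hyy', hc, hyp, hy'p⟩ := hy
  refine ⟨c * y' * c⁻¹, ?_, ?_, ?_, ?_⟩
  · rw [← hyy']
    group
  · show c * y * c⁻¹ * (c * y' * c⁻¹) = c * y' * c⁻¹ * (c * y * c⁻¹)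
    have e1 : c * y * c⁻¹ * (c * y' * c⁻¹) = c * (y * y') * c⁻¹ := by group
    have e2 : c * y' * c⁻¹ * (c * y * c⁻¹) = c * (y' * y) * c⁻¹ := by group
    rw [e1, e2, hc.eq]
  · rw [h7_orderOf_conj]
    exact hyp
  · rw [h7_orderOf_conj]
    exact hy'p

theorem h7_isPPart_unique [Finite G] {p : ℕ} [hp : Fact p.Prime] (h y z : G)
    (hy : Cfsg.IsPPart p h y) (hz : Cfsg.IsPPart p h z) : z = y := by
  obtain ⟨r, u, hru, hcomm, hr, hu, hrs, hus⟩ :=
    Cfsg.Agent.Lib.helper2.pp_exists p hp.out h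
  obtain ⟨y', hyy', hc, hyp, hy'p⟩ := hy
  obtain ⟨z', hzz', hc', hzp, hz'p⟩ := hz
  have h1 := Cfsg.Agent.Lib.helper2.pp_unique p hp.out h r u y' y hru hrs hus hr hu
    (by rw [← hc.eq]; exact hyy') hc.symm hy'p hyp
  have h2 := Cfsg.Agent.Lib.helper2.pp_unique p hp.out h r u z' z hru hrs hus hr hu
    (by rw [← hc'.eq]; exact hzz') hc'.symm hz'p hzp
  rw [h1.2, h2.2]

theorem h7_blockPart_class [Finite G] (B : Set (Cfsg.IrrCharacter G)) (ϑ : G → ℂ) (g h : G) :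
    Cfsg.blockPart B ϑ (h * g * h⁻¹) = Cfsg.blockPart B ϑ g := by
  classical
  haveI : Fintype (Cfsg.IrrCharacter G) := Fintype.ofFinite _
  rw [h7_blockPart_sum_form, h7_blockPart_sum_form]
  refine Finset.sum_congr rfl fun χ _ => ?_
  rw [irr_conj_invariant]

theorem h7_blockPart_section [Finite G] {p : ℕ} [hp : Fact p.Prime] {M : Ideal Cfsg.AlgInt}
    (hM : Cfsg.IsPModular p M) (ϑ : G → ℂ) (hϑcl : ∀ g h : G, ϑ (h * g * h⁻¹) = ϑ g) (x : G)
    (hx : ∃ k : ℕ, orderOf x = p ^ k)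
    (hϑ0 : ∀ u z : G, Cfsg.IsPPart p u z → IsConj x z → ϑ u = 0)
    (B : Set (Cfsg.IrrCharacter G)) (hB : Cfsg.IsPBlock M B)
    (bp_vanish : ∀ (χ : Cfsg.IrrCharacter G)
      (b : Set (Cfsg.IrrCharacter (Subgroup.centralizer ({x} : Set G)))), Cfsg.IsPBlock M b →
      ¬ Cfsg.IsInducedBlock M (Subgroup.centralizer ({x} : Set G)) b
        (Cfsg.blockOf M (χ : G → ℂ)) →
      ∀ y : Subgroup.centralizer ({x} : Set G), ¬ p ∣ orderOf y →
        Cfsg.blockPart b (fun c : Subgroup.centralizer ({x} : Set G) =>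
          (χ : G → ℂ) (x * (c : G))) y = 0)
    (u z : G) (hu : Cfsg.IsPPart p u z) (hxz : IsConj x z) : Cfsg.blockPart B ϑ u = 0 := by
  obtain ⟨t, ht⟩ := isConj_iff.mp hxz
  obtain ⟨y', hzy', hc, hzp, hy'p⟩ := hu
  have hx' : x = t⁻¹ * z * t := by rw [← ht]; group
  have hyC : t⁻¹ * y' * t ∈ Subgroup.centralizer ({x} : Set G) := by
    rw [Subgroup.mem_centralizer_singleton_iff, hx']
    have e1 : t⁻¹ * y' * t * (t⁻¹ * z * t) = t⁻¹ * (y' * z) * t := by group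
    have e2 : t⁻¹ * z * t * (t⁻¹ * y' * t) = t⁻¹ * (z * y') * t := by group
    rw [e1, e2, hc.eq]
  have hu' : u = t * (x * (t⁻¹ * y' * t)) * t⁻¹ := by
    rw [← hzy', hx']
    group
  rw [hu', h7_blockPart_class]
  have hyp' : ¬ p ∣ orderOf (⟨t⁻¹ * y' * t, hyC⟩ : Subgroup.centralizer ({x} : Set G)) := by
    rw [Subgroup.orderOf_mk]
    have := h7_orderOf_conj t⁻¹ y'
    rw [inv_inv] at this
    rw [this]
    exact hy'p
  refine h7_blockPart_section_core hM x ϑ hϑcl ?_ B hB bp_vanish ⟨t⁻¹ * y' * t, hyC⟩ hyp'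
  intro c hcp
  apply hϑ0 (x * (c : G)) x _ (IsConj.refl x)
  refine ⟨(c : G), rfl, ?_, hx, ?_⟩
  · have := Subgroup.mem_centralizer_singleton_iff.mp c.2
    exact this.symm
  · rw [Subgroup.orderOf_coe]
    exact hcp

theorem h7_block_orth [Finite G] {p : ℕ} [hp : Fact p.Prime] {M : Ideal Cfsg.AlgInt}
    (hM : Cfsg.IsPModular p M)
    (hi : ∀ (ϑ : G → ℂ), (∀ g h : G, ϑ (h * g * h⁻¹) = ϑ g) → ∀ x : G,
      (∃ k : ℕ, orderOf x = p ^ k) →
      (∀ u z : G, Cfsg.IsPPart p u z → IsConj x z → ϑ u = 0) →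
      ∀ B : Set (Cfsg.IrrCharacter G), Cfsg.IsPBlock M B → ∀ u z : G, Cfsg.IsPPart p u z →
        IsConj x z → Cfsg.blockPart B ϑ u = 0)
    (g h x y : G) (hgx : Cfsg.IsPPart p g x) (hhy : Cfsg.IsPPart p h y) (hnc : ¬ IsConj x y)
    (B : Set (Cfsg.IrrCharacter G)) (hB : Cfsg.IsPBlock M B) :
    ∑ᶠ χ ∈ B, (χ : G → ℂ) g * (χ : G → ℂ) h⁻¹ = 0 := by
  classical
  letI : Fintype G := Fintype.ofFinite G
  haveI : Fintype (Cfsg.IrrCharacter G) := Fintype.ofFinite _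
  obtain ⟨ϑ, hϑ⟩ : ∃ ϑ : G → ℂ, ϑ = fun u : G =>
      ∑ χ : Cfsg.IrrCharacter G, (χ : G → ℂ) u * conj ((χ : G → ℂ) h) := ⟨_, rfl⟩
  have hϑcl : ∀ a c : G, ϑ (c * a * c⁻¹) = ϑ a := by
    intro a c
    rw [hϑ]
    refine Finset.sum_congr rfl fun χ _ => ?_
    rw [irr_conj_invariant]
  have hxp : ∃ k : ℕ, orderOf x = p ^ k := by
    obtain ⟨_, _, _, hxp, _⟩ := hgx
    exact hxp
  have hϑ0 : ∀ u z : G, Cfsg.IsPPart p u z → IsConj x z → ϑ u = 0 := by
    intro u z hu hxz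
    rw [hϑ]
    show ∑ χ : Cfsg.IrrCharacter G, (χ : G → ℂ) u * conj ((χ : G → ℂ) h) = 0
    rw [irr_column_orthogonality u h, if_neg]
    intro hcon
    obtain ⟨c, hc⟩ := isConj_iff.mp hcon
    have h1 := h7_isPPart_conj c h y hhy
    rw [hc] at h1
    have h2 := h7_isPPart_unique u (c * y * c⁻¹) z h1 hu
    apply hnc
    apply hxz.trans
    rw [h2]
    exact (isConj_iff.mpr ⟨c, rfl⟩ : IsConj y (c * y * c⁻¹)).symm
  have h3 := hi ϑ hϑcl x hxp hϑ0 B hB g x hgx (IsConj.refl x)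
  unfold Cfsg.blockPart at h3
  rw [← h3]
  apply finsum_mem_congr rfl
  intro χ _
  have h4 : Cfsg.classInner ϑ (χ : G → ℂ) = conj ((χ : G → ℂ) h) := by
    have e1 : ϑ = ∑ ψ : Cfsg.IrrCharacter G, conj ((ψ : G → ℂ) h) • (ψ : G → ℂ) := by
      rw [hϑ]
      funext u
      rw [Finset.sum_apply]
      refine Finset.sum_congr rfl fun ψ _ => ?_
      simp only [Pi.smul_apply, smul_eq_mul]
      ring
    have e2 : Cfsg.classInner ϑ (χ : G → ℂ) =
        ∑ ψ : Cfsg.IrrCharacter G, conj ((ψ : G → ℂ) h) *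
          Cfsg.classInner (ψ : G → ℂ) (χ : G → ℂ) := by
      rw [e1]
      unfold Cfsg.classInner
      simp only [Finset.sum_apply, Pi.smul_apply, smul_eq_mul, Finset.sum_mul, Finset.mul_sum]
      rw [Finset.sum_comm]
      refine Finset.sum_congr rfl fun ψ _ => ?_
      refine Finset.sum_congr rfl fun a _ => ?_
      ring
    rw [e2]
    simp only [irr_classInner]
    rw [Finset.sum_eq_single χ]
    · simp
    · intro ψ _ hne
      rw [if_neg hne, mul_zero]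
    · intro hne
      exact absurd (Finset.mem_univ χ) hne
  rw [h4, irr_inv, mul_comm]

theorem h7_centralizer_brauer_hyps (p : ℕ) [hp : Fact p.Prime] (x : G)
    (hx : ∃ k : ℕ, orderOf x = p ^ k) :
    IsPGroup p (Subgroup.zpowers x) ∧
    Subgroup.zpowers x ≤ Subgroup.centralizer ({x} : Set G) ∧
    Subgroup.centralizer ((Subgroup.zpowers x : Subgroup G) : Set G) ≤
      Subgroup.centralizer ({x} : Set G) ∧
    Subgroup.centralizer ({x} : Set G) ≤
      Subgroup.normalizer ((Subgroup.zpowers x : Subgroup G) : Set G) := by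
  have hxC : x ∈ Subgroup.centralizer ({x} : Set G) :=
    Subgroup.mem_centralizer_singleton_iff.mpr rfl
  have hP : IsPGroup p (Subgroup.zpowers x) := by
    obtain ⟨k, hk⟩ := hx
    apply IsPGroup.of_card (n := k)
    rw [Nat.card_zpowers, hk]
  have hPC : Subgroup.zpowers x ≤ Subgroup.centralizer ({x} : Set G) :=
    (Subgroup.zpowers_le).mpr hxC
  have hCC : Subgroup.centralizer ((Subgroup.zpowers x : Subgroup G) : Set G) ≤
      Subgroup.centralizer ({x} : Set G) := by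
    apply Subgroup.centralizer_le
    intro t ht
    rw [Set.mem_singleton_iff] at ht
    rw [ht]
    exact Subgroup.mem_zpowers x
  have hCC' : Subgroup.centralizer ({x} : Set G) ≤
      Subgroup.centralizer ((Subgroup.zpowers x : Subgroup G) : Set G) := by
    intro c hc
    rw [Subgroup.mem_centralizer_iff]
    intro t ht
    obtain ⟨n, rfl⟩ := Subgroup.mem_zpowers_iff.mp ht
    have h1 : c * x = x * c := Subgroup.mem_centralizer_singleton_iff.mp hc
    have h2 : Commute c x := h1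
    exact ((h2.zpow_right n).eq).symm
  exact ⟨hP, hPC, hCC, hCC'.trans (Subgroup.centralizer_le_normalizer _)⟩

end Cfsg.Agent.Lib.helper7
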