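import Mathlib
import Cfsg.Prelude.Def_Blocks
import Cfsg.Agent.Lib.helper7.SecondMain3
import Cfsg.Agent.Lib.helper7.BlockHeightZero2
import Cfsg.Agent.Lib.helper7.BlockFirstMain

set_option autoImplicit false
set_option linter.style.haveILetI false
set_option linter.unusedSectionVars false
set_option linter.unusedVariables false

namespace Cfsg.Agent.Lib.helper7

open scoped ComplexConjugate
open Cfsg.Agent.Lib.Helper25

variable {G : Type*} [Group G]

theorem h7_conj_section_iff [Finite G] {p : ℕ} [hp : Fact p.Prime] (z : G)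
    (hz : ∃ k : ℕ, orderOf z = p ^ k) (y c : Subgroup.centralizer ({z} : Set G))
    (hy : ¬ p ∣ orderOf y) (hc : ¬ p ∣ orderOf c) :
    IsConj (z * (y : G)) (z * (c : G)) ↔ IsConj y c := by
  have hzy : Commute z (y : G) := by
    have := Subgroup.mem_centralizer_singleton_iff.mp y.2
    exact this.symm
  have hzc : Commute z (c : G) := by
    have := Subgroup.mem_centralizer_singleton_iff.mp c.2
    exact this.symm
  constructor
  · intro h
    obtain ⟨g, hg⟩ := isConj_iff.mp h
    have h1 : Cfsg.IsPPart p (z * (y : G)) z :=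
      ⟨(y : G), rfl, hzy, hz, by rw [Subgroup.orderOf_coe]; exact hy⟩
    have h2 : Cfsg.IsPPart p (z * (c : G)) z :=
      ⟨(c : G), rfl, hzc, hz, by rw [Subgroup.orderOf_coe]; exact hc⟩
    have h3 := h7_isPPart_conj g _ _ h1
    rw [hg] at h3
    have h4 : g * z * g⁻¹ = z := h7_isPPart_unique _ _ _ h2 h3
    have hgH : g ∈ Subgroup.centralizer ({z} : Set G) := by
      rw [Subgroup.mem_centralizer_singleton_iff]
      have := congrArg (fun t => t * g) h4
      simpa using this
    rw [isConj_iff]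
    refine ⟨⟨g, hgH⟩, ?_⟩
    apply Subtype.ext
    simp only [Subgroup.coe_mul, Subgroup.coe_inv]
    have e1 : g * (z * (y : G)) * g⁻¹ = (g * z * g⁻¹) * (g * (y : G) * g⁻¹) := by group
    rw [e1, h4] at hg
    exact mul_left_cancel hg
  · intro h
    obtain ⟨k, hk⟩ := isConj_iff.mp h
    rw [isConj_iff]
    refine ⟨(k : G), ?_⟩
    have hzk : Commute z (k : G) := by
      have := Subgroup.mem_centralizer_singleton_iff.mp k.2
      exact this.symm
    have e1 : (k : G) * (z * (y : G)) * (k : G)⁻¹ = z * ((k : G) * (y : G) * (k : G)⁻¹) := by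
      rw [← mul_assoc, ← hzk.eq]
      group
    rw [e1, ← hk]
    simp only [Subgroup.coe_mul, Subgroup.coe_inv]

theorem h7_card_centralizer_mul [Finite G] {p : ℕ} [hp : Fact p.Prime] (z : G)
    (hz : ∃ k : ℕ, orderOf z = p ^ k) (y : Subgroup.centralizer ({z} : Set G))
    (hy : ¬ p ∣ orderOf y) :
    Nat.card (Subgroup.centralizer ({z * (y : G)} : Set G)) =
      Nat.card (Subgroup.centralizer ({y} : Set (Subgroup.centralizer ({z} : Set G)))) := by
  have hzy : Commute z (y : G) := by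
    have := Subgroup.mem_centralizer_singleton_iff.mp y.2
    exact this.symm
  have hy' : ¬ p ∣ orderOf (y : G) := by rw [Subgroup.orderOf_coe]; exact hy
  rw [h7_card_centralizer_sub]
  congr 2
  ext g
  rw [Subgroup.mem_inf, Subgroup.mem_centralizer_singleton_iff,
    Subgroup.mem_centralizer_singleton_iff, Subgroup.mem_centralizer_singleton_iff]
  constructor
  · intro h
    obtain ⟨e, e', he, he'⟩ := h7_ppart_pow2 (p := p) z (y : G) hzy hz hy'
    have hcomm : Commute g (z * (y : G)) := h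
    constructor
    · have := (hcomm.pow_right e).eq
      rwa [he] at this
    · have := (hcomm.pow_right e').eq
      rwa [he'] at this
  · rintro ⟨h1, h2⟩
    rw [← mul_assoc, h2, mul_assoc, h1, mul_assoc]

theorem h7_blockPart_sub {K : Type*} [Group K] [Finite K] (b : Set (Cfsg.IrrCharacter K))
    (f g : K → ℂ) (y : K) :
    Cfsg.blockPart b (f - g) y = Cfsg.blockPart b f y - Cfsg.blockPart b g y := by
  classical
  letI : Fintype K := Fintype.ofFinite K
  haveI : Fintype (Cfsg.IrrCharacter K) := Fintype.ofFinite _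
  unfold Cfsg.blockPart
  rw [← finsum_mem_sub_distrib _ _ (Set.toFinite b)]
  apply finsum_mem_congr rfl
  intro ψ _
  rw [classInner_sub_left, sub_mul]

theorem h7_classInner_comb [Fintype G] [Fintype (Cfsg.IrrCharacter G)]
    (a : Cfsg.IrrCharacter G → ℂ) (χ : Cfsg.IrrCharacter G) :
    Cfsg.classInner (fun g : G => ∑ ψ : Cfsg.IrrCharacter G, a ψ * (ψ : G → ℂ) g)
      (χ : G → ℂ) = a χ := by
  classical
  have e2 : Cfsg.classInner (fun g : G => ∑ ψ : Cfsg.IrrCharacter G, a ψ * (ψ : G → ℂ) g)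
      (χ : G → ℂ) =
      ∑ ψ : Cfsg.IrrCharacter G, a ψ * Cfsg.classInner (ψ : G → ℂ) (χ : G → ℂ) := by
    unfold Cfsg.classInner
    simp only [Finset.sum_mul, Finset.mul_sum]
    rw [Finset.sum_comm]
    refine Finset.sum_congr rfl fun ψ _ => ?_
    refine Finset.sum_congr rfl fun g _ => ?_
    ring
  rw [e2]
  simp only [irr_classInner]
  rw [Finset.sum_eq_single χ]
  · simp
  · intro ψ _ hne
    rw [if_neg hne, mul_zero]
  · intro hne
    exact absurd (Finset.mem_univ χ) hne

theorem h7_principal_section_sum [Finite G] {p : ℕ} [hp : Fact p.Prime] {M : Ideal Cfsg.AlgInt}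
    (hM : Cfsg.IsPModular p M) (z : G) (hz : ∃ k : ℕ, orderOf z = p ^ k)
    (bp_vanish : ∀ (χ : Cfsg.IrrCharacter G)
      (b : Set (Cfsg.IrrCharacter (Subgroup.centralizer ({z} : Set G)))), Cfsg.IsPBlock M b →
      ¬ Cfsg.IsInducedBlock M (Subgroup.centralizer ({z} : Set G)) b
        (Cfsg.blockOf M (χ : G → ℂ)) →
      ∀ y : Subgroup.centralizer ({z} : Set G), ¬ p ∣ orderOf y →
        Cfsg.blockPart b (fun c : Subgroup.centralizer ({z} : Set G) =>
          (χ : G → ℂ) (z * (c : G))) y = 0)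
    (h3 : ∀ b : Set (Cfsg.IrrCharacter (Subgroup.centralizer ({z} : Set G))),
      Cfsg.IsPBlock M b →
      (Cfsg.IsInducedBlock M (Subgroup.centralizer ({z} : Set G)) b (Cfsg.principalBlock M G) ↔
        b = Cfsg.principalBlock M (Subgroup.centralizer ({z} : Set G))))
    (y : Subgroup.centralizer ({z} : Set G)) (hy : ¬ p ∣ orderOf y) :
    ∑ᶠ ζ ∈ Cfsg.principalBlock M G,
        (ζ : G → ℂ) (z * (y : G)) * conj ((ζ : G → ℂ) (z * (y : G))) =
      ∑ᶠ χ ∈ Cfsg.principalBlock M (Subgroup.centralizer ({z} : Set G)),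
        (χ : Subgroup.centralizer ({z} : Set G) → ℂ) y *
          conj ((χ : Subgroup.centralizer ({z} : Set G) → ℂ) y) := by
  classical
  letI : Fintype G := Fintype.ofFinite G
  haveI : Fintype (Cfsg.IrrCharacter G) := Fintype.ofFinite _
  letI : Fintype (Subgroup.centralizer ({z} : Set G)) := Fintype.ofFinite _
  haveI : Fintype (Cfsg.IrrCharacter (Subgroup.centralizer ({z} : Set G))) := Fintype.ofFinite _
  have hPr := hM.2.1.isPrime
  have hBG : Cfsg.principalBlock M G = Cfsg.blockOf M ((trivIrr G : Cfsg.IrrCharacter G) : G → ℂ) :=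
    rfl
  have hBH : Cfsg.principalBlock M (Subgroup.centralizer ({z} : Set G)) =
      Cfsg.blockOf M ((trivIrr (Subgroup.centralizer ({z} : Set G)) :
        Cfsg.IrrCharacter (Subgroup.centralizer ({z} : Set G))) :
          Subgroup.centralizer ({z} : Set G) → ℂ) := rfl
  obtain ⟨a, ha⟩ : ∃ a : Cfsg.IrrCharacter G → ℂ,
      a = fun ζ : Cfsg.IrrCharacter G => conj ((ζ : G → ℂ) (z * (y : G))) := ⟨_, rfl⟩
  obtain ⟨aB, haB⟩ : ∃ aB : Cfsg.IrrCharacter G → ℂ,
      aB = fun ζ : Cfsg.IrrCharacter G => if ζ ∈ Cfsg.principalBlock M G then a ζ else 0 :=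
    ⟨_, rfl⟩
  obtain ⟨ϑB, hϑB⟩ : ∃ ϑB : G → ℂ, ϑB = fun g : G =>
      ∑ ζ : Cfsg.IrrCharacter G, aB ζ * (ζ : G → ℂ) g := ⟨_, rfl⟩
  have hϑBcl : ∀ g h : G, ϑB (h * g * h⁻¹) = ϑB g := by
    intro g h
    rw [hϑB]
    refine Finset.sum_congr rfl fun ζ _ => ?_
    rw [irr_conj_invariant]
  have hLHS : ∑ᶠ ζ ∈ Cfsg.principalBlock M G,
      (ζ : G → ℂ) (z * (y : G)) * conj ((ζ : G → ℂ) (z * (y : G))) = ϑB (z * (y : G)) := by
    rw [h7_finsum_mem_fintype, hϑB, haB, ha]
    refine Finset.sum_congr rfl fun ζ _ => ?_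
    by_cases hζ : ζ ∈ Cfsg.principalBlock M G
    · simp only [if_pos hζ]
      ring
    · simp only [if_neg hζ, zero_mul]
  obtain ⟨Θ, hΘ⟩ : ∃ Θ : Subgroup.centralizer ({z} : Set G) → ℂ,
      Θ = fun c : Subgroup.centralizer ({z} : Set G) => ϑB (z * (c : G)) := ⟨_, rfl⟩
  have hΘcl : ∀ g h : Subgroup.centralizer ({z} : Set G), Θ (h * g * h⁻¹) = Θ g := by
    intro g h
    rw [hΘ]
    exact h7_shift_class z _ hϑBcl g h
  have hΘsum : Θ = fun c : Subgroup.centralizer ({z} : Set G) =>
      ∑ ζ : Cfsg.IrrCharacter G, aB ζ * (ζ : G → ℂ) (z * (c : G)) := by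
    rw [hΘ, hϑB]
  have hexpC := classFunction_expansion Θ hΘcl
  have h1 : ϑB (z * (y : G)) =
      ∑ ψ : Cfsg.IrrCharacter (Subgroup.centralizer ({z} : Set G)),
        Cfsg.classInner Θ (ψ : Subgroup.centralizer ({z} : Set G) → ℂ) *
          (ψ : Subgroup.centralizer ({z} : Set G) → ℂ) y := by
    have h0 : ϑB (z * (y : G)) = Θ y := by rw [hΘ]
    rw [h0]
    conv_lhs => rw [hexpC]
    rw [Finset.sum_apply]
    refine Finset.sum_congr rfl fun ψ _ => ?_
    simp only [Pi.smul_apply, smul_eq_mul]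
  rw [hLHS, h1, h7_finsum_mem_fintype, ← sub_eq_zero, ← Finset.sum_sub_distrib]
  apply h7_sum_eq_zero_of_blocks hPr
  intro b hb
  rw [finsum_mem_sub_distrib _ _ (Set.toFinite b)]
  have h2 : ∑ᶠ ψ ∈ b, Cfsg.classInner Θ (ψ : Subgroup.centralizer ({z} : Set G) → ℂ) *
      (ψ : Subgroup.centralizer ({z} : Set G) → ℂ) y = Cfsg.blockPart b Θ y := by
    unfold Cfsg.blockPart
    rfl
  rw [h2, hΘsum, h7_blockPart_shift_linear z aB b y]
  by_cases hbp : b = Cfsg.principalBlock M (Subgroup.centralizer ({z} : Set G))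
  · have hind := (h3 b hb).mpr hbp
    have e2 : ∑ ζ : Cfsg.IrrCharacter G, aB ζ *
        Cfsg.blockPart b (fun c : Subgroup.centralizer ({z} : Set G) =>
          (ζ : G → ℂ) (z * (c : G))) y =
        ∑ ζ : Cfsg.IrrCharacter G, a ζ *
        Cfsg.blockPart b (fun c : Subgroup.centralizer ({z} : Set G) =>
          (ζ : G → ℂ) (z * (c : G))) y := by
      refine Finset.sum_congr rfl fun ζ _ => ?_
      by_cases hζ : ζ ∈ Cfsg.principalBlock M G
      · rw [haB]
        simp only [if_pos hζ]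
      · have hnot : ¬ Cfsg.IsInducedBlock M (Subgroup.centralizer ({z} : Set G)) b
            (Cfsg.blockOf M (ζ : G → ℂ)) := by
          intro hc
          apply hζ
          rw [h7_induced_unique hPr _ b _ _ hind hc]
          exact h7_sameBlock_refl hPr _
        rw [bp_vanish ζ b hb hnot y hy, mul_zero, mul_zero]
    rw [e2, ← h7_blockPart_shift_linear z a b y]
    obtain ⟨φ, hφ⟩ : ∃ φ : Subgroup.centralizer ({z} : Set G) → ℂ,
        φ = fun c : Subgroup.centralizer ({z} : Set G) =>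
          ∑ ψ : Cfsg.IrrCharacter (Subgroup.centralizer ({z} : Set G)),
            conj ((ψ : Subgroup.centralizer ({z} : Set G) → ℂ) y) *
              (ψ : Subgroup.centralizer ({z} : Set G) → ℂ) c := ⟨_, rfl⟩
    have hdiff : ∀ c : Subgroup.centralizer ({z} : Set G), ¬ p ∣ orderOf c →
        ((fun c : Subgroup.centralizer ({z} : Set G) =>
          ∑ ζ : Cfsg.IrrCharacter G, a ζ * (ζ : G → ℂ) (z * (c : G))) - φ) c = 0 := by
      intro c hc
      rw [Pi.sub_apply, hφ, ha]
      have e3 : ∑ ζ : Cfsg.IrrCharacter G, conj ((ζ : G → ℂ) (z * (y : G))) *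
          (ζ : G → ℂ) (z * (c : G)) =
          ∑ ζ : Cfsg.IrrCharacter G, (ζ : G → ℂ) (z * (c : G)) *
            conj ((ζ : G → ℂ) (z * (y : G))) :=
        Finset.sum_congr rfl fun ζ _ => mul_comm _ _
      have e4 : ∑ ψ : Cfsg.IrrCharacter (Subgroup.centralizer ({z} : Set G)),
          conj ((ψ : Subgroup.centralizer ({z} : Set G) → ℂ) y) *
            (ψ : Subgroup.centralizer ({z} : Set G) → ℂ) c =
          ∑ ψ : Cfsg.IrrCharacter (Subgroup.centralizer ({z} : Set G)),
            (ψ : Subgroup.centralizer ({z} : Set G) → ℂ) c *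
              conj ((ψ : Subgroup.centralizer ({z} : Set G) → ℂ) y) :=
        Finset.sum_congr rfl fun ψ _ => mul_comm _ _
      show ∑ ζ : Cfsg.IrrCharacter G, conj ((ζ : G → ℂ) (z * (y : G))) *
          (ζ : G → ℂ) (z * (c : G)) -
          ∑ ψ : Cfsg.IrrCharacter (Subgroup.centralizer ({z} : Set G)),
          conj ((ψ : Subgroup.centralizer ({z} : Set G) → ℂ) y) *
            (ψ : Subgroup.centralizer ({z} : Set G) → ℂ) c = 0
      rw [e3, e4, irr_column_orthogonality, irr_column_orthogonality,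
        h7_card_centralizer_mul z hz y hy]
      by_cases hcon : IsConj y c
      · rw [if_pos hcon, if_pos ((h7_conj_section_iff z hz y c hy hc).mpr hcon), sub_self]
      · rw [if_neg hcon, if_neg (fun h => hcon ((h7_conj_section_iff z hz y c hy hc).mp h)),
          sub_self]
    obtain ⟨ξ₀, hξ₀⟩ := hb
    have e5 := h7_blockPart_vanish_pregular hM ξ₀ _ hdiff y hy
    rw [← hξ₀, h7_blockPart_sub, sub_eq_zero] at e5
    rw [e5]
    have e6 : Cfsg.blockPart b φ y = ∑ᶠ ψ ∈ b,
        conj ((ψ : Subgroup.centralizer ({z} : Set G) → ℂ) y) *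
          (ψ : Subgroup.centralizer ({z} : Set G) → ℂ) y := by
      unfold Cfsg.blockPart
      apply finsum_mem_congr rfl
      intro ψ _
      rw [hφ, h7_classInner_comb]
    rw [e6, sub_eq_zero]
    apply finsum_mem_congr rfl
    intro ψ hψ
    rw [hbp] at hψ
    rw [if_pos hψ, mul_comm]
  · have hnind : ¬ Cfsg.IsInducedBlock M (Subgroup.centralizer ({z} : Set G)) b
        (Cfsg.principalBlock M G) := fun hc => hbp ((h3 b hb).mp hc)
    have e2 : ∑ ζ : Cfsg.IrrCharacter G, aB ζ *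
        Cfsg.blockPart b (fun c : Subgroup.centralizer ({z} : Set G) =>
          (ζ : G → ℂ) (z * (c : G))) y = 0 := by
      apply Finset.sum_eq_zero
      intro ζ _
      by_cases hζ : ζ ∈ Cfsg.principalBlock M G
      · have e1 := h7_blockOf_eq_of_mem hPr (trivIrr G) ζ hζ
        rw [hBG, e1] at hnind
        rw [bp_vanish ζ b hb hnind y hy, mul_zero]
      · rw [haB]
        simp only [if_neg hζ, zero_mul]
    rw [e2, zero_sub, neg_eq_zero]
    apply finsum_mem_eq_zero_of_forall_eq_zero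
    intro ψ hψ
    rw [if_neg]
    intro hψ'
    apply hbp
    obtain ⟨ξ₀, rfl⟩ := hb
    rw [hBH] at hψ' ⊢
    rw [h7_blockOf_eq_of_mem hPr ξ₀ ψ hψ, h7_blockOf_eq_of_mem hPr _ ψ hψ']

end Cfsg.Agent.Lib.helper7
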