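import Mathlib
import Cfsg.Prelude.Def_Blocks
import Cfsg.Agent.Lib.helper7.SecondMain4
import Cfsg.Agent.Lib.Helper1.Fitting
import Cfsg.Agent.S0939

set_option autoImplicit false
set_option linter.style.haveILetI false
set_option linter.unusedSectionVars false
set_option linter.unusedVariables false

namespace Cfsg.Agent.Lib.helper7

open scoped ComplexConjugate
open Cfsg.Agent.Lib.Helper25

theorem h7_finsum_normsq {ι : Type*} [Finite ι] (s : Set ι) (f : ι → ℂ) :
    ((∑ᶠ i ∈ s, ‖f i‖ ^ 2 : ℝ) : ℂ) = ∑ᶠ i ∈ s, f i * conj (f i) := by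
  classical
  haveI : Fintype ι := Fintype.ofFinite ι
  rw [h7_finsum_mem_fintype, h7_finsum_mem_fintype, Complex.ofReal_sum]
  refine Finset.sum_congr rfl fun i _ => ?_
  split_ifs
  · rw [Complex.mul_conj, Complex.normSq_eq_norm_sq]
  · simp

theorem h7_pregular_mem_pPrimeCore {H : Type*} [Group H] [Finite H] (p : ℕ) [hp : Fact p.Prime]
    (hnc : ∃ k : ℕ, (Cfsg.pPrimeCore p H).index = p ^ k) (y : H) (hy : ¬ p ∣ orderOf y) :
    y ∈ Cfsg.pPrimeCore p H := by
  haveI : (Cfsg.pPrimeCore p H).Normal := Cfsg.Agent.Lib.Helper1.pPrimeCore_normal p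
  obtain ⟨k, hk⟩ := hnc
  have hPG : IsPGroup p (H ⧸ Cfsg.pPrimeCore p H) := by
    apply IsPGroup.of_card (n := k)
    rw [← Subgroup.index_eq_card, hk]
  rw [← QuotientGroup.eq_one_iff]
  by_contra hne
  have h1 := hPG.dvd_orderOf hne
  have h2 : orderOf ((y : H ⧸ Cfsg.pPrimeCore p H)) ∣ orderOf y :=
    orderOf_map_dvd (QuotientGroup.mk' (Cfsg.pPrimeCore p H)) y
  exact hy (h1.trans h2)

theorem h7_principal_sum_sq {H : Type*} [Group H] [Finite H] (p : ℕ) [hp : Fact p.Prime]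
    (M : Ideal Cfsg.AlgInt)
    (hpb : Cfsg.principalBlock M H = {χ : Cfsg.IrrCharacter H |
      ∀ n ∈ Cfsg.pPrimeCore p H, (χ : H → ℂ) n = (χ : H → ℂ) 1})
    (hnc : ∃ k : ℕ, (Cfsg.pPrimeCore p H).index = p ^ k) (y : H) (hy : ¬ p ∣ orderOf y) :
    ∑ᶠ χ ∈ Cfsg.principalBlock M H, (χ : H → ℂ) y * conj ((χ : H → ℂ) y) =
      ((p ^ (Nat.card H).factorization p : ℕ) : ℂ) := by
  classical
  letI : Fintype H := Fintype.ofFinite H
  haveI : Fintype (Cfsg.IrrCharacter H) := Fintype.ofFinite _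
  haveI hKn : (Cfsg.pPrimeCore p H).Normal := Cfsg.Agent.Lib.Helper1.pPrimeCore_normal p
  haveI : Fintype (Cfsg.pPrimeCore p H) := Fintype.ofFinite _
  have hcop : (Nat.card (Cfsg.pPrimeCore p H)).Coprime p :=
    Cfsg.Agent.Lib.Helper1.pPrimeCore_card_coprime p
  have hyK := h7_pregular_mem_pPrimeCore p hnc y hy
  have hK0 : (Nat.card (Cfsg.pPrimeCore p H) : ℂ) ≠ 0 := by exact_mod_cast Nat.card_pos.ne'
  have h1 : ∑ᶠ χ ∈ Cfsg.principalBlock M H, (χ : H → ℂ) y * conj ((χ : H → ℂ) y) =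
      ∑ χ : Cfsg.IrrCharacter H, (χ : H → ℂ) 1 *
        Cfsg.classInner (fun n : Cfsg.pPrimeCore p H => (χ : H → ℂ) n)
          (trivIrr (Cfsg.pPrimeCore p H) : Cfsg.pPrimeCore p H → ℂ) := by
    rw [h7_finsum_mem_fintype]
    refine Finset.sum_congr rfl fun χ _ => ?_
    by_cases hχ : χ ∈ Cfsg.principalBlock M H
    · rw [if_pos hχ]
      rw [hpb] at hχ
      have hχ' : ∀ n ∈ Cfsg.pPrimeCore p H, (χ : H → ℂ) n = (χ : H → ℂ) 1 := hχ
      rw [hχ' y hyK, h7_irr_conj_one]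
      congr 1
      unfold Cfsg.classInner
      have e1 : ∑ n : Cfsg.pPrimeCore p H, (χ : H → ℂ) n *
          conj ((trivIrr (Cfsg.pPrimeCore p H) : Cfsg.pPrimeCore p H → ℂ) n) =
          (Nat.card (Cfsg.pPrimeCore p H) : ℂ) * (χ : H → ℂ) 1 := by
        have : ∀ n : Cfsg.pPrimeCore p H, (χ : H → ℂ) n *
            conj ((trivIrr (Cfsg.pPrimeCore p H) : Cfsg.pPrimeCore p H → ℂ) n) =
            (χ : H → ℂ) 1 := by
          intro n
          rw [hχ' n n.2, trivIrr_apply, map_one, mul_one]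
        rw [Finset.sum_congr rfl (fun n _ => this n), Finset.sum_const, Finset.card_univ,
          nsmul_eq_mul, Nat.card_eq_fintype_card]
      rw [e1, ← mul_assoc, inv_mul_cancel₀ hK0, one_mul]
    · rw [if_neg hχ]
      have : ¬ (∀ n ∈ Cfsg.pPrimeCore p H, (χ : H → ℂ) n = (χ : H → ℂ) 1) := by
        intro hc
        apply hχ
        rw [hpb]
        exact hc
      rw [← Cfsg.Agent.S0939.triv_constituent_iff, not_not] at this
      rw [this, mul_zero]
  rw [h1]
  unfold Cfsg.classInner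
  have h2 : ∀ χ : Cfsg.IrrCharacter H, (χ : H → ℂ) 1 *
      ((Nat.card (Cfsg.pPrimeCore p H) : ℂ)⁻¹ * ∑ n : Cfsg.pPrimeCore p H, (χ : H → ℂ) n *
        conj ((trivIrr (Cfsg.pPrimeCore p H) : Cfsg.pPrimeCore p H → ℂ) n)) =
      (Nat.card (Cfsg.pPrimeCore p H) : ℂ)⁻¹ * ∑ n : Cfsg.pPrimeCore p H,
        (χ : H → ℂ) n * conj ((χ : H → ℂ) 1) := by
    intro χ
    rw [mul_left_comm, Finset.mul_sum]
    congr 1
    refine Finset.sum_congr rfl fun n _ => ?_
    rw [trivIrr_apply, map_one, mul_one, h7_irr_conj_one, mul_comm]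
  rw [Finset.sum_congr rfl (fun χ _ => h2 χ), ← Finset.mul_sum, Finset.sum_comm]
  have h3 : ∀ n : Cfsg.pPrimeCore p H, ∑ χ : Cfsg.IrrCharacter H,
      (χ : H → ℂ) n * conj ((χ : H → ℂ) 1) =
      if n = 1 then (Nat.card H : ℂ) else 0 := by
    intro n
    rw [irr_column_orthogonality]
    have hiff : IsConj (1 : H) (n : H) ↔ n = 1 := by
      rw [isConj_one_right]
      exact ⟨fun h => Subtype.ext h, fun h => by rw [h]; rfl⟩
    have hcard : Nat.card (Subgroup.centralizer ({(1 : H)} : Set H)) = Nat.card H := by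
      have : Subgroup.centralizer ({(1 : H)} : Set H) = ⊤ := by
        ext g
        simp [Subgroup.mem_centralizer_singleton_iff]
      rw [this, Subgroup.card_top]
    by_cases hn : n = 1
    · rw [if_pos hn, if_pos (hiff.mpr hn), hcard]
    · rw [if_neg hn, if_neg (fun h => hn (hiff.mp h))]
  rw [Finset.sum_congr rfl (fun n _ => h3 n), Finset.sum_ite_eq']
  simp only [Finset.mem_univ, if_true]
  obtain ⟨k, hk⟩ := hnc
  have hidx : Nat.card H = Nat.card (Cfsg.pPrimeCore p H) * p ^ k := by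
    rw [← hk, mul_comm]
    exact (Subgroup.index_mul_card _).symm
  have hfac : (Nat.card H).factorization p = k := by
    rw [hidx, Nat.factorization_mul Nat.card_pos.ne' (pow_ne_zero _ hp.out.ne_zero)]
    simp only [Finsupp.coe_add, Pi.add_apply]
    rw [Nat.factorization_eq_zero_of_not_dvd
      ((Nat.Prime.coprime_iff_not_dvd hp.out).mp hcop.symm), zero_add,
      Nat.Prime.factorization_pow hp.out]
    simp
  rw [hfac, hidx]
  push_cast
  field_simp

end Cfsg.Agent.Lib.helper7
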