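import Mathlib
import Cfsg.Prelude.Def_Blocks
import Cfsg.Agent.Lib.helper7.SecondMain5
import Cfsg.Agent.Lib.helper7.CharCentral
import Cfsg.Agent.S0919
import Cfsg.Agent.S0923
import Cfsg.Agent.S0936

set_option autoImplicit false
set_option linter.style.haveILetI false
set_option linter.unusedSectionVars false
set_option linter.unusedVariables false

namespace Cfsg.Agent.Lib.helper7

open scoped ComplexConjugate
open Cfsg.Agent.Lib.Helper25

/-- Shifting by a central element scales the inner product with an irreducible character. -/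
theorem h7_classInner_shift_central {K : Type*} [Group K] [Fintype K] (z : K)
    (hz : z ∈ Subgroup.center K) (f : K → ℂ) (ψ : Cfsg.IrrCharacter K) :
    Cfsg.classInner (fun c : K => f (z * c)) (ψ : K → ℂ) * (ψ : K → ℂ) 1 =
      Cfsg.classInner f (ψ : K → ℂ) * (ψ : K → ℂ) z := by
  classical
  obtain ⟨c', hc'⟩ := h7_central_char ψ.2 z⁻¹ (Subgroup.inv_mem _ hz)
  have h1 : (ψ : K → ℂ) z⁻¹ = c' * (ψ : K → ℂ) 1 := by
    have := hc' 1
    rwa [mul_one] at this
  have h2 : (ψ : K → ℂ) z = conj c' * (ψ : K → ℂ) 1 := by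
    have e1 : (ψ : K → ℂ) z = conj ((ψ : K → ℂ) z⁻¹) := by
      rw [irr_inv, Complex.conj_conj]
    rw [e1, h1, map_mul]
    obtain ⟨n, _, hn⟩ := irr_one_eq_finrank ψ
    rw [hn, Complex.conj_natCast]
  have h3 : Cfsg.classInner (fun c : K => f (z * c)) (ψ : K → ℂ) =
      conj c' * Cfsg.classInner f (ψ : K → ℂ) := by
    unfold Cfsg.classInner
    have e1 : ∑ g : K, f (z * g) * conj ((ψ : K → ℂ) g) =
        ∑ g : K, f g * conj ((ψ : K → ℂ) (z⁻¹ * g)) := by
      apply Fintype.sum_equiv (Equiv.mulLeft z)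
      intro g
      simp [Equiv.coe_mulLeft]
    rw [e1]
    have e2 : ∀ g : K, f g * conj ((ψ : K → ℂ) (z⁻¹ * g)) =
        conj c' * (f g * conj ((ψ : K → ℂ) g)) := by
      intro g
      rw [hc' g, map_mul]
      ring
    simp only [e2]
    rw [← Finset.mul_sum]
    ring
  rw [h3, h2]
  ring

/-- (A1) Second-main-theorem evaluation of a principal-block character at a `p`-element. -/
theorem h7_second_main_eval {G : Type*} [Group G] [Finite G] (p : ℕ) [hp : Fact p.Prime]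
    (M : Ideal Cfsg.AlgInt) (hM : Cfsg.IsPModular p M) (z : G)
    (hz : ∃ k : ℕ, orderOf z = p ^ k) [inst : Fintype (Subgroup.centralizer ({z} : Set G))]
    (ζ : Cfsg.IrrCharacter G) (hζ : ζ ∈ Cfsg.principalBlock M G) :
    (ζ : G → ℂ) z = ∑ᶠ χ ∈ Cfsg.principalBlock M (Subgroup.centralizer ({z} : Set G)),
      Cfsg.classInner (fun c : Subgroup.centralizer ({z} : Set G) => (ζ : G → ℂ) (c : G))
        (χ : Subgroup.centralizer ({z} : Set G) → ℂ) *
      (χ : Subgroup.centralizer ({z} : Set G) → ℂ)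
        ⟨z, Subgroup.mem_centralizer_singleton_iff.mpr rfl⟩ := by
  classical
  have hinst : inst = Fintype.ofFinite _ := Subsingleton.elim _ _
  subst hinst
  letI : Fintype G := Fintype.ofFinite G
  haveI : Fintype (Cfsg.IrrCharacter G) := Fintype.ofFinite _
  letI : Fintype (Subgroup.centralizer ({z} : Set G)) := Fintype.ofFinite _
  haveI : Fintype (Cfsg.IrrCharacter (Subgroup.centralizer ({z} : Set G))) := Fintype.ofFinite _
  have hPr := hM.2.1.isPrime
  obtain ⟨hP, hPC, hCC, hCN⟩ := h7_centralizer_brauer_hyps p z hz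
  have h3 : ∀ b : Set (Cfsg.IrrCharacter (Subgroup.centralizer ({z} : Set G))),
      Cfsg.IsPBlock M b →
      (Cfsg.IsInducedBlock M (Subgroup.centralizer ({z} : Set G)) b (Cfsg.principalBlock M G) ↔
        b = Cfsg.principalBlock M (Subgroup.centralizer ({z} : Set G))) :=
    fun b hb => Cfsg.Agent.S0936.result p M hM (Subgroup.centralizer ({z} : Set G)) b
      (Cfsg.Agent.S0919.result p M hM (Subgroup.zpowers z)
        (Subgroup.centralizer ({z} : Set G)) hP hPC hCC hCN b hb)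
  have hBG : Cfsg.principalBlock M G =
      Cfsg.blockOf M ((trivIrr G : Cfsg.IrrCharacter G) : G → ℂ) := rfl
  have hBH : Cfsg.principalBlock M (Subgroup.centralizer ({z} : Set G)) =
      Cfsg.blockOf M ((trivIrr (Subgroup.centralizer ({z} : Set G)) :
        Cfsg.IrrCharacter (Subgroup.centralizer ({z} : Set G))) :
          Subgroup.centralizer ({z} : Set G) → ℂ) := rfl
  have hζB : Cfsg.blockOf M (ζ : G → ℂ) = Cfsg.principalBlock M G := by
    rw [hBG]
    exact (h7_blockOf_eq_of_mem hPr (trivIrr G) ζ hζ).symm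
  set zC : Subgroup.centralizer ({z} : Set G) :=
    ⟨z, Subgroup.mem_centralizer_singleton_iff.mpr rfl⟩ with hzC
  have hzcen : zC ∈ Subgroup.center (Subgroup.centralizer ({z} : Set G)) := by
    rw [Subgroup.mem_center_iff]
    intro g
    apply Subtype.ext
    simp only [Subgroup.coe_mul, hzC]
    exact Subgroup.mem_centralizer_singleton_iff.mp g.2
  obtain ⟨Θ, hΘ⟩ : ∃ Θ : Subgroup.centralizer ({z} : Set G) → ℂ,
      Θ = fun c : Subgroup.centralizer ({z} : Set G) => (ζ : G → ℂ) (z * (c : G)) := ⟨_, rfl⟩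
  have hΘcl : ∀ g h : Subgroup.centralizer ({z} : Set G), Θ (h * g * h⁻¹) = Θ g := by
    intro g h
    rw [hΘ]
    exact h7_shift_class z _ (fun g h => irr_conj_invariant ζ g h) g h
  have hexpC := classFunction_expansion Θ hΘcl
  have h1 : (ζ : G → ℂ) z =
      ∑ ψ : Cfsg.IrrCharacter (Subgroup.centralizer ({z} : Set G)),
        Cfsg.classInner Θ (ψ : Subgroup.centralizer ({z} : Set G) → ℂ) *
          (ψ : Subgroup.centralizer ({z} : Set G) → ℂ) 1 := by
    have h0 : (ζ : G → ℂ) z = Θ 1 := by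
      rw [hΘ]
      simp
    rw [h0]
    conv_lhs => rw [hexpC]
    rw [Finset.sum_apply]
    refine Finset.sum_congr rfl fun ψ _ => ?_
    simp only [Pi.smul_apply, smul_eq_mul]
  have hkey : ∀ ψ : Cfsg.IrrCharacter (Subgroup.centralizer ({z} : Set G)),
      Cfsg.classInner Θ (ψ : Subgroup.centralizer ({z} : Set G) → ℂ) *
          (ψ : Subgroup.centralizer ({z} : Set G) → ℂ) 1 =
      Cfsg.classInner (fun c : Subgroup.centralizer ({z} : Set G) => (ζ : G → ℂ) (c : G))
        (ψ : Subgroup.centralizer ({z} : Set G) → ℂ) *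
      (ψ : Subgroup.centralizer ({z} : Set G) → ℂ) zC := by
    intro ψ
    have := h7_classInner_shift_central zC hzcen
      (fun c : Subgroup.centralizer ({z} : Set G) => (ζ : G → ℂ) (c : G)) ψ
    rw [← this, hΘ]
    rfl
  rw [h1, h7_finsum_mem_fintype, ← sub_eq_zero, ← Finset.sum_sub_distrib]
  apply h7_sum_eq_zero_of_blocks hPr
  intro b hb
  rw [finsum_mem_sub_distrib _ _ (Set.toFinite b)]
  by_cases hbp : b = Cfsg.principalBlock M (Subgroup.centralizer ({z} : Set G))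
  · rw [sub_eq_zero]
    apply finsum_mem_congr rfl
    intro ψ hψ
    rw [hbp] at hψ
    rw [if_pos hψ, hkey ψ]
  · have hnind : ¬ Cfsg.IsInducedBlock M (Subgroup.centralizer ({z} : Set G)) b
        (Cfsg.blockOf M (ζ : G → ℂ)) := by
      rw [hζB]
      exact fun hc => hbp ((h3 b hb).mp hc)
    have h2 : ∑ᶠ ψ ∈ b, Cfsg.classInner Θ (ψ : Subgroup.centralizer ({z} : Set G) → ℂ) *
        (ψ : Subgroup.centralizer ({z} : Set G) → ℂ) 1 = Cfsg.blockPart b Θ 1 := by
      unfold Cfsg.blockPart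
      rfl
    have h4 : Cfsg.blockPart b Θ 1 = 0 := by
      rw [hΘ]
      apply Cfsg.Agent.S0923.result p M hM z hz (Cfsg.blockOf M (ζ : G → ℂ)) ⟨ζ, rfl⟩ ζ
        (h7_sameBlock_refl hPr _) b hb hnind 1
      rw [orderOf_one]
      exact hp.out.one_lt.ne' ∘ Nat.dvd_one.mp
    rw [h2, h4, zero_sub, neg_eq_zero]
    apply finsum_mem_eq_zero_of_forall_eq_zero
    intro ψ hψ
    rw [if_neg]
    intro hψ'
    apply hbp
    obtain ⟨ξ₀, rfl⟩ := hb
    rw [hBH] at hψ' ⊢
    rw [h7_blockOf_eq_of_mem hPr ξ₀ ψ hψ, h7_blockOf_eq_of_mem hPr _ ψ hψ']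

/-- If a complex combination of irreducible characters vanishes at all `p`-regular elements,
then so does each of its block components. -/
theorem h7_block_comb_vanish {G : Type*} [Group G] [Fintype G] [Fintype (Cfsg.IrrCharacter G)]
    {p : ℕ} [hp : Fact p.Prime] {M : Ideal Cfsg.AlgInt} (hM : Cfsg.IsPModular p M)
    (a : Cfsg.IrrCharacter G → ℂ)
    (hT : ∀ c : G, ¬ p ∣ orderOf c → ∑ ψ : Cfsg.IrrCharacter G, a ψ * (ψ : G → ℂ) c = 0)
    (ξ₀ : Cfsg.IrrCharacter G) [DecidablePred (· ∈ Cfsg.blockOf M (ξ₀ : G → ℂ))]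
    (y : G) (hy : ¬ p ∣ orderOf y) :
    ∑ χ : Cfsg.IrrCharacter G,
      (if χ ∈ Cfsg.blockOf M (ξ₀ : G → ℂ) then a χ * (χ : G → ℂ) y else 0) = 0 := by
  classical
  have h1 := h7_blockPart_vanish_pregular hM ξ₀
    (fun g : G => ∑ ψ : Cfsg.IrrCharacter G, a ψ * (ψ : G → ℂ) g) hT y hy
  unfold Cfsg.blockPart at h1
  have h2 : (∑ᶠ χ ∈ Cfsg.blockOf M (ξ₀ : G → ℂ),
      @Cfsg.classInner G _ (Fintype.ofFinite G)
        (fun g : G => ∑ ψ : Cfsg.IrrCharacter G, a ψ * (ψ : G → ℂ) g) (χ : G → ℂ) *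
        (χ : G → ℂ) y) = ∑ᶠ χ ∈ Cfsg.blockOf M (ξ₀ : G → ℂ), a χ * (χ : G → ℂ) y := by
    apply finsum_mem_congr rfl
    intro χ _
    have e : (Fintype.ofFinite G) = (inferInstance : Fintype G) := Subsingleton.elim _ _
    rw [e, h7_classInner_comb]
  rw [h2, h7_finsum_mem_fintype] at h1
  convert h1 using 2

/-- (A2), general prime: if `1 + P - Q` vanishes at all `p`-regular elements and
`Q 1 = P 1 + 1`, then `P` and `Q` lie in the principal block. -/
theorem h7_principal_of_pregular_vanish {G : Type*} [Group G] [Finite G] (p : ℕ)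
    [hp : Fact p.Prime] (M : Ideal Cfsg.AlgInt) (hM : Cfsg.IsPModular p M)
    (P Q : Cfsg.IrrCharacter G)
    (hT : ∀ y : G, ¬ p ∣ orderOf y → 1 + (P : G → ℂ) y - (Q : G → ℂ) y = 0)
    (hdeg : (Q : G → ℂ) 1 = (P : G → ℂ) 1 + 1) :
    P ∈ Cfsg.principalBlock M G ∧ Q ∈ Cfsg.principalBlock M G := by
  classical
  letI : Fintype G := Fintype.ofFinite G
  haveI : Fintype (Cfsg.IrrCharacter G) := Fintype.ofFinite _
  have hPr := hM.2.1.isPrime
  have hBG : Cfsg.principalBlock M G =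
      Cfsg.blockOf M ((trivIrr G : Cfsg.IrrCharacter G) : G → ℂ) := rfl
  have h1ny : ¬ p ∣ orderOf (1 : G) := by
    rw [orderOf_one]
    exact hp.out.one_lt.ne' ∘ Nat.dvd_one.mp
  obtain ⟨a, ha⟩ : ∃ a : Cfsg.IrrCharacter G → ℂ, a = fun χ =>
      (if χ = trivIrr G then 1 else 0) + (if χ = P then 1 else 0) - (if χ = Q then 1 else 0) :=
    ⟨_, rfl⟩
  have hsum : ∀ (F : Cfsg.IrrCharacter G → ℂ),
      ∑ ψ : Cfsg.IrrCharacter G, a ψ * F ψ = F (trivIrr G) + F P - F Q := by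
    intro F
    rw [ha]
    simp only [add_mul, sub_mul, ite_mul, one_mul, zero_mul, Finset.sum_add_distrib,
      Finset.sum_sub_distrib, Finset.sum_ite_eq', Finset.mem_univ, if_true]
  have hTa : ∀ c : G, ¬ p ∣ orderOf c →
      ∑ ψ : Cfsg.IrrCharacter G, a ψ * (ψ : G → ℂ) c = 0 := by
    intro c hc
    rw [hsum (fun ψ => (ψ : G → ℂ) c), trivIrr_apply]
    exact hT c hc
  have hblock : ∀ ξ₀ : Cfsg.IrrCharacter G,
      (if trivIrr G ∈ Cfsg.blockOf M (ξ₀ : G → ℂ) then (1 : ℂ) else 0) +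
      (if P ∈ Cfsg.blockOf M (ξ₀ : G → ℂ) then (P : G → ℂ) 1 else 0) -
      (if Q ∈ Cfsg.blockOf M (ξ₀ : G → ℂ) then (Q : G → ℂ) 1 else 0) = 0 := by
    intro ξ₀
    have h := h7_block_comb_vanish hM a hTa ξ₀ 1 h1ny
    have e : ∀ χ : Cfsg.IrrCharacter G,
        (if χ ∈ Cfsg.blockOf M (ξ₀ : G → ℂ) then a χ * (χ : G → ℂ) 1 else 0) =
        a χ * (if χ ∈ Cfsg.blockOf M (ξ₀ : G → ℂ) then (χ : G → ℂ) 1 else 0) := by
      intro χ
      split_ifs <;> simp
    simp only [e] at h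
    rw [hsum (fun χ => if χ ∈ Cfsg.blockOf M (ξ₀ : G → ℂ) then (χ : G → ℂ) 1 else 0)] at h
    simpa using h
  obtain ⟨nP, hnP, hP1⟩ := irr_one_eq_finrank P
  obtain ⟨nQ, hnQ, hQ1⟩ := irr_one_eq_finrank Q
  have hPmem : P ∈ Cfsg.principalBlock M G := by
    by_contra hPn
    have h := hblock P
    have h1 : trivIrr G ∉ Cfsg.blockOf M (P : G → ℂ) := by
      intro hc
      apply hPn
      rw [hBG, ← h7_blockOf_eq_of_mem hPr P (trivIrr G) hc]
      exact h7_sameBlock_refl hPr _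
    have hPP : P ∈ Cfsg.blockOf M (P : G → ℂ) := h7_sameBlock_refl hPr _
    rw [if_neg h1, if_pos hPP] at h
    by_cases hQ : Q ∈ Cfsg.blockOf M (P : G → ℂ)
    · rw [if_pos hQ, hdeg] at h
      norm_num at h
    · rw [if_neg hQ, hP1] at h
      simp at h
      omega
  refine ⟨hPmem, ?_⟩
  by_contra hQn
  have h := hblock (trivIrr G)
  have h11 : trivIrr G ∈ Cfsg.principalBlock M G := by
    rw [hBG]
    exact h7_sameBlock_refl hPr _
  rw [← hBG, if_pos h11, if_pos hPmem, if_neg hQn, hP1] at h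
  have : ((1 + nP : ℕ) : ℂ) = 0 := by
    push_cast
    linear_combination h
  rw [Nat.cast_eq_zero] at this
  omega

/-- (A2) for `p = 2`, in the `Odd (orderOf y)` form. -/
theorem h7_principal_of_odd_vanish {G : Type*} [Group G] [Finite G]
    (M : Ideal Cfsg.AlgInt) (hM : Cfsg.IsPModular 2 M) (P Q : Cfsg.IrrCharacter G)
    (hT : ∀ y : G, Odd (orderOf y) → 1 + (P : G → ℂ) y - (Q : G → ℂ) y = 0)
    (hdeg : (Q : G → ℂ) 1 = (P : G → ℂ) 1 + 1) :
    P ∈ Cfsg.principalBlock M G ∧ Q ∈ Cfsg.principalBlock M G := by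
  haveI : Fact (Nat.Prime 2) := ⟨Nat.prime_two⟩
  apply h7_principal_of_pregular_vanish 2 M hM P Q _ hdeg
  intro y hy
  apply hT
  rwa [← Nat.not_even_iff_odd, even_iff_two_dvd]

end Cfsg.Agent.Lib.helper7
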