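import Mathlib
import Cfsg.Prelude.Def_Blocks
import Cfsg.Agent.Lib.helper7.Q8SecondMain
import Cfsg.Agent.S0925
import Cfsg.Agent.S0941
import Cfsg.Agent.Lib.Helper24.QuotDefect2

set_option autoImplicit false
set_option linter.style.haveILetI false
set_option linter.unusedSectionVars false
set_option linter.unusedVariables false

namespace Cfsg.Agent.Lib.helper7

open scoped ComplexConjugate
open Cfsg.Agent.Lib.Helper25

/-- Existence of the `p`-part in the `Cfsg.IsPPart` form. -/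
theorem h7_exists_isPPart {G : Type*} [Group G] [Finite G] (p : ℕ) [hp : Fact p.Prime] (u : G) :
    ∃ z : G, Cfsg.IsPPart p u z := by
  obtain ⟨r, z, hrz, hcomm, hr, hz, -, -⟩ := Cfsg.Agent.Lib.helper2.pp_exists p hp.out u
  exact ⟨z, r, by rw [← hcomm.eq]; exact hrz, hcomm.symm, hz, hr⟩

/-- An element with nontrivial `p`-part has order divisible by `p`. -/
theorem h7_isPPart_dvd_orderOf {G : Type*} [Group G] [Finite G] (p : ℕ) [hp : Fact p.Prime]
    (u z : G) (h : Cfsg.IsPPart p u z) (hz : z ≠ 1) : p ∣ orderOf u := by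
  obtain ⟨y, hzy, hc, ⟨k, hk⟩, hy⟩ := h
  have hcop : (orderOf z).Coprime (orderOf y) := by
    rw [hk]
    exact Nat.Coprime.pow_left k ((Nat.Prime.coprime_iff_not_dvd hp.out).mpr hy)
  rw [← hzy, hc.orderOf_mul_eq_mul_orderOf_of_coprime hcop, hk]
  have hk0 : k ≠ 0 := by
    rintro rfl
    rw [pow_zero, orderOf_eq_one_iff] at hk
    exact hz hk
  exact Dvd.dvd.mul_right (dvd_pow_self p hk0) _

/-- A `p`-regular element has trivial `p`-part. -/
theorem h7_isPPart_eq_one {G : Type*} [Group G] [Finite G] (p : ℕ) [hp : Fact p.Prime]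
    (u z : G) (h : Cfsg.IsPPart p u z) (hu : ¬ p ∣ orderOf u) : z = 1 := by
  by_contra hz
  exact hu (h7_isPPart_dvd_orderOf p u z h hz)

/-- If the `B`-part of `f` vanishes identically then `f` is orthogonal to every member of `B`. -/
theorem h7_classInner_eq_zero_of_blockPart {G : Type*} [Group G] [Fintype G]
    (B : Set (Cfsg.IrrCharacter G)) (f : G → ℂ) (h : ∀ u : G, Cfsg.blockPart B f u = 0)
    (χ : Cfsg.IrrCharacter G) (hχ : χ ∈ B) : Cfsg.classInner f (χ : G → ℂ) = 0 := by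
  classical
  haveI : Fintype (Cfsg.IrrCharacter G) := Fintype.ofFinite _
  have e : (Fintype.ofFinite G) = (inferInstance : Fintype G) := Subsingleton.elim _ _
  have h1 := h7_classInner_comb
    (fun ψ : Cfsg.IrrCharacter G => if ψ ∈ B then Cfsg.classInner f (ψ : G → ℂ) else 0) χ
  rw [if_pos hχ] at h1
  rw [← h1]
  have h2 : (fun g : G => ∑ ψ : Cfsg.IrrCharacter G,
      (if ψ ∈ B then Cfsg.classInner f (ψ : G → ℂ) else 0) * (ψ : G → ℂ) g) = fun _ => 0 := by
    funext g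
    have := h g
    rw [h7_blockPart_sum_form, e] at this
    exact this
  rw [h2]
  unfold Cfsg.classInner
  simp

/-- (L1) If a class function `ϑ` lies in the span of the block `B`, then so does its
restriction to the `p`-regular elements. -/
theorem h7_pregular_part_in_block {G : Type*} [Group G] [Fintype G] (p : ℕ) [hp : Fact p.Prime]
    (M : Ideal Cfsg.AlgInt) (hM : Cfsg.IsPModular p M) (B : Set (Cfsg.IrrCharacter G))
    (hB : Cfsg.IsPBlock M B) (ϑ : G → ℂ) (hϑcl : ∀ g h : G, ϑ (h * g * h⁻¹) = ϑ g)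
    (hϑ : ∀ χ : Cfsg.IrrCharacter G, χ ∉ B → Cfsg.classInner ϑ (χ : G → ℂ) = 0)
    (χ : Cfsg.IrrCharacter G) (hχ : χ ∉ B) :
    Cfsg.classInner (fun g : G => if p ∣ orderOf g then 0 else ϑ g) (χ : G → ℂ) = 0 := by
  classical
  haveI : Fintype (Cfsg.IrrCharacter G) := Fintype.ofFinite _
  have hPr := hM.2.1.isPrime
  have e : (Fintype.ofFinite G) = (inferInstance : Fintype G) := Subsingleton.elim _ _
  obtain ⟨f, hf⟩ : ∃ f : G → ℂ, f = fun g : G => if p ∣ orderOf g then 0 else ϑ g := ⟨_, rfl⟩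
  rw [← hf]
  have hfcl : ∀ g h : G, f (h * g * h⁻¹) = f g := by
    intro g h
    rw [hf]
    simp only [h7_orderOf_conj, hϑcl]
  have hχχ : χ ∈ Cfsg.blockOf M (χ : G → ℂ) := h7_sameBlock_refl hPr _
  have hdisj : ∀ ψ : Cfsg.IrrCharacter G, ψ ∈ Cfsg.blockOf M (χ : G → ℂ) → ψ ∉ B := by
    intro ψ hψ hψB
    apply hχ
    obtain ⟨ξ, rfl⟩ := hB
    rw [h7_blockOf_eq_of_mem hPr ξ ψ hψB, ← h7_blockOf_eq_of_mem hPr χ ψ hψ]
    exact hχχ
  apply h7_classInner_eq_zero_of_blockPart (Cfsg.blockOf M (χ : G → ℂ)) f _ χ hχχ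
  intro u
  obtain ⟨z, hz⟩ := h7_exists_isPPart p u
  by_cases hz1 : z = 1
  · -- `u` is `p`-regular
    have hu : ¬ p ∣ orderOf u := by
      obtain ⟨y, hzy, hc, _, hy⟩ := hz
      rw [hz1, one_mul] at hzy
      rwa [← hzy]
    have h1 : Cfsg.blockPart (Cfsg.blockOf M (χ : G → ℂ)) ϑ u = 0 := by
      rw [h7_blockPart_sum_form]
      apply Finset.sum_eq_zero
      intro ψ _
      by_cases hψ : ψ ∈ Cfsg.blockOf M (χ : G → ℂ)
      · rw [if_pos hψ, e, hϑ ψ (hdisj ψ hψ), zero_mul]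
      · rw [if_neg hψ, zero_mul]
    have h2 := h7_blockPart_vanish_pregular hM χ (ϑ - f) (by
      intro c hc
      rw [Pi.sub_apply, hf]
      simp only [if_neg hc, sub_self]) u hu
    rw [h7_blockPart_sub, h1, zero_sub, neg_eq_zero] at h2
    exact h2
  · have hzp : ∃ k : ℕ, orderOf z = p ^ k := hz.choose_spec.2.2.1
    refine (Cfsg.Agent.S0925.result p M hM).1 f hfcl z hzp ?_ _ ⟨χ, rfl⟩ u z hz (IsConj.refl z)
    intro u' z' hu' hconj
    have hz'1 : z' ≠ 1 := by
      rintro rfl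
      exact hz1 (isConj_one_left.mp hconj)
    rw [hf]
    simp only [if_pos (h7_isPPart_dvd_orderOf p u' z' hu' hz'1)]

/-- (L2) A central involution acts on an irreducible character by a sign. -/
theorem h7_central_invol_sign {K : Type*} [Group K] (χ : Cfsg.IrrCharacter K) (z : K)
    (hz : z ∈ Subgroup.center K) (hzz : z * z = 1) :
    ∃ c : ℂ, (c = 1 ∨ c = -1) ∧ ∀ x : K, (χ : K → ℂ) (z * x) = c * (χ : K → ℂ) x := by
  obtain ⟨c, hc⟩ := h7_central_char χ.2 z hz
  refine ⟨c, ?_, hc⟩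
  have h1 : (χ : K → ℂ) 1 = c * c * (χ : K → ℂ) 1 := by
    have := hc (z * 1)
    rw [hc 1, ← mul_assoc, hzz, one_mul, ← mul_assoc] at this
    exact this
  have h2 : c * c = 1 := by
    have h3 : (c * c - 1) * (χ : K → ℂ) 1 = 0 := by
      rw [sub_mul, one_mul, ← h1, sub_self]
    rcases mul_eq_zero.mp h3 with h | h
    · exact sub_eq_zero.mp h
    · exact absurd h (irr_one_ne_zero χ)
  have h4 : (c - 1) * (c + 1) = 0 := by
    linear_combination h2
  rcases mul_eq_zero.mp h4 with h | h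
  · exact Or.inl (sub_eq_zero.mp h)
  · exact Or.inr (eq_neg_of_add_eq_zero_left h)

/-- (L3) Principal block and inflation from `K ⧸ P`, for a normal `p`-subgroup `P` whose
centralizer has `p`-power index. -/
theorem h7_principal_inflation {K : Type*} [Group K] [Finite K] (p : ℕ) [hp : Fact p.Prime]
    (M : Ideal Cfsg.AlgInt) (hM : Cfsg.IsPModular p M) (P : Subgroup K) [hPn : P.Normal]
    (hP : IsPGroup p P) (hC : ∃ k : ℕ, (Subgroup.centralizer (P : Set K)).index = p ^ k) :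
    (∀ χ' : Cfsg.IrrCharacter (K ⧸ P), χ' ∈ Cfsg.principalBlock M (K ⧸ P) ↔
      Cfsg.Agent.Lib.Helper24.qh_infl P χ' ∈ Cfsg.principalBlock M K) ∧
    (∀ χ : Cfsg.IrrCharacter K, χ ∈ Cfsg.principalBlock M K →
      (∀ n ∈ P, (χ : K → ℂ) n = (χ : K → ℂ) 1) →
      ∃ χ' : Cfsg.IrrCharacter (K ⧸ P), χ' ∈ Cfsg.principalBlock M (K ⧸ P) ∧
        Cfsg.Agent.Lib.Helper24.qh_infl P χ' = χ) := by
  have h941 := (Cfsg.Agent.S0941.result p M hM P hP hC).1
  have key : ∀ χ' : Cfsg.IrrCharacter (K ⧸ P), χ' ∈ Cfsg.principalBlock M (K ⧸ P) ↔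
      Cfsg.Agent.Lib.Helper24.qh_infl P χ' ∈ Cfsg.principalBlock M K := by
    intro χ'
    have h := h941 (trivIrr (K ⧸ P)) χ'
    exact h
  refine ⟨key, ?_⟩
  intro χ hχ hker
  obtain ⟨χ', hχ'⟩ := h7_deflate P χ hker
  have hinf : Cfsg.Agent.Lib.Helper24.qh_infl P χ' = χ := by
    apply Subtype.ext
    funext g
    rw [Cfsg.Agent.Lib.Helper24.qh_infl_apply]
    exact hχ' g
  refine ⟨χ', ?_, hinf⟩
  rw [key, hinf]
  exact hχ

end Cfsg.Agent.Lib.helper7
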