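import Mathlib
import Cfsg.Prelude.Def_Characters
import Cfsg.Agent.Lib.helper7.Induction
import Cfsg.Agent.Lib.Helper11.VirtChar
import Cfsg.Agent.Lib.Helper11.Coherence
import Cfsg.Agent.Lib.Helper25.CharLinear
import Cfsg.Agent.Lib.Helper25.CharQuot
import Cfsg.Agent.S0148

set_option autoImplicit false
open scoped ComplexConjugate

namespace Cfsg.Agent.Lib.helper7

section TI
variable {G : Type*} [Group G]

theorem h7_ti_indFun_apply [Fintype G] (H : Subgroup G) (X : Set G)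
    (hTI : ∀ g : G, g ∉ H → ∀ s ∈ X, g * s * g⁻¹ ∉ X)
    (φ : H → ℂ) (hφ : Cfsg.IsClassFunction H φ) (hφX : ∀ x : H, (x : G) ∉ X → φ x = 0)
    (t : H) (ht : (t : G) ∈ X) : Cfsg.indFun H φ (t : G) = φ t := by
  classical
  unfold Cfsg.indFun
  have hNne : (Nat.card H : ℂ) ≠ 0 := by exact_mod_cast (Nat.card_pos (α := H)).ne'
  have hext : ∀ x : G, Cfsg.extendByZero H φ (x⁻¹ * (t : G) * x) = if x ∈ H then φ t else 0 := by
    intro x
    by_cases hx : x ∈ H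
    · rw [if_pos hx]
      have hmem : x⁻¹ * (t : G) * x ∈ H := H.mul_mem (H.mul_mem (H.inv_mem hx) t.2) hx
      rw [h7_extendByZero_mem _ _ _ hmem]
      have := hφ t (⟨x, hx⟩⁻¹)
      rw [← this]
      congr 1
      apply Subtype.ext
      simp
    · rw [if_neg hx]
      have hx' : x⁻¹ ∉ H := fun h => hx (by simpa using H.inv_mem h)
      have hnT : x⁻¹ * (t : G) * x ∉ X := by
        intro h
        apply hTI x⁻¹ hx' t ht
        simpa using h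
      by_cases hmem : x⁻¹ * (t : G) * x ∈ H
      · rw [h7_extendByZero_mem _ _ _ hmem]
        exact hφX _ hnT
      · exact h7_extendByZero_not_mem _ _ _ hmem
  simp_rw [hext]
  haveI : Fintype H := Fintype.ofFinite H
  rw [h7_sum_subgroup H (fun _ => φ t), Finset.sum_const, Finset.card_univ, nsmul_eq_mul,
    ← Nat.card_eq_fintype_card, ← mul_assoc, inv_mul_cancel₀ hNne, one_mul]

theorem h7_ti_isometry [Fintype G] (H : Subgroup G) [Fintype H] (X : Set G)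
    (hTI : ∀ g : G, g ∉ H → ∀ s ∈ X, g * s * g⁻¹ ∉ X)
    (ψ θ : H → ℂ) (hθ : Cfsg.IsClassFunction H θ)
    (hψX : ∀ x : H, (x : G) ∉ X → ψ x = 0) (hθX : ∀ x : H, (x : G) ∉ X → θ x = 0) :
    Cfsg.classInner (Cfsg.indFun H ψ) (Cfsg.indFun H θ) = Cfsg.classInner ψ θ := by
  classical
  rw [h7_frobenius_reciprocity H ψ _ (h7_indFun_isClassFunction _ θ)]
  unfold Cfsg.classInner
  congr 1
  refine Finset.sum_congr rfl fun n _ => ?_
  by_cases hn : (n : G) ∈ X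
  · show ψ n * conj (Cfsg.indFun H θ (n : G)) = _
    rw [h7_ti_indFun_apply H X hTI θ hθ hθX n hn]
  · rw [hψX n hn, zero_mul, zero_mul]

theorem h7_ti_indFun_support [Fintype G] (H : Subgroup G) (X : Set G)
    (φ : H → ℂ) (hφX : ∀ x : H, (x : G) ∉ X → φ x = 0) (g : G)
    (hg : Cfsg.indFun H φ g ≠ 0) : ∃ x : G, x⁻¹ * g * x ∈ X := by
  classical
  by_contra hcon
  push Not at hcon
  apply hg
  unfold Cfsg.indFun
  rw [Finset.sum_eq_zero, mul_zero]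
  intro x _
  by_cases hmem : x⁻¹ * g * x ∈ H
  · rw [h7_extendByZero_mem _ _ _ hmem]
    exact hφX _ (hcon x)
  · exact h7_extendByZero_not_mem _ _ _ hmem

end TI

section Theta
variable {G : Type*} [Group G]

noncomputable def h7_bsVal (u : ℂˣ) : ℂ := 2 - (u : ℂ) - ((u⁻¹ : ℂˣ) : ℂ)

theorem h7_bsVal_inv (u : ℂˣ) : h7_bsVal u⁻¹ = h7_bsVal u := by
  unfold h7_bsVal
  rw [inv_inv]
  ring

theorem h7_bsVal_one : h7_bsVal 1 = 0 := by
  unfold h7_bsVal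
  simp
  norm_num

theorem h7_unit_inv_eq_cube (u : ℂˣ) (h4 : u ^ 4 = 1) : u⁻¹ = u ^ 3 := by
  rw [inv_eq_iff_mul_eq_one, ← pow_succ', h4]

theorem h7_unit_conj (u : ℂˣ) (h4 : u ^ 4 = 1) : conj (u : ℂ) = ((u⁻¹ : ℂˣ) : ℂ) := by
  have hn : ‖(u : ℂ)‖ = 1 := by
    have h : ‖(u : ℂ)‖ ^ 4 = 1 := by
      rw [← norm_pow, ← Units.val_pow_eq_pow_val, h4, Units.val_one, norm_one]
    exact (pow_eq_one_iff_of_nonneg (norm_nonneg _) (by norm_num)).mp h
  rw [Units.val_inv_eq_inv_val]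
  exact (Complex.inv_eq_conj hn).symm

theorem h7_bsVal_conj (u : ℂˣ) (h4 : u ^ 4 = 1) : conj (h7_bsVal u) = h7_bsVal u := by
  have h4' : u⁻¹ ^ 4 = 1 := by rw [inv_pow, h4, inv_one]
  unfold h7_bsVal
  rw [map_sub, map_sub, h7_unit_conj u h4, h7_unit_conj u⁻¹ h4', inv_inv]
  simp only [map_ofNat]
  ring

theorem h7_bsVal_sq (u : ℂˣ) (h4 : u ^ 4 = 1) :
    h7_bsVal u * h7_bsVal u = 6 + 2 * ((u ^ 2 : ℂˣ) : ℂ) - 4 * (u : ℂ) - 4 * ((u ^ 3 : ℂˣ) : ℂ) := by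
  unfold h7_bsVal
  rw [h7_unit_inv_eq_cube u h4]
  have h4c : (u : ℂ) ^ 4 = 1 := by
    rw [← Units.val_pow_eq_pow_val, h4, Units.val_one]
  simp only [Units.val_pow_eq_pow_val]
  linear_combination (2 + (u : ℂ) ^ 2) * h4c

theorem h7_bsVal_ne_zero (u : ℂˣ) (h1 : u ≠ 1) : h7_bsVal u ≠ 0 := by
  intro h0
  apply h1
  unfold h7_bsVal at h0
  rw [Units.val_inv_eq_inv_val] at h0
  have hu : (u : ℂ) ≠ 0 := u.ne_zero
  have h2 : ((u : ℂ) - 1) ^ 2 = 0 := by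
    field_simp at h0
    linear_combination -h0
  have h3 : (u : ℂ) = 1 := by
    have := pow_eq_zero_iff (two_ne_zero) |>.mp h2
    linear_combination this
  exact Units.ext h3

open Classical in
noncomputable def h7_bsThetaG (C : Subgroup G) (ν : C →* ℂˣ) : G → ℂ :=
  fun g => if hc : g ∈ C then h7_bsVal (ν ⟨g, hc⟩) else 0

noncomputable def h7_bsTheta (H C : Subgroup G) (ν : C →* ℂˣ) : H → ℂ :=
  fun h => h7_bsThetaG C ν (h : G)

def h7_bsX (C : Subgroup G) (ν : C →* ℂˣ) : Set G := {g | ∃ hc : g ∈ C, ν ⟨g, hc⟩ ≠ 1}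

theorem h7_bsThetaG_mem (C : Subgroup G) (ν : C →* ℂˣ) (g : G) (hc : g ∈ C) :
    h7_bsThetaG C ν g = h7_bsVal (ν ⟨g, hc⟩) := by
  unfold h7_bsThetaG
  rw [dif_pos hc]

theorem h7_bsThetaG_not_mem (C : Subgroup G) (ν : C →* ℂˣ) (g : G) (hc : g ∉ C) :
    h7_bsThetaG C ν g = 0 := by
  unfold h7_bsThetaG
  rw [dif_neg hc]

theorem h7_bsThetaG_off (C : Subgroup G) (ν : C →* ℂˣ) (g : G) (hg : g ∉ h7_bsX C ν) :
    h7_bsThetaG C ν g = 0 := by
  by_cases hc : g ∈ C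
  · rw [h7_bsThetaG_mem C ν g hc]
    have : ν ⟨g, hc⟩ = 1 := by
      by_contra h
      exact hg ⟨hc, h⟩
    rw [this, h7_bsVal_one]
  · exact h7_bsThetaG_not_mem C ν g hc

theorem h7_bsThetaG_ne_zero (C : Subgroup G) (ν : C →* ℂˣ) (g : G)
    (hg : g ∈ h7_bsX C ν) : h7_bsThetaG C ν g ≠ 0 := by
  obtain ⟨hc, hne⟩ := hg
  rw [h7_bsThetaG_mem C ν g hc]
  exact h7_bsVal_ne_zero _ hne

theorem h7_extendByZero_bsTheta (H C : Subgroup G) (hCH : C ≤ H) (ν : C →* ℂˣ) (y : G) :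
    Cfsg.extendByZero H (h7_bsTheta H C ν) y = h7_bsThetaG C ν y := by
  by_cases hy : y ∈ H
  · rw [h7_extendByZero_mem H _ y hy]
    rfl
  · rw [h7_extendByZero_not_mem H _ y hy, h7_bsThetaG_not_mem C ν y (fun h => hy (hCH h))]

theorem h7_bsThetaG_conj (H C : Subgroup G)
    (hCn : ∀ h ∈ H, ∀ c ∈ C, h * c * h⁻¹ ∈ C) (ν : C →* ℂˣ)
    (hinv : ∀ s ∈ H, s ∉ C → ∀ (c : C) (hc' : s * (c : G) * s⁻¹ ∈ C),
      ν ⟨s * c * s⁻¹, hc'⟩ = (ν c)⁻¹) (k : G) (hk : k ∈ H) (y : G) :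
    h7_bsThetaG C ν (k * y * k⁻¹) = h7_bsThetaG C ν y := by
  by_cases hy : y ∈ C
  · have hy' : k * y * k⁻¹ ∈ C := hCn k hk y hy
    rw [h7_bsThetaG_mem C ν _ hy', h7_bsThetaG_mem C ν _ hy]
    by_cases hkC : k ∈ C
    · have : (⟨k * y * k⁻¹, hy'⟩ : C) = ⟨k, hkC⟩ * ⟨y, hy⟩ * ⟨k, hkC⟩⁻¹ := rfl
      rw [this, map_mul, map_mul, map_inv, mul_comm, inv_mul_cancel_left]
    · rw [hinv k hk hkC ⟨y, hy⟩ hy', h7_bsVal_inv]
  · have hy' : k * y * k⁻¹ ∉ C := by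
      intro h
      apply hy
      have := hCn k⁻¹ (H.inv_mem hk) _ h
      simpa [mul_assoc] using this
    rw [h7_bsThetaG_not_mem C ν _ hy', h7_bsThetaG_not_mem C ν _ hy]

theorem h7_bsX_sub (C : Subgroup G) (ν : C →* ℂˣ) : h7_bsX C ν ⊆ C := fun _ hg => hg.1

theorem h7_bsX_inv (C : Subgroup G) (ν : C →* ℂˣ) (s : G) (hs : s ∈ h7_bsX C ν) :
    s⁻¹ ∈ h7_bsX C ν := by
  obtain ⟨hc, hne⟩ := hs
  refine ⟨C.inv_mem hc, ?_⟩
  have : (⟨s⁻¹, C.inv_mem hc⟩ : C) = (⟨s, hc⟩ : C)⁻¹ := rfl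
  rw [this, map_inv]
  intro h
  exact hne (inv_eq_one.mp h)

theorem h7_bsX_conj (H C : Subgroup G)
    (hCn : ∀ h ∈ H, ∀ c ∈ C, h * c * h⁻¹ ∈ C) (ν : C →* ℂˣ)
    (hinv : ∀ s ∈ H, s ∉ C → ∀ (c : C) (hc' : s * (c : G) * s⁻¹ ∈ C),
      ν ⟨s * c * s⁻¹, hc'⟩ = (ν c)⁻¹) (k : G) (hk : k ∈ H) (y : G) (hy : y ∈ h7_bsX C ν) :
    k * y * k⁻¹ ∈ h7_bsX C ν := by
  obtain ⟨hyC, hne⟩ := hy
  have hy' : k * y * k⁻¹ ∈ C := hCn k hk y hyC
  refine ⟨hy', ?_⟩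
  by_cases hkC : k ∈ C
  · have : (⟨k * y * k⁻¹, hy'⟩ : C) = ⟨k, hkC⟩ * ⟨y, hyC⟩ * ⟨k, hkC⟩⁻¹ := rfl
    rw [this, map_mul, map_mul, map_inv, mul_comm, inv_mul_cancel_left]
    exact hne
  · rw [hinv k hk hkC ⟨y, hyC⟩ hy']
    intro h
    exact hne (inv_eq_one.mp h)

theorem h7_bsTheta_classFunction (H C : Subgroup G)
    (hCn : ∀ h ∈ H, ∀ c ∈ C, h * c * h⁻¹ ∈ C) (ν : C →* ℂˣ)
    (hinv : ∀ s ∈ H, s ∉ C → ∀ (c : C) (hc' : s * (c : G) * s⁻¹ ∈ C),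
      ν ⟨s * c * s⁻¹, hc'⟩ = (ν c)⁻¹) :
    Cfsg.IsClassFunction H (h7_bsTheta H C ν) := by
  intro h k
  exact h7_bsThetaG_conj H C hCn ν hinv (k : G) k.2 (h : G)

theorem h7_extendByZero_const_one (C : Subgroup G) (y : G) [Decidable (y ∈ C)] :
    Cfsg.extendByZero C (fun _ => (1 : ℂ)) y = if y ∈ C then 1 else 0 := by
  by_cases hy : y ∈ C
  · rw [if_pos hy, h7_extendByZero_mem C _ y hy]
  · rw [if_neg hy, h7_extendByZero_not_mem C _ y hy]

theorem h7_bs_ind_eq [Fintype G] (H C : Subgroup G) (hCH : C ≤ H)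
    (hcard : Nat.card H = 2 * Nat.card C)
    (hCn : ∀ h ∈ H, ∀ c ∈ C, h * c * h⁻¹ ∈ C) (ν : C →* ℂˣ)
    (hinv : ∀ s ∈ H, s ∉ C → ∀ (c : C) (hc' : s * (c : G) * s⁻¹ ∈ C),
      ν ⟨s * c * s⁻¹, hc'⟩ = (ν c)⁻¹) :
    Cfsg.indFun H (h7_bsTheta H C ν) =
      Cfsg.indFun C (fun _ => (1 : ℂ)) - Cfsg.indFun C (fun c => ((ν c : ℂˣ) : ℂ)) := by
  classical
  obtain ⟨s, hsH, hsC⟩ : ∃ s, s ∈ H ∧ s ∉ C := by
    by_contra hcon
    push Not at hcon
    have hHC : H = C := le_antisymm hcon hCH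
    rw [hHC] at hcard
    have : 0 < Nat.card C := Nat.card_pos
    omega
  have hCne : (Nat.card C : ℂ) ≠ 0 := by exact_mod_cast (Nat.card_pos (α := C)).ne'
  funext g
  simp only [Pi.sub_apply]
  unfold Cfsg.indFun
  rw [← mul_sub, ← Finset.sum_sub_distrib]
  simp only [h7_extendByZero_bsTheta H C hCH ν]
  set E : G → ℂ := fun y => Cfsg.extendByZero C (fun _ => (1 : ℂ)) y -
    Cfsg.extendByZero C (fun c => ((ν c : ℂˣ) : ℂ)) y with hE
  have hEmem : ∀ y (hy : y ∈ C), E y = 1 - ((ν ⟨y, hy⟩ : ℂˣ) : ℂ) := by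
    intro y hy
    rw [hE]
    simp only
    rw [h7_extendByZero_mem C _ y hy, h7_extendByZero_mem C _ y hy]
  have hEnot : ∀ y, y ∉ C → E y = 0 := by
    intro y hy
    rw [hE]
    simp only
    rw [h7_extendByZero_not_mem C _ y hy, h7_extendByZero_not_mem C _ y hy, sub_zero]
  have hshift : ∑ x : G, E (x⁻¹ * g * x) = ∑ x : G, E (s⁻¹ * (x⁻¹ * g * x) * s) := by
    rw [← Equiv.sum_comp (Equiv.mulRight s) (fun x => E (x⁻¹ * g * x))]
    refine Finset.sum_congr rfl fun x _ => ?_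
    congr 1
    simp only [Equiv.coe_mulRight, mul_inv_rev]
    group
  have hpt : ∀ y : G, E y + E (s⁻¹ * y * s) = h7_bsThetaG C ν y := by
    intro y
    by_cases hy : y ∈ C
    · have hy' : s⁻¹ * y * s ∈ C := by
        have := hCn s⁻¹ (H.inv_mem hsH) y hy
        simpa using this
      have hsC' : s⁻¹ ∉ C := fun h => hsC (by simpa using C.inv_mem h)
      have hν : ν ⟨s⁻¹ * y * s, hy'⟩ = (ν ⟨y, hy⟩)⁻¹ := by
        have h1 : s⁻¹ * ((⟨y, hy⟩ : C) : G) * s⁻¹⁻¹ ∈ C := by simpa using hy'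
        have := hinv s⁻¹ (H.inv_mem hsH) hsC' ⟨y, hy⟩ h1
        rw [← this]
        congr 2
        simp
      rw [hEmem y hy, hEmem _ hy', hν, h7_bsThetaG_mem C ν y hy]
      unfold h7_bsVal
      ring
    · have hy' : s⁻¹ * y * s ∉ C := by
        intro h
        apply hy
        have := hCn s hsH _ h
        simpa [mul_assoc] using this
      rw [hEnot y hy, hEnot _ hy', h7_bsThetaG_not_mem C ν y hy, add_zero]
  have hsum : ∑ x : G, h7_bsThetaG C ν (x⁻¹ * g * x) = 2 * ∑ x : G, E (x⁻¹ * g * x) := by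
    rw [two_mul]
    nth_rewrite 2 [hshift]
    rw [← Finset.sum_add_distrib]
    exact Finset.sum_congr rfl fun x _ => (hpt _).symm
  rw [hsum, hcard]
  push_cast
  have hEsum : ∑ x : G, (Cfsg.extendByZero C (fun _ => (1 : ℂ)) (x⁻¹ * g * x) -
      Cfsg.extendByZero C (fun c => ((ν c : ℂˣ) : ℂ)) (x⁻¹ * g * x)) =
      ∑ x : G, E (x⁻¹ * g * x) := rfl
  rw [hEsum]
  field_simp

theorem h7_bs_sum [Fintype G] (H C : Subgroup G) [Fintype H] [Fintype C] (hCH : C ≤ H)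
    (ν : C →* ℂˣ) (F : ℂˣ → ℂ) :
    ∑ h : H, (open Classical in if hc : (h : G) ∈ C then F (ν ⟨(h : G), hc⟩) else 0) =
      ∑ c : C, F (ν c) := by
  classical
  set Fext : G → ℂ := fun g => if hc : g ∈ C then F (ν ⟨g, hc⟩) else 0 with hFext
  have h1 : ∑ h : H, (if hc : (h : G) ∈ C then F (ν ⟨(h : G), hc⟩) else 0) =
      ∑ h : H, Fext (h : G) := by
    refine Finset.sum_congr rfl fun h _ => ?_
    rw [hFext]
  have h2 : ∑ c : C, F (ν c) = ∑ c : C, Fext (c : G) := by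
    refine Finset.sum_congr rfl fun c _ => ?_
    rw [hFext]
    simp only
    rw [dif_pos c.2]
  rw [h1, h2, ← h7_sum_subgroup H Fext, ← h7_sum_subgroup C Fext]
  refine Finset.sum_congr rfl fun y _ => ?_
  by_cases hy : y ∈ C
  · rw [if_pos hy, if_pos (hCH hy)]
  · rw [if_neg hy]
    have : Fext y = 0 := by
      rw [hFext]
      simp only
      rw [dif_neg hy]
    rw [this]
    simp

theorem h7_bs_sum_pow [Fintype G] (C : Subgroup G) [Fintype C] (ν : C →* ℂˣ)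
    (c₀ : C) (j : ℕ) (hj : ν c₀ ^ j ≠ 1) : ∑ c : C, (((ν c) ^ j : ℂˣ) : ℂ) = 0 := by
  set f : C →* ℂ := (Units.coeHom ℂ).comp (ν ^ j) with hf
  have hne : f ≠ 1 := by
    intro h
    apply hj
    have := congrArg (fun φ : C →* ℂ => φ c₀) h
    simp only [hf, MonoidHom.coe_comp, Function.comp_apply, MonoidHom.pow_apply,
      Units.coeHom_apply, MonoidHom.one_apply] at this
    exact Units.ext this
  have := sum_hom_units_eq_zero f hne
  simpa [hf] using this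

theorem h7_bs_norm [Fintype G] (H C : Subgroup G) [Fintype H] (hCH : C ≤ H)
    (hcard : Nat.card H = 2 * Nat.card C) (ν : C →* ℂˣ) (h4 : ∀ c, ν c ^ 4 = 1)
    (c₀ : C) (hc₀ : ν c₀ ^ 2 ≠ 1) :
    Cfsg.classInner (h7_bsTheta H C ν) (h7_bsTheta H C ν) = 3 := by
  classical
  haveI : Fintype C := Fintype.ofFinite C
  have hCne : (Nat.card C : ℂ) ≠ 0 := by exact_mod_cast (Nat.card_pos (α := C)).ne'
  have h1 : ν c₀ ^ 1 ≠ 1 := by
    intro h
    apply hc₀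
    rw [pow_one] at h
    rw [h, one_pow]
  have h3 : ν c₀ ^ 3 ≠ 1 := by
    intro h
    apply h1
    have h4' := h4 c₀
    rw [pow_succ, h, one_mul] at h4'
    rw [pow_one, h4']
  unfold Cfsg.classInner
  have hterm : ∀ h : H, h7_bsTheta H C ν h * conj (h7_bsTheta H C ν h) =
      (if hc : (h : G) ∈ C then (fun u : ℂˣ => h7_bsVal u * conj (h7_bsVal u)) (ν ⟨(h : G), hc⟩)
        else 0) := by
    intro h
    unfold h7_bsTheta h7_bsThetaG
    by_cases hc : (h : G) ∈ C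
    · rw [dif_pos hc, dif_pos hc]
    · rw [dif_neg hc, dif_neg hc, zero_mul]
  rw [Finset.sum_congr rfl (fun h _ => hterm h),
    h7_bs_sum H C hCH ν (fun u : ℂˣ => h7_bsVal u * conj (h7_bsVal u))]
  have hF : ∀ c : C, h7_bsVal (ν c) * conj (h7_bsVal (ν c)) =
      6 + 2 * (((ν c) ^ 2 : ℂˣ) : ℂ) - 4 * (((ν c) ^ 1 : ℂˣ) : ℂ) - 4 * (((ν c) ^ 3 : ℂˣ) : ℂ) := by
    intro c
    rw [h7_bsVal_conj _ (h4 c), h7_bsVal_sq _ (h4 c), pow_one]
  rw [Finset.sum_congr rfl (fun c _ => hF c), Finset.sum_sub_distrib, Finset.sum_sub_distrib,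
    Finset.sum_add_distrib, ← Finset.mul_sum, ← Finset.mul_sum, ← Finset.mul_sum,
    h7_bs_sum_pow C ν c₀ 2 hc₀, h7_bs_sum_pow C ν c₀ 1 h1, h7_bs_sum_pow C ν c₀ 3 h3,
    Finset.sum_const, Finset.card_univ, ← Nat.card_eq_fintype_card, hcard]
  push_cast
  rw [nsmul_eq_mul]
  field_simp
  ring

theorem h7_bs_inner_one [Fintype G] (H C : Subgroup G) [Fintype H] (hCH : C ≤ H)
    (hcard : Nat.card H = 2 * Nat.card C) (ν : C →* ℂˣ) (h4 : ∀ c, ν c ^ 4 = 1)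
    (c₀ : C) (hc₀ : ν c₀ ^ 2 ≠ 1) :
    Cfsg.classInner (h7_bsTheta H C ν) (fun _ => (1 : ℂ)) = 1 := by
  classical
  haveI : Fintype C := Fintype.ofFinite C
  have hCne : (Nat.card C : ℂ) ≠ 0 := by exact_mod_cast (Nat.card_pos (α := C)).ne'
  have h1 : ν c₀ ^ 1 ≠ 1 := by
    intro h
    apply hc₀
    rw [pow_one] at h
    rw [h, one_pow]
  have h3 : ν c₀ ^ 3 ≠ 1 := by
    intro h
    apply h1
    have h4' := h4 c₀
    rw [pow_succ, h, one_mul] at h4'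
    rw [pow_one, h4']
  unfold Cfsg.classInner
  have hterm : ∀ h : H, h7_bsTheta H C ν h * conj ((fun _ : H => (1 : ℂ)) h) =
      (if hc : (h : G) ∈ C then (fun u : ℂˣ => h7_bsVal u) (ν ⟨(h : G), hc⟩) else 0) := by
    intro h
    simp only [map_one, mul_one]
    rfl
  rw [Finset.sum_congr rfl (fun h _ => hterm h), h7_bs_sum H C hCH ν (fun u : ℂˣ => h7_bsVal u)]
  have hF : ∀ c : C, h7_bsVal (ν c) =
      2 - (((ν c) ^ 1 : ℂˣ) : ℂ) - (((ν c) ^ 3 : ℂˣ) : ℂ) := by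
    intro c
    unfold h7_bsVal
    rw [h7_unit_inv_eq_cube _ (h4 c), pow_one]
  rw [Finset.sum_congr rfl (fun c _ => hF c), Finset.sum_sub_distrib, Finset.sum_sub_distrib,
    h7_bs_sum_pow C ν c₀ 1 h1, h7_bs_sum_pow C ν c₀ 3 h3,
    Finset.sum_const, Finset.card_univ, ← Nat.card_eq_fintype_card, hcard]
  push_cast
  rw [nsmul_eq_mul]
  field_simp
  ring

end Theta

section Decomp
variable {G : Type*} [Group G]

open Cfsg.Agent.Lib.Helper11 Cfsg.Agent.Lib.Helper25 Cfsg.Agent.Lib.helper2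

theorem h7_genChar_norm_two [Fintype G] (θ : G → ℂ)
    (hθ : Cfsg.IsGeneralizedCharacter G θ) (h2 : Cfsg.classInner θ θ = 2) :
    ∃ (η₁ η₂ : Cfsg.IrrCharacter G) (c₁ c₂ : ℤ), η₁ ≠ η₂ ∧ (c₁ = 1 ∨ c₁ = -1) ∧
      (c₂ = 1 ∨ c₂ = -1) ∧ θ = (c₁ : ℂ) • (η₁ : G → ℂ) + (c₂ : ℂ) • (η₂ : G → ℂ) := by
  classical
  have : Fintype (Cfsg.IrrCharacter G) := Fintype.ofFinite _
  have hcl := genChar_classFunction θ hθ
  have hc := fun η => genChar_inner_int θ hθ η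
  choose c hc using hc
  have hpar := classInner_parseval θ hcl
  rw [h2] at hpar
  simp only [hc, map_intCast] at hpar
  have hpar' : ∑ η : Cfsg.IrrCharacter G, c η * c η = 2 := by
    have : ((∑ η : Cfsg.IrrCharacter G, c η * c η : ℤ) : ℂ) = 2 := by
      rw [hpar]
      push_cast
      rfl
    exact_mod_cast this
  have hex : ∃ η₁, c η₁ ≠ 0 := by
    by_contra hcon
    push Not at hcon
    simp only [hcon, mul_zero, Finset.sum_const_zero] at hpar'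
    exact absurd hpar' (by norm_num)
  obtain ⟨η₁, hη₁⟩ := hex
  have hsplit : c η₁ * c η₁ + ∑ η ∈ Finset.univ.erase η₁, c η * c η = 2 := by
    exact (Finset.add_sum_erase _ (fun η => c η * c η) (Finset.mem_univ η₁)).trans hpar'
  have hnn : 0 ≤ ∑ η ∈ Finset.univ.erase η₁, c η * c η :=
    Finset.sum_nonneg (fun i _ => mul_self_nonneg _)
  have hsq1 : c η₁ * c η₁ = 1 := by
    have hpos : 0 < c η₁ * c η₁ := mul_self_pos.mpr hη₁
    have hle : c η₁ * c η₁ ≤ 2 := by omega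
    by_contra hne
    have h2' : c η₁ * c η₁ = 2 := by omega
    have : c η₁ < 2 ∧ -2 < c η₁ := by
      constructor <;> nlinarith
    have h3 : c η₁ = 1 ∨ c η₁ = -1 ∨ c η₁ = 0 := by omega
    rcases h3 with h | h | h <;> rw [h] at h2' <;> norm_num at h2'
  have hrest : ∑ η ∈ Finset.univ.erase η₁, c η * c η = 1 := by omega
  have hex2 : ∃ η₂ ∈ Finset.univ.erase η₁, c η₂ ≠ 0 := by
    by_contra hcon
    push Not at hcon
    rw [Finset.sum_eq_zero (fun η hη => by rw [hcon η hη, mul_zero])] at hrest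
    exact absurd hrest (by norm_num)
  obtain ⟨η₂, hη₂mem, hη₂⟩ := hex2
  have hne : η₂ ≠ η₁ := (Finset.mem_erase.mp hη₂mem).1
  have hsplit2 : c η₂ * c η₂ + ∑ η ∈ (Finset.univ.erase η₁).erase η₂, c η * c η = 1 := by
    exact (Finset.add_sum_erase _ (fun η => c η * c η) hη₂mem).trans hrest
  have hnn2 : 0 ≤ ∑ η ∈ (Finset.univ.erase η₁).erase η₂, c η * c η :=
    Finset.sum_nonneg (fun i _ => mul_self_nonneg _)
  have hsq2 : c η₂ * c η₂ = 1 := by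
    have hpos : 0 < c η₂ * c η₂ := mul_self_pos.mpr hη₂
    omega
  have hrest2 : ∑ η ∈ (Finset.univ.erase η₁).erase η₂, c η * c η = 0 := by omega
  have hothers : ∀ η, η ≠ η₁ → η ≠ η₂ → c η = 0 := by
    intro η h1 h2'
    have hmem : η ∈ (Finset.univ.erase η₁).erase η₂ :=
      Finset.mem_erase.mpr ⟨h2', Finset.mem_erase.mpr ⟨h1, Finset.mem_univ _⟩⟩
    have := (Finset.sum_eq_zero_iff_of_nonneg (fun i _ => mul_self_nonneg (c i))).mp hrest2 η hmem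
    exact mul_self_eq_zero.mp this
  have hexp := classFunction_expansion θ hcl
  have hsum : θ = (c η₁ : ℂ) • (η₁ : G → ℂ) + (c η₂ : ℂ) • (η₂ : G → ℂ) := by
    rw [hexp]
    rw [← Finset.add_sum_erase _ (fun χ : Cfsg.IrrCharacter G =>
        Cfsg.classInner θ (χ : G → ℂ) • (χ : G → ℂ)) (Finset.mem_univ η₁),
      ← Finset.add_sum_erase _ (fun χ : Cfsg.IrrCharacter G =>
        Cfsg.classInner θ (χ : G → ℂ) • (χ : G → ℂ)) hη₂mem]
    rw [Finset.sum_eq_zero, add_zero, hc, hc]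
    intro η hη
    obtain ⟨h2', h1'⟩ := Finset.mem_erase.mp hη
    rw [hc, hothers η (Finset.mem_erase.mp h1').1 h2', Int.cast_zero, zero_smul]
  have hpm : ∀ z : ℤ, z * z = 1 → z = 1 ∨ z = -1 := by
    intro z hz
    have : (z - 1) * (z + 1) = 0 := by
      have : (z - 1) * (z + 1) = z * z - 1 := by ring
      rw [this, hz]
      rfl
    rcases mul_eq_zero.mp this with h | h
    · left; omega
    · right; omega
  exact ⟨η₁, η₂, c η₁, c η₂, Ne.symm hne, hpm _ hsq1, hpm _ hsq2, hsum⟩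

theorem h7_classInner_irr_triv [Fintype G] (η : Cfsg.IrrCharacter G) :
    Cfsg.classInner (η : G → ℂ) (fun _ => (1 : ℂ)) = if η = trivIrr G then 1 else 0 := by
  have := irr_classInner η (trivIrr G)
  exact this

theorem h7_bs_core [Fintype G] (H C : Subgroup G) (hCH : C ≤ H)
    (hcard : Nat.card H = 2 * Nat.card C)
    (hCn : ∀ h ∈ H, ∀ c ∈ C, h * c * h⁻¹ ∈ C) (ν : C →* ℂˣ)
    (h4 : ∀ c, ν c ^ 4 = 1) (c₀ : C) (hc₀ : ν c₀ ^ 2 ≠ 1)
    (hinv : ∀ s ∈ H, s ∉ C → ∀ (c : C) (hc' : s * (c : G) * s⁻¹ ∈ C),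
      ν ⟨s * c * s⁻¹, hc'⟩ = (ν c)⁻¹)
    (hTI : ∀ g : G, ∀ c : C, ν c ≠ 1 → g * (c : G) * g⁻¹ ∈ C → g ∈ H) :
    ∃ χ₁ χ₂ : Cfsg.IrrCharacter G, χ₁ ≠ trivIrr G ∧ χ₂ ≠ trivIrr G ∧ χ₁ ≠ χ₂ ∧
      (χ₁ : G → ℂ) 1 = (χ₂ : G → ℂ) 1 + 1 ∧
      ∀ g, Cfsg.indFun H (h7_bsTheta H C ν) g = 1 + (χ₂ : G → ℂ) g - (χ₁ : G → ℂ) g := by
  classical
  haveI : Fintype H := Fintype.ofFinite H
  set θ := h7_bsTheta H C ν with hθ
  set Θ := Cfsg.indFun H θ with hΘ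
  have hθcl : Cfsg.IsClassFunction H θ := h7_bsTheta_classFunction H C hCn ν hinv
  have hθX : ∀ x : H, (x : G) ∉ h7_bsX C ν → θ x = 0 := fun x hx => h7_bsThetaG_off C ν _ hx
  have hTI' : ∀ g : G, g ∉ H → ∀ s ∈ h7_bsX C ν, g * s * g⁻¹ ∉ h7_bsX C ν := by
    intro g hg s hs hgs
    obtain ⟨hsC, hν⟩ := hs
    obtain ⟨hgsC, -⟩ := hgs
    exact hg (hTI g ⟨s, hsC⟩ hν hgsC)
  have hΘgen : Cfsg.IsGeneralizedCharacter G Θ := by
    rw [hΘ, hθ, h7_bs_ind_eq H C hCH hcard hCn ν hinv]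
    refine ⟨_, _, Cfsg.Agent.S0148.result C _ (isCharacter_of_irr (trivIrr C)),
      Cfsg.Agent.S0148.result C _ (isCharacter_of_irr (linIrr ν)), rfl⟩
  have hΘcl : Cfsg.IsClassFunction G Θ := h7_indFun_isClassFunction H θ
  have hnorm : Cfsg.classInner Θ Θ = 3 := by
    rw [hΘ, h7_ti_isometry H (h7_bsX C ν) hTI' θ θ hθcl hθX hθX]
    exact h7_bs_norm H C hCH hcard ν h4 c₀ hc₀
  have hone : Cfsg.classInner Θ (fun _ => (1 : ℂ)) = 1 := by
    rw [hΘ, h7_frobenius_reciprocity H θ _ (fun _ _ => rfl)]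
    exact h7_bs_inner_one H C hCH hcard ν h4 c₀ hc₀
  have hΘ1 : Θ 1 = 0 := by
    rw [hΘ, h7_indFun_one]
    have : θ 1 = 0 := by
      rw [hθ]
      unfold h7_bsTheta
      rw [h7_bsThetaG_mem C ν _ (by simp)]
      have : (⟨((1 : H) : G), by simp⟩ : C) = 1 := rfl
      rw [this, map_one, h7_bsVal_one]
    rw [this, mul_zero]
  set φ : G → ℂ := Θ - (trivIrr G : G → ℂ) with hφ
  have hφgen : Cfsg.IsGeneralizedCharacter G φ :=
    genChar_sub hΘgen ⟨_, 0, isCharacter_of_irr (trivIrr G), isCharacter_zero G, by simp⟩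
  have htriv : (trivIrr G : G → ℂ) = fun _ => (1 : ℂ) := rfl
  have hone' : Cfsg.classInner (fun _ : G => (1 : ℂ)) Θ = 1 := by
    rw [Cfsg.Agent.Lib.Helper25.classInner_conj_symm, hone, map_one]
  have hφnorm : Cfsg.classInner φ φ = 2 := by
    rw [hφ, Cfsg.Agent.Lib.Helper25.classInner_sub_left, classInner_sub_right'',
      classInner_sub_right'', hnorm, htriv, hone, hone']
    have : Cfsg.classInner (fun _ : G => (1 : ℂ)) (fun _ : G => (1 : ℂ)) = 1 := by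
      have := irr_classInner (trivIrr G) (trivIrr G)
      rw [if_pos rfl] at this
      exact this
    rw [this]
    norm_num
  obtain ⟨η₁, η₂, c₁, c₂, hne, hc₁, hc₂, hsum⟩ := h7_genChar_norm_two φ hφgen hφnorm
  have hφtriv : Cfsg.classInner φ (fun _ => (1 : ℂ)) = 0 := by
    rw [hφ, Cfsg.Agent.Lib.Helper25.classInner_sub_left, hone, htriv]
    have : Cfsg.classInner (fun _ : G => (1 : ℂ)) (fun _ : G => (1 : ℂ)) = 1 := by
      have := irr_classInner (trivIrr G) (trivIrr G)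
      rw [if_pos rfl] at this
      exact this
    rw [this, sub_self]
  have hexpand : Cfsg.classInner φ (fun _ => (1 : ℂ)) =
      (c₁ : ℂ) * (if η₁ = trivIrr G then 1 else 0) + (c₂ : ℂ) * (if η₂ = trivIrr G then 1 else 0) := by
    rw [hsum, Cfsg.Agent.Lib.Helper25.classInner_add_left,
      Cfsg.Agent.Lib.Helper25.classInner_smul_left, Cfsg.Agent.Lib.Helper25.classInner_smul_left,
      h7_classInner_irr_triv, h7_classInner_irr_triv]
  have hc₁ne : (c₁ : ℂ) ≠ 0 := by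
    rcases hc₁ with h | h <;> rw [h] <;> norm_num
  have hc₂ne : (c₂ : ℂ) ≠ 0 := by
    rcases hc₂ with h | h <;> rw [h] <;> norm_num
  have hη₁ : η₁ ≠ trivIrr G := by
    intro h
    have h2 : η₂ ≠ trivIrr G := fun h' => hne (h.trans h'.symm)
    rw [hφtriv, if_pos h, if_neg h2] at hexpand
    apply hc₁ne
    linear_combination -hexpand
  have hη₂ : η₂ ≠ trivIrr G := by
    intro h
    rw [hφtriv, if_neg hη₁, if_pos h] at hexpand
    apply hc₂ne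
    linear_combination -hexpand
  obtain ⟨d₁, hd₁, he₁⟩ := irr_one_eq_finrank η₁
  obtain ⟨d₂, hd₂, he₂⟩ := irr_one_eq_finrank η₂
  have hval : (c₁ : ℤ) * d₁ + c₂ * d₂ = -1 := by
    have h := congrFun hsum 1
    rw [hφ] at h
    simp only [Pi.sub_apply, Pi.add_apply, Pi.smul_apply, smul_eq_mul, he₁, he₂, hΘ1,
      trivIrr_apply] at h
    have : (((c₁ : ℤ) * d₁ + c₂ * d₂ : ℤ) : ℂ) = ((-1 : ℤ) : ℂ) := by
      push_cast
      rw [← h]
      ring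
    exact_mod_cast this
  have hd₁' : (0 : ℤ) < d₁ := by exact_mod_cast hd₁
  have hd₂' : (0 : ℤ) < d₂ := by exact_mod_cast hd₂
  have hΘeq : ∀ g, Θ g = 1 + ((c₁ : ℂ) * (η₁ : G → ℂ) g + (c₂ : ℂ) * (η₂ : G → ℂ) g) := by
    intro g
    have h := congrFun hsum g
    rw [hφ] at h
    simp only [Pi.sub_apply, Pi.add_apply, Pi.smul_apply, smul_eq_mul, trivIrr_apply] at h
    linear_combination h
  rcases hc₁ with e1 | e1 <;> rcases hc₂ with e2 | e2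
  · rw [e1, e2] at hval; omega
  · refine ⟨η₂, η₁, hη₂, hη₁, Ne.symm hne, ?_, ?_⟩
    · rw [he₁, he₂]
      rw [e1, e2] at hval
      have : (d₂ : ℤ) = d₁ + 1 := by omega
      exact_mod_cast this
    · intro g
      rw [hΘeq g, e1, e2]
      push_cast
      ring
  · refine ⟨η₁, η₂, hη₁, hη₂, hne, ?_, ?_⟩
    · rw [he₁, he₂]
      rw [e1, e2] at hval
      have : (d₁ : ℤ) = d₂ + 1 := by omega
      exact_mod_cast this
    · intro g
      rw [hΘeq g, e1, e2]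
      push_cast
      ring
  · rw [e1, e2] at hval; omega

end Decomp

end Cfsg.Agent.Lib.helper7
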