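import Mathlib
import Cfsg.Prelude.Def_Blocks
import Cfsg.Prelude.Def_BlockRank
import Cfsg.Agent.Lib.Helper25.HeightZeroCrit

/-!
Brauer's theorem on the p-part of the sum of squares of the degrees in a block:
nu_p (sum_{chi in B} chi(1)^2) = 2a - d.  (h7_dss_main)
-/

set_option autoImplicit false
set_option linter.style.haveILetI false
set_option linter.unusedSectionVars false
set_option linter.unusedVariables false
set_option maxHeartbeats 1600000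

namespace Cfsg.Agent.Lib.helper7

open scoped ComplexConjugate
open Cfsg.Agent.Lib.Helper25
open Cfsg.Agent.Lib.Helper24
open Cfsg.Agent.Lib.Helper11
open Cfsg.Agent.Lib.helper2

/-- the coefficient `z ψ` in `p^d χ° = Σ z ψ' ψ'` is `p^d [χ°, ψ]` -/
theorem h7_dss_coeff {G : Type*} [Group G] [Fintype G] [Fintype (Cfsg.IrrCharacter G)]
    (p : ℕ) (B : Set (Cfsg.IrrCharacter G)) [DecidablePred (· ∈ B)] (d : ℕ)
    (χ : Cfsg.IrrCharacter G) (z : Cfsg.IrrCharacter G → ℤ)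
    (hz : ∀ g : G, (p ^ d : ℂ) * Cfsg.pRegularPart p (χ : G → ℂ) g =
      ∑ ψ' : Cfsg.IrrCharacter G, (if ψ' ∈ B then (z ψ' : ℂ) * (ψ' : G → ℂ) g else 0))
    (ψ : Cfsg.IrrCharacter G) (hψ : ψ ∈ B) :
    (p ^ d : ℂ) * Cfsg.classInner (Cfsg.pRegularPart p (χ : G → ℂ)) (ψ : G → ℂ) = (z ψ : ℂ) := by
  have h1 : (p ^ d : ℂ) • Cfsg.pRegularPart p (χ : G → ℂ) =
      ∑ ψ' : Cfsg.IrrCharacter G, (if ψ' ∈ B then (z ψ' : ℂ) else 0) • (ψ' : G → ℂ) := by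
    funext g
    rw [Pi.smul_apply, smul_eq_mul, hz g, Finset.sum_apply]
    refine Finset.sum_congr rfl fun ψ' _ => ?_
    rw [Pi.smul_apply, smul_eq_mul]
    split_ifs
    · rfl
    · rw [zero_mul]
  have h2 := congrArg (fun f => Cfsg.classInner f (ψ : G → ℂ)) h1
  simp only [classInner_smul_left, classInner_sum_left, irr_classInner] at h2
  rw [h2, Finset.sum_eq_single ψ]
  · rw [if_pos hψ, if_pos rfl, mul_one]
  · intro ψ' _ hne
    rw [if_neg hne, mul_zero]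
  · intro h
    exact absurd (Finset.mem_univ ψ) h

/-- Brauer: the sum of the squares of the degrees in a block of defect `d` is
`p^(2ν + d) q` with `p ∤ q`, where `ν = a - d` is the minimal valuation of a degree. -/
theorem h7_dss_main {G : Type*} [Group G] [Fintype G] [Fintype (Cfsg.IrrCharacter G)]
    (p : ℕ) [hp : Fact p.Prime] (M : Ideal Cfsg.AlgInt) (hM : Cfsg.IsPModular p M)
    (χ₁ : Cfsg.IrrCharacter G) [DecidablePred (· ∈ Cfsg.blockOf M (χ₁ : G → ℂ))] :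
    sInf ((fun ψ : Cfsg.IrrCharacter G => (Cfsg.charDegree (ψ : G → ℂ)).factorization p) ''
        Cfsg.blockOf M (χ₁ : G → ℂ)) ≤ (Nat.card G).factorization p ∧
    ∃ q : ℕ, ¬ p ∣ q ∧
      ∑ ψ : Cfsg.IrrCharacter G, (if ψ ∈ Cfsg.blockOf M (χ₁ : G → ℂ) then
        Cfsg.charDegree (ψ : G → ℂ) ^ 2 else 0) =
      p ^ (2 * sInf ((fun ψ : Cfsg.IrrCharacter G =>
        (Cfsg.charDegree (ψ : G → ℂ)).factorization p) '' Cfsg.blockOf M (χ₁ : G → ℂ)) +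
        Cfsg.blockDefect p (Cfsg.blockOf M (χ₁ : G → ℂ))) * q := by
  have hMp := hM.2.1.isPrime
  set B := Cfsg.blockOf M (χ₁ : G → ℂ) with hB
  set fG : Cfsg.IrrCharacter G → ℕ := fun ψ => (Cfsg.charDegree (ψ : G → ℂ)).factorization p
    with hfG
  set νB := sInf (fG '' B) with hνB
  set dB := Cfsg.blockDefect p B with hdB
  set a := (Nat.card G).factorization p with ha
  have hdBval : dB = a - νB := rfl
  have h1B : χ₁ ∈ B := h7_sameBlock_refl hMp _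
  have hne : (fG '' B).Nonempty := ⟨_, χ₁, h1B, rfl⟩
  obtain ⟨χ, hχ, hχν⟩ := Nat.sInf_mem hne
  have hχν' : fG χ = νB := hχν
  obtain ⟨hd1, hd2, hd3⟩ := h7_charDegree_props χ
  have hνa : νB ≤ a := by
    rw [← hχν']
    exact (Nat.factorization_le_iff_dvd hd2.ne' Nat.card_pos.ne').mpr hd1 p
  refine ⟨hνa, ?_⟩
  have hadv : a = dB + νB := by omega
  have hp0 : (p : ℂ) ≠ 0 := by exact_mod_cast hp.out.ne_zero
  have hpν0 : ((p : ℂ) ^ νB) ≠ 0 := pow_ne_zero _ hp0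
  have hpd0 : ((p : ℂ) ^ dB) ≠ 0 := pow_ne_zero _ hp0
  have hpa : ((p ^ a : ℕ) : ℂ) = (p : ℂ) ^ dB * (p : ℂ) ^ νB := by
    rw [hadv]
    push_cast
    rw [pow_add]
  -- cofactors
  have hcof : ∀ ψ : Cfsg.IrrCharacter G, ∃ t : ℕ, ψ ∈ B →
      (Cfsg.charDegree (ψ : G → ℂ) = p ^ νB * t ∧
        (p ∣ t ↔ Cfsg.blockHeight p B (ψ : G → ℂ) ≠ 0)) := by
    intro ψ
    by_cases hψ : ψ ∈ B
    · obtain ⟨t, ht⟩ := hz_cofactor p B ψ hψ
      exact ⟨t, fun _ => ht⟩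
    · exact ⟨0, fun h => absurd h hψ⟩
  choose t ht using hcof
  have htχnd : ¬ p ∣ t χ := by
    intro h
    apply (ht χ hχ).2.mp h
    show fG χ - νB = 0
    omega
  have hψ1 : ∀ ψ ∈ B, (ψ : G → ℂ) 1 = (p : ℂ) ^ νB * (t ψ : ℂ) := by
    intro ψ hψ
    obtain ⟨_, _, h3⟩ := h7_charDegree_props ψ
    rw [← h3, (ht ψ hψ).1]
    push_cast
    rfl
  have ht0 : ∀ ψ ∈ B, (t ψ : ℂ) ≠ 0 := by
    intro ψ hψ h0
    have h1 := hψ1 ψ hψ
    rw [h0, mul_zero] at h1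
    exact irr_one_ne_zero ψ h1
  -- η
  set nη : Cfsg.IrrCharacter G → ℤ := fun ψ => if ψ ∈ B then (t ψ : ℤ) else 0 with hnη
  set η : G → ℂ := ∑ ψ : Cfsg.IrrCharacter G, (nη ψ : ℂ) • (ψ : G → ℂ) with hη
  have hηgen : Cfsg.IsGeneralizedCharacter G η := hz_genChar_of_int_comb nη
  have hηval : ∀ g : G, (p : ℂ) ^ νB * η g = ∑ ψ : Cfsg.IrrCharacter G,
      (if ψ ∈ B then (ψ : G → ℂ) 1 * (ψ : G → ℂ) g else 0) := by
    intro g
    rw [hη, Finset.sum_apply, Finset.mul_sum]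
    refine Finset.sum_congr rfl fun ψ _ => ?_
    rw [Pi.smul_apply, smul_eq_mul]
    by_cases hψ : ψ ∈ B
    · simp only [hnη, if_pos hψ]
      rw [hψ1 ψ hψ]
      push_cast
      ring
    · simp only [hnη, if_neg hψ]
      push_cast
      ring
  have hηvan : ∀ x : G, p ∣ orderOf x → η x = 0 := by
    intro x hx
    have hx' : p ∣ orderOf x⁻¹ := by rwa [orderOf_inv]
    have h1 := br_weak_orth hM χ₁ 1 x⁻¹ (ci_one_regular p) hx'
    have h2 := hηval x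
    have h3 : ∑ ψ : Cfsg.IrrCharacter G,
        (if ψ ∈ B then (ψ : G → ℂ) 1 * (ψ : G → ℂ) x else 0) = 0 := by
      refine Eq.trans ?_ h1
      refine Finset.sum_congr rfl fun ψ _ => ?_
      rw [irr_inv, Complex.conj_conj]
    rw [h3] at h2
    exact (mul_eq_zero.mp h2).resolve_left hpν0
  set T : ℕ := ∑ ψ : Cfsg.IrrCharacter G, (if ψ ∈ B then (t ψ) ^ 2 else 0) with hT
  have hTC : (T : ℂ) = ∑ ψ : Cfsg.IrrCharacter G, (if ψ ∈ B then (t ψ : ℂ) ^ 2 else 0) := by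
    rw [hT, Nat.cast_sum]
    refine Finset.sum_congr rfl fun ψ _ => ?_
    split_ifs
    · push_cast
      rfl
    · exact Nat.cast_zero
  have hη1 : η 1 = (p : ℂ) ^ νB * (T : ℂ) := by
    have h2 := hηval 1
    have h3 : ∑ ψ : Cfsg.IrrCharacter G,
        (if ψ ∈ B then (ψ : G → ℂ) 1 * (ψ : G → ℂ) 1 else 0) =
        (p : ℂ) ^ νB * ((p : ℂ) ^ νB * (T : ℂ)) := by
      rw [hTC, Finset.mul_sum, Finset.mul_sum]
      refine Finset.sum_congr rfl fun ψ _ => ?_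
      by_cases hψ : ψ ∈ B
      · simp only [if_pos hψ]
        rw [hψ1 ψ hψ]
        ring
      · simp only [if_neg hψ]
        ring
    rw [h3] at h2
    exact mul_left_cancel₀ hpν0 h2
  have hS : ∑ ψ : Cfsg.IrrCharacter G,
      (if ψ ∈ B then Cfsg.charDegree (ψ : G → ℂ) ^ 2 else 0) = p ^ (2 * νB) * T := by
    rw [hT, Finset.mul_sum]
    refine Finset.sum_congr rfl fun ψ _ => ?_
    by_cases hψ : ψ ∈ B
    · simp only [if_pos hψ]
      rw [(ht ψ hψ).1]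
      ring
    · simp only [if_neg hψ, mul_zero]
  obtain ⟨z₁, hz₁⟩ := prg_sylow_dvd p η hηgen hηvan
  have hTz' : (T : ℂ) = (z₁ : ℂ) * (p : ℂ) ^ dB := by
    rw [hη1, ← ha, hpa] at hz₁
    have h5 : (p : ℂ) ^ νB * (T : ℂ) = (p : ℂ) ^ νB * ((z₁ : ℂ) * (p : ℂ) ^ dB) := by
      rw [hz₁]
      ring
    exact mul_left_cancel₀ hpν0 h5
  have hTz : (T : ℤ) = z₁ * (p : ℤ) ^ dB := by
    have h4 : (((T : ℤ)) : ℂ) = ((z₁ * (p : ℤ) ^ dB : ℤ) : ℂ) := by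
      push_cast
      exact hTz'
    exact_mod_cast h4
  -- τ
  obtain ⟨z, hz⟩ := rg_single p M hM χ₁ χ hχ
  have hzco := h7_dss_coeff p B dB χ z hz
  have hr : ∀ ψ ∈ B, hz_r p (χ : G → ℂ) (ψ : G → ℂ) = (z ψ : ℂ) / (t ψ : ℂ) := by
    intro ψ hψ
    unfold hz_r
    rw [hz_tilde_eq, classInner_smul_left, hψ1 ψ hψ, ← hzco ψ hψ, ← ha, hpa]
    have htψ0 := ht0 ψ hψ
    field_simp
  have hcong : ∀ ψ ∈ B, (p : ℤ) ∣ z ψ * (t χ : ℤ) - z χ * (t ψ : ℤ) := by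
    intro ψ hψ
    have hsame : Cfsg.SameBlock M (ψ : G → ℂ) (χ : G → ℂ) :=
      h7_sameBlock_trans hMp (h7_sameBlock_symm hψ) hχ
    have h1 := hz_r_congr p hM χ ψ χ hsame
    rw [hr ψ hψ, hr χ hχ] at h1
    have h2 : Cfsg.MemLocalIdeal M (((z ψ : ℂ) / (t ψ : ℂ) - (z χ : ℂ) / (t χ : ℂ)) *
        ((t ψ * t χ : ℕ) : ℂ)) :=
      h7_memLocalIdeal_mul_right hMp h1 (h7_memLocalRing_natCast hMp _)
    have h3 : ((z ψ : ℂ) / (t ψ : ℂ) - (z χ : ℂ) / (t χ : ℂ)) * ((t ψ * t χ : ℕ) : ℂ) =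
        ((z ψ * (t χ : ℤ) - z χ * (t ψ : ℤ) : ℤ) : ℂ) := by
      have h41 := ht0 ψ hψ
      have h42 := ht0 χ hχ
      push_cast
      field_simp
    rw [h3] at h2
    exact (hz_memLocalIdeal_intCast_iff hM _).mp h2
  have hcop : IsCoprime ((t χ : ℕ) : ℤ) (p : ℤ) :=
    Nat.isCoprime_iff_coprime.mpr
      (Nat.Coprime.symm ((Nat.Prime.coprime_iff_not_dvd hp.out).mpr htχnd))
  obtain ⟨u, v, huv⟩ := hcop
  set c : ℤ := u * z χ with hc
  have hdiv : ∀ ψ ∈ B, ∃ k : ℤ, z ψ - c * (t ψ : ℤ) = (p : ℤ) * k := by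
    intro ψ hψ
    obtain ⟨k, hk⟩ := hcong ψ hψ
    refine ⟨u * k + v * z ψ, ?_⟩
    have h1 : z ψ - c * (t ψ : ℤ) = u * (z ψ * (t χ : ℤ) - z χ * (t ψ : ℤ)) +
        (v * (p : ℤ)) * z ψ := by
      rw [hc]
      linear_combination (-(z ψ)) * huv
    rw [h1, hk]
    ring
  choose! k hk using hdiv
  set nξ : Cfsg.IrrCharacter G → ℤ := fun ψ => if ψ ∈ B then k ψ else 0 with hnξ
  set ξ : G → ℂ := ∑ ψ : Cfsg.IrrCharacter G, (nξ ψ : ℂ) • (ψ : G → ℂ) with hξ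
  have hξgen : Cfsg.IsGeneralizedCharacter G ξ := hz_genChar_of_int_comb nξ
  have hξval : ∀ g : G, (p : ℂ) * ξ g =
      (p ^ dB : ℂ) * Cfsg.pRegularPart p (χ : G → ℂ) g - (c : ℂ) * η g := by
    intro g
    rw [hz g, hξ, hη, Finset.sum_apply, Finset.sum_apply, Finset.mul_sum, Finset.mul_sum,
      ← Finset.sum_sub_distrib]
    refine Finset.sum_congr rfl fun ψ _ => ?_
    rw [Pi.smul_apply, Pi.smul_apply, smul_eq_mul, smul_eq_mul]
    by_cases hψ : ψ ∈ B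
    · have hψ' : ψ ∈ Cfsg.blockOf M (χ₁ : G → ℂ) := hψ
      simp only [hnξ, hnη, if_pos hψ, if_pos hψ']
      have h1 := congrArg (fun n : ℤ => (n : ℂ)) (hk ψ hψ)
      simp only [Int.cast_sub, Int.cast_mul, Int.cast_natCast] at h1
      push_cast
      linear_combination (-((ψ : G → ℂ) g)) * h1
    · have hψ' : ψ ∉ Cfsg.blockOf M (χ₁ : G → ℂ) := hψ
      simp only [hnξ, hnη, if_neg hψ, if_neg hψ']
      push_cast
      ring
  have hξvan : ∀ x : G, p ∣ orderOf x → ξ x = 0 := by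
    intro x hx
    have h1 := hξval x
    rw [br_pRegularPart_sing p _ x hx, hηvan x hx, mul_zero, mul_zero, sub_zero] at h1
    exact (mul_eq_zero.mp h1).resolve_left hp0
  obtain ⟨z₂, hz₂⟩ := prg_sylow_dvd p ξ hξgen hξvan
  have hfinal : (p : ℤ) * z₂ = (t χ : ℤ) - c * z₁ := by
    have h4 : (((p : ℤ) * z₂ : ℤ) : ℂ) = (((t χ : ℤ) - c * z₁ : ℤ) : ℂ) := by
      have h5 := hξval 1
      rw [hz₂, br_pRegularPart_reg p _ 1 (ci_one_regular p), hψ1 χ hχ, hη1, hTz', ← ha, hpa] at h5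
      have hne2 : (p : ℂ) ^ dB * (p : ℂ) ^ νB ≠ 0 := mul_ne_zero hpd0 hpν0
      push_cast
      have h6 : ((p : ℂ) ^ dB * (p : ℂ) ^ νB) * ((p : ℂ) * (z₂ : ℂ)) =
          ((p : ℂ) ^ dB * (p : ℂ) ^ νB) * ((t χ : ℂ) - (c : ℂ) * (z₁ : ℂ)) := by
        linear_combination h5
      exact mul_left_cancel₀ hne2 h6
    exact_mod_cast h4
  have hz₁nd : ¬ (p : ℤ) ∣ z₁ := by
    rintro ⟨k₁, hk₁⟩
    apply htχnd
    have h1 : (p : ℤ) ∣ (t χ : ℤ) := by
      refine ⟨z₂ + c * k₁, ?_⟩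
      rw [hk₁] at hfinal
      linear_combination (-1 : ℤ) * hfinal
    exact Int.natCast_dvd_natCast.mp h1
  have hz₁nn : 0 ≤ z₁ := by
    by_contra hneg
    push Not at hneg
    have h1 : (T : ℤ) < 0 := by
      rw [hTz]
      exact mul_neg_of_neg_of_pos hneg (pow_pos (by exact_mod_cast hp.out.pos) _)
    have h2 : (0 : ℤ) ≤ (T : ℤ) := Int.natCast_nonneg T
    omega
  refine ⟨z₁.toNat, ?_, ?_⟩
  · intro h
    apply hz₁nd
    have h1 := Int.natCast_dvd_natCast.mpr h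
    rwa [Int.toNat_of_nonneg hz₁nn] at h1
  · have hTq : T = z₁.toNat * p ^ dB := by
      have h1 : (T : ℤ) = ((z₁.toNat * p ^ dB : ℕ) : ℤ) := by
        push_cast
        rw [Int.toNat_of_nonneg hz₁nn, hTz]
      exact_mod_cast h1
    refine Eq.trans ?_ (hS.trans ?_)
    · refine Finset.sum_congr rfl fun ψ _ => ?_
      by_cases hψ : ψ ∈ B
      · have hψ' : ψ ∈ Cfsg.blockOf M (χ₁ : G → ℂ) := hψ
        simp only [if_pos hψ, if_pos hψ']
      · have hψ' : ψ ∉ Cfsg.blockOf M (χ₁ : G → ℂ) := hψ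
        simp only [if_neg hψ, if_neg hψ']
    · rw [hTq, pow_add]
      ring

end Cfsg.Agent.Lib.helper7
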