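import Mathlib
import Cfsg.Prelude.Def_Blocks
import Cfsg.Prelude.Def_BlockRank
import Cfsg.Agent.Lib.helper7.DegSqSum
import Cfsg.Agent.Lib.Helper25.BrauerFeit3

/-!
A 2-block of defect two has exactly four irreducible characters, all of height zero
(h7_kd_card_four, h7_kd_heights).
-/

set_option autoImplicit false
set_option linter.style.haveILetI false
set_option linter.unusedSectionVars false
set_option linter.unusedVariables false
set_option maxHeartbeats 1600000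

namespace Cfsg.Agent.Lib.helper7

open Cfsg.Agent.Lib.Helper25

/-- in a `2`-block of defect two, every character has minimal `2`-part of the degree -/
theorem h7_kd_heights {G : Type*} [Group G] [Finite G] (M : Ideal Cfsg.AlgInt)
    (hM : Cfsg.IsPModular 2 M) (B : Set (Cfsg.IrrCharacter G)) (hB : Cfsg.IsPBlock M B)
    (hd : Cfsg.blockDefect 2 B = 2) (χ : Cfsg.IrrCharacter G) (hχ : χ ∈ B) :
    (Cfsg.charDegree (χ : G → ℂ)).factorization 2 =
      sInf ((fun ψ : Cfsg.IrrCharacter G => (Cfsg.charDegree (ψ : G → ℂ)).factorization 2) '' B) := by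
  haveI : Fact (Nat.Prime 2) := ⟨Nat.prime_two⟩
  have h1 := ((bf_complement 2 M hM B hB 2 hd).2 χ hχ).2 (le_refl 2)
  have h2 : sInf ((fun ψ : Cfsg.IrrCharacter G =>
      (Cfsg.charDegree (ψ : G → ℂ)).factorization 2) '' B) ≤
      (Cfsg.charDegree (χ : G → ℂ)).factorization 2 :=
    Nat.sInf_le ⟨χ, hχ, rfl⟩
  unfold Cfsg.blockHeight at h1
  omega

theorem h7_kd_odd_sq (t : ℕ) (ht : ¬ 2 ∣ t) : t ^ 2 % 8 = 1 := by
  have h : t % 8 = 1 ∨ t % 8 = 3 ∨ t % 8 = 5 ∨ t % 8 = 7 := by omega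
  rcases h with h | h | h | h <;> simp [Nat.pow_mod, h]

/-- a `2`-block of defect two has exactly four irreducible characters -/
theorem h7_kd_card_four {G : Type*} [Group G] [Finite G] (M : Ideal Cfsg.AlgInt)
    (hM : Cfsg.IsPModular 2 M) (B : Set (Cfsg.IrrCharacter G)) (hB : Cfsg.IsPBlock M B)
    (hd : Cfsg.blockDefect 2 B = 2) : Nat.card B = 4 := by
  classical
  haveI : Fact (Nat.Prime 2) := ⟨Nat.prime_two⟩
  haveI : Fintype G := Fintype.ofFinite G
  haveI : Fintype (Cfsg.IrrCharacter G) := Fintype.ofFinite _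
  have hbound := bf_bound 2 M hM B hB
  rw [hd] at hbound
  have hle : Nat.card B ≤ 5 := by
    have h20 : (2 : ℕ) ^ (2 * 2) + 4 = 20 := by norm_num
    omega
  have hheights := h7_kd_heights M hM B hB hd
  obtain ⟨χ₁, rfl⟩ := hB
  obtain ⟨-, q, hq, hsum⟩ := h7_dss_main 2 M hM χ₁
  set B := Cfsg.blockOf M (χ₁ : G → ℂ) with hBdef
  set m := sInf ((fun ψ : Cfsg.IrrCharacter G =>
      (Cfsg.charDegree (ψ : G → ℂ)).factorization 2) '' B) with hm
  rw [hd] at hsum
  -- write each degree as `2^m * t`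
  have hdeg : ∀ ψ : Cfsg.IrrCharacter G, ψ ∈ B →
      Cfsg.charDegree (ψ : G → ℂ) = 2 ^ m * (Cfsg.charDegree (ψ : G → ℂ) / 2 ^ m) ∧
      ¬ 2 ∣ Cfsg.charDegree (ψ : G → ℂ) / 2 ^ m := by
    intro ψ hψ
    have h1 := hheights ψ hψ
    have hpos : Cfsg.charDegree (ψ : G → ℂ) ≠ 0 := (h7_charDegree_props ψ).2.1.ne'
    rw [← h1]
    exact ⟨(Nat.ordProj_mul_ordCompl_eq_self _ 2).symm, Nat.not_dvd_ordCompl Nat.prime_two hpos⟩
  have hsum2 : ∑ ψ : Cfsg.IrrCharacter G, (if ψ ∈ B then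
      (Cfsg.charDegree (ψ : G → ℂ) / 2 ^ m) ^ 2 else 0) = 4 * q := by
    have h2 : ∑ ψ : Cfsg.IrrCharacter G, (if ψ ∈ B then
        Cfsg.charDegree (ψ : G → ℂ) ^ 2 else 0) = 2 ^ (2 * m) * ∑ ψ : Cfsg.IrrCharacter G,
        (if ψ ∈ B then (Cfsg.charDegree (ψ : G → ℂ) / 2 ^ m) ^ 2 else 0) := by
      rw [Finset.mul_sum]
      refine Finset.sum_congr rfl fun ψ _ => ?_
      split_ifs with h
      · conv_lhs => rw [(hdeg ψ h).1]
        rw [mul_pow, ← pow_mul, mul_comm m 2]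
      · rw [mul_zero]
    rw [h2, pow_add, mul_assoc] at hsum
    have := Nat.eq_of_mul_eq_mul_left (by positivity) hsum
    rw [this]
    norm_num
  -- mod 8
  have hmod : (∑ ψ : Cfsg.IrrCharacter G, (if ψ ∈ B then
      (Cfsg.charDegree (ψ : G → ℂ) / 2 ^ m) ^ 2 else 0)) % 8 = Nat.card B % 8 := by
    have hcard : Nat.card B = ∑ ψ : Cfsg.IrrCharacter G, (if ψ ∈ B then 1 else 0) := by
      rw [Finset.sum_boole, Nat.card_eq_fintype_card, Fintype.card_subtype]
      simp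
    rw [hcard, Finset.sum_nat_mod]
    conv_rhs => rw [Finset.sum_nat_mod]
    congr 1
    refine Finset.sum_congr rfl fun ψ _ => ?_
    split_ifs with h
    · rw [h7_kd_odd_sq _ (hdeg ψ h).2]
    · rfl
  rw [hsum2] at hmod
  have hq2 : q % 2 = 1 := by omega
  omega

end Cfsg.Agent.Lib.helper7
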