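import Mathlib
import Cfsg.Prelude.Def_Blocks
import Cfsg.Prelude.Def_BlockRank
import Cfsg.Agent.Lib.Helper24.QuotRank3
import Cfsg.Agent.Lib.Helper25.DefectOneTwo

/-!
Domination for a central `p`-subgroup `Q` (more generally `Q C_G(Q) = G`): for a block `b` of `G`
the set `h7_kd_dom Q b` of characters of `G/Q` whose inflation lies in `b` is a block of `G/Q`
with the same `p`-regular rank (h7_kd_dom_rank, h7_kd_dom_block).
-/

set_option autoImplicit false
set_option linter.style.haveILetI false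
set_option linter.unusedSectionVars false
set_option linter.unusedVariables false
set_option maxHeartbeats 1600000

namespace Cfsg.Agent.Lib.helper7

open Cfsg.Agent.Lib.helper2 Cfsg.Agent.Lib.Helper11 Cfsg.Agent.Lib.Helper25 Cfsg.Agent.Lib.Helper24

variable {G : Type*} [Group G]

/-- characters of `G/Q` whose inflation lies in `b` -/
def h7_kd_dom (Q : Subgroup G) [Q.Normal] (b : Set (Cfsg.IrrCharacter G)) :
    Set (Cfsg.IrrCharacter (G ⧸ Q)) :=
  {ψ | xs_infl (QuotientGroup.mk' Q) (QuotientGroup.mk'_surjective Q) ψ ∈ b}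

theorem h7_kd_core [Fintype G] (p : ℕ) [hp : Fact p.Prime]
    (M : Ideal Cfsg.AlgInt) (hM : Cfsg.IsPModular p M)
    (Q : Subgroup G) [Q.Normal]
    (hQ : IsPGroup p Q) (hsup : Q ⊔ Subgroup.centralizer (Q : Set G) = ⊤)
    (χ₀ χ : Cfsg.IrrCharacter G) (hχ : χ ∈ Cfsg.blockOf M (χ₀ : G → ℂ)) :
    Cfsg.pRegularPart p (χ : G → ℂ) ∈ Submodule.span ℂ (qr_T p Q ''
      ((fun ψ : Cfsg.IrrCharacter (G ⧸ Q) => Cfsg.pRegularPart p (ψ : G ⧸ Q → ℂ)) ''
        h7_kd_dom Q (Cfsg.blockOf M (χ₀ : G → ℂ)))) := by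
  classical
  haveI : Fintype (G ⧸ Q) := Fintype.ofFinite _
  haveI : Fintype (Cfsg.IrrCharacter G) := Fintype.ofFinite _
  haveI : Fintype (Cfsg.IrrCharacter (G ⧸ Q)) := Fintype.ofFinite _
  set f : G ⧸ Q → ℂ := fun y => if h : p ∣ orderOf y then 0 else
    (χ : G → ℂ) (Classical.choose (qr_lift_reg p Q hQ y h)) with hf
  have hf_reg : ∀ x : G, ¬ p ∣ orderOf x → f (QuotientGroup.mk x) = (χ : G → ℂ) x := by
    intro x hx
    have hx' := qr_reg_mk p Q x hx
    simp only [hf, dif_neg hx']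
    obtain ⟨h1, h2⟩ := Classical.choose_spec (qr_lift_reg p Q hQ (QuotientGroup.mk x) hx')
    set x' := Classical.choose (qr_lift_reg p Q hQ (QuotientGroup.mk x) hx')
    have h3 : IsConj (QuotientGroup.mk x' : G ⧸ Q) (QuotientGroup.mk x) := by
      rw [h2]
    obtain ⟨c, hc⟩ := isConj_iff.mp (qr_conj_lift p Q hQ hsup x' x h1 hx h3)
    rw [← hc, irr_conj_invariant]
  have hfclass : ∀ y h : G ⧸ Q, f (h * y * h⁻¹) = f y := by
    intro y h
    by_cases hy : p ∣ orderOf y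
    · have hy' : p ∣ orderOf (h * y * h⁻¹) := by rw [qr_orderOf_conj]; exact hy
      simp only [hf, dif_pos hy, dif_pos hy']
    · obtain ⟨x, hx, rfl⟩ := qr_lift_reg p Q hQ y hy
      obtain ⟨g, rfl⟩ := QuotientGroup.mk_surjective h
      have h1 : (QuotientGroup.mk g : G ⧸ Q) * QuotientGroup.mk x * (QuotientGroup.mk g)⁻¹ =
          QuotientGroup.mk (g * x * g⁻¹) := rfl
      have h2 : ¬ p ∣ orderOf (g * x * g⁻¹) := by rw [qr_orderOf_conj]; exact hx
      rw [h1, hf_reg _ h2, hf_reg _ hx, irr_conj_invariant]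
  have hTf : qr_T p Q f = Cfsg.pRegularPart p (χ : G → ℂ) := by
    funext g
    by_cases hg : p ∣ orderOf g
    · rw [qr_T_sing p Q _ g hg, br_pRegularPart_sing p _ g hg]
    · rw [qr_T_reg p Q _ g hg, br_pRegularPart_reg p _ g hg, hf_reg g hg]
  have hexp := classFunction_expansion f hfclass
  have h1 : Cfsg.pRegularPart p (χ : G → ℂ) = ∑ ψ : Cfsg.IrrCharacter (G ⧸ Q),
      Cfsg.classInner f (ψ : G ⧸ Q → ℂ) • qr_T p Q (ψ : G ⧸ Q → ℂ) := by
    rw [← hTf]
    conv_lhs => rw [hexp]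
    rw [map_sum]
    refine Finset.sum_congr rfl fun ψ _ => ?_
    rw [map_smul]
  set B := Cfsg.blockOf M (χ₀ : G → ℂ) with hB
  have h2 := br_proj_fix hM χ₀ χ hχ
  have hsurj : Function.Surjective (QuotientGroup.mk' Q) := QuotientGroup.mk'_surjective Q
  have h3 : ∀ ψ : Cfsg.IrrCharacter (G ⧸ Q), br_proj p B (qr_T p Q (ψ : G ⧸ Q → ℂ)) =
      if xs_infl (QuotientGroup.mk' Q) hsurj ψ ∈ B then qr_T p Q (ψ : G ⧸ Q → ℂ) else 0 := by
    intro ψ
    have h4 : qr_T p Q (ψ : G ⧸ Q → ℂ) =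
        Cfsg.pRegularPart p (xs_infl (QuotientGroup.mk' Q) hsurj ψ : G → ℂ) := rfl
    split_ifs with hin
    · rw [h4]
      exact br_proj_fix hM χ₀ _ hin
    · rw [h4, br_proj_apply]
      apply Finset.sum_eq_zero
      intro χ' _
      split_ifs with hχ'
      · rw [cd_block_orth hM χ₀ _ hin χ' hχ', zero_smul]
      · rfl
  rw [← h2, h1, map_sum]
  apply Submodule.sum_mem
  intro ψ _
  rw [map_smul]
  apply Submodule.smul_mem
  rw [h3]
  split_ifs with hin
  · apply Submodule.subset_span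
    exact ⟨Cfsg.pRegularPart p (ψ : G ⧸ Q → ℂ), ⟨ψ, hin, rfl⟩, qr_T_pReg p Q _⟩
  · exact Submodule.zero_mem _

/-- the dominated set has the same `p`-regular rank -/
theorem h7_kd_dom_rank [Finite G] (p : ℕ) [hp : Fact p.Prime]
    (M : Ideal Cfsg.AlgInt) (hM : Cfsg.IsPModular p M)
    (Q : Subgroup G) [Q.Normal]
    (hQ : IsPGroup p Q) (hsup : Q ⊔ Subgroup.centralizer (Q : Set G) = ⊤)
    (b : Set (Cfsg.IrrCharacter G)) (hb : Cfsg.IsPBlock M b) :
    Cfsg.blockRank p b = Cfsg.blockRank p (h7_kd_dom Q b) := by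
  classical
  haveI : Fintype G := Fintype.ofFinite _
  have hMp := hM.2.1.isPrime
  obtain ⟨χ₀, rfl⟩ := hb
  unfold Cfsg.blockRank
  set SG := (fun χ : Cfsg.IrrCharacter G => Cfsg.pRegularPart p (χ : G → ℂ)) ''
    Cfsg.blockOf M (χ₀ : G → ℂ) with hSG
  set SQ := (fun ψ : Cfsg.IrrCharacter (G ⧸ Q) => Cfsg.pRegularPart p (ψ : G ⧸ Q → ℂ)) ''
    h7_kd_dom Q (Cfsg.blockOf M (χ₀ : G → ℂ)) with hSQ
  have hsurj : Function.Surjective (QuotientGroup.mk' Q) := QuotientGroup.mk'_surjective Q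
  have hspan : Submodule.span ℂ SG = (Submodule.span ℂ SQ).map (qr_T p Q) := by
    rw [Submodule.map_span]
    apply le_antisymm
    · rw [Submodule.span_le]
      rintro _ ⟨χ, hχ, rfl⟩
      exact h7_kd_core p M hM Q hQ hsup χ₀ χ hχ
    · rw [Submodule.span_le]
      rintro _ ⟨_, ⟨ψ, hψ, rfl⟩, rfl⟩
      rw [qr_T_pReg]
      apply Submodule.subset_span
      exact ⟨xs_infl (QuotientGroup.mk' Q) hsurj ψ, hψ, rfl⟩
  rw [hspan]
  have hvan : ∀ v ∈ Submodule.span ℂ SQ, ∀ y : G ⧸ Q, p ∣ orderOf y → v y = 0 := by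
    intro v hv
    induction hv using Submodule.span_induction with
    | mem x hx =>
      obtain ⟨ψ, _, rfl⟩ := hx
      intro y hy
      exact br_pRegularPart_sing p _ y hy
    | zero => intro y _; rfl
    | add a b _ _ ha hb =>
      intro y hy
      rw [Pi.add_apply, ha y hy, hb y hy, add_zero]
    | smul c a _ ha =>
      intro y hy
      rw [Pi.smul_apply, ha y hy, smul_zero]
  have hinj : Function.Injective ((qr_T p Q).submoduleMap (Submodule.span ℂ SQ)) := by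
    rw [injective_iff_map_eq_zero]
    intro v hv
    have h1 : qr_T p Q (v : G ⧸ Q → ℂ) = 0 := by
      have := congrArg Subtype.val hv
      exact this
    apply Subtype.ext
    funext y
    by_cases hy : p ∣ orderOf y
    · exact hvan v v.2 y hy
    · obtain ⟨x, hx, rfl⟩ := qr_lift_reg p Q hQ y hy
      have h2 := congrFun h1 x
      rw [qr_T_reg p Q _ x hx] at h2
      exact h2
  exact (LinearEquiv.ofBijective _
    ⟨hinj, LinearMap.submoduleMap_surjective _ _⟩).finrank_eq.symm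

/-- the dominated set is a block of `G/Q` -/
theorem h7_kd_dom_block [Finite G] (p : ℕ) [hp : Fact p.Prime]
    (M : Ideal Cfsg.AlgInt) (hM : Cfsg.IsPModular p M)
    (Q : Subgroup G) [Q.Normal]
    (hQ : IsPGroup p Q) (hsup : Q ⊔ Subgroup.centralizer (Q : Set G) = ⊤)
    (b : Set (Cfsg.IrrCharacter G)) (hb : Cfsg.IsPBlock M b) :
    Cfsg.IsPBlock M (h7_kd_dom Q b) := by
  classical
  haveI : Fintype G := Fintype.ofFinite _
  haveI : Fintype (G ⧸ Q) := Fintype.ofFinite _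
  haveI : Fintype (Cfsg.IrrCharacter G) := Fintype.ofFinite _
  have hMp := hM.2.1.isPrime
  have hrank := h7_kd_dom_rank p M hM Q hQ hsup b hb
  obtain ⟨χ₀, rfl⟩ := hb
  have hpos : 0 < Cfsg.blockRank p (Cfsg.blockOf M (χ₀ : G → ℂ)) :=
    sd_rank_pos p _ χ₀ (h7_sameBlock_refl hMp _)
  rw [hrank] at hpos
  have hne : (h7_kd_dom Q (Cfsg.blockOf M (χ₀ : G → ℂ))).Nonempty := by
    by_contra hemp
    rw [Set.not_nonempty_iff_eq_empty] at hemp
    rw [hemp] at hpos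
    unfold Cfsg.blockRank at hpos
    rw [Set.image_empty, Submodule.span_empty, finrank_bot] at hpos
    exact lt_irrefl 0 hpos
  obtain ⟨ψ₀, hψ₀⟩ := hne
  have hsurj : Function.Surjective (QuotientGroup.mk' Q) := QuotientGroup.mk'_surjective Q
  refine ⟨ψ₀, ?_⟩
  ext ψ
  constructor
  · intro hψ
    -- both inflations lie in the block of `χ₀`
    have h1 : xs_infl (QuotientGroup.mk' Q) hsurj ψ ∈ Cfsg.blockOf M (χ₀ : G → ℂ) := hψ
    have h0 : xs_infl (QuotientGroup.mk' Q) hsurj ψ₀ ∈ Cfsg.blockOf M (χ₀ : G → ℂ) := hψ₀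
    apply qr_sameBlock_of_pregular p M hM ψ₀ ψ
    intro y hy
    obtain ⟨x, hx, rfl⟩ := qr_lift_reg p Q hQ y hy
    have h3 := qr_centralChar_infl p Q hQ hsup (ψ : G ⧸ Q → ℂ) x hx
    have h4 := qr_centralChar_infl p Q hQ hsup (ψ₀ : G ⧸ Q → ℂ) x hx
    rw [← h3, ← h4]
    have e1 := h0 x
    have e2 := h1 x
    have e : Cfsg.centralChar (fun g : G => (ψ₀ : G ⧸ Q → ℂ) (QuotientGroup.mk g)) x -
        Cfsg.centralChar (fun g : G => (ψ : G ⧸ Q → ℂ) (QuotientGroup.mk g)) x =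
        (Cfsg.centralChar (χ₀ : G → ℂ) x -
          Cfsg.centralChar (fun g : G => (ψ : G ⧸ Q → ℂ) (QuotientGroup.mk g)) x) -
        (Cfsg.centralChar (χ₀ : G → ℂ) x -
          Cfsg.centralChar (fun g : G => (ψ₀ : G ⧸ Q → ℂ) (QuotientGroup.mk g)) x) := by ring
    rw [e]
    exact h7_memLocalIdeal_sub hMp e2 e1
  · intro hψ
    have h0 : xs_infl (QuotientGroup.mk' Q) hsurj ψ₀ ∈ Cfsg.blockOf M (χ₀ : G → ℂ) := hψ₀
    have h1 := fg_infl_sameBlock Q hMp (ψ₀ : G ⧸ Q → ℂ) (ψ : G ⧸ Q → ℂ) hψ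
    show xs_infl (QuotientGroup.mk' Q) hsurj ψ ∈ Cfsg.blockOf M (χ₀ : G → ℂ)
    intro g
    have e1 := h0 g
    have e2 := h1 g
    have e : Cfsg.centralChar (χ₀ : G → ℂ) g -
        Cfsg.centralChar (xs_infl (QuotientGroup.mk' Q) hsurj ψ : G → ℂ) g =
        (Cfsg.centralChar (χ₀ : G → ℂ) g -
          Cfsg.centralChar (xs_infl (QuotientGroup.mk' Q) hsurj ψ₀ : G → ℂ) g) +
        (Cfsg.centralChar (fun x : G => (ψ₀ : G ⧸ Q → ℂ) (QuotientGroup.mk x)) g -
          Cfsg.centralChar (fun x : G => (ψ : G ⧸ Q → ℂ) (QuotientGroup.mk x)) g) := by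
      show _ = _ + (Cfsg.centralChar (xs_infl (QuotientGroup.mk' Q) hsurj ψ₀ : G → ℂ) g -
        Cfsg.centralChar (xs_infl (QuotientGroup.mk' Q) hsurj ψ : G → ℂ) g)
      ring
    rw [e]
    exact h7_memLocalIdeal_add hMp e1 e2

end Cfsg.Agent.Lib.helper7
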