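import Mathlib
import Cfsg.Prelude.Def_Blocks
import Cfsg.Prelude.Def_BlockRank
import Cfsg.Agent.Lib.helper7.KleinDef1
import Cfsg.Agent.Lib.helper7.KleinDef3
import Cfsg.Agent.Lib.Helper25.BlockRankCard

/-!
A `2`-block of defect at most two of a group with a central involution has exactly one
irreducible Brauer character (h7_kd_local_rank).
-/

set_option autoImplicit false
set_option linter.style.haveILetI false
set_option linter.unusedSectionVars false
set_option linter.unusedVariables false
set_option maxHeartbeats 1600000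

namespace Cfsg.Agent.Lib.helper7

open Cfsg.Agent.Lib.helper2 Cfsg.Agent.Lib.Helper11 Cfsg.Agent.Lib.Helper25 Cfsg.Agent.Lib.Helper24

theorem h7_kd_local_rank {H : Type*} [Group H] [Finite H] (M : Ideal Cfsg.AlgInt)
    (hM : Cfsg.IsPModular 2 M) (y : H) (hy : orderOf y = 2) (hyc : y ∈ Subgroup.center H)
    (b : Set (Cfsg.IrrCharacter H)) (hb : Cfsg.IsPBlock M b)
    (hd : Cfsg.blockDefect 2 b ≤ 2) : Cfsg.blockRank 2 b = 1 := by
  classical
  haveI : Fact (Nat.Prime 2) := ⟨Nat.prime_two⟩
  haveI : Fintype H := Fintype.ofFinite _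
  haveI : Fintype (Cfsg.IrrCharacter H) := Fintype.ofFinite _
  have hMp := hM.2.1.isPrime
  obtain ⟨χ₀, hχ₀b⟩ : ∃ χ₀ : Cfsg.IrrCharacter H, χ₀ ∈ b := by
    obtain ⟨χ₀, rfl⟩ := hb
    exact ⟨χ₀, h7_sameBlock_refl hMp _⟩
  have hpos : 0 < Cfsg.blockRank 2 b := sd_rank_pos 2 b χ₀ hχ₀b
  have hcases : Cfsg.blockDefect 2 b = 0 ∨ Cfsg.blockDefect 2 b = 1 ∨
      Cfsg.blockDefect 2 b = 2 := by omega
  rcases hcases with h0 | h1 | h2
  · -- defect zero: a single character
    have hbound := bf_bound 2 M hM b hb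
    rw [h0] at hbound
    have hle := bk_rank_le_card 2 b
    have : Nat.card b ≤ 1 := by
      have : (2 : ℕ) ^ (2 * 0) + 4 = 5 := by norm_num
      omega
    omega
  · exact (sd_defect_one M hM b hb h1).2.1
  · -- defect two: pass to the quotient by `⟨y⟩`
    set Q : Subgroup H := Subgroup.zpowers y with hQ
    have hQc : Q ≤ Subgroup.center H := Subgroup.zpowers_le.mpr hyc
    haveI hQn : Q.Normal := by
      constructor
      intro n hn g
      have h1 : g * n = n * g := (Subgroup.mem_center_iff.mp (hQc hn) g)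
      rw [h1, mul_inv_cancel_right]
      exact hn
    have hQcard : Nat.card Q = 2 := by rw [hQ, Nat.card_zpowers, hy]
    have hQp : IsPGroup 2 Q := by
      apply IsPGroup.of_card (n := 1)
      rw [hQcard, pow_one]
    have hsup : Q ⊔ Subgroup.centralizer (Q : Set H) = ⊤ := by
      have : Subgroup.centralizer (Q : Set H) = ⊤ :=
        Subgroup.centralizer_eq_top_iff_subset.mpr hQc
      rw [this, sup_top_eq]
    haveI : Fintype (H ⧸ Q) := Fintype.ofFinite _
    haveI : Fintype (Cfsg.IrrCharacter (H ⧸ Q)) := Fintype.ofFinite _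
    have hrank := h7_kd_dom_rank 2 M hM Q hQp hsup b hb
    have hblock := h7_kd_dom_block 2 M hM Q hQp hsup b hb
    rw [hrank]
    -- the defect of the dominated block is one
    have hcardH : (Nat.card H).factorization 2 = (Nat.card (H ⧸ Q)).factorization 2 + 1 := by
      have h1 := Subgroup.card_eq_card_quotient_mul_card_subgroup Q
      rw [hQcard] at h1
      rw [h1, Nat.factorization_mul (Nat.card_pos.ne') (by norm_num)]
      simp [Nat.Prime.factorization_self Nat.prime_two]
    set m := sInf ((fun ψ : Cfsg.IrrCharacter H =>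
      (Cfsg.charDegree (ψ : H → ℂ)).factorization 2) '' b) with hm
    have hheights := h7_kd_heights M hM b hb h2
    have hdeg : ∀ ψ ∈ h7_kd_dom Q b, (Cfsg.charDegree (ψ : H ⧸ Q → ℂ)).factorization 2 = m := by
      intro ψ hψ
      have := hheights _ hψ
      rw [← hm] at this
      rw [← this]
      rfl
    obtain ⟨ψ₀, hψ₀⟩ : (h7_kd_dom Q b).Nonempty := by
      obtain ⟨ψ₀, hψ₀⟩ := hblock
      rw [hψ₀]
      exact ⟨ψ₀, h7_sameBlock_refl hMp _⟩
    have hsInf : sInf ((fun ψ : Cfsg.IrrCharacter (H ⧸ Q) =>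
        (Cfsg.charDegree (ψ : H ⧸ Q → ℂ)).factorization 2) '' h7_kd_dom Q b) = m := by
      have hset : ((fun ψ : Cfsg.IrrCharacter (H ⧸ Q) =>
          (Cfsg.charDegree (ψ : H ⧸ Q → ℂ)).factorization 2) '' h7_kd_dom Q b) = {m} := by
        ext n
        constructor
        · rintro ⟨ψ, hψ, rfl⟩
          exact hdeg ψ hψ
        · intro hn
          rw [Set.mem_singleton_iff] at hn
          exact ⟨ψ₀, hψ₀, (hdeg ψ₀ hψ₀).trans hn.symm⟩
      rw [hset, csInf_singleton]
    have hdefect : Cfsg.blockDefect 2 (h7_kd_dom Q b) = 1 := by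
      unfold Cfsg.blockDefect
      rw [hsInf]
      unfold Cfsg.blockDefect at h2
      rw [← hm] at h2
      omega
    exact (sd_defect_one M hM _ hblock hdefect).2.1

end Cfsg.Agent.Lib.helper7
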