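import Mathlib
import Cfsg.Prelude.Def_Blocks
import Cfsg.Prelude.Def_BlockRank
import Cfsg.Prelude.Def_BrauerPairs
import Cfsg.Agent.Lib.helper7.SecondMain3
import Cfsg.Agent.Lib.Helper24.CyclicInertial3
import Cfsg.Agent.Lib.Helper25.ThirdMainPair
import Cfsg.Agent.Lib.Helper25.BrauerPairConj

/-!
Blocks with abelian defect group `P` and a block `c` of `C_G(P)` inducing `B`:
`(P, c)` is a maximal Brauer pair of `B` (h7_kd_pair_of_induced, h7_kd_max), the inertial index
is prime to `p` (h7_kd_index) and divides `|P|!` (h7_kd_relIndex_dvd).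
-/

set_option autoImplicit false
set_option linter.style.haveILetI false
set_option linter.unusedSectionVars false
set_option linter.unusedVariables false
set_option maxHeartbeats 1600000

namespace Cfsg.Agent.Lib.helper7

open Cfsg.Agent.Lib.Helper25 Cfsg.Agent.Lib.Helper24

variable {G : Type*} [Group G]

theorem h7_kd_relIndex_dvd [Finite G] (P T : Subgroup G)
    (hTN : T ≤ Subgroup.normalizer (P : Set G)) :
    (Subgroup.centralizer (P : Set G)).relIndex T ∣ (Nat.card P).factorial := by
  classical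
  set ψ : T →* MulAut P := P.normalizerMonoidHom.comp (Subgroup.inclusion hTN) with hψ
  have hker : ψ.ker = (Subgroup.centralizer (P : Set G)).subgroupOf T := by
    rw [hψ, ← MonoidHom.comap_ker, Subgroup.normalizerMonoidHom_ker,
      Subgroup.comap_inclusion_subgroupOf]
  have h1 : (Subgroup.centralizer (P : Set G)).relIndex T = Nat.card ψ.range := by
    unfold Subgroup.relIndex
    rw [← hker, Subgroup.index_ker]
  rw [h1]
  have h2 : Nat.card ψ.range ∣ Nat.card (MulAut P) := Subgroup.card_subgroup_dvd_card _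
  have h3 : Nat.card (MulAut P) ∣ Nat.card (Equiv.Perm P) :=
    Subgroup.card_dvd_of_injective (MulAut.toPerm P) MulEquiv.toEquiv_injective
  rw [Nat.card_perm] at h3
  exact h2.trans h3

/-- a block of `C_G(Q)` inducing `B` gives a Brauer pair of `B` -/
theorem h7_kd_pair_of_induced [Fintype G] (p : ℕ) [hp : Fact p.Prime]
    (M : Ideal Cfsg.AlgInt) (hM : Cfsg.IsPModular p M) (Q : Subgroup G) (hQ : IsPGroup p Q)
    (B : Set (Cfsg.IrrCharacter G))
    (e : Set (Cfsg.IrrCharacter (Subgroup.centralizer (Q : Set G))))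
    (hind : Cfsg.IsInducedBlock M (Subgroup.centralizer (Q : Set G)) e B) :
    Cfsg.IsBrauerPairOf p M B Q e := by
  classical
  haveI : Fintype (Cfsg.IrrCharacter G) := Fintype.ofFinite _
  have hPr := hM.2.1.isPrime
  obtain ⟨B', hB', -⟩ := br_unique_block p M hM Q e ⟨hQ, hind.1⟩
  have h2 := tp_pair_induced p M hM Q B' e hB'
  have : B = B' := h7_induced_unique hPr _ e B B' hind h2
  rw [this]
  exact hB'

/-- `(P, c)` is a maximal pair when `P` is a defect group and `c` induces `B` -/
theorem h7_kd_max [Fintype G] (p : ℕ) [hp : Fact p.Prime]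
    (M : Ideal Cfsg.AlgInt) (hM : Cfsg.IsPModular p M) (B : Set (Cfsg.IrrCharacter G))
    (P : Subgroup G) (hPD : Cfsg.IsDefectGroup p M B P)
    (c : Set (Cfsg.IrrCharacter (Subgroup.centralizer (P : Set G))))
    (hc : Cfsg.IsInducedBlock M (Subgroup.centralizer (P : Set G)) c B) :
    Cfsg.IsMaximalBrauerPair p M B P c :=
  bq_max_of_defect p M hM B P c
    (h7_kd_pair_of_induced p M hM P (ef_isPGroup_of_defect hPD) B c hc) hPD

/-- the inertial index of a block with abelian defect group is prime to `p` -/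
theorem h7_kd_index [Finite G] (p : ℕ) [hp : Fact p.Prime] (M : Ideal Cfsg.AlgInt)
    (hM : Cfsg.IsPModular p M)
    (B : Set (Cfsg.IrrCharacter G)) (P : Subgroup G)
    (hPD : Cfsg.IsDefectGroup p M B P) (hPC : P ≤ Subgroup.centralizer (P : Set G))
    (c : Set (Cfsg.IrrCharacter (Subgroup.centralizer (P : Set G))))
    (hc : Cfsg.IsInducedBlock M (Subgroup.centralizer (P : Set G)) c B) (T : Subgroup G)
    (hT : ∀ g : G, g ∈ T ↔ (g ∈ Subgroup.normalizer (P : Set G) ∧
      Cfsg.StabilizesBlock (Subgroup.centralizer (P : Set G)) c g)) :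
    ¬ p ∣ (Subgroup.centralizer (P : Set G)).relIndex T := by
  classical
  haveI : Fintype G := Fintype.ofFinite _
  haveI : Fintype (Subgroup.centralizer (P : Set G)) := Fintype.ofFinite _
  have hPg : IsPGroup p P := ef_isPGroup_of_defect hPD
  have hdef := ci_defect hM B P hPD hPg _ hPC le_rfl c hc
  have hH : Subgroup.centralizer (P : Set G) = P ⊔ Subgroup.centralizer (P : Set G) :=
    (sup_eq_right.mpr hPC).symm
  have hT' : ∀ g : G, g ∈ T ↔ (g ∈ Subgroup.normalizer (P : Set G) ∧ ∀ θ ∈ c,
      ∀ θ' : Cfsg.IrrCharacter (Subgroup.centralizer (P : Set G)),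
      (∀ h h' : Subgroup.centralizer (P : Set G), (h' : G) = g * h * g⁻¹ →
        (θ' : Subgroup.centralizer (P : Set G) → ℂ) h' =
          (θ : Subgroup.centralizer (P : Set G) → ℂ) h) → θ' ∈ c) := by
    intro g
    rw [hT g]
    constructor
    · rintro ⟨hgN, hgC, hst⟩
      refine ⟨hgN, fun θ hθ θ' hθ' => ?_⟩
      obtain ⟨χ', hχ', hconj⟩ := hst θ hθ
      have e1 := bq_conjIrr_unique _ g hgC θ χ' hconj
      have e2 := bq_conjIrr_unique _ g hgC θ θ' hθ'
      rw [e2, ← e1]
      exact hχ'
    · rintro ⟨hgN, hst⟩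
      have hgC := ci_normalizer_le P hgN
      refine ⟨hgN, hgC, fun θ hθ => ⟨bq_conjIrr _ g hgC θ, ?_, bq_isConjCharOf _ g hgC θ⟩⟩
      exact hst θ hθ _ (bq_isConjCharOf _ g hgC θ)
  exact (si_main p M hM P hPg _ hH c hc.1 hdef B hc T hT').mp hPD

end Cfsg.Agent.Lib.helper7
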