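import Mathlib
import Cfsg.Prelude.Def_Blocks
import Cfsg.Prelude.Def_BlockRank
import Cfsg.Prelude.Def_BrauerPairs
import Cfsg.Agent.Lib.helper7.KleinDef2
import Cfsg.Agent.Lib.Helper25.BrauerPairAbelian2
import Cfsg.Agent.Lib.Helper25.BrauerPairTransfer

/-!
Brauer pairs of a block with abelian defect group `P` and maximal pair `(P, e)`:
fusion of subpairs is controlled by the stabilizer of `(P, e)` (h7_kd_fusion);
pairs are conjugate into `P` (h7_kd_conj_into); with a transitive stabilizer the pairs on a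
cyclic subgroup `⟨y⟩`, `y ∈ P`, lie below `(P, e)` (h7_kd_pair_le);
counting pairs at `⟨g⟩` from below by the elements of `P` conjugate to `g` when the stabilizer
is `C_G(P)` (h7_kd_count).
-/

set_option autoImplicit false
set_option linter.style.haveILetI false
set_option linter.unusedSectionVars false
set_option linter.unusedVariables false
set_option maxHeartbeats 1600000

namespace Cfsg.Agent.Lib.helper7

open Cfsg.Agent.Lib.Helper25 Cfsg.Agent.Lib.Helper24

variable {G : Type*} [Group G]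

theorem h7_kd_map_zpowers (x y : G) :
    (Subgroup.zpowers y).map (MulAut.conj x).toMonoidHom = Subgroup.zpowers (x * y * x⁻¹) := by
  rw [MonoidHom.map_zpowers]
  rfl

/-- fusion of subpairs of `(P, e)`, `P` abelian, is controlled by the stabilizer of `(P, e)` -/
theorem h7_kd_fusion [Fintype G] (p : ℕ) [hp : Fact p.Prime]
    (M : Ideal Cfsg.AlgInt) (hM : Cfsg.IsPModular p M) (B : Set (Cfsg.IrrCharacter G))
    (P : Subgroup G) (e : Set (Cfsg.IrrCharacter (Subgroup.centralizer (P : Set G))))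
    (hmax : Cfsg.IsMaximalBrauerPair p M B P e)
    (hab : ∀ x ∈ P, ∀ y ∈ P, x * y = y * x)
    (Q Q' : Subgroup G) (f : Set (Cfsg.IrrCharacter (Subgroup.centralizer (Q : Set G))))
    (f' : Set (Cfsg.IrrCharacter (Subgroup.centralizer (Q' : Set G))))
    (hQP : Q ≤ P) (hQ'P : Q' ≤ P)
    (hle : Cfsg.SubpairLE p M Q f P e) (hle' : Cfsg.SubpairLE p M Q' f' P e)
    (x : G) (hx : bq_conjIdx x ⟨Q, f⟩ = (⟨Q', f'⟩ : Cfsg.BrauerPairIdx G)) :
    ∃ c ∈ Subgroup.centralizer (Q' : Set G),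
      bq_conjIdx (c * x) ⟨P, e⟩ = (⟨P, e⟩ : Cfsg.BrauerPairIdx G) := by
  have hPr := hM.2.1.isPrime
  have hPe : Cfsg.IsBrauerPair p M P e := hmax.1.1
  have hPC : P ≤ Subgroup.centralizer (Q : Set G) := by
    intro u hu
    rw [Subgroup.mem_centralizer_iff]
    intro q hq
    exact hab q (hQP hq) u hu
  have hPC' : P ≤ Subgroup.centralizer (Q' : Set G) := by
    intro u hu
    rw [Subgroup.mem_centralizer_iff]
    intro q hq
    exact hab q (hQ'P hq) u hu
  have hPN : P ≤ Subgroup.normalizer (Q : Set G) :=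
    hPC.trans (Subgroup.centralizer_le_normalizer _)
  have hPN' : P ≤ Subgroup.normalizer (Q' : Set G) :=
    hPC'.trans (Subgroup.centralizer_le_normalizer _)
  have hn := bq_le_normal p M hM Q P f e hPe hQP hPN hle
  have hn' := bq_le_normal p M hM Q' P f' e hPe hQ'P hPN' hle'
  have hnx := bq_conj_normalSubpair p M Q P x f e hn
  have hnx' : Cfsg.NormalSubpairRel p M (bq_conjIdx x ⟨Q, f⟩) (bq_conjIdx x ⟨P, e⟩) := hnx
  rw [hx] at hnx'
  have hn₂ : Cfsg.IsNormalSubpair p M Q' f' (P.map (MulAut.conj x).toMonoidHom)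
      (Cfsg.conjBlock P x e) := hnx'
  have hQ'eq : Q.map (MulAut.conj x).toMonoidHom = Q' := congrArg Sigma.fst hx
  have hP₂C : P.map (MulAut.conj x).toMonoidHom ≤ Subgroup.centralizer (Q' : Set G) := by
    rintro _ ⟨u, hu, rfl⟩
    rw [Subgroup.mem_centralizer_iff]
    intro q' hq'
    rw [← hQ'eq] at hq'
    obtain ⟨q, hq, rfl⟩ := hq'
    simp only [MulEquiv.coe_toMonoidHom, MulAut.conj_apply]
    have h1 := hab q (hQP hq) u hu
    calc x * q * x⁻¹ * (x * u * x⁻¹) = x * (q * u) * x⁻¹ := by group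
      _ = x * (u * q) * x⁻¹ := by rw [h1]
      _ = x * u * x⁻¹ * (x * q * x⁻¹) := by group
  obtain ⟨c, hcC, hc⟩ := bq_over_conj p M hM B P e hmax Q' f' hQ'P hPC' hn' _ _ hn₂.2.2.1 hP₂C hn₂
    (le_of_eq (Subgroup.card_map_of_injective (MulAut.conj x).injective).symm)
  refine ⟨c, hcC, ?_⟩
  rw [← bq_conjIdx_mul]
  exact hc

/-- Brauer pairs of `B` are conjugate into `P` -/
theorem h7_kd_conj_into [Fintype G] (p : ℕ) [hp : Fact p.Prime]
    (M : Ideal Cfsg.AlgInt) (hM : Cfsg.IsPModular p M) (B : Set (Cfsg.IrrCharacter G))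
    (P : Subgroup G) (e : Set (Cfsg.IrrCharacter (Subgroup.centralizer (P : Set G))))
    (hmax : Cfsg.IsMaximalBrauerPair p M B P e)
    (g : G) (f : Set (Cfsg.IrrCharacter (Subgroup.centralizer (Subgroup.zpowers g : Set G))))
    (hf : Cfsg.IsBrauerPairOf p M B (Subgroup.zpowers g) f) :
    ∃ x : G, x * g * x⁻¹ ∈ P := by
  obtain ⟨x, hx⟩ := bq_conj_into_max p M hM B P (Subgroup.zpowers g) e f hmax hf
  have h1 : (Subgroup.zpowers g).map (MulAut.conj x).toMonoidHom ≤ P :=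
    bq_chain_le p M _ _ hx
  refine ⟨x, h1 ?_⟩
  rw [h7_kd_map_zpowers]
  exact Subgroup.mem_zpowers _

theorem h7_kd_conjIdx_inv (x : G) (a b : Cfsg.BrauerPairIdx G) (h : bq_conjIdx x a = b) :
    a = bq_conjIdx x⁻¹ b := by
  rw [← h, bq_conjIdx_mul, inv_mul_cancel, bq_conjIdx_one]

/-- with a stabilizer transitive on `P \ 1`, every pair of `B` on `⟨y⟩`, `1 ≠ y ∈ P`, lies
below `(P, e)` -/
theorem h7_kd_pair_le [Fintype G] (p : ℕ) [hp : Fact p.Prime]
    (M : Ideal Cfsg.AlgInt) (hM : Cfsg.IsPModular p M) (B : Set (Cfsg.IrrCharacter G))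
    (P : Subgroup G) (e : Set (Cfsg.IrrCharacter (Subgroup.centralizer (P : Set G))))
    (hmax : Cfsg.IsMaximalBrauerPair p M B P e)
    (htrans : ∀ y ∈ P, y ≠ 1 → ∀ y' ∈ P, y' ≠ 1 → ∃ t : G,
      t ∈ Subgroup.normalizer (P : Set G) ∧
      Cfsg.StabilizesBlock (Subgroup.centralizer (P : Set G)) e t ∧ t * y * t⁻¹ = y')
    (y₀ : G) (hy₀ : y₀ ∈ P) (hy₀1 : y₀ ≠ 1)
    (f : Set (Cfsg.IrrCharacter (Subgroup.centralizer (Subgroup.zpowers y₀ : Set G))))
    (hf : Cfsg.IsBrauerPairOf p M B (Subgroup.zpowers y₀) f) :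
    Cfsg.SubpairLE p M (Subgroup.zpowers y₀) f P e := by
  have hPr := hM.2.1.isPrime
  obtain ⟨x, hx⟩ := bq_conj_into_max p M hM B P (Subgroup.zpowers y₀) e f hmax hf
  have h1 : (Subgroup.zpowers y₀).map (MulAut.conj x).toMonoidHom ≤ P :=
    bq_chain_le p M _ _ hx
  have hyP : x * y₀ * x⁻¹ ∈ P := by
    apply h1
    rw [h7_kd_map_zpowers]
    exact Subgroup.mem_zpowers _
  have hy1 : x * y₀ * x⁻¹ ≠ 1 := by
    intro h
    apply hy₀1
    have : y₀ = x⁻¹ * (x * y₀ * x⁻¹) * x := by group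
    rw [this, h]
    group
  obtain ⟨t, htN, htS, hty⟩ := htrans _ hyP hy1 y₀ hy₀ hy₀1
  have hx' : Relation.ReflTransGen (Cfsg.NormalSubpairRel p M)
      (bq_conjIdx x ⟨Subgroup.zpowers y₀, f⟩) ⟨P, e⟩ := hx
  have h2 := bq_conj_subpairLE p M t _ _ hx'
  rw [bq_conjIdx_mul, bq_conjIdx_of_stab hPr P e hmax.1.1.2 t htN htS] at h2
  have htx : t * x ∈ Subgroup.centralizer (Subgroup.zpowers y₀ : Set G) := by
    rw [Subgroup.mem_centralizer_iff]
    intro q hq
    obtain ⟨k, rfl⟩ := Subgroup.mem_zpowers_iff.mp hq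
    have hc : t * x * y₀ = y₀ * (t * x) := by
      calc t * x * y₀ = t * (x * y₀ * x⁻¹) * t⁻¹ * (t * x) := by group
        _ = y₀ * (t * x) := by rw [hty]
    exact ((Commute.zpow_right (show Commute (t * x) y₀ from hc) k).eq).symm
  have hfix := bq_conjIdx_of_stab hPr (Subgroup.zpowers y₀) f hf.1.2 (t * x)
    (Subgroup.centralizer_le_normalizer _ htx) (bq_inner_stabilizes _ f (t * x) htx)
  rw [hfix] at h2
  exact h2

/-- with stabilizer `C_G(P)`, the pairs of `B` on `⟨g⟩` are at least as many as the nontrivial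
elements of `P` conjugate to `g` -/
theorem h7_kd_count [Fintype G] [DecidableEq G] (p : ℕ) [hp : Fact p.Prime]
    (M : Ideal Cfsg.AlgInt) (hM : Cfsg.IsPModular p M) (B : Set (Cfsg.IrrCharacter G))
    (P : Subgroup G) (e : Set (Cfsg.IrrCharacter (Subgroup.centralizer (P : Set G))))
    (hmax : Cfsg.IsMaximalBrauerPair p M B P e)
    (hab : ∀ x ∈ P, ∀ y ∈ P, x * y = y * x)
    (hstab : ∀ t : G, t ∈ Subgroup.normalizer (P : Set G) →
      Cfsg.StabilizesBlock (Subgroup.centralizer (P : Set G)) e t →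
      t ∈ Subgroup.centralizer (P : Set G))
    (g : G) (A : Finset G) (hA : ∀ y ∈ A, y ∈ P ∧ IsConj y g) :
    A.card ≤ Set.ncard {f : Set (Cfsg.IrrCharacter
      (Subgroup.centralizer (Subgroup.zpowers g : Set G))) |
      Cfsg.IsBrauerPairOf p M B (Subgroup.zpowers g) f} := by
  classical
  have hPr := hM.2.1.isPrime
  have hPe : Cfsg.IsBrauerPair p M P e := hmax.1.1
  set S' := {f : Set (Cfsg.IrrCharacter
      (Subgroup.centralizer (Subgroup.zpowers g : Set G))) |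
      Cfsg.IsBrauerPairOf p M B (Subgroup.zpowers g) f} with hS'
  set 𝒮 : Set (Cfsg.BrauerPairIdx G) :=
    {a | a.1 = Subgroup.zpowers g ∧ Cfsg.IsBrauerPairOf p M B a.1 a.2} with h𝒮
  have himg : 𝒮 = (fun f => (⟨Subgroup.zpowers g, f⟩ : Cfsg.BrauerPairIdx G)) '' S' := by
    ext a
    constructor
    · rintro ⟨h1, h2⟩
      obtain ⟨Q, f⟩ := a
      simp only at h1
      subst h1
      exact ⟨f, h2, rfl⟩
    · rintro ⟨f, hf, rfl⟩
      exact ⟨rfl, hf⟩
  have hcard : 𝒮.ncard = S'.ncard := by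
    rw [himg]
    exact Set.ncard_image_of_injective _
      (fun f f' h => eq_of_heq (Sigma.mk.inj_iff.mp h).2)
  rw [← hcard]
  -- the map from `A`
  have hex : ∀ y : A, ∃ a : Cfsg.BrauerPairIdx G, ∃ h : G,
      ∃ f : Set (Cfsg.IrrCharacter (Subgroup.centralizer (Subgroup.zpowers (y : G) : Set G))),
      h * (y : G) * h⁻¹ = g ∧ Cfsg.SubpairLE p M (Subgroup.zpowers (y : G)) f P e ∧
      a = bq_conjIdx h ⟨Subgroup.zpowers (y : G), f⟩ := by
    intro y
    obtain ⟨hyP, hyg⟩ := hA y y.2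
    obtain ⟨h, hh⟩ := isConj_iff.mp hyg
    obtain ⟨f, _, hle⟩ := bq_subpair_exists p M hM P e hPe (Subgroup.zpowers (y : G))
      (Subgroup.zpowers_le.mpr hyP)
    exact ⟨_, h, f, hh, hle, rfl⟩
  choose φ hφ using hex
  have hmem : ∀ y : A, φ y ∈ 𝒮 := by
    intro y
    obtain ⟨h, f, hh, hle, heq⟩ := hφ y
    rw [heq]
    refine ⟨?_, ?_⟩
    · show (Subgroup.zpowers (y : G)).map (MulAut.conj h).toMonoidHom = Subgroup.zpowers g
      rw [h7_kd_map_zpowers, hh]
    · exact bq_conj_isBrauerPairOf p M B _ h f ((bq_pairOf_le p M hM P _ e f hle B).mp hmax.1)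
  have hinj : Function.Injective (fun y : A => (⟨φ y, hmem y⟩ : 𝒮)) := by
    intro y y' hyy'
    have heq : φ y = φ y' := congrArg Subtype.val hyy'
    obtain ⟨h, f, hh, hle, e1⟩ := hφ y
    obtain ⟨h', f', hh', hle', e2⟩ := hφ y'
    obtain ⟨hyP, -⟩ := hA y y.2
    obtain ⟨hy'P, -⟩ := hA y' y'.2
    have e3 : bq_conjIdx h ⟨Subgroup.zpowers (y : G), f⟩ =
        bq_conjIdx h' ⟨Subgroup.zpowers (y' : G), f'⟩ := by rw [← e1, ← e2, heq]
    have e4 : bq_conjIdx (h'⁻¹ * h) ⟨Subgroup.zpowers (y : G), f⟩ =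
        (⟨Subgroup.zpowers (y' : G), f'⟩ : Cfsg.BrauerPairIdx G) := by
      rw [← bq_conjIdx_mul, e3, bq_conjIdx_mul, inv_mul_cancel, bq_conjIdx_one]
    obtain ⟨c, hcC, hc⟩ := h7_kd_fusion p M hM B P e hmax hab _ _ f f'
      (Subgroup.zpowers_le.mpr hyP) (Subgroup.zpowers_le.mpr hy'P) hle hle' _ e4
    obtain ⟨htN, htS⟩ := bq_stab_of_conjIdx hPr P e hPe.2 _ hc
    have htC := hstab _ htN htS
    -- the element `c * (h'⁻¹ * h)` centralizes `y` and maps it to `y'`
    have h1 : (c * (h'⁻¹ * h)) * (y : G) * (c * (h'⁻¹ * h))⁻¹ = (y : G) := by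
      have := Subgroup.mem_centralizer_iff.mp htC (y : G) hyP
      rw [← this]
      group
    have h2 : (c * (h'⁻¹ * h)) * (y : G) * (c * (h'⁻¹ * h))⁻¹ = (y' : G) := by
      have hcy' : c * (y' : G) = (y' : G) * c :=
        (Subgroup.mem_centralizer_iff.mp hcC (y' : G) (Subgroup.mem_zpowers _)).symm
      calc (c * (h'⁻¹ * h)) * (y : G) * (c * (h'⁻¹ * h))⁻¹
          = c * (h'⁻¹ * (h * (y : G) * h⁻¹) * h') * c⁻¹ := by group
        _ = c * (h'⁻¹ * (h' * (y' : G) * h'⁻¹) * h') * c⁻¹ := by rw [hh, hh']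
        _ = c * (y' : G) * c⁻¹ := by group
        _ = (y' : G) := by rw [hcy']; group
    exact Subtype.ext (h1.symm.trans h2)
  haveI : Finite (Cfsg.BrauerPairIdx G) := inferInstance
  have h3 := Nat.card_le_card_of_injective _ hinj
  rw [Nat.card_eq_fintype_card, Fintype.card_coe] at h3
  rw [← Nat.card_coe_set_eq]
  exact h3

end Cfsg.Agent.Lib.helper7
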