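import Mathlib
import Cfsg.Prelude.Def_Blocks
import Cfsg.Prelude.Def_BlockRank
import Cfsg.Prelude.Def_BrauerPairs
import Cfsg.Agent.Lib.helper7.KleinDef4
import Cfsg.Agent.Lib.helper7.KleinDef6
import Cfsg.Agent.Lib.helper7.BlockDefGrp
import Cfsg.Agent.Lib.Helper25.SubsectionCount

/-!
The subsection count `n(x) = Σ_{b^G = B} l(b)` over the blocks `b` of `C_G(x)`
(h7_kd_n): `n(1) = l(B)`, class invariance, `n(x) ≠ 0` forces `x` conjugate into a defect group,
`n(y) = #pairs on ⟨y⟩` for involutions `y` when `d(B) ≤ 2`.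
-/

set_option autoImplicit false
set_option linter.style.haveILetI false
set_option linter.unusedSectionVars false
set_option linter.unusedVariables false
set_option maxHeartbeats 1600000

namespace Cfsg.Agent.Lib.helper7

open Cfsg.Agent.Lib.helper2 Cfsg.Agent.Lib.Helper25 Cfsg.Agent.Lib.Helper24
open scoped ComplexConjugate

variable {G : Type*} [Group G]

/-- the subsection count at `x` -/
noncomputable def h7_kd_n (p : ℕ) (M : Ideal Cfsg.AlgInt) (B : Set (Cfsg.IrrCharacter G))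
    (x : G) : ℕ :=
  ∑ᶠ b ∈ {b : Set (Cfsg.IrrCharacter ↥(Subgroup.centralizer ({x} : Set G))) |
    Cfsg.IsInducedBlock M (Subgroup.centralizer ({x} : Set G)) b B}, Cfsg.blockRank p b

theorem h7_kd_centralizer_zpowers (x : G) :
    Subgroup.centralizer ({x} : Set G) = Subgroup.centralizer (Subgroup.zpowers x : Set G) := by
  ext g
  rw [Subgroup.mem_centralizer_singleton_iff, Subgroup.mem_centralizer_iff]
  constructor
  · intro h q hq
    obtain ⟨k, rfl⟩ := Subgroup.mem_zpowers_iff.mp hq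
    exact ((Commute.zpow_right (show Commute g x from h) k).eq).symm
  · intro h
    exact (h x (Subgroup.mem_zpowers x)).symm

theorem h7_kd_transport (p : ℕ) (M : Ideal Cfsg.AlgInt) (B : Set (Cfsg.IrrCharacter G))
    (H K : Subgroup G) (h : H = K) :
    (∑ᶠ b ∈ {b : Set (Cfsg.IrrCharacter H) | Cfsg.IsInducedBlock M H b B}, Cfsg.blockRank p b) =
    ∑ᶠ b ∈ {b : Set (Cfsg.IrrCharacter K) | Cfsg.IsInducedBlock M K b B}, Cfsg.blockRank p b := by
  subst h
  rfl

theorem h7_kd_defect_le [Finite G] (p : ℕ) [hp : Fact p.Prime] (M : Ideal Cfsg.AlgInt)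
    (hM : Cfsg.IsPModular p M) (H : Subgroup G) (b : Set (Cfsg.IrrCharacter H))
    (B : Set (Cfsg.IrrCharacter G)) (hind : Cfsg.IsInducedBlock M H b B) :
    Cfsg.blockDefect p b ≤ Cfsg.blockDefect p B := by
  classical
  haveI : Fintype G := Fintype.ofFinite _
  haveI : Fintype (Cfsg.IrrCharacter G) := Fintype.ofFinite _
  haveI : Fintype (Cfsg.IrrCharacter H) := Fintype.ofFinite _
  have hPr := hM.2.1.isPrime
  obtain ⟨hcb, hBb, hcong⟩ := hind
  obtain ⟨Dc, hDc⟩ := si_exists_defect hM b hcb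
  obtain ⟨ξ₀, rfl⟩ := hcb
  obtain ⟨χ₀, rfl⟩ := hBb
  have hξ₀ : ξ₀ ∈ Cfsg.blockOf M (ξ₀ : H → ℂ) := h7_sameBlock_refl hPr _
  have hχ₀ : χ₀ ∈ Cfsg.blockOf M (χ₀ : G → ℂ) := h7_sameBlock_refl hPr _
  obtain ⟨E, hE, hDE⟩ := h7_induced_defect_le hM H ξ₀ χ₀ (hcong ξ₀ hξ₀ χ₀ hχ₀) Dc hDc
  have hEcard := Cfsg.Agent.S0908.result p M hM _ ⟨χ₀, rfl⟩ E hE
  have hDcard := Cfsg.Agent.S0908.result p M hM _ ⟨ξ₀, rfl⟩ Dc hDc
  have e1 : Nat.card (Dc.map H.subtype) = Nat.card Dc :=
    Subgroup.card_map_of_injective H.subtype_injective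
  have h3 : Nat.card Dc ≤ Nat.card E := by
    rw [← e1]
    exact Subgroup.card_le_of_le hDE
  rw [hEcard, hDcard] at h3
  exact (Nat.pow_le_pow_iff_right hp.out.one_lt).mp h3

/-- the pairs of `B` on `Q` are the blocks of `C_G(Q)` inducing `B` -/
theorem h7_kd_pairs_eq [Fintype G] (p : ℕ) [hp : Fact p.Prime]
    (M : Ideal Cfsg.AlgInt) (hM : Cfsg.IsPModular p M) (B : Set (Cfsg.IrrCharacter G))
    (Q : Subgroup G) (hQ : IsPGroup p Q) :
    {f : Set (Cfsg.IrrCharacter (Subgroup.centralizer (Q : Set G))) |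
      Cfsg.IsInducedBlock M (Subgroup.centralizer (Q : Set G)) f B} =
    {f | Cfsg.IsBrauerPairOf p M B Q f} := by
  ext f
  exact ⟨fun h => h7_kd_pair_of_induced p M hM Q hQ B f h,
    fun h => tp_pair_induced p M hM Q B f h⟩

theorem h7_kd_isPGroup_zpowers (p : ℕ) [hp : Fact p.Prime] (x : G)
    (hx : ∃ k : ℕ, orderOf x = p ^ k) : IsPGroup p (Subgroup.zpowers x) := by
  obtain ⟨k, hk⟩ := hx
  apply IsPGroup.of_card (n := k)
  rw [Nat.card_zpowers, hk]

/-- the count at `x` in terms of Brauer pairs on `⟨x⟩` -/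
theorem h7_kd_n_eq [Fintype G] (p : ℕ) [hp : Fact p.Prime]
    (M : Ideal Cfsg.AlgInt) (hM : Cfsg.IsPModular p M) (B : Set (Cfsg.IrrCharacter G))
    (x : G) (hx : ∃ k : ℕ, orderOf x = p ^ k) :
    h7_kd_n p M B x = ∑ᶠ f ∈ {f : Set (Cfsg.IrrCharacter
      (Subgroup.centralizer (Subgroup.zpowers x : Set G))) |
      Cfsg.IsBrauerPairOf p M B (Subgroup.zpowers x) f}, Cfsg.blockRank p f := by
  unfold h7_kd_n
  rw [h7_kd_transport p M B _ _ (h7_kd_centralizer_zpowers x),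
    h7_kd_pairs_eq p M hM B _ (h7_kd_isPGroup_zpowers p x hx)]

theorem h7_kd_finsum_le {α : Type*} [Finite α] (S : Set α) (r : α → ℕ)
    (h : ∀ a ∈ S, 1 ≤ r a) : S.ncard ≤ ∑ᶠ a ∈ S, r a := by
  classical
  have hS : S.Finite := Set.toFinite S
  rw [finsum_mem_eq_finite_toFinset_sum r hS, Set.ncard_eq_toFinset_card S hS]
  calc hS.toFinset.card = ∑ a ∈ hS.toFinset, 1 := by simp
    _ ≤ ∑ a ∈ hS.toFinset, r a := Finset.sum_le_sum fun a ha => h a (hS.mem_toFinset.mp ha)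

theorem h7_kd_finsum_eq {α : Type*} [Finite α] (S : Set α) (r : α → ℕ)
    (h : ∀ a ∈ S, r a = 1) : ∑ᶠ a ∈ S, r a = S.ncard := by
  classical
  have hS : S.Finite := Set.toFinite S
  rw [finsum_mem_eq_finite_toFinset_sum r hS, Set.ncard_eq_toFinset_card S hS]
  calc ∑ a ∈ hS.toFinset, r a = ∑ a ∈ hS.toFinset, 1 :=
        Finset.sum_congr rfl fun a ha => h a (hS.mem_toFinset.mp ha)
    _ = hS.toFinset.card := by simp

/-- at least as many as pairs -/
theorem h7_kd_n_ge [Fintype G] (p : ℕ) [hp : Fact p.Prime]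
    (M : Ideal Cfsg.AlgInt) (hM : Cfsg.IsPModular p M) (B : Set (Cfsg.IrrCharacter G))
    (x : G) (hx : ∃ k : ℕ, orderOf x = p ^ k) :
    Set.ncard {f : Set (Cfsg.IrrCharacter
      (Subgroup.centralizer (Subgroup.zpowers x : Set G))) |
      Cfsg.IsBrauerPairOf p M B (Subgroup.zpowers x) f} ≤ h7_kd_n p M B x := by
  classical
  haveI : Fintype (Cfsg.IrrCharacter (Subgroup.centralizer (Subgroup.zpowers x : Set G))) :=
    Fintype.ofFinite _
  have hPr := hM.2.1.isPrime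
  rw [h7_kd_n_eq p M hM B x hx]
  apply h7_kd_finsum_le
  intro f hf
  obtain ⟨ξ, hξ⟩ := hf.1.2
  exact sd_rank_pos p f ξ (by rw [hξ]; exact h7_sameBlock_refl hPr _)

/-- a block of `C_G(y)`, `y` an involution, inducing a block of defect at most two has rank one -/
theorem h7_kd_pair_rank [Fintype G] (M : Ideal Cfsg.AlgInt) (hM : Cfsg.IsPModular 2 M)
    (B : Set (Cfsg.IrrCharacter G)) (hd : Cfsg.blockDefect 2 B ≤ 2) (y : G) (hy : orderOf y = 2)
    (f : Set (Cfsg.IrrCharacter (Subgroup.centralizer (Subgroup.zpowers y : Set G))))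
    (hf : Cfsg.IsInducedBlock M (Subgroup.centralizer (Subgroup.zpowers y : Set G)) f B) :
    Cfsg.blockRank 2 f = 1 := by
  haveI : Fact (Nat.Prime 2) := ⟨Nat.prime_two⟩
  have hyC : y ∈ Subgroup.centralizer (Subgroup.zpowers y : Set G) := by
    rw [← h7_kd_centralizer_zpowers]
    exact Subgroup.mem_centralizer_singleton_iff.mpr rfl
  apply h7_kd_local_rank M hM (⟨y, hyC⟩ : Subgroup.centralizer (Subgroup.zpowers y : Set G))
  · rw [Subgroup.orderOf_mk]
    exact hy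
  · rw [Subgroup.mem_center_iff]
    intro h
    apply Subtype.ext
    have := Subgroup.mem_centralizer_iff.mp h.2 y (Subgroup.mem_zpowers y)
    simpa using this.symm
  · exact hf.1
  · exact (h7_kd_defect_le 2 M hM _ f B hf).trans hd

/-- the count at an involution is the number of pairs -/
theorem h7_kd_n_invol [Fintype G] (M : Ideal Cfsg.AlgInt) (hM : Cfsg.IsPModular 2 M)
    (B : Set (Cfsg.IrrCharacter G)) (hd : Cfsg.blockDefect 2 B ≤ 2) (y : G) (hy : orderOf y = 2) :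
    h7_kd_n 2 M B y = Set.ncard {f : Set (Cfsg.IrrCharacter
      (Subgroup.centralizer (Subgroup.zpowers y : Set G))) |
      Cfsg.IsBrauerPairOf 2 M B (Subgroup.zpowers y) f} := by
  classical
  haveI : Fact (Nat.Prime 2) := ⟨Nat.prime_two⟩
  haveI : Fintype (Cfsg.IrrCharacter (Subgroup.centralizer (Subgroup.zpowers y : Set G))) :=
    Fintype.ofFinite _
  rw [h7_kd_n_eq 2 M hM B y ⟨1, by rw [hy, pow_one]⟩]
  apply h7_kd_finsum_eq
  intro f hf
  exact h7_kd_pair_rank M hM B hd y hy f (tp_pair_induced 2 M hM _ B f hf)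

/-- a nonzero count gives a pair -/
theorem h7_kd_n_ne_zero [Fintype G] (p : ℕ) [hp : Fact p.Prime]
    (M : Ideal Cfsg.AlgInt) (hM : Cfsg.IsPModular p M) (B : Set (Cfsg.IrrCharacter G))
    (x : G) (hx : ∃ k : ℕ, orderOf x = p ^ k) (hn : h7_kd_n p M B x ≠ 0) :
    ∃ f : Set (Cfsg.IrrCharacter (Subgroup.centralizer (Subgroup.zpowers x : Set G))),
      Cfsg.IsBrauerPairOf p M B (Subgroup.zpowers x) f := by
  by_contra hcon
  push Not at hcon
  apply hn
  rw [h7_kd_n_eq p M hM B x hx]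
  have : {f : Set (Cfsg.IrrCharacter
      (Subgroup.centralizer (Subgroup.zpowers x : Set G))) |
      Cfsg.IsBrauerPairOf p M B (Subgroup.zpowers x) f} = ∅ := by
    ext f
    simp only [Set.mem_ofPred_eq, Set.mem_empty_iff_false, iff_false]
    exact hcon f
  rw [this, finsum_mem_empty]

end Cfsg.Agent.Lib.helper7
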