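import Mathlib
import Cfsg.Prelude.Def_Blocks
import Cfsg.Prelude.Def_BlockRank
import Cfsg.Prelude.Def_BrauerPairs
import Cfsg.Agent.Lib.helper7.KleinDef7

/-!
Brauer's formula `k(B) = l(B) + Σ_{x ∈ X, x ≠ 1} n(x)` with a constructed set of representatives
(h7_kd_brauer), `n(1) = l(B)` (h7_kd_n_one) and class invariance of `n` (h7_kd_n_conj).
-/

set_option autoImplicit false
set_option linter.style.haveILetI false
set_option linter.unusedSectionVars false
set_option linter.unusedVariables false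
set_option maxHeartbeats 1600000

namespace Cfsg.Agent.Lib.helper7

open Cfsg.Agent.Lib.helper2 Cfsg.Agent.Lib.Helper25 Cfsg.Agent.Lib.Helper24
open scoped ComplexConjugate

variable {G : Type*} [Group G]

theorem h7_kd_pp_eq_one_iff [Finite G] (p : ℕ) [hp : Fact p.Prime] (g : G) :
    IsConj (sc_pp p g) 1 ↔ ¬ p ∣ orderOf g := by
  rw [isConj_one_left]
  constructor
  · intro h
    obtain ⟨y, hy1, -, -, hy2⟩ := sc_pp_spec p g
    rw [h, one_mul] at hy1
    rw [← hy1]
    exact hy2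
  · intro hg
    exact sc_pp_eq p ⟨g, one_mul g, Commute.one_left g, ⟨0, by rw [orderOf_one, pow_zero]⟩, hg⟩

/-- the count at the identity is `l(B)` -/
theorem h7_kd_n_one [Fintype G] (p : ℕ) [hp : Fact p.Prime]
    (M : Ideal Cfsg.AlgInt) (hM : Cfsg.IsPModular p M) (B : Set (Cfsg.IrrCharacter G))
    (hB : Cfsg.IsPBlock M B) : h7_kd_n p M B 1 = Cfsg.blockRank p B := by
  classical
  haveI : Fintype (Cfsg.IrrCharacter G) := Fintype.ofFinite _
  have h1 := sc_per_x p M hM B hB 1 ⟨0, by rw [orderOf_one, pow_zero]⟩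
  obtain ⟨χ₀, rfl⟩ := hB
  have h2 := br_rank_eq hM χ₀
  have h3 : ((h7_kd_n p M (Cfsg.blockOf M (χ₀ : G → ℂ)) 1 : ℕ) : ℂ) =
      ((Cfsg.blockRank p (Cfsg.blockOf M (χ₀ : G → ℂ)) : ℕ) : ℂ) := by
    unfold h7_kd_n
    rw [h1, h2]
    refine Finset.sum_congr rfl fun χ _ => ?_
    split_ifs with hχ
    · unfold Cfsg.classInner
      congr 1
      refine Finset.sum_congr rfl fun g _ => ?_
      by_cases hg : p ∣ orderOf g
      · rw [if_neg (fun h => (h7_kd_pp_eq_one_iff p g).mp h hg), br_pRegularPart_sing p _ g hg,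
          zero_mul]
      · rw [if_pos ((h7_kd_pp_eq_one_iff p g).mpr hg), br_pRegularPart_reg p _ g hg]
    · rfl
  exact_mod_cast h3

/-- the count is a class function -/
theorem h7_kd_n_conj [Fintype G] (p : ℕ) [hp : Fact p.Prime]
    (M : Ideal Cfsg.AlgInt) (hM : Cfsg.IsPModular p M) (B : Set (Cfsg.IrrCharacter G))
    (hB : Cfsg.IsPBlock M B) (x x' : G) (hx : ∃ k : ℕ, orderOf x = p ^ k)
    (hxx' : IsConj x x') : h7_kd_n p M B x = h7_kd_n p M B x' := by
  classical
  haveI : Fintype (Cfsg.IrrCharacter G) := Fintype.ofFinite _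
  have hx' : ∃ k : ℕ, orderOf x' = p ^ k := by
    obtain ⟨k, hk⟩ := hx
    obtain ⟨c, hc⟩ := isConj_iff.mp hxx'
    refine ⟨k, ?_⟩
    rw [← hc, ← hk]
    exact orderOf_injective (MulAut.conj c).toMonoidHom (MulAut.conj c).injective x
  have h1 := sc_per_x p M hM B hB x hx
  have h2 := sc_per_x p M hM B hB x' hx'
  have h3 : ((h7_kd_n p M B x : ℕ) : ℂ) = ((h7_kd_n p M B x' : ℕ) : ℂ) := by
    unfold h7_kd_n
    rw [h1, h2]
    refine Finset.sum_congr rfl fun χ _ => ?_
    split_ifs with hχ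
    · congr 1
      refine Finset.sum_congr rfl fun g _ => ?_
      have : IsConj (sc_pp p g) x ↔ IsConj (sc_pp p g) x' :=
        ⟨fun h => h.trans hxx', fun h => h.trans hxx'.symm⟩
      simp only [this]
    · rfl
  exact_mod_cast h3

/-- Brauer's formula with a constructed set of representatives of the classes of `p`-elements -/
theorem h7_kd_brauer [Fintype G] [DecidableEq G] (p : ℕ) [hp : Fact p.Prime]
    (M : Ideal Cfsg.AlgInt) (hM : Cfsg.IsPModular p M) (B : Set (Cfsg.IrrCharacter G))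
    (hB : Cfsg.IsPBlock M B) :
    ∃ X : Finset G, (1 : G) ∈ X ∧ (∀ x ∈ X, ∃ k : ℕ, orderOf x = p ^ k) ∧
      (∀ g : G, (∃ k : ℕ, orderOf g = p ^ k) → ∃! x, x ∈ X ∧ IsConj g x) ∧
      Nat.card B = Cfsg.blockRank p B + ∑ x ∈ X.erase 1, h7_kd_n p M B x := by
  classical
  set rep : G → G := fun g => Quotient.out (ConjClasses.mk g) with hrep
  have hrep_conj : ∀ g : G, IsConj g (rep g) := by
    intro g
    rw [← ConjClasses.mk_eq_mk_iff_isConj]
    exact (Quotient.out_eq (ConjClasses.mk g)).symm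
  have hrep_eq : ∀ g g' : G, IsConj g g' → rep g = rep g' := by
    intro g g' h
    show Quotient.out (ConjClasses.mk g) = Quotient.out (ConjClasses.mk g')
    rw [ConjClasses.mk_eq_mk_iff_isConj.mpr h]
  have hord : ∀ g g' : G, IsConj g g' → orderOf g' = orderOf g := by
    intro g g' h
    obtain ⟨c, hc⟩ := isConj_iff.mp h
    rw [← hc]
    exact orderOf_injective (MulAut.conj c).toMonoidHom (MulAut.conj c).injective g
  set X : Finset G := (Finset.univ.filter (fun g : G => ∃ k : ℕ, orderOf g = p ^ k)).image rep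
    with hX
  have hXp : ∀ x ∈ X, ∃ k : ℕ, orderOf x = p ^ k := by
    intro x hx
    rw [hX, Finset.mem_image] at hx
    obtain ⟨g, hg, rfl⟩ := hx
    obtain ⟨k, hk⟩ := (Finset.mem_filter.mp hg).2
    exact ⟨k, by rw [hord g _ (hrep_conj g), hk]⟩
  have hXrep : ∀ g : G, (∃ k : ℕ, orderOf g = p ^ k) → ∃! x, x ∈ X ∧ IsConj g x := by
    intro g hg
    refine ⟨rep g, ⟨?_, hrep_conj g⟩, ?_⟩
    · rw [hX, Finset.mem_image]
      exact ⟨g, Finset.mem_filter.mpr ⟨Finset.mem_univ _, hg⟩, rfl⟩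
    · rintro x' ⟨hx'X, hgx'⟩
      rw [hX, Finset.mem_image] at hx'X
      obtain ⟨g', -, rfl⟩ := hx'X
      exact (hrep_eq g' g ((hrep_conj g').trans hgx'.symm))
  have h1X : (1 : G) ∈ X := by
    rw [hX, Finset.mem_image]
    refine ⟨1, Finset.mem_filter.mpr ⟨Finset.mem_univ _, ⟨0, by rw [orderOf_one, pow_zero]⟩⟩, ?_⟩
    exact (isConj_one_right.mp (hrep_conj 1))
  refine ⟨X, h1X, hXp, hXrep, ?_⟩
  have hmain := sc_main p M hM B hB X hXp hXrep
  rw [hmain, ← Finset.add_sum_erase X _ h1X]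
  congr 1
  exact h7_kd_n_one p M hM B hB

end Cfsg.Agent.Lib.helper7
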