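import Mathlib
import Cfsg.Agent.Lib.Helper21.QuatSylow
import Cfsg.Agent.Lib.Helper21.QuatSylow2
import Cfsg.Agent.S0842
import Cfsg.Agent.S0843

set_option autoImplicit false

namespace Cfsg.Agent.Lib.helper7

open QuaternionGroup Cfsg.Agent.Lib.Helper21
open scoped commutatorElement

section QuatFacts
variable {N : ℕ}

theorem h7_quat_commutatorElement (g h : QuaternionGroup N) :
    ∃ k : ZMod (2 * N), ⁅g, h⁆ = a (2 * k) := by
  have h2N := quat_two_N (N := N)
  rcases g with i | i <;> rcases h with j | j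
  · refine ⟨0, ?_⟩
    show a i * a j * a (-i) * a (-j) = a (2 * 0)
    rw [a_mul_a, a_mul_a, a_mul_a]
    congr 1
    ring
  · refine ⟨i, ?_⟩
    show a i * xa j * a (-i) * xa ((N : ZMod (2 * N)) + j) = a (2 * i)
    rw [a_mul_xa, xa_mul_a, xa_mul_xa]
    congr 1
    linear_combination h2N
  · refine ⟨-j, ?_⟩
    show xa i * a j * xa ((N : ZMod (2 * N)) + i) * a (-j) = a (2 * -j)
    rw [xa_mul_a, xa_mul_xa, a_mul_a]
    congr 1
    linear_combination h2N
  · refine ⟨j - i, ?_⟩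
    show xa i * xa j * xa ((N : ZMod (2 * N)) + i) * xa ((N : ZMod (2 * N)) + j) = a (2 * (j - i))
    rw [xa_mul_xa, mul_assoc, xa_mul_xa, a_mul_a]
    congr 1
    linear_combination h2N

theorem h7_quat_a_two_pow (m : ℕ) : (a 2 : QuaternionGroup N) ^ m = a (2 * (m : ZMod (2 * N))) := by
  induction m with
  | zero => simp
  | succ m ih =>
    rw [pow_succ, ih, a_mul_a]
    congr 1
    push_cast
    ring

theorem h7_quat_commutator_le_sq [NeZero N] :
    commutator (QuaternionGroup N) ≤ Subgroup.zpowers (a 2 : QuaternionGroup N) := by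
  rw [commutator_def, Subgroup.commutator_le]
  intro g _ h _
  obtain ⟨k, hk⟩ := h7_quat_commutatorElement g h
  rw [hk]
  have : (a (2 * k) : QuaternionGroup N) = (a 2) ^ k.val := by
    rw [h7_quat_a_two_pow, ZMod.natCast_zmod_val]
  rw [this]
  exact Subgroup.pow_mem _ (Subgroup.mem_zpowers _) _

theorem h7_quat_xa_conj (j : ZMod (2 * N)) :
    (xa j : QuaternionGroup N) * a 1 * (xa j)⁻¹ = (a 1)⁻¹ := by
  have h2N := quat_two_N (N := N)
  show xa j * a 1 * xa ((N : ZMod (2 * N)) + j) = a (-1)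
  rw [xa_mul_a, xa_mul_xa]
  congr 1
  linear_combination h2N

end QuatFacts

section Sub
variable {G : Type*} [Group G] {N : ℕ}

theorem h7_quat_comm_le_sq [NeZero N] (S : Subgroup G) (e : S ≃* QuaternionGroup N) :
    ⁅S, S⁆ ≤ Subgroup.zpowers (quatGen S e ^ 2) := by
  rw [← Subgroup.map_subtype_commutator]
  rintro _ ⟨d, hd, rfl⟩
  have h1 := h7_quat_commutator_le_sq (mem_commutator_of_mulEquiv e d hd)
  obtain ⟨i, hi⟩ := Subgroup.mem_zpowers_iff.mp h1
  have h2 : d = ((e.symm (a 1)) ^ 2) ^ i := by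
    apply e.injective
    rw [map_zpow, map_pow, MulEquiv.apply_symm_apply, ← hi]
    congr 1
    rw [a_one_pow]
    rfl
  rw [h2]
  simp only [Subgroup.subtype_apply, Subgroup.coe_zpow, Subgroup.coe_pow]
  exact Subgroup.zpow_mem_zpowers _ i

theorem h7_quat_invert (S : Subgroup G) (e : S ≃* QuaternionGroup N) [NeZero N] (s : G) (hs : s ∈ S)
    (hsA : s ∉ Subgroup.zpowers (quatGen S e)) :
    s * quatGen S e * s⁻¹ = (quatGen S e)⁻¹ := by
  set s' : S := ⟨s, hs⟩ with hs'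
  rcases hes : e s' with i | i
  · exfalso
    apply hsA
    exact quat_mem_of_map S e s' (by rw [hes]; exact quat_a_mem_zpowers i)
  · have h1 : s' * e.symm (a 1) * s'⁻¹ = (e.symm (a 1))⁻¹ := by
      apply e.injective
      rw [map_mul, map_mul, map_inv, map_inv, MulEquiv.apply_symm_apply, hes]
      exact h7_quat_xa_conj i
    have := congrArg Subtype.val h1
    simpa [quatGen] using this

end Sub

section Setup

noncomputable def h7_unitI : ℂˣ := Units.mk0 Complex.I Complex.I_ne_zero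

theorem h7_unitI_pow_four : h7_unitI ^ 4 = 1 := by
  apply Units.ext
  simp [h7_unitI, Complex.I_pow_four]

theorem h7_unitI_sq_ne : h7_unitI ^ 2 ≠ 1 := by
  intro h
  have := congrArg Units.val h
  simp [h7_unitI] at this
  norm_num at this

theorem h7_orderOf_unitI : orderOf h7_unitI = 4 := by
  haveI : Fact (Nat.Prime 2) := ⟨Nat.prime_two⟩
  have := orderOf_eq_prime_pow (p := 2) (n := 1) (x := h7_unitI)
    (by simpa using h7_unitI_sq_ne) (by simpa using h7_unitI_pow_four)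
  simpa using this

theorem h7_unitI_zpow_eq_one (i : ℤ) (h : h7_unitI ^ i ≠ 1) : ¬ (4 : ℤ) ∣ i := by
  rintro ⟨j, rfl⟩
  apply h
  have h4 : h7_unitI ^ (4 : ℤ) = 1 := by
    have := h7_unitI_pow_four
    rw [← zpow_natCast] at this
    exact_mod_cast this
  rw [zpow_mul, h4, one_zpow]

theorem h7_two_pow_dvd_of_not_four_dvd (n : ℕ) (i : ℤ) (m : ℕ)
    (h : ((2 ^ (n + 3) : ℕ) : ℤ) ∣ i * m) (hi : ¬ (4 : ℤ) ∣ i) : 2 ^ (n + 2) ∣ m := by
  have h1 : 2 ^ (n + 3) ∣ i.natAbs * m := by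
    have := Int.natCast_dvd.mp h
    rwa [Int.natAbs_mul, Int.natAbs_natCast] at this
  have hi' : ¬ 4 ∣ i.natAbs := by
    intro h4
    apply hi
    exact Int.natCast_dvd.mpr h4 |> fun h => by simpa using h
  set j := i.natAbs with hj
  by_cases hodd : 2 ∣ j
  · obtain ⟨j', hj'⟩ := hodd
    have hj'odd : ¬ 2 ∣ j' := by
      rintro ⟨t, ht⟩
      apply hi'
      exact ⟨t, by rw [hj', ht]; ring⟩
    have h2 : 2 ^ (n + 2) ∣ j' * m := by
      rw [hj', pow_succ, mul_comm (2 ^ (n + 2)) 2, mul_assoc] at h1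
      exact Nat.dvd_of_mul_dvd_mul_left (by norm_num) h1
    have hcop : Nat.Coprime (2 ^ (n + 2)) j' :=
      Nat.Coprime.pow_left _ ((Nat.Prime.coprime_iff_not_dvd Nat.prime_two).mpr hj'odd)
    exact hcop.dvd_of_dvd_mul_left h2
  · have hcop : Nat.Coprime (2 ^ (n + 3)) j :=
      Nat.Coprime.pow_left _ ((Nat.Prime.coprime_iff_not_dvd Nat.prime_two).mpr hodd)
    have := hcop.dvd_of_dvd_mul_left h1
    exact dvd_trans (pow_dvd_pow 2 (by omega)) this

variable {G : Type*} [Group G] [Finite G]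

omit [Finite G] in
theorem h7_centralizer_conj_mem (D : Subgroup G) (h : G) (hh : h ∈ Subgroup.normalizer (D : Set G))
    (c : G) (hc : c ∈ Subgroup.centralizer (D : Set G)) :
    h * c * h⁻¹ ∈ Subgroup.centralizer (D : Set G) := by
  rw [Subgroup.mem_centralizer_iff] at hc ⊢
  intro d hd
  have hg' : h⁻¹ ∈ Subgroup.normalizer (D : Set G) := Subgroup.inv_mem _ hh
  rw [Subgroup.mem_normalizer_iff] at hg'
  have hd' : h⁻¹ * d * h⁻¹⁻¹ ∈ D := (hg' d).mp hd
  have h1 := hc _ hd'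
  rw [inv_inv] at h1
  calc d * (h * c * h⁻¹) = h * ((h⁻¹ * d * h) * c) * h⁻¹ := by group
    _ = h * (c * (h⁻¹ * d * h)) * h⁻¹ := by rw [h1]
    _ = h * c * h⁻¹ * d := by group

theorem h7_bs_setup_card (S : Sylow 2 G) (n : ℕ)
    (e : (S : Subgroup G) ≃* QuaternionGroup (2 ^ (n + 2))) (D : Subgroup G)
    (hD : D = ⁅(S : Subgroup G), (S : Subgroup G)⁆) :
    Nat.card (Subgroup.normalizer (D : Set G)) = 2 * Nat.card (Subgroup.centralizer (D : Set G)) := by
  obtain ⟨K, -, -, -, -, -, hidx⟩ := Cfsg.Agent.S0842.result S n e D hD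
  have hCH : Subgroup.centralizer (D : Set G) ≤ Subgroup.normalizer (D : Set G) :=
    Subgroup.centralizer_le_normalizer _
  have h1 := Cfsg.Agent.Lib.Helper1.card_mul_relIndex_of_le hCH
  rw [Subgroup.relIndex, hidx] at h1
  omega

theorem h7_bs_setup (S : Sylow 2 G) (n : ℕ)
    (e : (S : Subgroup G) ≃* QuaternionGroup (2 ^ (n + 2))) (D : Subgroup G)
    (hD : D = ⁅(S : Subgroup G), (S : Subgroup G)⁆) :
    ∃ (ν : Subgroup.centralizer (D : Set G) →* ℂˣ) (c₀ : Subgroup.centralizer (D : Set G)),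
      (c₀ : G) = quatGen (S : Subgroup G) e ∧
      (∀ c, ν c ^ 4 = 1) ∧ ν c₀ ^ 2 ≠ 1 ∧
      (∀ s ∈ Subgroup.normalizer (D : Set G), s ∉ Subgroup.centralizer (D : Set G) →
        ∀ (c : Subgroup.centralizer (D : Set G))
          (hc' : s * (c : G) * s⁻¹ ∈ Subgroup.centralizer (D : Set G)),
        ν ⟨s * c * s⁻¹, hc'⟩ = (ν c)⁻¹) ∧
      (∀ c, ν c ≠ 1 → 2 ^ (n + 2) ∣ orderOf (c : G)) ∧
      (∀ c, ν c ≠ 1 → Nat.card D ∣ orderOf (c : G)) := by
  classical
  haveI : Fact (Nat.Prime 2) := ⟨Nat.prime_two⟩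
  haveI : NeZero (2 ^ (n + 2)) := ⟨by positivity⟩
  have hN : 2 < 2 ^ (n + 2) := by
    have : 2 ^ 2 ≤ 2 ^ (n + 2) := Nat.pow_le_pow_right (by norm_num) (by omega)
    omega
  obtain ⟨K, hKodd, hKC, hHK, hKS, hKA, hidx⟩ := Cfsg.Agent.S0842.result S n e D hD
  set C := Subgroup.centralizer (D : Set G) with hC
  set H := Subgroup.normalizer (D : Set G) with hH
  set α := quatGen (S : Subgroup G) e with hα
  set A := Subgroup.zpowers α with hA
  have hcent : (S : Subgroup G) ⊓ C = A := by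
    rw [hC, hD]; exact quat_centralizer_eq hN (S : Subgroup G) e
  rw [hcent] at hKA
  have hCH : C ≤ H := Subgroup.centralizer_le_normalizer _
  have hAC : A ≤ C := by rw [← hcent]; exact inf_le_right
  have hAS : A ≤ (S : Subgroup G) := by rw [← hcent]; exact inf_le_left
  have hαC : α ∈ C := hAC (Subgroup.mem_zpowers α)
  have hoα : orderOf α = 2 * 2 ^ (n + 2) := quat_orderOf_gen (S : Subgroup G) e
  have hCK : C ≤ Subgroup.normalizer (K : Set G) := hCH.trans hHK
  have hAK : A ≤ Subgroup.normalizer (K : Set G) := hAC.trans hCK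
  have hSH : (S : Subgroup G) ≤ H := by rw [← hKS]; exact le_sup_right
  have hSK : (S : Subgroup G) ≤ Subgroup.normalizer (K : Set G) := hSH.trans hHK
  have hCdec : ∀ c ∈ C, ∃ k ∈ K, ∃ i : ℤ, c = k * α ^ i := by
    intro c hc
    rw [← hKA] at hc
    have h1 := Subgroup.coe_mul_of_right_le_normalizer_left K A hAK
    have hc' : c ∈ ((K ⊔ A : Subgroup G) : Set G) := hc
    rw [h1] at hc'
    obtain ⟨k, hk, a', ha', rfl⟩ := Set.mem_mul.mp hc'
    obtain ⟨i, rfl⟩ := Subgroup.mem_zpowers_iff.mp ha'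
    exact ⟨k, hk, i, rfl⟩
  have hHdec : ∀ s ∈ H, ∃ k ∈ K, ∃ s' ∈ (S : Subgroup G), s = k * s' := by
    intro s hs
    rw [← hKS] at hs
    have h1 := Subgroup.coe_mul_of_right_le_normalizer_left K (S : Subgroup G) hSK
    have hs' : s ∈ ((K ⊔ (S : Subgroup G) : Subgroup G) : Set G) := hs
    rw [h1] at hs'
    obtain ⟨k, hk, s', hs'', rfl⟩ := Set.mem_mul.mp hs'
    exact ⟨k, hk, s', hs'', rfl⟩
  have hKA1 : ∀ x ∈ K, x ∈ A → x = 1 := by
    intro x hxK hxA
    have h1 : orderOf x ∣ Nat.card K := Subgroup.orderOf_dvd_natCard K hxK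
    have h2 : orderOf x ∣ Nat.card A := Subgroup.orderOf_dvd_natCard A hxA
    rw [hA, Nat.card_zpowers, hoα] at h2
    have h3 : orderOf x ∣ 2 ^ (n + 3) := by
      have : 2 ^ (n + 3) = 2 * 2 ^ (n + 2) := by ring
      rw [this]; exact h2
    obtain ⟨j, -, hj⟩ := (Nat.dvd_prime_pow Nat.prime_two).mp h3
    have hodd : Odd (orderOf x) := hKodd.of_dvd_nat h1
    rcases Nat.eq_zero_or_pos j with h0 | h0
    · rw [h0, pow_zero] at hj; exact orderOf_eq_one_iff.mp hj
    · exfalso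
      rw [hj] at hodd
      exact (Nat.not_even_iff_odd.mpr hodd) ((Nat.even_pow' h0.ne').mpr even_two)
  set K' : Subgroup C := K.subgroupOf C with hK'
  haveI hK'n : K'.Normal := Subgroup.normal_subgroupOf_of_le_normalizer hCK
  set αC : C := ⟨α, hαC⟩ with hαC'
  set ᾱ : C ⧸ K' := QuotientGroup.mk αC with hᾱ
  have hmkK : ∀ (k : C), (k : G) ∈ K → (QuotientGroup.mk k : C ⧸ K') = 1 := by
    intro k hk
    rw [QuotientGroup.eq_one_iff]
    exact Subgroup.mem_subgroupOf.mpr hk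
  have hmkdec : ∀ (c : C) (k : G) (_ : k ∈ K) (i : ℤ), (c : G) = k * α ^ i →
      (QuotientGroup.mk c : C ⧸ K') = ᾱ ^ i := by
    intro c k hk i hci
    have h1 : c = ⟨k, hKC hk⟩ * αC ^ i := by
      apply Subtype.ext
      rw [hci]
      simp [hαC']
    rw [h1, QuotientGroup.mk_mul, hmkK _ hk, one_mul, QuotientGroup.mk_zpow]
  have hgen : ∀ q : C ⧸ K', q ∈ Subgroup.zpowers ᾱ := by
    intro q
    induction q using QuotientGroup.induction_on with
    | H c =>
      obtain ⟨k, hk, i, hci⟩ := hCdec c c.2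
      rw [hmkdec c k hk i hci]
      exact Subgroup.zpow_mem_zpowers _ i
  have hordᾱ : orderOf ᾱ = orderOf α := by
    rw [orderOf_eq_orderOf_iff]
    intro m
    rw [hᾱ, ← QuotientGroup.mk_pow, QuotientGroup.eq_one_iff]
    constructor
    · intro h
      have h1 : α ^ m ∈ K := by
        have := Subgroup.mem_subgroupOf.mp h
        simpa [hαC'] using this
      exact hKA1 _ h1 (Subgroup.pow_mem _ (Subgroup.mem_zpowers α) m)
    · intro h
      have : αC ^ m = 1 := Subtype.ext (by simpa [hαC'] using h)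
      rw [this]; exact K'.one_mem
  have hdvd : orderOf h7_unitI ∣ orderOf ᾱ := by
    rw [hordᾱ, hoα, h7_orderOf_unitI]
    exact ⟨2 ^ (n + 1), by ring⟩
  set f : C ⧸ K' →* ℂˣ := monoidHomOfForallMemZpowers hgen hdvd with hf
  set ν : C →* ℂˣ := f.comp (QuotientGroup.mk' K') with hν
  have hfᾱ : f ᾱ = h7_unitI := monoidHomOfForallMemZpowers_apply_gen hgen hdvd
  have hνdec : ∀ (c : C) (k : G) (_ : k ∈ K) (i : ℤ), (c : G) = k * α ^ i →
      ν c = h7_unitI ^ i := by
    intro c k hk i hci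
    rw [hν, MonoidHom.comp_apply, QuotientGroup.mk'_apply, hmkdec c k hk i hci, map_zpow, hfᾱ]
  have hναC : ν αC = h7_unitI := by
    have := hνdec αC 1 K.one_mem 1 (by simp [hαC'])
    rwa [zpow_one] at this
  have hord : ∀ c, ν c ≠ 1 → 2 ^ (n + 2) ∣ orderOf (c : G) := by
    intro c hc
    obtain ⟨k, hk, i, hci⟩ := hCdec c c.2
    rw [hνdec c k hk i hci] at hc
    have hi := h7_unitI_zpow_eq_one i hc
    apply h7_two_pow_dvd_of_not_four_dvd n i (orderOf (c : G)) _ hi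
    have h1 : (QuotientGroup.mk c : C ⧸ K') ^ orderOf (c : G) = 1 := by
      rw [← QuotientGroup.mk_pow]
      have : c ^ orderOf (c : G) = 1 := by
        apply Subtype.ext
        rw [Subgroup.coe_pow, pow_orderOf_eq_one]
        rfl
      rw [this]
      rfl
    rw [hmkdec c k hk i hci, ← zpow_natCast, ← zpow_mul] at h1
    have h2 := orderOf_dvd_iff_zpow_eq_one.mpr h1
    rw [hordᾱ, hoα] at h2
    have : (2 ^ (n + 3) : ℕ) = 2 * 2 ^ (n + 2) := by ring
    rw [this]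
    exact h2
  have hDle : D ≤ Subgroup.zpowers (α ^ 2) := by
    rw [hD]; exact h7_quat_comm_le_sq (S : Subgroup G) e
  have hDcard : Nat.card D ∣ 2 ^ (n + 2) := by
    have h1 := Subgroup.card_dvd_of_le hDle
    rw [Nat.card_zpowers, orderOf_pow' α (by norm_num : (2 : ℕ) ≠ 0), hoα] at h1
    have h2 : Nat.gcd (2 * 2 ^ (n + 2)) 2 = 2 := Nat.gcd_eq_right (dvd_mul_right 2 _)
    rw [h2, Nat.mul_div_cancel_left _ (by norm_num : 0 < 2)] at h1
    exact h1
  refine ⟨ν, αC, rfl, ?_, ?_, ?_, hord, fun c hc => hDcard.trans (hord c hc)⟩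
  · intro c
    obtain ⟨k, hk, i, hci⟩ := hCdec c c.2
    rw [hνdec c k hk i hci, ← zpow_natCast, ← zpow_mul, mul_comm, zpow_mul, zpow_natCast,
      h7_unitI_pow_four, one_zpow]
  · rw [hναC]
    exact h7_unitI_sq_ne
  · intro s hsH hsC c hc'
    obtain ⟨k, hk, s', hs'S, rfl⟩ := hHdec s hsH
    obtain ⟨k', hk', i, hci⟩ := hCdec c c.2
    have hs'C : s' ∉ C := by
      intro h
      exact hsC (C.mul_mem (hKC hk) h)
    have hs'A : s' ∉ A := fun h => hs'C (hAC h)
    have hinvα : s' * α * s'⁻¹ = α⁻¹ := h7_quat_invert (S : Subgroup G) e s' hs'S hs'A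
    have hinvαi : s' * α ^ i * s'⁻¹ = α ^ (-i) := by
      rw [← conj_zpow, hinvα, inv_zpow, zpow_neg]
    have hs'N : s' ∈ Subgroup.normalizer (K : Set G) := hSK hs'S
    have hk2 : s' * k' * s'⁻¹ ∈ K := (Subgroup.mem_normalizer_iff.mp hs'N k').mp hk'
    have hαN : α ^ (-i) ∈ Subgroup.normalizer (K : Set G) :=
      hAK (Subgroup.zpow_mem_zpowers α (-i))
    have hk3 : α ^ (-i) * k⁻¹ * (α ^ (-i))⁻¹ ∈ K :=
      (Subgroup.mem_normalizer_iff.mp hαN k⁻¹).mp (K.inv_mem hk)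
    have hform : k * s' * (c : G) * (k * s')⁻¹ =
        (k * (s' * k' * s'⁻¹) * (α ^ (-i) * k⁻¹ * (α ^ (-i))⁻¹)) * α ^ (-i) := by
      rw [hci]
      have : k * s' * (k' * α ^ i) * (k * s')⁻¹ =
          k * (s' * k' * s'⁻¹) * (s' * α ^ i * s'⁻¹) * k⁻¹ := by group
      rw [this, hinvαi]
      group
    rw [hνdec ⟨k * s' * (c : G) * (k * s')⁻¹, hc'⟩ _
      (K.mul_mem (K.mul_mem hk hk2) hk3) (-i) hform, hνdec c k' hk' i hci, zpow_neg]

end Setup

end Cfsg.Agent.Lib.helper7
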