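import Mathlib
import Cfsg.Agent.Lib.helper7.BSCore
import Cfsg.Agent.Lib.helper7.BSQuat
import Cfsg.Agent.Lib.Helper24.IndexTwo
import Cfsg.Agent.Lib.Helper25.CharOrth
import Cfsg.Agent.S0849

set_option autoImplicit false
open scoped ComplexConjugate

namespace Cfsg.Agent.Lib.helper7

open Cfsg.Agent.Lib.Helper21 Cfsg.Agent.Lib.Helper25

section Invol
variable {G : Type*} [Group G]

theorem h7_orderOf_two_of_sq (a : G) (ha : a * a = 1) (ha1 : a ≠ 1) : orderOf a = 2 := by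
  apply orderOf_eq_prime
  · rw [pow_two]; exact ha
  · exact ha1

theorem h7_quat_commuting_invol [Finite G] {N : ℕ} [NeZero N] (S : Sylow 2 G)
    (e : (S : Subgroup G) ≃* QuaternionGroup N) (a z : G) (ha : a * a = 1) (ha1 : a ≠ 1)
    (hz : z * z = 1) (hz1 : z ≠ 1) (hcomm : a * z = z * a) : a = z := by
  haveI : Fact (Nat.Prime 2) := ⟨Nat.prime_two⟩
  set Y := Subgroup.zpowers a with hY
  set Z := Subgroup.zpowers z with hZ
  have hYcard : Nat.card Y = 2 ^ 1 := by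
    rw [hY, Nat.card_zpowers, h7_orderOf_two_of_sq a ha ha1, pow_one]
  have hZcard : Nat.card Z = 2 ^ 1 := by
    rw [hZ, Nat.card_zpowers, h7_orderOf_two_of_sq z hz hz1, pow_one]
  have hY2 : IsPGroup 2 Y := IsPGroup.of_card hYcard
  have hZ2 : IsPGroup 2 Z := IsPGroup.of_card hZcard
  have hcz : Commute a z := hcomm
  have hYC : Y ≤ Subgroup.centralizer (Z : Set G) := by
    rw [hY, Subgroup.zpowers_le, Subgroup.mem_centralizer_iff]
    intro h hh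
    obtain ⟨i, rfl⟩ := Subgroup.mem_zpowers_iff.mp hh
    exact ((hcz.zpow_right i).eq).symm
  have hYN : Y ≤ Subgroup.normalizer (Z : Set G) :=
    hYC.trans (Subgroup.centralizer_le_normalizer _)
  have hB2 : IsPGroup 2 (Y ⊔ Z : Subgroup G) := hY2.to_sup_of_normal_right' hZ2 hYN
  have hZZ : Z ≤ Subgroup.centralizer (Z : Set G) := by
    intro x hx
    rw [Subgroup.mem_centralizer_iff]
    intro d hd
    obtain ⟨i, rfl⟩ := Subgroup.mem_zpowers_iff.mp hx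
    obtain ⟨i', rfl⟩ := Subgroup.mem_zpowers_iff.mp hd
    exact ((Commute.refl z).zpow_zpow i' i).eq
  have hYY : Y ≤ Subgroup.centralizer (Y : Set G) := by
    intro x hx
    rw [Subgroup.mem_centralizer_iff]
    intro d hd
    obtain ⟨i, rfl⟩ := Subgroup.mem_zpowers_iff.mp hx
    obtain ⟨i', rfl⟩ := Subgroup.mem_zpowers_iff.mp hd
    exact ((Commute.refl a).zpow_zpow i' i).eq
  have hZC : Z ≤ Subgroup.centralizer (Y : Set G) := by
    rw [hZ, Subgroup.zpowers_le, Subgroup.mem_centralizer_iff]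
    intro h hh
    obtain ⟨i, rfl⟩ := Subgroup.mem_zpowers_iff.mp hh
    exact (hcz.zpow_left i).eq
  have hBB : (Y ⊔ Z : Subgroup G) ≤ Subgroup.centralizer ((Y ⊔ Z : Subgroup G) : Set G) := by
    apply sup_le
    · rw [Subgroup.le_centralizer_iff]
      exact sup_le hYY hZC
    · rw [Subgroup.le_centralizer_iff]
      exact sup_le hYC hZZ
  have hBab : ∀ x ∈ (Y ⊔ Z : Subgroup G), ∀ w ∈ (Y ⊔ Z : Subgroup G), x * w = w * x := by
    intro x hx w hw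
    exact (Subgroup.mem_centralizer_iff.mp (hBB hw) x hx)
  haveI hBcyc := quat_abelian_cyclic S e (Y ⊔ Z) hB2 hBab
  have haB : a ∈ (Y ⊔ Z : Subgroup G) := le_sup_left (a := Y) (Subgroup.mem_zpowers a)
  have hzB : z ∈ (Y ⊔ Z : Subgroup G) := le_sup_right (b := Z) (Subgroup.mem_zpowers z)
  have key := Cfsg.Agent.Lib.Helper24.ix_cyclic_invol_unique
    (⟨a, haB⟩ : (Y ⊔ Z : Subgroup G)) ⟨z, hzB⟩
    (by apply Subtype.ext; simp [pow_two, ha])
    (by intro h; exact ha1 (congrArg Subtype.val h))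
    (by apply Subtype.ext; simp [pow_two, hz])
    (by intro h; exact hz1 (congrArg Subtype.val h))
  exact congrArg Subtype.val key

theorem h7_quat_invol_prod_order [Finite G] {N : ℕ} [NeZero N] (S : Sylow 2 G)
    (e : (S : Subgroup G) ≃* QuaternionGroup N) (a b : G) (ha : a * a = 1) (hb : b * b = 1) :
    ¬ 4 ∣ orderOf (a * b) := by
  intro h4
  set y := a * b with hy
  set m := orderOf y with hm
  have hainv : a⁻¹ = a := inv_eq_of_mul_eq_one_left ha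
  have hbinv : b⁻¹ = b := inv_eq_of_mul_eq_one_left hb
  have hconj : a * y * a⁻¹ = y⁻¹ := by
    rw [hy, mul_inv_rev, hainv, hbinv]
    calc a * (a * b) * a = (a * a) * b * a := by group
      _ = b * a := by rw [ha, one_mul]
  have hmpos : 0 < m := orderOf_pos y
  obtain ⟨q, hq⟩ := h4
  have hqpos : 0 < q := by
    rcases Nat.eq_zero_or_pos q with h | h
    · rw [h, mul_zero] at hq; omega
    · exact h
  set w := y ^ q with hw
  have how : orderOf w = 4 := by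
    rw [hw, orderOf_pow_of_dvd hqpos.ne' ⟨4, by rw [← hm, hq]; ring⟩, ← hm, hq]
    exact Nat.mul_div_cancel _ hqpos
  have hwconj : a * w * a⁻¹ = w⁻¹ := by
    rw [hw, ← conj_pow, hconj, inv_pow]
  set z := w ^ 2 with hz
  have hz2 : z * z = 1 := by
    rw [hz, ← pow_add]
    have : w ^ 4 = 1 := by rw [← how]; exact pow_orderOf_eq_one w
    exact this
  have hz1 : z ≠ 1 := by
    intro h
    have : orderOf w ∣ 2 := orderOf_dvd_of_pow_eq_one h
    rw [how] at this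
    omega
  have hzinv : z⁻¹ = z := inv_eq_of_mul_eq_one_left hz2
  have hzconj : a * z * a⁻¹ = z := by
    rw [hz, ← conj_pow, hwconj, inv_pow, ← hz, hzinv]
  have ha1 : a ≠ 1 := by
    intro h
    rw [h, one_mul, inv_one, mul_one] at hwconj
    have : w * w = 1 := by
      nth_rewrite 1 [hwconj]
      exact inv_mul_cancel w
    have h2 : orderOf w ∣ 2 := orderOf_dvd_of_pow_eq_one (by rw [pow_two]; exact this)
    rw [how] at h2
    omega
  have hcomm : a * z = z * a := by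
    calc a * z = (a * z * a⁻¹) * a := by group
      _ = z * a := by rw [hzconj]
  have haz := h7_quat_commuting_invol S e a z ha ha1 hz2 hz1 hcomm
  have hcw : a * w = w * a := by
    rw [haz, hz]
    group
  have : w = w⁻¹ := by
    calc w = (w * a) * a⁻¹ := by group
      _ = a * w * a⁻¹ := by rw [hcw]
      _ = w⁻¹ := hwconj
  have hww : w * w = 1 := by
    nth_rewrite 1 [this]
    exact inv_mul_cancel w
  have h2 : orderOf w ∣ 2 := orderOf_dvd_of_pow_eq_one (by rw [pow_two]; exact hww)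
  rw [how] at h2
  omega

end Invol

section PairSum
variable {G : Type*} [Group G] [Fintype G]

theorem h7_sum_conj_pairs (η : Cfsg.IrrCharacter G) (t : G)
    [DecidablePred fun x : G => IsConj t x] :
    (Nat.card (Subgroup.centralizer ({t} : Set G)) : ℂ) ^ 2 *
      ∑ p : G × G, (if IsConj t p.1 ∧ IsConj t p.2 then (η : G → ℂ) (p.1 * p.2) else 0) =
    (Nat.card G : ℂ) ^ 2 * (η : G → ℂ) t * (η : G → ℂ) t / (η : G → ℂ) 1 := by
  classical
  rw [← irr_sum_conj_conj η t t]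
  have h1 : ∀ a : G, ∑ b : G, (η : G → ℂ) (a * t * a⁻¹ * (b * t * b⁻¹)) =
      Nat.card (Subgroup.centralizer ({t} : Set G)) •
        ∑ v ∈ Finset.univ.filter (fun x : G => IsConj t x), (η : G → ℂ) (a * t * a⁻¹ * v) := by
    intro a
    exact h7_sum_conj t (fun v => (η : G → ℂ) (a * t * a⁻¹ * v))
  rw [Finset.sum_congr rfl (fun a _ => h1 a)]
  have h2 := h7_sum_conj t (fun u => Nat.card (Subgroup.centralizer ({t} : Set G)) •
        ∑ v ∈ Finset.univ.filter (fun x : G => IsConj t x), (η : G → ℂ) (u * v))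
  rw [h2, Fintype.sum_prod_type]
  simp only [nsmul_eq_mul]
  rw [← Finset.mul_sum, ← mul_assoc, ← pow_two]
  congr 1
  rw [Finset.sum_filter]
  refine Finset.sum_congr rfl fun u _ => ?_
  by_cases hu : IsConj t u
  · rw [if_pos hu, Finset.sum_filter]
    refine Finset.sum_congr rfl fun v _ => ?_
    by_cases hv : IsConj t v
    · rw [if_pos hv, if_pos ⟨hu, hv⟩]
    · rw [if_neg hv, if_neg (fun h => hv h.2)]
  · rw [if_neg hu]
    apply Finset.sum_eq_zero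
    intro v _
    rw [if_neg (fun h => hu h.1)]

end PairSum

section Main
variable {G : Type*} [Group G] [Fintype G]

theorem h7_bs_main_aux (H C : Subgroup G) (hCH : C ≤ H)
    (hcard : Nat.card H = 2 * Nat.card C)
    (hCn : ∀ h ∈ H, ∀ c ∈ C, h * c * h⁻¹ ∈ C) (ν : C →* ℂˣ)
    (h4 : ∀ c, ν c ^ 4 = 1) (c₀ : C) (hc₀ : ν c₀ ^ 2 ≠ 1)
    (hinv : ∀ s ∈ H, s ∉ C → ∀ (c : C) (hc' : s * (c : G) * s⁻¹ ∈ C),
      ν ⟨s * c * s⁻¹, hc'⟩ = (ν c)⁻¹)
    (hTI : ∀ g : G, ∀ c : C, ν c ≠ 1 → g * (c : G) * g⁻¹ ∈ C → g ∈ H)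
    (hord : ∀ c : C, ν c ≠ 1 → 4 ∣ orderOf (c : G))
    (hinvol : ∀ a b : G, a * a = 1 → b * b = 1 → ¬ 4 ∣ orderOf (a * b)) :
    ∃ χ₁ χ₂ : Cfsg.IrrCharacter G, χ₁ ≠ trivIrr G ∧ χ₂ ≠ trivIrr G ∧
      (χ₁ : G → ℂ) 1 = (χ₂ : G → ℂ) 1 + 1 ∧
      (∀ t : G, orderOf t = 2 →
        (χ₁ : G → ℂ) t = (χ₁ : G → ℂ) 1 ∧ (χ₂ : G → ℂ) t = (χ₂ : G → ℂ) 1) ∧
      ¬ ((χ₁ : G → ℂ) ((c₀ : G) ^ 2) = (χ₁ : G → ℂ) 1 ∧
         (χ₂ : G → ℂ) ((c₀ : G) ^ 2) = (χ₂ : G → ℂ) 1) := by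
  classical
  obtain ⟨χ₁, χ₂, h1, h2, hne, hdeg, hΘ⟩ :=
    h7_bs_core H C hCH hcard hCn ν h4 c₀ hc₀ hinv hTI
  set θ := h7_bsTheta H C ν with hθ
  set X := h7_bsX C ν with hX
  have hθX : ∀ x : H, (x : G) ∉ X → θ x = 0 := fun y hy => h7_bsThetaG_off _ ν _ hy
  have hθcl : Cfsg.IsClassFunction H θ := h7_bsTheta_classFunction H C hCn ν hinv
  have hXord : ∀ g ∈ X, 4 ∣ orderOf g := by
    rintro g ⟨hgC, hν⟩
    exact hord ⟨g, hgC⟩ hν
  have hTI' : ∀ g : G, g ∉ H → ∀ s ∈ X, g * s * g⁻¹ ∉ X := by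
    intro g hg s hs hgs
    obtain ⟨hsC, hν⟩ := hs
    obtain ⟨hgsC, -⟩ := hgs
    exact hg (hTI g ⟨s, hsC⟩ hν hgsC)
  have hΘ0 : ∀ g : G, ¬ 4 ∣ orderOf g → Cfsg.indFun H θ g = 0 := by
    intro g hg
    by_contra hne0
    obtain ⟨x, hx⟩ := h7_ti_indFun_support H X θ hθX g hne0
    have h4' : orderOf (x⁻¹ * g * x) = orderOf g := by
      have : x⁻¹ * g * x = MulAut.conj x⁻¹ g := by simp
      rw [this, MulEquiv.orderOf_eq]
    apply hg
    rw [← h4']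
    exact hXord _ hx
  have hx₁ : (χ₁ : G → ℂ) 1 ≠ 0 := irr_one_ne_zero χ₁
  have hx₂ : (χ₂ : G → ℂ) 1 ≠ 0 := irr_one_ne_zero χ₂
  refine ⟨χ₁, χ₂, h1, h2, hdeg, ?_, ?_⟩
  · intro t ht
    have key := Cfsg.Agent.S0849.result H X ((h7_bsX_sub C ν).trans hCH)
      (fun h hh s hs => h7_bsX_conj H C hCn ν hinv h hh s hs) hTI'
      (fun s hs => h7_bsX_inv C ν s hs) θ hθcl hθX t t ht ht
    have hrhs : ∑ᶠ p ∈ {p : H × H | IsConj t (p.1 : G) ∧ IsConj t (p.2 : G)}, θ (p.1 * p.2) = 0 := by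
      apply finsum_mem_eq_zero_of_forall_eq_zero
      rintro ⟨a, b⟩ ⟨ha, hb⟩
      apply hθX
      intro hmem
      have h3 := hXord _ hmem
      have ha2 := Cfsg.Agent.S0849.sq_one_of_conj t (a : G) ht ha
      have hb2 := Cfsg.Agent.S0849.sq_one_of_conj t (b : G) ht hb
      exact hinvol (a : G) (b : G) ha2 hb2 (by simpa using h3)
    rw [hrhs, mul_zero, h7_finsum_mem_fintype] at key
    simp only [Set.mem_ofPred_eq, hΘ] at key
    have hsplit : ∑ p : G × G, (if IsConj t p.1 ∧ IsConj t p.2 then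
        1 + (χ₂ : G → ℂ) (p.1 * p.2) - (χ₁ : G → ℂ) (p.1 * p.2) else 0) =
        ∑ p : G × G, (if IsConj t p.1 ∧ IsConj t p.2 then (trivIrr G : G → ℂ) (p.1 * p.2) else 0) +
        ∑ p : G × G, (if IsConj t p.1 ∧ IsConj t p.2 then (χ₂ : G → ℂ) (p.1 * p.2) else 0) -
        ∑ p : G × G, (if IsConj t p.1 ∧ IsConj t p.2 then (χ₁ : G → ℂ) (p.1 * p.2) else 0) := by
      rw [← Finset.sum_add_distrib, ← Finset.sum_sub_distrib]
      refine Finset.sum_congr rfl fun p _ => ?_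
      split_ifs
      · simp
      · simp
    rw [hsplit] at key
    have hc : (Nat.card (Subgroup.centralizer ({t} : Set G)) : ℂ) ≠ 0 := by
      exact_mod_cast (Nat.card_pos (α := Subgroup.centralizer ({t} : Set G))).ne'
    have hG : (Nat.card G : ℂ) ≠ 0 := by exact_mod_cast (Nat.card_pos (α := G)).ne'
    have e0 := h7_sum_conj_pairs (trivIrr G) t
    have e1 := h7_sum_conj_pairs χ₁ t
    have e2 := h7_sum_conj_pairs χ₂ t
    have hyt : (χ₁ : G → ℂ) t = (χ₂ : G → ℂ) t + 1 := by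
      have h0 := hΘ0 t (by rw [ht]; norm_num)
      rw [hΘ t] at h0
      linear_combination -h0
    have hrel : (Nat.card G : ℂ) ^ 2 * (1 + (χ₂ : G → ℂ) t * (χ₂ : G → ℂ) t / (χ₂ : G → ℂ) 1 -
        (χ₁ : G → ℂ) t * (χ₁ : G → ℂ) t / (χ₁ : G → ℂ) 1) = 0 := by
      have := congrArg (fun z => (Nat.card (Subgroup.centralizer ({t} : Set G)) : ℂ) ^ 2 * z) key
      simp only [mul_zero, mul_add, mul_sub] at this
      rw [e0, e1, e2] at this
      simp only [trivIrr_apply] at this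
      rw [← this]
      field_simp
    have hrel' : 1 + (χ₂ : G → ℂ) t * (χ₂ : G → ℂ) t / (χ₂ : G → ℂ) 1 -
        (χ₁ : G → ℂ) t * (χ₁ : G → ℂ) t / (χ₁ : G → ℂ) 1 = 0 := by
      rcases mul_eq_zero.mp hrel with h | h
      · exact absurd (pow_eq_zero_iff (two_ne_zero) |>.mp h) hG
      · exact h
    have hx₂' : (χ₂ : G → ℂ) 1 + 1 ≠ 0 := by rw [← hdeg]; exact hx₁
    rw [hyt, hdeg] at hrel'
    have hsq : ((χ₂ : G → ℂ) 1 - (χ₂ : G → ℂ) t) ^ 2 = 0 := by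
      field_simp at hrel'
      linear_combination hrel'
    have hy₂ : (χ₂ : G → ℂ) t = (χ₂ : G → ℂ) 1 := by
      have := pow_eq_zero_iff (two_ne_zero) |>.mp hsq
      linear_combination -this
    exact ⟨by rw [hyt, hdeg, hy₂], hy₂⟩
  · rintro ⟨hk1, hk2⟩
    have hα2C : (c₀ : G) ^ 2 ∈ C := C.pow_mem c₀.2 2
    have hα2X : (c₀ : G) ^ 2 ∈ X := by
      refine ⟨hα2C, ?_⟩
      have : (⟨(c₀ : G) ^ 2, hα2C⟩ : C) = c₀ ^ 2 := rfl
      rw [this, map_pow]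
      exact hc₀
    have h3 := h7_ti_indFun_apply H X hTI' θ hθcl hθX ⟨(c₀ : G) ^ 2, hCH hα2C⟩ hα2X
    have h5 : θ ⟨(c₀ : G) ^ 2, hCH hα2C⟩ ≠ 0 := h7_bsThetaG_ne_zero C ν _ hα2X
    apply h5
    rw [← h3]
    show Cfsg.indFun H θ ((c₀ : G) ^ 2) = 0
    rw [hΘ, hk1, hk2, hdeg]
    ring

theorem h7_bs_main (S : Sylow 2 G) (n : ℕ)
    (e : (S : Subgroup G) ≃* QuaternionGroup (2 ^ (n + 2))) :
    ∃ χ₁ χ₂ : Cfsg.IrrCharacter G, χ₁ ≠ trivIrr G ∧ χ₂ ≠ trivIrr G ∧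
      (χ₁ : G → ℂ) 1 = (χ₂ : G → ℂ) 1 + 1 ∧
      (∀ t : G, orderOf t = 2 →
        (χ₁ : G → ℂ) t = (χ₁ : G → ℂ) 1 ∧ (χ₂ : G → ℂ) t = (χ₂ : G → ℂ) 1) ∧
      ¬ ((χ₁ : G → ℂ) (quatGen (S : Subgroup G) e ^ 2) = (χ₁ : G → ℂ) 1 ∧
         (χ₂ : G → ℂ) (quatGen (S : Subgroup G) e ^ 2) = (χ₂ : G → ℂ) 1) := by
  classical
  haveI : NeZero (2 ^ (n + 2)) := ⟨by positivity⟩
  obtain ⟨ν, c₀, hc₀α, h4, hc₀, hinv, hord, hordD⟩ :=
    h7_bs_setup S n e ⁅(S : Subgroup G), (S : Subgroup G)⁆ rfl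
  obtain ⟨-, hX2, -⟩ := Cfsg.Agent.S0843.result S n e ⁅(S : Subgroup G), (S : Subgroup G)⁆ rfl
  have hcard := h7_bs_setup_card S n e ⁅(S : Subgroup G), (S : Subgroup G)⁆ rfl
  have key := h7_bs_main_aux _ _ (Subgroup.centralizer_le_normalizer _) hcard
    (fun h hh c hc => h7_centralizer_conj_mem _ h hh c hc) ν h4 c₀ hc₀ hinv
    (fun g c hc hgc => hX2 g c c.2 (hordD c hc) hgc)
    (fun c hc => Dvd.dvd.trans (⟨2 ^ n, by ring⟩ : (4 : ℕ) ∣ 2 ^ (n + 2)) (hord c hc))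
    (fun a b ha hb => h7_quat_invol_prod_order S e a b ha hb)
  rw [hc₀α] at key
  exact key

end Main

end Cfsg.Agent.Lib.helper7
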