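import Mathlib
import Cfsg.Agent.Lib.helper7.BSInvol
import Cfsg.Agent.Lib.Helper25.Gagola

set_option autoImplicit false
open scoped ComplexConjugate

namespace Cfsg.Agent.Lib.helper7

open Cfsg.Agent.Lib.Helper21 Cfsg.Agent.Lib.Helper25

section Linear
variable {G : Type*} [Group G]

theorem h7_irr_linear_of_commutator [Fintype G] (χ : Cfsg.IrrCharacter G)
    (hcomm : ∀ g h : G, (χ : G → ℂ) (g * h * g⁻¹ * h⁻¹) = (χ : G → ℂ) 1) :
    (χ : G → ℂ) 1 = 1 := by
  classical
  have hG : (Nat.card G : ℂ) ≠ 0 := by exact_mod_cast (Nat.card_pos (α := G)).ne'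
  have hx : (χ : G → ℂ) 1 ≠ 0 := irr_one_ne_zero χ
  have hprod : ∀ g : G, (χ : G → ℂ) g * conj ((χ : G → ℂ) g) = (χ : G → ℂ) 1 * (χ : G → ℂ) 1 := by
    intro g
    have h1 := irr_sum_conj_mul χ g g⁻¹
    rw [Finset.sum_congr rfl (fun y _ => hcomm y g), Finset.sum_const, Finset.card_univ,
      nsmul_eq_mul, ← Nat.card_eq_fintype_card, irr_inv] at h1
    field_simp at h1
    linear_combination -h1
  have h2 := irr_classInner χ χ
  rw [if_pos rfl] at h2
  unfold Cfsg.classInner at h2
  rw [Finset.sum_congr rfl (fun g _ => hprod g), Finset.sum_const, Finset.card_univ,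
    nsmul_eq_mul, ← Nat.card_eq_fintype_card] at h2
  have h3 : (χ : G → ℂ) 1 * (χ : G → ℂ) 1 = 1 := by
    field_simp at h2
    linear_combination h2
  obtain ⟨d, hd, hd1⟩ := irr_one_eq_finrank χ
  rw [hd1] at h3 ⊢
  have h4 : d * d = 1 := by exact_mod_cast h3
  have : d = 1 := by nlinarith
  rw [this]
  simp

theorem h7_irr_not_commutator_le_ker [Finite G] (χ : Cfsg.IrrCharacter G)
    (hdeg : (χ : G → ℂ) 1 ≠ 1) : ¬ commutator G ≤ irrKer χ := by
  classical
  haveI := Fintype.ofFinite G
  intro hle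
  apply hdeg
  apply h7_irr_linear_of_commutator χ
  intro g h
  rw [← mem_irrKer χ]
  apply hle
  rw [commutator_def]
  exact Subgroup.commutator_mem_commutator (Subgroup.mem_top g) (Subgroup.mem_top h)

end Linear

section Final
variable {G : Type*} [Group G]

theorem h7_orderOf_conj' (g x : G) : orderOf (g * x * g⁻¹) = orderOf x := by
  have : g * x * g⁻¹ = MulAut.conj g x := by simp
  rw [this, MulEquiv.orderOf_eq]

theorem h7_invol_closure_normal : (Subgroup.closure {g : G | orderOf g = 2}).Normal := by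
  have hs : Group.conjugatesOfSet {g : G | orderOf g = 2} = {g : G | orderOf g = 2} := by
    apply Set.Subset.antisymm
    · intro x hx
      obtain ⟨a, ha, hax⟩ := Group.mem_conjugatesOfSet_iff.mp hx
      obtain ⟨c, rfl⟩ := isConj_iff.mp hax
      show orderOf (c * a * c⁻¹) = 2
      rw [h7_orderOf_conj']
      exact ha
    · exact Group.subset_conjugatesOfSet
  have : Subgroup.closure {g : G | orderOf g = 2} =
      Subgroup.normalClosure {g : G | orderOf g = 2} := by
    rw [Subgroup.normalClosure, hs]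
  rw [this]
  infer_instance

theorem h7_unique_invol_of_cyclic_sylow [Finite G]
    (hO : ∀ N : Subgroup G, N.Normal → Odd (Nat.card N) → N = ⊥)
    (hcyc : ∀ Q : Sylow 2 ↥(Subgroup.closure {g : G | orderOf g = 2}), IsCyclic Q)
    (t u : G) (ht : orderOf t = 2) (hu : orderOf u = 2) : t = u := by
  classical
  haveI : Fact (Nat.Prime 2) := ⟨Nat.prime_two⟩
  set L := Subgroup.closure {g : G | orderOf g = 2} with hL
  haveI hLn : L.Normal := h7_invol_closure_normal
  have htL : t ∈ L := Subgroup.subset_closure ht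
  have huL : u ∈ L := Subgroup.subset_closure hu
  obtain ⟨Q⟩ : Nonempty (Sylow 2 ↥L) := inferInstance
  have hQcyc : IsCyclic ↥(Q : Subgroup ↥L) := hcyc Q
  have h2L : 2 ∣ Nat.card ↥L := by
    have h1 := orderOf_dvd_natCard (⟨t, htL⟩ : ↥L)
    rw [Subgroup.orderOf_mk, ht] at h1
    exact h1
  have hp : (Nat.card ↥L).minFac = 2 := (Nat.minFac_eq_two_iff _).mpr h2L
  have hcomp := IsCyclic.isComplement' hp hQcyc
  set R' := (MonoidHom.transferSylow Q (hQcyc.normalizer_le_centralizer hp)).ker with hR'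
  have hmem := Cfsg.Agent.Lib.Helper1.mem_normal_complement_iff Q R' hcomp
  set R : Subgroup G := R'.map L.subtype with hR
  have hRn : R.Normal := by
    constructor
    rintro _ ⟨y, hy, rfl⟩ g
    have hyL : g * (y : G) * g⁻¹ ∈ L := hLn.conj_mem _ y.2 g
    refine ⟨⟨g * (y : G) * g⁻¹, hyL⟩, ?_, rfl⟩
    have hy' : y ∈ R' := hy
    show (⟨g * (y : G) * g⁻¹, hyL⟩ : ↥L) ∈ R'
    rw [hmem] at hy' ⊢
    rw [← Subgroup.orderOf_coe] at hy' ⊢
    show Nat.Coprime (orderOf (g * (y : G) * g⁻¹)) 2
    rw [h7_orderOf_conj']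
    exact hy'
  have hRodd : Odd (Nat.card R) := by
    rw [hR, Subgroup.card_map_of_injective L.subtype_injective]
    exact Nat.coprime_two_right.mp
      (Cfsg.Agent.Lib.Helper1.card_coprime_of_isComplement'_sylow Q hcomp)
  have hRbot : R = ⊥ := hO R hRn hRodd
  have hR'bot : R' = ⊥ := by
    rw [hR] at hRbot
    exact (Subgroup.map_eq_bot_iff_of_injective R' L.subtype_injective).mp hRbot
  rw [hR'bot] at hcomp
  have hQtop : (Q : Subgroup ↥L) = ⊤ := Subgroup.isComplement'_bot_left.mp hcomp
  haveI hLcyc : IsCyclic ↥L := by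
    rw [hQtop] at hQcyc
    exact isCyclic_of_surjective (Subgroup.topEquiv (G := ↥L)).toMonoidHom
      (Subgroup.topEquiv (G := ↥L)).surjective
  have key := Cfsg.Agent.Lib.Helper24.ix_cyclic_invol_unique (⟨t, htL⟩ : ↥L) ⟨u, huL⟩
    (by apply Subtype.ext; rw [Subgroup.coe_pow, ← ht]; exact pow_orderOf_eq_one t)
    (by intro h; have := congrArg Subtype.val h; simp at this; rw [this] at ht; simp at ht)
    (by apply Subtype.ext; rw [Subgroup.coe_pow, ← hu]; exact pow_orderOf_eq_one u)
    (by intro h; have := congrArg Subtype.val h; simp at this; rw [this] at hu; simp at hu)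
  exact congrArg Subtype.val key

open QuaternionGroup in
theorem h7_quat_center_card [Finite G] (S : Sylow 2 G) (n : ℕ)
    (e : (S : Subgroup G) ≃* QuaternionGroup (2 ^ (n + 2)))
    (hO : ∀ N : Subgroup G, N.Normal → Odd (Nat.card N) → N = ⊥)
    (huniq : ∀ t u : G, orderOf t = 2 → orderOf u = 2 → t = u) :
    Nat.card (Subgroup.center G) = 2 := by
  classical
  haveI : Fact (Nat.Prime 2) := ⟨Nat.prime_two⟩
  haveI : NeZero (2 ^ (n + 2)) := ⟨by positivity⟩
  have h2G : 2 ∣ Nat.card G := by
    have hS := quat_card (S : Subgroup G) e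
    have h3 : Nat.card (S : Subgroup G) ∣ Nat.card G := Subgroup.card_subgroup_dvd_card _
    rw [hS] at h3
    exact Dvd.dvd.trans ⟨2 * 2 ^ (n + 2), by ring⟩ h3
  obtain ⟨t, ht⟩ := exists_prime_orderOf_dvd_card' 2 h2G
  have htZ : t ∈ Subgroup.center G := by
    rw [Subgroup.mem_center_iff]
    intro g
    have h1 : orderOf (g * t * g⁻¹) = 2 := by rw [h7_orderOf_conj']; exact ht
    have h2 := huniq _ _ h1 ht
    calc g * t = (g * t * g⁻¹) * g := by group
      _ = t * g := by rw [h2]
  set α := quatGen (S : Subgroup G) e with hα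
  have hoα : orderOf α = 2 * 2 ^ (n + 2) := quat_orderOf_gen (S : Subgroup G) e
  set s : G := ((e.symm (xa 0) : (S : Subgroup G)) : G) with hs
  have hsS : s ∈ (S : Subgroup G) := (e.symm (xa 0)).2
  have hsA : s ∉ Subgroup.zpowers α := by
    intro h
    obtain ⟨i, hi⟩ := Subgroup.mem_zpowers_iff.mp h
    have h1 : (e.symm (xa 0) : (S : Subgroup G)) = (e.symm (a 1)) ^ i := by
      apply Subtype.ext
      rw [Subgroup.coe_zpow]
      exact hi.symm
    have h2 := congrArg e h1
    rw [MulEquiv.apply_symm_apply, map_zpow, MulEquiv.apply_symm_apply] at h2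
    have h3 : (xa 0 : QuaternionGroup (2 ^ (n + 2))) ∈
        Subgroup.zpowers (a 1 : QuaternionGroup (2 ^ (n + 2))) := by
      rw [h2]; exact Subgroup.zpow_mem_zpowers _ i
    obtain ⟨j, hj⟩ := (quat_mem_zpowers_iff _).mp h3
    exact absurd hj (by simp)
  have hsα : s * α * s⁻¹ = α⁻¹ := h7_quat_invert (S : Subgroup G) e s hsS hsA
  have hZ : ∀ z ∈ Subgroup.center G, z = 1 ∨ z = t := by
    intro z hz
    have hzc : ∀ g : G, g * z = z * g := Subgroup.mem_center_iff.mp hz
    obtain ⟨k, m, hm, hkm⟩ := Nat.exists_eq_two_pow_mul_odd (orderOf_pos z).ne'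
    have hm1 : m = 1 := by
      set z' := z ^ 2 ^ k with hz'
      have hoz' : orderOf z' = m := by
        rw [hz', orderOf_pow' z (pow_ne_zero k (by norm_num)), hkm]
        have hg : Nat.gcd (2 ^ k * m) (2 ^ k) = 2 ^ k := Nat.gcd_eq_right (dvd_mul_right _ _)
        rw [hg, Nat.mul_div_cancel_left _ (by positivity)]
      have hz'c : ∀ g : G, g * z' = z' * g := by
        intro g
        have : Commute g z := hzc g
        exact (this.pow_right _).eq
      have hNn : (Subgroup.zpowers z').Normal := by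
        constructor
        intro x hx g
        obtain ⟨i, rfl⟩ := Subgroup.mem_zpowers_iff.mp hx
        have hc : Commute g z' := hz'c g
        have : g * z' ^ i * g⁻¹ = z' ^ i := by
          rw [(hc.zpow_right i).eq]
          group
        rw [this]
        exact Subgroup.zpow_mem_zpowers _ i
      have hNodd : Odd (Nat.card (Subgroup.zpowers z')) := by
        rw [Nat.card_zpowers, hoz']; exact hm
      have hbot := hO _ hNn hNodd
      have : z' = 1 := by
        have h1 : z' ∈ Subgroup.zpowers z' := Subgroup.mem_zpowers z'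
        rw [hbot] at h1
        exact Subgroup.mem_bot.mp h1
      rw [← hoz', this, orderOf_one]
    rw [hm1, mul_one] at hkm
    have hzS : z ∈ (S : Subgroup G) := by
      have hP : IsPGroup 2 (Subgroup.zpowers z) :=
        IsPGroup.of_card (n := k) (by rw [Nat.card_zpowers, hkm])
      obtain ⟨T, hT⟩ := hP.exists_le_sylow
      obtain ⟨g, rfl⟩ := MulAction.exists_smul_eq G S T
      have h3 := hT (Subgroup.mem_zpowers z)
      rw [Sylow.coe_subgroup_smul, Subgroup.mem_pointwise_smul_iff_inv_smul_mem] at h3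
      have h5 : (MulAut.conj g)⁻¹ • z = z := by
        simp only [MulAut.smul_def, ← map_inv, MulAut.conj_apply, inv_inv]
        rw [hzc g⁻¹]
        group
      rwa [h5] at h3
    have hzA : z ∈ Subgroup.zpowers α := by
      by_contra hzA
      have h1 := h7_quat_invert (S : Subgroup G) e z hzS hzA
      have h2 : z * α * z⁻¹ = α := by
        rw [← hzc α]
        group
      rw [h2] at h1
      have h3 : α * α = 1 := by
        nth_rewrite 1 [h1]
        exact inv_mul_cancel α
      have h4 : orderOf α ∣ 2 := orderOf_dvd_of_pow_eq_one (by rw [pow_two]; exact h3)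
      rw [hoα] at h4
      have h5 : 2 * 2 ^ (n + 2) ≤ 2 := Nat.le_of_dvd (by norm_num) h4
      have h6 : 4 ≤ 2 ^ (n + 2) := by
        calc 4 = 2 ^ 2 := by norm_num
          _ ≤ 2 ^ (n + 2) := Nat.pow_le_pow_right (by norm_num) (by omega)
      omega
    obtain ⟨i, hi⟩ := Subgroup.mem_zpowers_iff.mp hzA
    have hzz : z * z = 1 := by
      have h1 : s * z * s⁻¹ = z⁻¹ := by
        rw [← hi, ← conj_zpow, hsα, inv_zpow]
      have h2 : s * z * s⁻¹ = z := by
        rw [hzc s]
        group
      rw [h2] at h1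
      nth_rewrite 1 [h1]
      exact inv_mul_cancel z
    by_cases hz1 : z = 1
    · left; exact hz1
    · right
      exact huniq z t (h7_orderOf_two_of_sq z hzz hz1) ht
  have hZeq : Subgroup.center G = Subgroup.zpowers t := by
    apply le_antisymm
    · intro z hz
      rcases hZ z hz with h | h
      · rw [h]; exact Subgroup.one_mem _
      · rw [h]; exact Subgroup.mem_zpowers t
    · rw [Subgroup.zpowers_le]; exact htZ
  rw [hZeq, Nat.card_zpowers, ht]

end Final

end Cfsg.Agent.Lib.helper7
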