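import Mathlib
import Cfsg.Agent.Lib.helper15.St2

set_option autoImplicit false

/-!
Extensions of helper15's rank one Steinberg calculus `St K G` which do not need
the generation hypothesis: one restricts to the subgroup generated by the root elements.
-/

namespace Cfsg.Agent.Lib.helper7.St

open Cfsg.Agent.Lib.helper15.St2

section StExt

variable {K : Type*} [Field K] {G : Type*} [Group G] (S : St K G)

/-- The root elements of a rank one system. -/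
def rootSet : Set G := Set.range fun p : Bool × K => S.X p.1 p.2

/-- The restriction of a rank one system to the subgroup generated by its root elements. -/
def res : St K (Subgroup.closure (rootSet S)) where
  X b t := ⟨S.X b t, Subgroup.subset_closure ⟨(b, t), rfl⟩⟩
  add b t u := Subtype.ext (S.add b t u)
  rel b t u ht := Subtype.ext (S.rel b t u ht)

lemma res_hgen :
    Subgroup.closure (Set.range fun p : Bool × K => (res S).X p.1 p.2) = ⊤ := by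
  have h : (Set.range fun p : Bool × K => (res S).X p.1 p.2) =
      ((↑) : Subgroup.closure (rootSet S) → G) ⁻¹' (rootSet S) := by
    ext ⟨g, hg⟩
    constructor
    · rintro ⟨p, hp⟩
      exact ⟨p, congrArg Subtype.val hp⟩
    · rintro ⟨p, hp⟩
      exact ⟨p, Subtype.ext hp⟩
  rw [h]
  exact Subgroup.closure_closure_coe_preimage

lemma res_w (t : K) : (((res S).w t : Subgroup.closure (rootSet S)) : G) = S.w t := rfl

lemma res_h (t : K) : (((res S).h t : Subgroup.closure (rootSet S)) : G) = S.h t := rfl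

variable [Finite K]

theorem h_mul' (t u : K) (ht : t ≠ 0) (hu : u ≠ 0) : S.h t * S.h u = S.h (t * u) :=
  congrArg Subtype.val ((res S).h_mul (res_hgen S) t u ht hu)

theorem h_mul_w' (a u : K) (ha : a ≠ 0) (hu : u ≠ 0) : S.h a * S.w u = S.w (a * u) :=
  congrArg Subtype.val ((res S).h_mul_w (res_hgen S) a u ha hu)

theorem w_mul_w'' (a b : K) (ha : a ≠ 0) (hb : b ≠ 0) : S.w a * S.w b = S.h (-(a * b⁻¹)) :=
  congrArg Subtype.val ((res S).w_mul_w' (res_hgen S) a b ha hb)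

theorem h_inv' (t : K) (ht : t ≠ 0) : (S.h t)⁻¹ = S.h t⁻¹ := by
  apply inv_eq_of_mul_eq_one_right
  rw [h_mul' S _ _ ht (inv_ne_zero ht), mul_inv_cancel₀ ht, S.h_one]

/-- `w(u) = w(1) h(u⁻¹)`. -/
theorem w_eq_w_one_mul_h (u : K) (hu : u ≠ 0) : S.w u = S.w 1 * S.h u⁻¹ := by
  have h1 : S.w (-1) * S.w u = S.h u⁻¹ := by
    rw [w_mul_w'' S _ _ (by simp) hu]
    congr 1
    ring
  rw [← h1, ← mul_assoc, S.w_neg]
  group

/-- The `LU` identity in rank one: `x(t) y(u) = y(u/d) h(d) x(t/d)` for `d = 1 + tu ≠ 0`. -/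
theorem lu (t u : K) (hd : 1 + t * u ≠ 0) :
    S.x t * S.y u = S.y (u / (1 + t * u)) * S.h (1 + t * u) * S.x (t / (1 + t * u)) := by
  by_cases hu : u = 0
  · subst hu
    simp only [mul_zero, add_zero, div_one]
    rw [S.y_zero, S.h_one]
    group
  set d := 1 + t * u with hd'
  have ha : t + u⁻¹ ≠ 0 := by
    intro h
    apply hd
    have : u * (t + u⁻¹) = 0 := by rw [h, mul_zero]
    rw [hd']
    rw [mul_add, mul_inv_cancel₀ hu] at this
    linear_combination this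
  have hau : (t + u⁻¹) * u = d := by
    rw [hd', add_mul, inv_mul_cancel₀ hu]; ring
  -- x(t) y(u) = x(t + u⁻¹) w(-u⁻¹) x(u⁻¹)
  have e1 : S.x t * S.y u = S.x (t + u⁻¹) * S.w (-u⁻¹) * S.x u⁻¹ := by
    rw [S.y_eq u, ← S.x_add]
    group
  -- x(a) = y(a⁻¹) w(a) y(a⁻¹)
  have e2 := S.x_eq (t + u⁻¹) ha
  -- y(a⁻¹) w(-u⁻¹) = w(-u⁻¹) x(..)
  have hu' : -u⁻¹ ≠ 0 := neg_ne_zero.2 (inv_ne_zero hu)
  have e3 : S.y (t + u⁻¹)⁻¹ * S.w (-u⁻¹) = S.w (-u⁻¹) * S.x (-(u⁻¹ ^ 2 * (t + u⁻¹)⁻¹)) := by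
    have h := S.w_y (u⁻¹) ((t + u⁻¹)⁻¹) (inv_ne_zero hu)
    have h2 := mul_eq_of_cj h
    rw [S.w_neg]
    calc S.y (t + u⁻¹)⁻¹ * (S.w u⁻¹)⁻¹
        = (S.w u⁻¹)⁻¹ * (S.w u⁻¹ * S.y (t + u⁻¹)⁻¹) * (S.w u⁻¹)⁻¹ := by group
      _ = (S.w u⁻¹)⁻¹ * (S.x (-(u⁻¹ ^ 2 * (t + u⁻¹)⁻¹)) * S.w u⁻¹) * (S.w u⁻¹)⁻¹ := by rw [h2]
      _ = (S.w u⁻¹)⁻¹ * S.x (-(u⁻¹ ^ 2 * (t + u⁻¹)⁻¹)) := by group
  have e4 : S.w (t + u⁻¹) * S.w (-u⁻¹) = S.h d := by
    rw [w_mul_w'' S _ _ ha hu']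
    congr 1
    rw [inv_neg, inv_inv, ← hau]
    ring
  have e5 : (t + u⁻¹)⁻¹ = u / d := by
    rw [← hau]
    field_simp
  have e6 : -(u⁻¹ ^ 2 * (t + u⁻¹)⁻¹) + u⁻¹ = t / d := by
    rw [e5]
    have hd0 : d ≠ 0 := hd
    field_simp
    rw [hd']
    ring
  calc S.x t * S.y u = S.x (t + u⁻¹) * S.w (-u⁻¹) * S.x u⁻¹ := e1
    _ = S.y (t + u⁻¹)⁻¹ * S.w (t + u⁻¹) * (S.y (t + u⁻¹)⁻¹ * S.w (-u⁻¹)) * S.x u⁻¹ := by
        rw [e2]; group
    _ = S.y (t + u⁻¹)⁻¹ * (S.w (t + u⁻¹) * S.w (-u⁻¹)) *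
          (S.x (-(u⁻¹ ^ 2 * (t + u⁻¹)⁻¹)) * S.x u⁻¹) := by
        rw [e3]; group
    _ = S.y (u / d) * S.h d * S.x (t / d) := by
        rw [e4, S.x_add, e6, e5]

omit [Finite K] in
/-- The degenerate case of the `LU` identity. -/
theorem lu0 (t : K) : S.x t * S.y (-t⁻¹) = S.w t * S.x (-t) := by
  rw [S.w_def, S.x_neg]
  group

end StExt

end Cfsg.Agent.Lib.helper7.St
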