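import Mathlib
import Cfsg.Agent.Lib.helper7.StA

set_option autoImplicit false

/-!
Abstract Steinberg systems of type `A`: root elements `x i j t` indexed by pairs of distinct
indices, with the Steinberg relations.  Monomial elements.
-/

namespace Cfsg.Agent.Lib.helper7.St

open Cfsg.Agent.Lib.helper15.St2

/-- An abstract Steinberg system of type `A` on the index type `ι` in the group `G`. -/
structure Sys (K : Type*) [Field K] (ι : Type*) (G : Type*) [Group G] where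
  x : ι → ι → K → G
  diag : ∀ i t, x i i t = 1
  add : ∀ i j, i ≠ j → ∀ t u, x i j t * x i j u = x i j (t + u)
  comm : ∀ i j k l, i ≠ j → k ≠ l → i ≠ l → j ≠ k → ∀ t u,
    x i j t * x k l u = x k l u * x i j t
  comm3 : ∀ i j l, i ≠ j → j ≠ l → i ≠ l → ∀ t u,
    x i j t * x j l u * (x i j t)⁻¹ * (x j l u)⁻¹ = x i l (t * u)
  rel : ∀ i j, i ≠ j → ∀ t u, t ≠ 0 →
    cj (x i j t * x j i (-t⁻¹) * x i j t) (x i j u) = x j i (-(t⁻¹ ^ 2 * u))

namespace Sys

variable {K : Type*} [Field K] {ι : Type*} {G : Type*} [Group G] (S : Sys K ι G)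

lemma x_zero (i j : ι) : S.x i j 0 = 1 := by
  by_cases h : i = j
  · subst h; exact S.diag i 0
  · have := S.add i j h 0 0
    rw [add_zero] at this
    exact mul_eq_left.mp this

lemma x_neg (i j : ι) (t : K) : S.x i j (-t) = (S.x i j t)⁻¹ := by
  by_cases h : i = j
  · subst h; rw [S.diag, S.diag, inv_one]
  · exact eq_inv_of_mul_eq_one_left (by rw [S.add i j h, neg_add_cancel, S.x_zero])

lemma cj_comm {i j k l : ι} (hij : i ≠ j) (hkl : k ≠ l) (hil : i ≠ l) (hjk : j ≠ k) (t u : K) :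
    cj (S.x i j t) (S.x k l u) = S.x k l u := by
  unfold cj
  rw [S.comm i j k l hij hkl hil hjk t u]
  group

lemma cj3 {i j l : ι} (hij : i ≠ j) (hjl : j ≠ l) (hil : i ≠ l) (t u : K) :
    cj (S.x i j t) (S.x j l u) = S.x i l (t * u) * S.x j l u := by
  unfold cj
  rw [← S.comm3 i j l hij hjl hil t u]
  group

lemma cj3' {i j k : ι} (hij : i ≠ j) (hki : k ≠ i) (hkj : k ≠ j) (t u : K) :
    cj (S.x i j t) (S.x k i u) = S.x k j (-(u * t)) * S.x k i u := by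
  unfold cj
  rw [S.x_neg, ← S.comm3 k i j hki hij hkj u t]
  group

/-- The rank one system attached to a pair of distinct indices. -/
def st (i j : ι) (hij : i ≠ j) : St K G where
  X b t := if b then S.x i j t else S.x j i t
  add b t u := by
    cases b
    · exact S.add j i hij.symm t u
    · exact S.add i j hij t u
  rel b t u ht := by
    cases b
    · exact S.rel j i hij.symm t u ht
    · exact S.rel i j hij t u ht

/-- The element `w_ij(t)`. -/
def w (i j : ι) (t : K) : G := S.x i j t * S.x j i (-t⁻¹) * S.x i j t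

/-- The element `h_ij(t)`. -/
def h (i j : ι) (t : K) : G := S.w i j t * S.w i j (-1)

lemma st_x {i j : ι} (hij : i ≠ j) (t : K) : (S.st i j hij).x t = S.x i j t := rfl
lemma st_y {i j : ι} (hij : i ≠ j) (t : K) : (S.st i j hij).y t = S.x j i t := rfl
lemma st_w {i j : ι} (hij : i ≠ j) (t : K) : (S.st i j hij).w t = S.w i j t := rfl
lemma st_h {i j : ι} (hij : i ≠ j) (t : K) : (S.st i j hij).h t = S.h i j t := rfl

lemma w_neg (i j : ι) (t : K) : S.w i j (-t) = (S.w i j t)⁻¹ := by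
  unfold w
  rw [mul_inv_rev, mul_inv_rev, ← S.x_neg, ← S.x_neg, inv_neg, neg_neg, mul_assoc]

/-- `w_ji(t) = w_ij(-t⁻¹)`. -/
lemma w_swap {i j : ι} (hij : i ≠ j) (t : K) (ht : t ≠ 0) : S.w j i t = S.w i j (-t⁻¹) := by
  have h := (S.st i j hij).W_swap false t ht
  exact h

lemma h_one (i j : ι) : S.h i j 1 = 1 := by
  unfold h
  rw [S.w_neg]
  group

/-- Conjugation of a root element with indices disjoint from `{i, j}` by `w_ij(u)`. -/
lemma cj_w_disj {i j k l : ι} (hij : i ≠ j) (hkl : k ≠ l) (hki : k ≠ i) (hkj : k ≠ j)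
    (hli : l ≠ i) (hlj : l ≠ j) (u t : K) :
    cj (S.w i j u) (S.x k l t) = S.x k l t := by
  unfold w
  rw [← cj_cj, ← cj_cj, S.cj_comm hij hkl hli.symm hkj.symm, S.cj_comm hij.symm hkl hlj.symm hki.symm,
    S.cj_comm hij hkl hli.symm hkj.symm]

/-- `w_ij(u) x_il(t) w_ij(u)⁻¹ = x_jl(-u⁻¹ t)`. -/
lemma cj_w_il {i j l : ι} (hij : i ≠ j) (hli : l ≠ i) (hlj : l ≠ j) (u t : K) (hu : u ≠ 0) :
    cj (S.w i j u) (S.x i l t) = S.x j l (-(u⁻¹ * t)) := by
  unfold w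
  rw [← cj_cj, ← cj_cj, S.cj_comm hij hli.symm hli.symm hij.symm,
    S.cj3 hij.symm hli.symm hlj.symm, cj_mul, S.cj3 hij hlj.symm hli.symm,
    S.cj_comm hij hli.symm hli.symm hij.symm]
  have e : u * (-u⁻¹ * t) = -t := by
    field_simp
  rw [e, S.comm i l j l hli.symm hlj.symm hli.symm hlj, mul_assoc, S.add i l hli.symm,
    neg_add_cancel, S.x_zero, mul_one, neg_mul]

/-- `w_ij(u) x_ki(t) w_ij(u)⁻¹ = x_kj(-u t)`. -/
lemma cj_w_ki {i j k : ι} (hij : i ≠ j) (hki : k ≠ i) (hkj : k ≠ j) (u t : K) (hu : u ≠ 0) :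
    cj (S.w i j u) (S.x k i t) = S.x k j (-(u * t)) := by
  have s1 : cj (S.x i j u) (S.x k i t) = S.x k j (-(t * u)) * S.x k i t := S.cj3' hij hki hkj u t
  have s2 : cj (S.x j i (-u⁻¹)) (S.x k j (-(t * u)) * S.x k i t) = S.x k j (-(t * u)) := by
    rw [cj_mul, S.cj3' hij.symm hkj hki, S.cj_comm hij.symm hki hij.symm hki.symm]
    have e : -(-(t * u) * -u⁻¹) = -t := by
      field_simp
    rw [e, S.comm k i k j hki hkj hkj hki.symm, mul_assoc, S.add k i hki,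
      neg_add_cancel, S.x_zero, mul_one]
  have s3 : cj (S.x i j u) (S.x k j (-(t * u))) = S.x k j (-(t * u)) :=
    S.cj_comm hij hkj hij hkj.symm _ _
  unfold w
  rw [← cj_cj, ← cj_cj, s1, s2, s3, mul_comm t u]

/-- `w_ij(u) x_jl(t) w_ij(u)⁻¹ = x_il(u t)`. -/
lemma cj_w_jl {i j l : ι} (hij : i ≠ j) (hli : l ≠ i) (hlj : l ≠ j) (u t : K) (hu : u ≠ 0) :
    cj (S.w i j u) (S.x j l t) = S.x i l (u * t) := by
  have h : S.w i j u = S.w j i (-u⁻¹) := by
    rw [S.w_swap hij.symm u hu]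
  rw [h, S.cj_w_il hij.symm hlj hli _ _ (neg_ne_zero.2 (inv_ne_zero hu))]
  congr 1
  rw [inv_neg, inv_inv]
  ring

/-- `w_ij(u) x_kj(t) w_ij(u)⁻¹ = x_ki(u⁻¹ t)`. -/
lemma cj_w_kj {i j k : ι} (hij : i ≠ j) (hki : k ≠ i) (hkj : k ≠ j) (u t : K) (hu : u ≠ 0) :
    cj (S.w i j u) (S.x k j t) = S.x k i (u⁻¹ * t) := by
  have h : S.w i j u = S.w j i (-u⁻¹) := by
    rw [S.w_swap hij.symm u hu]
  rw [h, S.cj_w_ki hij.symm hkj hki _ _ (neg_ne_zero.2 (inv_ne_zero hu))]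
  congr 1
  ring

/-- `w_ij(u) x_ij(t) w_ij(u)⁻¹ = x_ji(-u⁻² t)`. -/
lemma cj_w_ij {i j : ι} (hij : i ≠ j) (u t : K) (hu : u ≠ 0) :
    cj (S.w i j u) (S.x i j t) = S.x j i (-(u⁻¹ ^ 2 * t)) :=
  S.rel i j hij u t hu

/-- `w_ij(u) x_ji(t) w_ij(u)⁻¹ = x_ij(-u² t)`. -/
lemma cj_w_ji {i j : ι} (hij : i ≠ j) (u t : K) (hu : u ≠ 0) :
    cj (S.w i j u) (S.x j i t) = S.x i j (-(u ^ 2 * t)) :=
  (S.st i j hij).w_y u t hu

end Sys

end Cfsg.Agent.Lib.helper7.St
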