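import Mathlib
import Cfsg.Agent.Lib.helper7.StB

set_option autoImplicit false

/-!
Monomial elements of an abstract Steinberg system, the relations between the `h_ij(u)`,
and subgroups generated by root subgroups.
-/

namespace Cfsg.Agent.Lib.helper7.St

open Cfsg.Agent.Lib.helper15.St2

section gen

variable {G : Type*} [Group G]

lemma cj_mem_of_gens {g : G} {T : Set G} {H : Subgroup G} (h : ∀ s ∈ T, cj g s ∈ H) :
    ∀ z ∈ Subgroup.closure T, cj g z ∈ H := by
  intro z hz
  induction hz using Subgroup.closure_induction with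
  | mem x hx => exact h x hx
  | one => rw [cj_one]; exact H.one_mem
  | mul x y _ _ hx hy => rw [cj_mul]; exact H.mul_mem hx hy
  | inv x _ hx => rw [cj_inv]; exact H.inv_mem hx

/-- Left induction on the closure of a set closed under inverses. -/
lemma closure_left_induction' {T : Set G} (hT : ∀ s ∈ T, s⁻¹ ∈ T) {p : G → Prop} (one : p 1)
    (mul : ∀ s ∈ T, ∀ g, p g → p (s * g)) : ∀ g ∈ Subgroup.closure T, p g := by
  intro g hg
  induction hg using Subgroup.closure_induction_left with
  | one => exact one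
  | mul_left x hx y _ ih => exact mul x hx y ih
  | inv_mul_cancel x hx y _ ih => exact mul x⁻¹ (hT x hx) y ih

end gen

namespace Sys

variable {K : Type*} [Field K] {ι : Type*} {G : Type*} [Group G] (S : Sys K ι G)

/-- `g` acts monomially on the root elements, with permutation `σ` and coefficients `d`. -/
def IsMon (g : G) (σ : Equiv.Perm ι) (d : ι → K) : Prop :=
  (∀ k, d k ≠ 0) ∧
    ∀ k l, k ≠ l → ∀ t, cj g (S.x k l t) = S.x (σ k) (σ l) (d k * (d l)⁻¹ * t)

variable {S}

lemma IsMon.congr {g : G} {σ σ' : Equiv.Perm ι} {d d' : ι → K} (h : S.IsMon g σ d)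
    (hσ : σ = σ') (hd : ∀ k, d k = d' k) : S.IsMon g σ' d' := by
  have : d = d' := funext hd
  subst hσ this
  exact h

lemma IsMon.mul {g g' : G} {σ σ' : Equiv.Perm ι} {d d' : ι → K} (h : S.IsMon g σ d)
    (h' : S.IsMon g' σ' d') : S.IsMon (g * g') (σ * σ') (fun k => d (σ' k) * d' k) := by
  refine ⟨fun k => mul_ne_zero (h.1 _) (h'.1 _), fun k l hkl t => ?_⟩
  rw [← cj_cj, h'.2 k l hkl, h.2 (σ' k) (σ' l) (σ'.injective.ne hkl)]
  simp only [Equiv.Perm.mul_apply]
  congr 1
  rw [mul_inv]
  ring

lemma IsMon.inv {g : G} {σ : Equiv.Perm ι} {d : ι → K} (h : S.IsMon g σ d) :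
    S.IsMon g⁻¹ σ⁻¹ (fun k => (d (σ⁻¹ k))⁻¹) := by
  refine ⟨fun k => inv_ne_zero (h.1 _), fun k l hkl t => ?_⟩
  apply cj_inv_of
  rw [h.2 _ _ (σ⁻¹.injective.ne hkl)]
  have h1 := h.1 (σ⁻¹ k)
  have h2 := h.1 (σ⁻¹ l)
  have e1 : σ (σ⁻¹ k) = k := σ.apply_symm_apply k
  have e2 : σ (σ⁻¹ l) = l := σ.apply_symm_apply l
  rw [e1, e2]
  congr 1
  field_simp

lemma IsMon.cj_w {g : G} {σ : Equiv.Perm ι} {d : ι → K} (hg : S.IsMon g σ d) {a b : ι}
    (hab : a ≠ b) (u : K) (hu : u ≠ 0) :
    cj g (S.w a b u) = S.w (σ a) (σ b) (d a * (d b)⁻¹ * u) := by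
  unfold w
  rw [cj_mul, cj_mul, hg.2 a b hab, hg.2 b a hab.symm]
  have h1 := hg.1 a
  have h2 := hg.1 b
  have e : d b * (d a)⁻¹ * -u⁻¹ = -(d a * (d b)⁻¹ * u)⁻¹ := by
    field_simp
  rw [e]

variable (S) [DecidableEq ι]

/-- The coefficients of `w_ij(u)`. -/
def dw (i j : ι) (u : K) : ι → K := fun k => if k = i then -u⁻¹ else if k = j then u else 1

lemma dw_left (i j : ι) (u : K) : dw i j u i = -u⁻¹ := by
  unfold dw; rw [if_pos rfl]

lemma dw_right {i j : ι} (hij : i ≠ j) (u : K) : dw i j u j = u := by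
  unfold dw; rw [if_neg hij.symm, if_pos rfl]

lemma dw_of_ne {i j k : ι} (hki : k ≠ i) (hkj : k ≠ j) (u : K) : dw i j u k = 1 := by
  unfold dw; rw [if_neg hki, if_neg hkj]

lemma isMon_w {i j : ι} (hij : i ≠ j) (u : K) (hu : u ≠ 0) :
    S.IsMon (S.w i j u) (Equiv.swap i j) (dw i j u) := by
  refine ⟨fun k => ?_, fun k l hkl t => ?_⟩
  · unfold dw
    split_ifs
    · exact neg_ne_zero.2 (inv_ne_zero hu)
    · exact hu
    · exact one_ne_zero
  · by_cases hki : k = i
    · subst hki
      by_cases hlj : l = j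
      · subst hlj
        rw [Equiv.swap_apply_left, Equiv.swap_apply_right, dw_left, dw_right hij,
          S.cj_w_ij hij u t hu]
        congr 1
        field_simp
      · rw [Equiv.swap_apply_left, Equiv.swap_apply_of_ne_of_ne (Ne.symm hkl) hlj, dw_left,
          dw_of_ne (Ne.symm hkl) hlj, S.cj_w_il hij (Ne.symm hkl) hlj u t hu]
        congr 1
        field_simp
    · by_cases hkj : k = j
      · subst hkj
        by_cases hli : l = i
        · subst hli
          rw [Equiv.swap_apply_left, Equiv.swap_apply_right, dw_left, dw_right hij,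
            S.cj_w_ji hij u t hu]
          congr 1
          field_simp
        · rw [Equiv.swap_apply_right, Equiv.swap_apply_of_ne_of_ne hli (Ne.symm hkl), dw_right hij,
            dw_of_ne hli (Ne.symm hkl), S.cj_w_jl hij hli (Ne.symm hkl) u t hu]
          congr 1
          field_simp
      · by_cases hli : l = i
        · subst hli
          rw [Equiv.swap_apply_left, Equiv.swap_apply_of_ne_of_ne hki hkj, dw_left,
            dw_of_ne hki hkj, S.cj_w_ki hij hki hkj u t hu]
          congr 1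
          field_simp
        · by_cases hlj : l = j
          · subst hlj
            rw [Equiv.swap_apply_right, Equiv.swap_apply_of_ne_of_ne hki hkj, dw_right hij,
              dw_of_ne hki hkj, S.cj_w_kj hij hki hkj u t hu]
            congr 1
            field_simp
          · rw [Equiv.swap_apply_of_ne_of_ne hki hkj, Equiv.swap_apply_of_ne_of_ne hli hlj,
              dw_of_ne hki hkj, dw_of_ne hli hlj, S.cj_w_disj hij hkl hki hkj hli hlj u t]
            congr 1
            simp

/-- The coefficients of `h_ij(u)`. -/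
def dh (i j : ι) (u : K) : ι → K := fun k => if k = i then u else if k = j then u⁻¹ else 1

lemma dh_left (i j : ι) (u : K) : dh i j u i = u := by
  unfold dh; rw [if_pos rfl]

lemma dh_right {i j : ι} (hij : i ≠ j) (u : K) : dh i j u j = u⁻¹ := by
  unfold dh; rw [if_neg hij.symm, if_pos rfl]

lemma dh_of_ne {i j k : ι} (hki : k ≠ i) (hkj : k ≠ j) (u : K) : dh i j u k = 1 := by
  unfold dh; rw [if_neg hki, if_neg hkj]

lemma isMon_h {i j : ι} (hij : i ≠ j) (u : K) (hu : u ≠ 0) :
    S.IsMon (S.h i j u) 1 (dh i j u) := by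
  have h1 := (S.isMon_w hij u hu).mul (S.isMon_w hij (-1) (by simp))
  refine h1.congr (Equiv.swap_mul_self i j) (fun k => ?_)
  by_cases hki : k = i
  · subst hki
    rw [Equiv.swap_apply_left, dw_right hij, dw_left, dh_left]
    simp
  · by_cases hkj : k = j
    · subst hkj
      rw [Equiv.swap_apply_right, dw_left, dw_right hij, dh_right hij]
      simp
    · rw [Equiv.swap_apply_of_ne_of_ne hki hkj, dw_of_ne hki hkj, dw_of_ne hki hkj,
        dh_of_ne hki hkj, mul_one]

end Sys

end Cfsg.Agent.Lib.helper7.St
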