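import Mathlib
import Cfsg.Agent.Lib.helper7.StC

set_option autoImplicit false

/-!
Relations between the `h_ij(u)` over a finite field, and subgroups generated by root subgroups.
-/

namespace Cfsg.Agent.Lib.helper7.St

open Cfsg.Agent.Lib.helper15.St2

namespace Sys

variable {K : Type*} [Field K] {ι : Type*} {G : Type*} [Group G] (S : Sys K ι G)

section hrel

variable [Finite K]

lemma h_mul {i j : ι} (hij : i ≠ j) (t u : K) (ht : t ≠ 0) (hu : u ≠ 0) :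
    S.h i j t * S.h i j u = S.h i j (t * u) :=
  h_mul' (S.st i j hij) t u ht hu

lemma h_inv {i j : ι} (hij : i ≠ j) (t : K) (ht : t ≠ 0) : (S.h i j t)⁻¹ = S.h i j t⁻¹ :=
  h_inv' (S.st i j hij) t ht

lemma w_mul_w {i j : ι} (hij : i ≠ j) (a b : K) (ha : a ≠ 0) (hb : b ≠ 0) :
    S.w i j a * S.w i j b = S.h i j (-(a * b⁻¹)) :=
  w_mul_w'' (S.st i j hij) a b ha hb

lemma w_eq_w_one_mul_h {i j : ι} (hij : i ≠ j) (u : K) (hu : u ≠ 0) :
    S.w i j u = S.w i j 1 * S.h i j u⁻¹ :=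
  St.w_eq_w_one_mul_h (S.st i j hij) u hu

lemma lu {i j : ι} (hij : i ≠ j) (t u : K) (hd : 1 + t * u ≠ 0) :
    S.x i j t * S.x j i u =
      S.x j i (u / (1 + t * u)) * S.h i j (1 + t * u) * S.x i j (t / (1 + t * u)) :=
  St.lu (S.st i j hij) t u hd

omit [Finite K] in
lemma lu0 {i j : ι} (hij : i ≠ j) (t : K) :
    S.x i j t * S.x j i (-t⁻¹) = S.w i j t * S.x i j (-t) :=
  St.lu0 (S.st i j hij) t

/-- `h_ji(u) = h_ij(u⁻¹)`. -/
lemma h_swap {i j : ι} (hij : i ≠ j) (u : K) (hu : u ≠ 0) : S.h j i u = S.h i j u⁻¹ := by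
  unfold h
  rw [S.w_swap hij u hu, S.w_swap hij (-1) (by simp)]
  have e : -(-1 : K)⁻¹ = 1 := by
    rw [inv_neg, inv_one, neg_neg]
  rw [e, S.w_mul_w hij _ _ (neg_ne_zero.2 (inv_ne_zero hu)) one_ne_zero]
  show S.h i j _ = S.h i j _
  congr 1
  simp

variable [DecidableEq ι]

/-- `h_ij(u) h_jk(u) = h_ik(u)`. -/
lemma h_chain {i j k : ι} (hij : i ≠ j) (hjk : j ≠ k) (hik : i ≠ k) (u : K) (hu : u ≠ 0) :
    S.h i j u * S.h j k u = S.h i k u := by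
  have hW := S.isMon_w hjk 1 one_ne_zero
  -- first computation
  have e1 : cj (S.w j k 1) (S.h i j u) = S.h i k u := by
    have a1 := hW.cj_w hij u hu
    have a2 := hW.cj_w hij (-1) (by simp)
    rw [Equiv.swap_apply_of_ne_of_ne hij hik, Equiv.swap_apply_left, dw_of_ne hij hik,
      dw_left] at a1 a2
    have c1 : (1 : K) * (-(1 : K)⁻¹)⁻¹ * u = -u := by simp
    have c2 : (1 : K) * (-(1 : K)⁻¹)⁻¹ * (-1) = 1 := by simp
    rw [c1] at a1
    rw [c2] at a2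
    have : S.h i j u = S.w i j u * S.w i j (-1) := rfl
    rw [this, cj_mul, a1, a2, S.w_mul_w hik _ _ (neg_ne_zero.2 hu) one_ne_zero]
    congr 1
    simp
  -- second computation
  have hH := S.isMon_h hij u hu
  have e2 : cj (S.h i j u) (S.w j k u) = S.w j k 1 := by
    rw [hH.cj_w hjk u hu, Equiv.Perm.one_apply, Equiv.Perm.one_apply, dh_right hij,
      dh_of_ne hik.symm hjk.symm]
    congr 1
    field_simp
  have e3 := mul_eq_of_cj e2
  have e4 : cj (S.w j k 1) (S.h i j u) = S.h i j u * S.h j k u := by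
    have : S.h j k u = S.w j k u * S.w j k (-1) := rfl
    rw [this, S.w_neg]
    unfold cj
    rw [← e3]
    group
  rw [← e4, e1]

end hrel

section XQ

/-- The subgroup generated by the root subgroups `x i j` with `Q i j`. -/
def XQ (Q : ι → ι → Prop) : Subgroup G :=
  Subgroup.closure {g | ∃ i j t, i ≠ j ∧ Q i j ∧ g = S.x i j t}

lemma x_mem_XQ {Q : ι → ι → Prop} {i j : ι} (hij : i ≠ j) (hQ : Q i j) (t : K) :
    S.x i j t ∈ S.XQ Q :=
  Subgroup.subset_closure ⟨i, j, t, hij, hQ, rfl⟩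

lemma XQ_mono {Q Q' : ι → ι → Prop} (h : ∀ i j, i ≠ j → Q i j → Q' i j) : S.XQ Q ≤ S.XQ Q' := by
  apply Subgroup.closure_mono
  rintro _ ⟨i, j, t, hij, hQ, rfl⟩
  exact ⟨i, j, t, hij, h i j hij hQ, rfl⟩

lemma XQ_le {Q : ι → ι → Prop} {H : Subgroup G}
    (h : ∀ i j t, i ≠ j → Q i j → S.x i j t ∈ H) : S.XQ Q ≤ H := by
  apply (Subgroup.closure_le _).2
  rintro _ ⟨i, j, t, hij, hQ, rfl⟩
  exact h i j t hij hQ

variable {S}

lemma IsMon.cj_mem_XQ {g : G} {σ : Equiv.Perm ι} {d : ι → K} (hg : S.IsMon g σ d)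
    {Q Q' : ι → ι → Prop} (hQ : ∀ k l, k ≠ l → Q k l → Q' (σ k) (σ l)) :
    ∀ z ∈ S.XQ Q, cj g z ∈ S.XQ Q' := by
  apply cj_mem_of_gens
  rintro _ ⟨k, l, t, hkl, hQkl, rfl⟩
  rw [hg.2 k l hkl]
  exact S.x_mem_XQ (σ.injective.ne hkl) (hQ k l hkl hQkl) _

variable (S)

/-- Conjugation by a root element maps `XQ Q` into `XQ Q'` under suitable closure conditions. -/
lemma cj_x_mem_XQ {Q Q' : ι → ι → Prop} {i j : ι} (hij : i ≠ j) (t : K)
    (h1 : ∀ l, l ≠ j → Q j l → l ≠ i ∧ Q' i l)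
    (h2 : ∀ k, k ≠ i → Q k i → k ≠ j ∧ Q' k j)
    (h3 : ∀ k l, k ≠ l → Q k l → Q' k l) :
    ∀ z ∈ S.XQ Q, cj (S.x i j t) z ∈ S.XQ Q' := by
  apply cj_mem_of_gens
  rintro _ ⟨k, l, u, hkl, hQkl, rfl⟩
  by_cases hkj : k = j
  · subst hkj
    obtain ⟨hli, hQ'⟩ := h1 l (Ne.symm hkl) hQkl
    rw [S.cj3 hij hkl hli.symm]
    exact mul_mem (S.x_mem_XQ hli.symm hQ' _) (S.x_mem_XQ hkl (h3 _ _ hkl hQkl) _)
  · by_cases hli : l = i
    · subst hli
      obtain ⟨-, hQ'⟩ := h2 k hkl hQkl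
      rw [S.cj3' hij hkl hkj]
      exact mul_mem (S.x_mem_XQ hkj hQ' _) (S.x_mem_XQ hkl (h3 _ _ hkl hQkl) _)
    · rw [S.cj_comm hij hkl (Ne.symm hli) (Ne.symm hkj)]
      exact S.x_mem_XQ hkl (h3 _ _ hkl hQkl) _

end XQ

end Sys

end Cfsg.Agent.Lib.helper7.St
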