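import Mathlib
import Cfsg.Agent.Lib.helper7.StD

set_option autoImplicit false

/-!
The big cell decomposition of an abstract Steinberg system relative to an index `o`.
-/

namespace Cfsg.Agent.Lib.helper7.St

open Cfsg.Agent.Lib.helper15.St2

section gen

variable {G : Type*} [Group G]

lemma cj_closure_mem {T : Set G} (hT : ∀ s ∈ T, s⁻¹ ∈ T) {N : Subgroup G}
    (h : ∀ s ∈ T, ∀ q ∈ N, cj s q ∈ N) : ∀ z ∈ Subgroup.closure T, ∀ q ∈ N, cj z q ∈ N := by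
  refine closure_left_induction' (p := fun z => ∀ q ∈ N, cj z q ∈ N) hT ?_ ?_
  · intro q hq
    rw [cj_one_left]; exact hq
  · intro s hs g ih q hq
    rw [← cj_cj]
    exact h s hs _ (ih q hq)

end gen

namespace Sys

variable {K : Type*} [Field K] {ι : Type*} {G : Type*} [Group G] (S : Sys K ι G)

lemma XQ_gens_inv (Q : ι → ι → Prop) :
    ∀ s ∈ {g | ∃ i j t, i ≠ j ∧ Q i j ∧ g = S.x i j t},
      s⁻¹ ∈ {g | ∃ i j t, i ≠ j ∧ Q i j ∧ g = S.x i j t} := by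
  rintro _ ⟨i, j, t, hij, hQ, rfl⟩
  exact ⟨i, j, -t, hij, hQ, (S.x_neg i j t).symm⟩

/-- Conjugation by elements of `XQ Q` preserves `XQ Q'` if the root elements of `XQ Q` do. -/
lemma XQ_cj_mem {Q Q' : ι → ι → Prop}
    (h : ∀ i j t, i ≠ j → Q i j → ∀ q ∈ S.XQ Q', cj (S.x i j t) q ∈ S.XQ Q') :
    ∀ z ∈ S.XQ Q, ∀ q ∈ S.XQ Q', cj z q ∈ S.XQ Q' := by
  apply cj_closure_mem (S.XQ_gens_inv Q)
  rintro _ ⟨i, j, t, hij, hQ, rfl⟩ q hq
  exact h i j t hij hQ q hq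

variable (o : ι)

/-- The lower unipotent radical: generated by the `x l o`. -/
def Yg : Subgroup G := S.XQ (fun i j => i ≠ o ∧ j = o)
/-- The subgroup fixing the basis vector `e_o`. -/
def Pg : Subgroup G := S.XQ (fun _ j => j ≠ o)
/-- The upper unipotent radical: generated by the `x o j`. -/
def Ag : Subgroup G := S.XQ (fun i j => i = o ∧ j ≠ o)
/-- The Levi factor. -/
def Lg : Subgroup G := S.XQ (fun i j => i ≠ o ∧ j ≠ o)
/-- The torus part. -/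
def Hg : Subgroup G := Subgroup.closure {g | ∃ j t, j ≠ o ∧ t ≠ 0 ∧ g = S.h o j t}
/-- The parabolic subgroup. -/
def Phat : Subgroup G := S.Pg o ⊔ S.Hg o

variable {o}

lemma x_mem_Yg {l : ι} (hl : l ≠ o) (t : K) : S.x l o t ∈ S.Yg o :=
  S.x_mem_XQ hl ⟨hl, rfl⟩ t

lemma x_mem_Pg {i j : ι} (hij : i ≠ j) (hj : j ≠ o) (t : K) : S.x i j t ∈ S.Pg o :=
  S.x_mem_XQ hij hj t

lemma Pg_le_Phat : S.Pg o ≤ S.Phat o := le_sup_left

lemma h_mem_Phat {j : ι} (hj : j ≠ o) {t : K} (ht : t ≠ 0) : S.h o j t ∈ S.Phat o :=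
  (le_sup_right : S.Hg o ≤ S.Phat o) (Subgroup.subset_closure ⟨j, t, hj, ht, rfl⟩)

lemma w_mem_Pg {i j : ι} (hij : i ≠ j) (hi : i ≠ o) (hj : j ≠ o) (t : K) : S.w i j t ∈ S.Pg o := by
  unfold w
  exact mul_mem (mul_mem (S.x_mem_Pg hij hj _) (S.x_mem_Pg hij.symm hi _)) (S.x_mem_Pg hij hj _)

variable {S} in
lemma IsMon.cj_mem_Yg {g : G} {σ : Equiv.Perm ι} {d : ι → K} (hg : S.IsMon g σ d)
    (hσ : σ o = o) : ∀ y ∈ S.Yg o, cj g y ∈ S.Yg o := by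
  apply hg.cj_mem_XQ
  rintro k l - ⟨hk, rfl⟩
  refine ⟨fun h => hk ?_, hσ⟩
  apply σ.injective
  rw [h, hσ]

lemma x_cj_mem_Yg {i j : ι} (hij : i ≠ j) (hi : i ≠ o) (hj : j ≠ o) (t : K) :
    ∀ y ∈ S.Yg o, cj (S.x i j t) y ∈ S.Yg o := by
  apply S.cj_x_mem_XQ hij t
  · rintro l - ⟨-, rfl⟩
    exact ⟨hi.symm, hi, rfl⟩
  · rintro k - ⟨-, h⟩
    exact absurd h hi
  · intro k l _ h
    exact h

/-- Decomposition of `Yg` along the root subgroup `x j o`. -/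
lemma Yg_decomp {j : ι} (hj : j ≠ o) :
    ∀ y ∈ S.Yg o, ∃ u : K, ∃ y' ∈ S.XQ (fun i l => (i ≠ o ∧ i ≠ j) ∧ l = o),
      y = S.x j o u * y' := by
  refine closure_left_induction'
    (p := fun y => ∃ u : K, ∃ y' ∈ S.XQ (fun i l => (i ≠ o ∧ i ≠ j) ∧ l = o),
      y = S.x j o u * y') (S.XQ_gens_inv _) ?_ ?_
  · exact ⟨0, 1, one_mem _, by rw [S.x_zero, one_mul]⟩
  · rintro _ ⟨i, l, t, hil, ⟨hi, rfl⟩, rfl⟩ g ⟨u, y', hy', rfl⟩
    by_cases hij : i = j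
    · subst hij
      exact ⟨t + u, y', hy', by rw [← mul_assoc, S.add i l hi]⟩
    · refine ⟨u, S.x i l t * y', mul_mem (S.x_mem_XQ hi ⟨⟨hi, hij⟩, rfl⟩ t) hy', ?_⟩
      rw [← mul_assoc, S.comm i l j l hi hj hi (Ne.symm hj), mul_assoc]

/-- Moving `x o j s` across an element of `Yg` without `j`-component. -/
lemma Yg'_Pg {j : ι} (hj : j ≠ o) :
    ∀ y' ∈ S.XQ (fun i l => (i ≠ o ∧ i ≠ j) ∧ l = o), ∀ s : K,
      ∃ p ∈ S.Pg o, S.x o j s * y' = y' * p := by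
  intro y' hy' s
  have key : ∀ z ∈ S.XQ (fun i l => (i ≠ o ∧ i ≠ j) ∧ l = o),
      ∀ q ∈ S.XQ (fun _ l => l = j), cj z q ∈ S.XQ (fun _ l => l = j) := by
    apply S.XQ_cj_mem
    rintro i l t hil ⟨⟨hi, hij⟩, rfl⟩
    apply S.cj_x_mem_XQ hil t
    · rintro m - rfl
      exact ⟨Ne.symm hij, rfl⟩
    · rintro k - h
      exact absurd h hij
    · intro k l _ h
      exact h
  have h1 : cj y'⁻¹ (S.x o j s) ∈ S.XQ (fun _ l => l = j) :=
    key _ (inv_mem hy') _ (S.x_mem_XQ (Ne.symm hj) rfl s)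
  refine ⟨cj y'⁻¹ (S.x o j s), ?_, ?_⟩
  · refine S.XQ_mono ?_ h1
    rintro i l - rfl
    exact hj
  · unfold cj
    group

end Sys

end Cfsg.Agent.Lib.helper7.St
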