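import Mathlib
import Cfsg.Agent.Lib.helper7.StE

set_option autoImplicit false

/-!
The cells `Y P̂` and `w_ok(1) Y P̂` cover the group.
-/

namespace Cfsg.Agent.Lib.helper7.St

open Cfsg.Agent.Lib.helper15.St2

namespace Sys

variable {K : Type*} [Field K] [Finite K] {ι : Type*} [DecidableEq ι] {G : Type*} [Group G]
  (S : Sys K ι G) (o : ι)

/-- The big cell. -/
def cell0 : Set G := {g | ∃ y ∈ S.Yg o, ∃ p ∈ S.Phat o, g = y * p}

/-- The cell attached to `k`. -/
def cell (k : ι) : Set G := {g | ∃ y ∈ S.Yg o, ∃ p ∈ S.Phat o, g = S.w o k 1 * y * p}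

/-- Membership in the union of the cells. -/
def InD (g : G) : Prop := g ∈ S.cell0 o ∨ ∃ k, k ≠ o ∧ g ∈ S.cell o k

variable {o}

omit [Finite K] in
lemma h_cj_mem_Yg {j : ι} (hj : j ≠ o) {t : K} (ht : t ≠ 0) :
    ∀ y ∈ S.Yg o, cj (S.h o j t) y ∈ S.Yg o :=
  (S.isMon_h (Ne.symm hj) t ht).cj_mem_Yg rfl

omit [Finite K] [DecidableEq ι] in
lemma Yg'_le_Yg {j : ι} : S.XQ (fun i l => (i ≠ o ∧ i ≠ j) ∧ l = o) ≤ S.Yg o := by
  apply S.XQ_mono
  rintro i l - ⟨⟨hi, -⟩, rfl⟩
  exact ⟨hi, rfl⟩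

/-- Left multiplication of the big cell by a root element. -/
lemma lemA {i j : ι} (hij : i ≠ j) (t : K) {y p : G} (hy : y ∈ S.Yg o) (hp : p ∈ S.Phat o) :
    S.x i j t * (y * p) ∈ S.cell0 o ∨ (i = o ∧ S.x i j t * (y * p) ∈ S.cell o j) := by
  by_cases hi : i = o
  · subst hi
    have hj : j ≠ i := Ne.symm hij
    obtain ⟨u, y', hy', rfl⟩ := S.Yg_decomp hj y hy
    have hy'' : y' ∈ S.Yg i := S.Yg'_le_Yg hy'
    by_cases hd : 1 + t * u = 0
    · -- degenerate case
      have ht : t ≠ 0 := by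
        rintro rfl
        simp at hd
      have hu : u = -t⁻¹ := by
        field_simp
        linear_combination hd
      subst hu
      obtain ⟨p1, hp1, e⟩ := S.Yg'_Pg hj y' hy' (-t)
      have hh : S.h i j t⁻¹ ∈ S.Phat i := S.h_mem_Phat hj (inv_ne_zero ht)
      refine Or.inr ⟨rfl, cj (S.h i j t⁻¹) y', S.h_cj_mem_Yg hj (inv_ne_zero ht) y' hy'',
        S.h i j t⁻¹ * p1 * p, mul_mem (mul_mem hh (S.Pg_le_Phat hp1)) hp, ?_⟩
      calc S.x i j t * (S.x j i (-t⁻¹) * y' * p)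
          = (S.x i j t * S.x j i (-t⁻¹)) * y' * p := by group
        _ = (S.w i j 1 * S.h i j t⁻¹ * S.x i j (-t)) * y' * p := by
            rw [S.lu0 hij, S.w_eq_w_one_mul_h hij t ht]
        _ = S.w i j 1 * S.h i j t⁻¹ * (S.x i j (-t) * y') * p := by group
        _ = S.w i j 1 * S.h i j t⁻¹ * (y' * p1) * p := by rw [e]
        _ = S.w i j 1 * cj (S.h i j t⁻¹) y' * (S.h i j t⁻¹ * p1 * p) := by
            unfold cj; group
    · obtain ⟨p1, hp1, e⟩ := S.Yg'_Pg hj y' hy' (t / (1 + t * u))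
      have hh : S.h i j (1 + t * u) ∈ S.Phat i := S.h_mem_Phat hj hd
      refine Or.inl ⟨S.x j i (u / (1 + t * u)) * cj (S.h i j (1 + t * u)) y',
        mul_mem (S.x_mem_Yg hj _) (S.h_cj_mem_Yg hj hd y' hy''),
        S.h i j (1 + t * u) * p1 * p, mul_mem (mul_mem hh (S.Pg_le_Phat hp1)) hp, ?_⟩
      calc S.x i j t * (S.x j i u * y' * p)
          = (S.x i j t * S.x j i u) * y' * p := by group
        _ = (S.x j i (u / (1 + t * u)) * S.h i j (1 + t * u) * S.x i j (t / (1 + t * u))) *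
              y' * p := by rw [S.lu hij t u hd]
        _ = S.x j i (u / (1 + t * u)) * S.h i j (1 + t * u) *
              (S.x i j (t / (1 + t * u)) * y') * p := by group
        _ = S.x j i (u / (1 + t * u)) * S.h i j (1 + t * u) * (y' * p1) * p := by rw [e]
        _ = S.x j i (u / (1 + t * u)) * cj (S.h i j (1 + t * u)) y' *
              (S.h i j (1 + t * u) * p1 * p) := by
            unfold cj; group
  · left
    by_cases hj : j = o
    · subst hj
      exact ⟨S.x i j t * y, mul_mem (S.x_mem_Yg hi t) hy, p, hp, by group⟩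
    · refine ⟨cj (S.x i j t) y, S.x_cj_mem_Yg hij hi hj t y hy, S.x i j t * p,
        mul_mem (S.Pg_le_Phat (S.x_mem_Pg hij hj t)) hp, ?_⟩
      unfold cj; group

omit [Finite K] in
/-- Moving a root element across a monomial element with an involutive permutation. -/
lemma IsMon_swap_move {g : G} {a b : ι} {d : ι → K} (hg : S.IsMon g (Equiv.swap a b) d)
    {i j : ι} (hij : i ≠ j) (t : K) :
    ∃ s : K, S.x i j t * g = g * S.x (Equiv.swap a b i) (Equiv.swap a b j) s := by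
  have hne : Equiv.swap a b i ≠ Equiv.swap a b j := (Equiv.swap a b).injective.ne hij
  have h1 := hg.1 (Equiv.swap a b i)
  have h2 := hg.1 (Equiv.swap a b j)
  refine ⟨(d (Equiv.swap a b i) * (d (Equiv.swap a b j))⁻¹)⁻¹ * t, ?_⟩
  have h := mul_eq_of_cj (hg.2 _ _ hne
    ((d (Equiv.swap a b i) * (d (Equiv.swap a b j))⁻¹)⁻¹ * t))
  rw [Equiv.swap_apply_self, Equiv.swap_apply_self] at h
  rw [h]
  congr 2
  field_simp

/-- Left multiplication of the cell of `k` by a root element. -/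
lemma lemB {k : ι} (hk : k ≠ o) {i j : ι} (hij : i ≠ j) (t : K) {y p : G} (hy : y ∈ S.Yg o)
    (hp : p ∈ S.Phat o) : S.InD o (S.x i j t * (S.w o k 1 * y * p)) := by
  have hok : o ≠ k := Ne.symm hk
  have hW := S.isMon_w hok 1 one_ne_zero
  obtain ⟨s, hs⟩ := S.IsMon_swap_move hW hij t
  have hne : Equiv.swap o k i ≠ Equiv.swap o k j := (Equiv.swap o k).injective.ne hij
  have e0 : S.x i j t * (S.w o k 1 * y * p) =
      S.w o k 1 * (S.x (Equiv.swap o k i) (Equiv.swap o k j) s * (y * p)) := by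
    calc S.x i j t * (S.w o k 1 * y * p) = (S.x i j t * S.w o k 1) * y * p := by group
      _ = (S.w o k 1 * S.x (Equiv.swap o k i) (Equiv.swap o k j) s) * y * p := by rw [hs]
      _ = _ := by group
  rw [e0]
  rcases S.lemA hne s hy hp with ⟨y1, hy1, p1, hp1, e1⟩ | ⟨hi', y1, hy1, p1, hp1, e1⟩
  · rw [e1]
    exact Or.inr ⟨k, hk, y1, hy1, p1, hp1, by group⟩
  · rw [e1]
    set j' := Equiv.swap o k j with hj'
    have hj'o : j' ≠ o := by
      rw [← hi']; exact Ne.symm hne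
    by_cases hj'k : j' = k
    · rw [hj'k]
      have hh : S.h o k (-1) ∈ S.Phat o := S.h_mem_Phat hk (by simp)
      have e2 : S.w o k 1 * S.w o k 1 = S.h o k (-1) := by
        rw [S.w_mul_w hok 1 1 one_ne_zero one_ne_zero]
        congr 1
        simp
      refine Or.inl ⟨cj (S.h o k (-1)) y1, S.h_cj_mem_Yg hk (by simp) y1 hy1,
        S.h o k (-1) * p1, mul_mem hh hp1, ?_⟩
      calc S.w o k 1 * (S.w o k 1 * y1 * p1) = (S.w o k 1 * S.w o k 1) * y1 * p1 := by group
        _ = S.h o k (-1) * y1 * p1 := by rw [e2]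
        _ = _ := by unfold cj; group
    · have hoj' : o ≠ j' := Ne.symm hj'o
      -- conjugate `w o k 1` by `(w o j' 1)⁻¹ = w o j' (-1)`
      have hV := S.isMon_w hoj' (-1) (by simp)
      have e2 := hV.cj_w hok 1 one_ne_zero
      rw [Equiv.swap_apply_left, Equiv.swap_apply_of_ne_of_ne hk (Ne.symm hj'k)] at e2
      set c := dw o j' (-1 : K) o * (dw o j' (-1 : K) k)⁻¹ * 1 with hc
      have hc0 : c ≠ 0 := by
        rw [hc, dw_left, dw_of_ne hk (Ne.symm hj'k)]
        simp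
      have e3 := mul_eq_of_cj e2
      rw [S.w_neg] at e3
      have hZ : S.w j' k c ∈ S.Pg o := S.w_mem_Pg hj'k hj'o hk c
      have hZm := S.isMon_w hj'k c hc0
      have hZy := hZm.cj_mem_Yg (o := o)
        (Equiv.swap_apply_of_ne_of_ne (Ne.symm hj'o) (Ne.symm hk)) y1 hy1
      refine Or.inr ⟨j', hj'o, cj (S.w j' k c) y1, hZy, S.w j' k c * p1,
        mul_mem (S.Pg_le_Phat hZ) hp1, ?_⟩
      calc S.w o k 1 * (S.w o j' 1 * y1 * p1)
          = S.w o j' 1 * ((S.w o j' 1)⁻¹ * S.w o k 1) * S.w o j' 1 * y1 * p1 := by group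
        _ = S.w o j' 1 * (S.w j' k c * (S.w o j' 1)⁻¹) * S.w o j' 1 * y1 * p1 := by rw [e3]
        _ = _ := by unfold cj; group

omit [Finite K] [DecidableEq ι] in
lemma InD_one : S.InD o 1 :=
  Or.inl ⟨1, one_mem _, 1, one_mem _, by group⟩

lemma InD_mul {i j : ι} (hij : i ≠ j) (t : K) {g : G} (hg : S.InD o g) :
    S.InD o (S.x i j t * g) := by
  rcases hg with ⟨y, hy, p, hp, rfl⟩ | ⟨k, hk, y, hy, p, hp, rfl⟩
  · rcases S.lemA hij t hy hp with h | ⟨hi, h⟩
    · exact Or.inl h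
    · exact Or.inr ⟨j, by rw [← hi]; exact Ne.symm hij, h⟩
  · exact S.lemB hk hij t hy hp

/-- If the root elements generate, the cells cover the group. -/
theorem InD_all (hgen : S.XQ (fun _ _ => True) = ⊤) (g : G) : S.InD o g := by
  have hg : g ∈ S.XQ (fun _ _ => True) := by rw [hgen]; exact Subgroup.mem_top g
  revert g
  refine closure_left_induction' (p := fun g => S.InD o g) (S.XQ_gens_inv _) S.InD_one ?_
  rintro _ ⟨i, j, t, hij, -, rfl⟩ g hg
  exact S.InD_mul hij t hg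

end Sys

end Cfsg.Agent.Lib.helper7.St
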