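import Mathlib
import Cfsg.Agent.Lib.helper7.StF

set_option autoImplicit false

/-!
Matrix side: the action of transvections on the standard basis vectors, stabilizer subgroups.
-/

namespace Cfsg.Agent.Lib.helper7.St

open Matrix

section mat

variable {K : Type*} [Field K] {I : Type*} [Fintype I] [DecidableEq I]

lemma transvection_mulVec (a b : I) (t : K) (v : I → K) :
    Matrix.transvection a b t *ᵥ v = v + Pi.single a (t * v b) := by
  rw [Matrix.transvection, Matrix.add_mulVec, Matrix.one_mulVec, Matrix.single_mulVec_eq]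
  congr 1
  ext m
  simp [Pi.single_apply]

lemma vecMul_transvection (a b : I) (t : K) (v : I → K) :
    v ᵥ* Matrix.transvection a b t = v + Pi.single b (t * v a) := by
  rw [Matrix.transvection, Matrix.vecMul_add, Matrix.vecMul_one]
  congr 1
  ext m
  simp only [Matrix.vecMul, dotProduct, Matrix.single_apply, Pi.single_apply]
  by_cases hm : m = b
  · subst hm
    simp [mul_comm]
  · have : ∀ x, ¬ (a = x ∧ b = m) := fun x h => hm h.2.symm
    simp [hm, this]

/-- The matrix of `w_ab(u)`, first column. -/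
lemma wmat_fst {a b : I} (hab : a ≠ b) (u : K) (hu : u ≠ 0) :
    (Matrix.transvection a b u * Matrix.transvection b a (-u⁻¹) * Matrix.transvection a b u) *ᵥ
      Pi.single a 1 = Pi.single b (-u⁻¹) := by
  rw [← Matrix.mulVec_mulVec, ← Matrix.mulVec_mulVec, transvection_mulVec, transvection_mulVec,
    transvection_mulVec]
  ext m
  by_cases hma : m = a
  · subst hma
    simp [Pi.single_apply, hab, hab.symm, hu]
  · by_cases hmb : m = b
    · subst hmb
      simp [Pi.single_apply, hab, hab.symm]
    · simp [Pi.single_apply, hma, hmb, hab, hab.symm]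

/-- The matrix of `w_ab(u)`, second column. -/
lemma wmat_snd {a b : I} (hab : a ≠ b) (u : K) (hu : u ≠ 0) :
    (Matrix.transvection a b u * Matrix.transvection b a (-u⁻¹) * Matrix.transvection a b u) *ᵥ
      Pi.single b 1 = Pi.single a u := by
  rw [← Matrix.mulVec_mulVec, ← Matrix.mulVec_mulVec, transvection_mulVec, transvection_mulVec,
    transvection_mulVec]
  ext m
  by_cases hma : m = a
  · subst hma
    simp [Pi.single_apply, hab, hab.symm, hu]
  · by_cases hmb : m = b
    · subst hmb
      simp [Pi.single_apply, hab, hab.symm, hu]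
    · simp [Pi.single_apply, hma, hmb, hab, hab.symm]

lemma coe_mul' (A B : SpecialLinearGroup I K) :
    ((A * B : SpecialLinearGroup I K) : Matrix I I K) = (A : Matrix I I K) * (B : Matrix I I K) :=
  rfl

lemma coe_one' : ((1 : SpecialLinearGroup I K) : Matrix I I K) = 1 := rfl

/-- The stabilizer of a column vector. -/
def colStab (v : I → K) : Subgroup (SpecialLinearGroup I K) where
  carrier := {M | (M : Matrix I I K) *ᵥ v = v}
  one_mem' := by simp
  mul_mem' := fun {a b} ha hb => by
    show ((a * b : SpecialLinearGroup I K) : Matrix I I K) *ᵥ v = v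
    rw [coe_mul', ← Matrix.mulVec_mulVec, hb, ha]
  inv_mem' := fun {a} ha => by
    show ((a⁻¹ : SpecialLinearGroup I K) : Matrix I I K) *ᵥ v = v
    have h : ((a⁻¹ : SpecialLinearGroup I K) : Matrix I I K) *ᵥ ((a : Matrix I I K) *ᵥ v) = v := by
      rw [Matrix.mulVec_mulVec, ← coe_mul', inv_mul_cancel,
        coe_one', Matrix.one_mulVec]
    rw [ha] at h
    exact h

lemma mem_colStab {v : I → K} {M : SpecialLinearGroup I K} : M ∈ colStab v ↔ (M : Matrix I I K) *ᵥ v = v :=
  Iff.rfl

/-- The stabilizer of a row vector. -/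
def rowStab (v : I → K) : Subgroup (SpecialLinearGroup I K) where
  carrier := {M | v ᵥ* (M : Matrix I I K) = v}
  one_mem' := by simp
  mul_mem' := fun {a b} ha hb => by
    show v ᵥ* ((a * b : SpecialLinearGroup I K) : Matrix I I K) = v
    rw [coe_mul', ← Matrix.vecMul_vecMul, ha, hb]
  inv_mem' := fun {a} ha => by
    show v ᵥ* ((a⁻¹ : SpecialLinearGroup I K) : Matrix I I K) = v
    have h : (v ᵥ* (a : Matrix I I K)) ᵥ* ((a⁻¹ : SpecialLinearGroup I K) : Matrix I I K) = v := by
      rw [Matrix.vecMul_vecMul, ← coe_mul', mul_inv_cancel,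
        coe_one', Matrix.vecMul_one]
    rw [ha] at h
    exact h

lemma mem_rowStab {v : I → K} {M : SpecialLinearGroup I K} : M ∈ rowStab v ↔ v ᵥ* (M : Matrix I I K) = v :=
  Iff.rfl

/-- The stabilizer of the line through a column vector. -/
def lineStab (v : I → K) : Subgroup (SpecialLinearGroup I K) where
  carrier := {M | ∃ c : K, c ≠ 0 ∧ (M : Matrix I I K) *ᵥ v = c • v}
  one_mem' := ⟨1, one_ne_zero, by simp⟩
  mul_mem' := fun {a b} ha hb => by
    obtain ⟨c, hc, ha⟩ := ha
    obtain ⟨c', hc', hb⟩ := hb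
    refine ⟨c' * c, mul_ne_zero hc' hc, ?_⟩
    show ((a * b : SpecialLinearGroup I K) : Matrix I I K) *ᵥ v = _
    rw [coe_mul', ← Matrix.mulVec_mulVec, hb, Matrix.mulVec_smul, ha, smul_smul]
  inv_mem' := fun {a} ha => by
    obtain ⟨c, hc, ha⟩ := ha
    refine ⟨c⁻¹, inv_ne_zero hc, ?_⟩
    show ((a⁻¹ : SpecialLinearGroup I K) : Matrix I I K) *ᵥ v = _
    have h : ((a⁻¹ : SpecialLinearGroup I K) : Matrix I I K) *ᵥ ((a : Matrix I I K) *ᵥ v) = v := by
      rw [Matrix.mulVec_mulVec, ← coe_mul', inv_mul_cancel,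
        coe_one', Matrix.one_mulVec]
    rw [ha, Matrix.mulVec_smul] at h
    calc ((a⁻¹ : SpecialLinearGroup I K) : Matrix I I K) *ᵥ v
        = c⁻¹ • (c • (((a⁻¹ : SpecialLinearGroup I K) : Matrix I I K) *ᵥ v)) := by
          rw [smul_smul, inv_mul_cancel₀ hc, one_smul]
      _ = c⁻¹ • v := by rw [h]

lemma mem_lineStab {v : I → K} {M : SpecialLinearGroup I K} :
    M ∈ lineStab v ↔ ∃ c : K, c ≠ 0 ∧ (M : Matrix I I K) *ᵥ v = c • v :=
  Iff.rfl

lemma colStab_le_lineStab (v : I → K) : colStab v ≤ lineStab v := fun M hM =>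
  ⟨1, one_ne_zero, by rw [one_smul]; exact hM⟩

/-- A matrix fixing all the standard basis column vectors is the identity. -/
lemma eq_one_of_cols {M : Matrix I I K} (h : ∀ b, M *ᵥ Pi.single b 1 = Pi.single b 1) : M = 1 := by
  ext a b
  have := congrFun (h b) a
  rw [Matrix.mulVec_single_one] at this
  rw [Matrix.one_apply, ← Pi.single_apply]
  simpa using this

/-- A matrix fixing all the standard basis row vectors is the identity. -/
lemma eq_one_of_rows {M : Matrix I I K} (h : ∀ a, Pi.single a 1 ᵥ* M = Pi.single a 1) : M = 1 := by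
  ext a b
  have := congrFun (h a) b
  rw [Matrix.single_one_vecMul] at this
  rw [Matrix.one_apply]
  simpa [Pi.single_apply, eq_comm] using this

lemma mulVec_single_apply (M : Matrix I I K) (a b : I) :
    (M *ᵥ Pi.single b 1) a = (Pi.single a 1 ᵥ* M) b := by
  rw [Matrix.mulVec_single_one, Matrix.single_one_vecMul]
  rfl

end mat

end Cfsg.Agent.Lib.helper7.St
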