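import Mathlib
import Cfsg.Agent.Lib.helper7.StG

set_option autoImplicit false

/-!
Representations of an abstract Steinberg system by transvections, and the subgroups of the system.
-/

namespace Cfsg.Agent.Lib.helper7.St

open Matrix Cfsg.Agent.Lib.helper15.St2

namespace Sys

variable {K : Type*} [Field K] {ι : Type*} {G : Type*} [Group G]

/-- A homomorphism to a special linear group sending root elements to transvections. -/
structure Rep (S : Sys K ι G) (I : Type*) [Fintype I] [DecidableEq I] where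
  e : ι ↪ I
  φ : G →* SpecialLinearGroup I K
  hφ : ∀ i j, i ≠ j → ∀ t, (φ (S.x i j t) : Matrix I I K) = Matrix.transvection (e i) (e j) t

namespace Rep

variable {S : Sys K ι G} {I : Type*} [Fintype I] [DecidableEq I] (R : S.Rep I)

omit [Fintype I] in
lemma single_eq_smul (b : I) (c : K) : (Pi.single b c : I → K) = c • Pi.single b (1 : K) := by
  ext m
  simp [Pi.single_apply]

lemma XQ_colStab {Q : ι → ι → Prop} {b : I} (h : ∀ i j, i ≠ j → Q i j → R.e j ≠ b) :
    ∀ z ∈ S.XQ Q, R.φ z ∈ colStab (Pi.single b (1 : K)) := by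
  intro z hz
  have : S.XQ Q ≤ (colStab (Pi.single b (1 : K))).comap R.φ := by
    apply S.XQ_le
    intro i j t hij hQ
    rw [Subgroup.mem_comap, mem_colStab, R.hφ i j hij t, transvection_mulVec,
      Pi.single_eq_of_ne (h i j hij hQ), mul_zero, Pi.single_zero, add_zero]
  exact this hz

lemma XQ_rowStab {Q : ι → ι → Prop} {b : I} (h : ∀ i j, i ≠ j → Q i j → R.e i ≠ b) :
    ∀ z ∈ S.XQ Q, R.φ z ∈ rowStab (Pi.single b (1 : K)) := by
  intro z hz
  have : S.XQ Q ≤ (rowStab (Pi.single b (1 : K))).comap R.φ := by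
    apply S.XQ_le
    intro i j t hij hQ
    rw [Subgroup.mem_comap, mem_rowStab, R.hφ i j hij t, vecMul_transvection,
      Pi.single_eq_of_ne (h i j hij hQ), mul_zero, Pi.single_zero, add_zero]
  exact this hz

lemma phi_w {a b : ι} (hab : a ≠ b) (u : K) :
    (R.φ (S.w a b u) : Matrix I I K) = Matrix.transvection (R.e a) (R.e b) u *
      Matrix.transvection (R.e b) (R.e a) (-u⁻¹) * Matrix.transvection (R.e a) (R.e b) u := by
  unfold w
  rw [map_mul, map_mul, coe_mul', coe_mul', R.hφ a b hab, R.hφ b a hab.symm]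

lemma phi_w_fst {a b : ι} (hab : a ≠ b) (u : K) (hu : u ≠ 0) :
    (R.φ (S.w a b u) : Matrix I I K) *ᵥ Pi.single (R.e a) 1 = Pi.single (R.e b) (-u⁻¹) := by
  rw [R.phi_w hab, wmat_fst (R.e.injective.ne hab) u hu]

lemma phi_w_snd {a b : ι} (hab : a ≠ b) (u : K) (hu : u ≠ 0) :
    (R.φ (S.w a b u) : Matrix I I K) *ᵥ Pi.single (R.e b) 1 = Pi.single (R.e a) u := by
  rw [R.phi_w hab, wmat_snd (R.e.injective.ne hab) u hu]

lemma phi_h_fst {a b : ι} (hab : a ≠ b) (u : K) (hu : u ≠ 0) :
    (R.φ (S.h a b u) : Matrix I I K) *ᵥ Pi.single (R.e a) 1 = u • Pi.single (R.e a) (1 : K) := by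
  unfold h
  rw [map_mul, coe_mul', ← Matrix.mulVec_mulVec, R.phi_w_fst hab (-1) (by simp)]
  have e : (-(-1 : K)⁻¹) = 1 := by rw [inv_neg, inv_one, neg_neg]
  rw [e, R.phi_w_snd hab u hu, single_eq_smul]

variable (o : ι)

lemma Phat_lineStab : ∀ p ∈ S.Phat o, R.φ p ∈ lineStab (Pi.single (R.e o) (1 : K)) := by
  intro p hp
  have : S.Phat o ≤ (lineStab (Pi.single (R.e o) (1 : K))).comap R.φ := by
    apply sup_le
    · intro z hz
      exact colStab_le_lineStab _
        (R.XQ_colStab (Q := fun _ j => j ≠ o) (fun i j _ hj => R.e.injective.ne hj) z hz)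
    · apply (Subgroup.closure_le _).2
      rintro _ ⟨j, t, hj, ht, rfl⟩
      exact ⟨t, ht, R.phi_h_fst (Ne.symm hj) t ht⟩
  exact this hp

end Rep

end Sys

end Cfsg.Agent.Lib.helper7.St
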