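import Mathlib
import Cfsg.Agent.Lib.helper7.StF

set_option autoImplicit false

/-!
The decomposition `P̂ = A · L · T` of the parabolic subgroup.
-/

namespace Cfsg.Agent.Lib.helper7.St

open Cfsg.Agent.Lib.helper15.St2

namespace Sys

variable {K : Type*} [Field K] {ι : Type*} {G : Type*} [Group G] (S : Sys K ι G) {o : ι}

lemma x_mem_Ag {j : ι} (hj : j ≠ o) (t : K) : S.x o j t ∈ S.Ag o :=
  S.x_mem_XQ (Ne.symm hj) ⟨rfl, hj⟩ t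

lemma x_mem_Lg {i j : ι} (hij : i ≠ j) (hi : i ≠ o) (hj : j ≠ o) (t : K) : S.x i j t ∈ S.Lg o :=
  S.x_mem_XQ hij ⟨hi, hj⟩ t

lemma w_mem_Lg {i j : ι} (hij : i ≠ j) (hi : i ≠ o) (hj : j ≠ o) (t : K) : S.w i j t ∈ S.Lg o := by
  unfold w
  exact mul_mem (mul_mem (S.x_mem_Lg hij hi hj _) (S.x_mem_Lg hij.symm hj hi _))
    (S.x_mem_Lg hij hi hj _)

lemma h_mem_Lg {i j : ι} (hij : i ≠ j) (hi : i ≠ o) (hj : j ≠ o) (t : K) : S.h i j t ∈ S.Lg o := by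
  unfold h
  exact mul_mem (S.w_mem_Lg hij hi hj _) (S.w_mem_Lg hij hi hj _)

lemma x_cj_mem_Ag {i j : ι} (hij : i ≠ j) (hi : i ≠ o) (hj : j ≠ o) (t : K) :
    ∀ a ∈ S.Ag o, cj (S.x i j t) a ∈ S.Ag o := by
  apply S.cj_x_mem_XQ hij t
  · rintro l - ⟨h, -⟩
    exact absurd h hj
  · rintro k - ⟨rfl, -⟩
    exact ⟨Ne.symm hj, rfl, hj⟩
  · intro k l _ h
    exact h

variable {S} in
lemma IsMon.cj_mem_Ag {g : G} {σ : Equiv.Perm ι} {d : ι → K} (hg : S.IsMon g σ d)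
    (hσ : σ o = o) : ∀ a ∈ S.Ag o, cj g a ∈ S.Ag o := by
  apply hg.cj_mem_XQ
  rintro k l - ⟨rfl, hl⟩
  refine ⟨hσ, fun h => hl ?_⟩
  apply σ.injective
  rw [h, hσ]

variable {S} in
lemma IsMon.cj_mem_Lg {g : G} {σ : Equiv.Perm ι} {d : ι → K} (hg : S.IsMon g σ d)
    (hσ : σ o = o) : ∀ a ∈ S.Lg o, cj g a ∈ S.Lg o := by
  apply hg.cj_mem_XQ
  rintro k l - ⟨hk, hl⟩
  refine ⟨fun h => hk ?_, fun h => hl ?_⟩
  · apply σ.injective
    rw [h, hσ]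
  · apply σ.injective
    rw [h, hσ]

/-- Decomposition of `Ag` along the root subgroup `x o j`. -/
lemma Ag_decomp {j : ι} (hj : j ≠ o) :
    ∀ a ∈ S.Ag o, ∃ u : K, ∃ a' ∈ S.XQ (fun i l => i = o ∧ (l ≠ o ∧ l ≠ j)),
      a = S.x o j u * a' := by
  refine closure_left_induction'
    (p := fun a => ∃ u : K, ∃ a' ∈ S.XQ (fun i l => i = o ∧ (l ≠ o ∧ l ≠ j)),
      a = S.x o j u * a') (S.XQ_gens_inv _) ?_ ?_
  · exact ⟨0, 1, one_mem _, by rw [S.x_zero, one_mul]⟩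
  · rintro _ ⟨i, l, t, hil, ⟨rfl, hl⟩, rfl⟩ g ⟨u, a', ha', rfl⟩
    by_cases hlj : l = j
    · subst hlj
      exact ⟨t + u, a', ha', by rw [← mul_assoc, S.add i l hil]⟩
    · refine ⟨u, S.x i l t * a', mul_mem (S.x_mem_XQ hil ⟨rfl, hl, hlj⟩ t) ha', ?_⟩
      rw [← mul_assoc, S.comm i l i j hil (Ne.symm hj) (Ne.symm hj) hl, mul_assoc]

section decomp

variable [Finite K] [DecidableEq ι]

/-- The set of products `a l h_{oo'}(c)`. -/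
def ALT (o o' : ι) : Set G :=
  {g | ∃ a ∈ S.Ag o, ∃ l ∈ S.Lg o, ∃ c : K, c ≠ 0 ∧ g = a * l * S.h o o' c}

variable {o' : ι}

omit [Finite K] [DecidableEq ι] in
lemma ALT_mul_Ag {s g : G} (hs : s ∈ S.Ag o) (hg : g ∈ S.ALT o o') : s * g ∈ S.ALT o o' := by
  obtain ⟨a, ha, l, hl, c, hc, rfl⟩ := hg
  exact ⟨s * a, mul_mem hs ha, l, hl, c, hc, by group⟩

omit [Finite K] [DecidableEq ι] in
lemma ALT_mul_Lg {s g : G} (hs : s ∈ S.Lg o) (hsA : ∀ a ∈ S.Ag o, cj s a ∈ S.Ag o)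
    (hg : g ∈ S.ALT o o') : s * g ∈ S.ALT o o' := by
  obtain ⟨a, ha, l, hl, c, hc, rfl⟩ := hg
  exact ⟨cj s a, hsA a ha, s * l, mul_mem hs hl, c, hc, by unfold cj; group⟩

lemma ALT_mul_h (ho' : o' ≠ o) {t : K} (ht : t ≠ 0) {g : G} (hg : g ∈ S.ALT o o') :
    S.h o o' t * g ∈ S.ALT o o' := by
  obtain ⟨a, ha, l, hl, c, hc, rfl⟩ := hg
  have hm := S.isMon_h (Ne.symm ho') t ht
  refine ⟨cj (S.h o o' t) a, hm.cj_mem_Ag rfl a ha, cj (S.h o o' t) l, hm.cj_mem_Lg rfl l hl,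
    t * c, mul_ne_zero ht hc, ?_⟩
  rw [← S.h_mul (Ne.symm ho') t c ht hc]
  unfold cj; group

/-- Every element of the parabolic subgroup is a product `a l h_{oo'}(c)`. -/
lemma Phat_decomp (ho' : o' ≠ o) : ∀ p ∈ S.Phat o, p ∈ S.ALT o o' := by
  intro p hp
  have hP : S.Phat o = Subgroup.closure
      ({g | ∃ i j t, i ≠ j ∧ j ≠ o ∧ g = S.x i j t} ∪
        {g | ∃ j t, j ≠ o ∧ t ≠ 0 ∧ g = S.h o j t}) := by
    rw [Subgroup.closure_union]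
    rfl
  rw [hP] at hp
  revert p
  refine closure_left_induction' (p := fun p => p ∈ S.ALT o o') ?_ ?_ ?_
  · rintro s (hs | ⟨j, t, hj, ht, rfl⟩)
    · exact Or.inl (S.XQ_gens_inv _ s hs)
    · exact Or.inr ⟨j, t⁻¹, hj, inv_ne_zero ht, S.h_inv (Ne.symm hj) t ht⟩
  · exact ⟨1, one_mem _, 1, one_mem _, 1, one_ne_zero, by rw [S.h_one]; group⟩
  · rintro s (⟨i, j, t, hij, hj, rfl⟩ | ⟨j, t, hj, ht, rfl⟩) g hg
    · by_cases hi : i = o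
      · subst hi
        exact S.ALT_mul_Ag (S.x_mem_Ag hj t) hg
      · exact S.ALT_mul_Lg (S.x_mem_Lg hij hi hj t) (S.x_cj_mem_Ag hij hi hj t) hg
    · by_cases hjo' : j = o'
      · subst hjo'
        exact S.ALT_mul_h hj ht hg
      · rw [← S.h_chain (Ne.symm ho') (Ne.symm hjo') (Ne.symm hj) t ht, mul_assoc]
        apply S.ALT_mul_h ho' ht
        exact S.ALT_mul_Lg (S.h_mem_Lg (Ne.symm hjo') ho' hj t)
          ((S.isMon_h (Ne.symm hjo') t ht).cj_mem_Ag rfl) hg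

end decomp

end Sys

end Cfsg.Agent.Lib.helper7.St
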