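import Mathlib
import Cfsg.Agent.Lib.helper7.StH
import Cfsg.Agent.Lib.helper7.StI

set_option autoImplicit false

/-!
The kernel of a representation of an abstract Steinberg system is trivial, by induction.
-/

namespace Cfsg.Agent.Lib.helper7.St

open Matrix Cfsg.Agent.Lib.helper15.St2

namespace Sys

namespace Rep

variable {K : Type*} [Field K] {ι : Type*} {G : Type*} [Group G]
  {S : Sys K ι G} {I : Type*} [Fintype I] [DecidableEq I] (R : S.Rep I) {o : ι}

lemma coe_eq_one {M : SpecialLinearGroup I K} (h : (M : Matrix I I K) = 1) : M = 1 :=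
  Subtype.ext h

lemma Yg_row : ∀ y ∈ S.Yg o, Pi.single (R.e o) (1 : K) ᵥ* (R.φ y : Matrix I I K) =
    Pi.single (R.e o) 1 := fun y hy =>
  R.XQ_rowStab (Q := fun i j => i ≠ o ∧ j = o) (fun _ _ _ h => R.e.injective.ne h.1) y hy

lemma Yg_apply {y : G} (hy : y ∈ S.Yg o) :
    ((R.φ y : Matrix I I K) *ᵥ Pi.single (R.e o) 1) (R.e o) = 1 := by
  rw [mulVec_single_apply, R.Yg_row y hy, Pi.single_eq_same]

/-- No element of a small cell lies in the kernel. -/
lemma not_cell {k : ι} (hk : k ≠ o) {y p : G} (hy : y ∈ S.Yg o) (hp : p ∈ S.Phat o) :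
    R.φ (S.w o k 1 * y * p) ≠ 1 := by
  intro h
  obtain ⟨c, hc, hpc⟩ := R.Phat_lineStab o p hp
  have h1 : R.φ (S.w o k 1) * (R.φ y * R.φ p) = 1 := by
    rw [← map_mul, ← map_mul, ← mul_assoc]; exact h
  have h2 : R.φ y * R.φ p = R.φ (S.w o k (-1)) := by
    rw [S.w_neg, map_inv]
    exact eq_inv_of_mul_eq_one_right h1
  have h3 : (((R.φ y * R.φ p : SpecialLinearGroup I K) : Matrix I I K) *ᵥ
      Pi.single (R.e o) (1 : K)) (R.e o) =
      ((R.φ (S.w o k (-1)) : Matrix I I K) *ᵥ Pi.single (R.e o) (1 : K)) (R.e o) := by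
    rw [h2]
  rw [coe_mul', ← Matrix.mulVec_mulVec, hpc, Matrix.mulVec_smul,
    R.phi_w_fst (Ne.symm hk) (-1) (by simp), Pi.smul_apply, R.Yg_apply hy,
    Pi.single_eq_of_ne (R.e.injective.ne (Ne.symm hk)), smul_eq_mul, mul_one] at h3
  exact hc h3

variable {o' : ι}

/-- In the big cell, the `Y`-component of an element of the kernel is trivial. -/
lemma cell0_ker (ho' : o' ≠ o) (IHo' : ∀ l ∈ S.Lg o', R.φ l = 1 → l = 1) {y p : G}
    (hy : y ∈ S.Yg o) (hp : p ∈ S.Phat o) (h : R.φ (y * p) = 1) : y = 1 := by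
  obtain ⟨c, hc, hpc⟩ := R.Phat_lineStab o p hp
  have hne : R.e o' ≠ R.e o := R.e.injective.ne ho'
  -- `φ(y)` fixes `e_o`
  have h1 : (R.φ y : Matrix I I K) *ᵥ Pi.single (R.e o) 1 = Pi.single (R.e o) 1 := by
    have h2 : (R.φ (y * p) : Matrix I I K) *ᵥ Pi.single (R.e o) (1 : K) =
        ((1 : SpecialLinearGroup I K) : Matrix I I K) *ᵥ Pi.single (R.e o) (1 : K) := by
      rw [h]
    rw [map_mul, coe_mul', ← Matrix.mulVec_mulVec, hpc, Matrix.mulVec_smul, coe_one',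
      Matrix.one_mulVec] at h2
    have h3 := congrFun h2 (R.e o)
    rw [Pi.smul_apply, R.Yg_apply hy, Pi.single_eq_same, smul_eq_mul, mul_one] at h3
    rw [h3, one_smul] at h2
    exact h2
  obtain ⟨u, y', hy', rfl⟩ := S.Yg_decomp ho' y hy
  have hy'' : y' ∈ S.Yg o := S.Yg'_le_Yg hy'
  -- the coefficient `u` vanishes
  have hu : u = 0 := by
    have h4 := congrFun h1 (R.e o')
    rw [map_mul, coe_mul', ← Matrix.mulVec_mulVec, R.hφ o' o ho', transvection_mulVec,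
      Pi.add_apply, Pi.single_eq_same, R.Yg_apply hy'', mul_one, Pi.single_eq_of_ne hne,
      mulVec_single_apply] at h4
    have h5 : Pi.single (R.e o') (1 : K) ᵥ* (R.φ y' : Matrix I I K) = Pi.single (R.e o') 1 :=
      R.XQ_rowStab (Q := fun i l => (i ≠ o ∧ i ≠ o') ∧ l = o)
        (fun _ _ _ h => R.e.injective.ne h.1.2) y' hy'
    rw [h5, Pi.single_eq_of_ne hne.symm, zero_add] at h4
    exact h4
  subst hu
  rw [S.x_zero, one_mul] at h1 ⊢
  -- `φ(y') = 1`
  have h6 : R.φ y' = 1 := by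
    apply coe_eq_one
    apply eq_one_of_cols
    intro b
    by_cases hb : b = R.e o
    · rw [hb]; exact h1
    · exact R.XQ_colStab (Q := fun i j => i ≠ o ∧ j = o)
        (fun i j _ h => by rw [h.2]; exact Ne.symm hb) y' hy''
  apply IHo' y' _ h6
  refine S.XQ_mono ?_ hy'
  rintro i l - ⟨⟨-, hi⟩, rfl⟩
  exact ⟨hi, Ne.symm ho'⟩

variable [Finite K] [DecidableEq ι]

/-- The kernel meets the parabolic subgroup trivially. -/
lemma Phat_ker (ho' : o' ≠ o) (IHo : ∀ l ∈ S.Lg o, R.φ l = 1 → l = 1)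
    (IHo' : ∀ l ∈ S.Lg o', R.φ l = 1 → l = 1) {p : G} (hp : p ∈ S.Phat o) (h : R.φ p = 1) :
    p = 1 := by
  obtain ⟨a, ha, l, hl, c, hc, rfl⟩ := S.Phat_decomp ho' p hp
  have hne : R.e o' ≠ R.e o := R.e.injective.ne ho'
  have hacol : (R.φ a : Matrix I I K) *ᵥ Pi.single (R.e o) 1 = Pi.single (R.e o) 1 :=
    R.XQ_colStab (Q := fun i j => i = o ∧ j ≠ o) (fun _ _ _ h => R.e.injective.ne h.2) a ha
  have hlcol : (R.φ l : Matrix I I K) *ᵥ Pi.single (R.e o) 1 = Pi.single (R.e o) 1 :=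
    R.XQ_colStab (Q := fun i j => i ≠ o ∧ j ≠ o) (fun _ _ _ h => R.e.injective.ne h.2) l hl
  -- `c = 1`
  have hc1 : c = 1 := by
    have h2 : ((R.φ (a * l * S.h o o' c) : Matrix I I K) *ᵥ Pi.single (R.e o) (1 : K)) (R.e o) =
        (((1 : SpecialLinearGroup I K) : Matrix I I K) *ᵥ Pi.single (R.e o) (1 : K)) (R.e o) := by
      rw [h]
    rw [map_mul, map_mul, coe_mul', coe_mul', ← Matrix.mulVec_mulVec, ← Matrix.mulVec_mulVec,
      R.phi_h_fst (Ne.symm ho') c hc, Matrix.mulVec_smul, Matrix.mulVec_smul, hlcol, hacol,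
      coe_one', Matrix.one_mulVec, Pi.smul_apply, Pi.single_eq_same, smul_eq_mul, mul_one] at h2
    exact h2
  subst hc1
  rw [S.h_one, mul_one] at h ⊢
  -- the row `o` of `φ(a)` is standard
  have h3 : R.φ a = R.φ l⁻¹ := by
    rw [map_inv]
    apply eq_inv_of_mul_eq_one_left
    rw [← map_mul]; exact h
  have harow : Pi.single (R.e o) (1 : K) ᵥ* (R.φ a : Matrix I I K) = Pi.single (R.e o) 1 := by
    rw [h3]
    exact R.XQ_rowStab (Q := fun i j => i ≠ o ∧ j ≠ o) (fun _ _ _ h => R.e.injective.ne h.1)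
      l⁻¹ (inv_mem hl)
  obtain ⟨u, a', ha', rfl⟩ := S.Ag_decomp ho' a ha
  have ha'' : a' ∈ S.Ag o := by
    refine S.XQ_mono ?_ ha'
    rintro i j - ⟨rfl, hj, -⟩
    exact ⟨rfl, hj⟩
  have ha'row : ∀ b, b ≠ R.e o →
      Pi.single b (1 : K) ᵥ* (R.φ a' : Matrix I I K) = Pi.single b 1 := fun b hb =>
    R.XQ_rowStab (Q := fun i j => i = o ∧ j ≠ o)
      (fun i j _ h => by rw [h.1]; exact Ne.symm hb) a' ha''
  have hu : u = 0 := by
    have h4 := congrFun harow (R.e o')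
    rw [map_mul, coe_mul', ← Matrix.vecMul_vecMul, R.hφ o o' (Ne.symm ho'), vecMul_transvection,
      Matrix.add_vecMul, Pi.single_eq_same, mul_one, single_eq_smul (R.e o') u,
      Matrix.smul_vecMul, ha'row _ hne, Pi.add_apply, Pi.smul_apply, Pi.single_eq_same,
      smul_eq_mul, mul_one, Pi.single_eq_of_ne hne, ← mulVec_single_apply] at h4
    have h5 : (R.φ a' : Matrix I I K) *ᵥ Pi.single (R.e o') 1 = Pi.single (R.e o') 1 :=
      R.XQ_colStab (Q := fun i l => i = o ∧ (l ≠ o ∧ l ≠ o'))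
        (fun _ _ _ h => R.e.injective.ne h.2.2) a' ha'
    rw [h5, Pi.single_eq_of_ne hne.symm, zero_add] at h4
    exact h4
  subst hu
  rw [S.x_zero, one_mul] at harow h ⊢
  have h6 : R.φ a' = 1 := by
    apply coe_eq_one
    apply eq_one_of_rows
    intro b
    by_cases hb : b = R.e o
    · rw [hb]; exact harow
    · exact ha'row b hb
  have h7 : a' = 1 := by
    apply IHo' a' _ h6
    refine S.XQ_mono ?_ ha'
    rintro i j - ⟨rfl, -, hj⟩
    exact ⟨Ne.symm ho', hj⟩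
  subst h7
  rw [one_mul] at h ⊢
  exact IHo l hl h

/-- The inductive step: the kernel is trivial if it meets the Levi subgroups trivially. -/
theorem ker_trivial (hgen : S.XQ (fun _ _ => True) = ⊤) (ho' : o' ≠ o)
    (IHo : ∀ l ∈ S.Lg o, R.φ l = 1 → l = 1) (IHo' : ∀ l ∈ S.Lg o', R.φ l = 1 → l = 1)
    (g : G) (hg : R.φ g = 1) : g = 1 := by
  rcases S.InD_all (o := o) hgen g with ⟨y, hy, p, hp, rfl⟩ | ⟨k, hk, y, hy, p, hp, rfl⟩
  · have hy1 := R.cell0_ker ho' IHo' hy hp hg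
    subst hy1
    rw [one_mul] at hg ⊢
    exact R.Phat_ker ho' IHo IHo' hp hg
  · exact absurd hg (R.not_cell hk hy hp)

end Rep

end Sys

end Cfsg.Agent.Lib.helper7.St
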