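import Mathlib
import Cfsg.Agent.Lib.helper7.StJ

set_option autoImplicit false

/-!
Injectivity of representations of abstract Steinberg systems, by induction on the index set.
-/

namespace Cfsg.Agent.Lib.helper7.St

open Matrix Cfsg.Agent.Lib.helper15.St2

universe v w

namespace Sys

variable {K : Type*} [Field K] {ι : Type v} {G : Type w} [Group G] (S : Sys K ι G)

lemma x_mem_Lg' (o : ι) (i j : {i // i ≠ o}) (t : K) : S.x i.1 j.1 t ∈ S.Lg o := by
  by_cases h : i.1 = j.1
  · rw [h, S.diag]; exact one_mem _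
  · exact S.x_mem_Lg h i.2 j.2 t

/-- The subsystem on the complement of an index. -/
def sub (o : ι) : Sys K {i // i ≠ o} (S.Lg o) where
  x i j t := ⟨S.x i.1 j.1 t, S.x_mem_Lg' o i j t⟩
  diag i t := Subtype.ext (S.diag i.1 t)
  add i j hij t u := Subtype.ext (S.add i.1 j.1 (fun h => hij (Subtype.ext h)) t u)
  comm i j k l hij hkl hil hjk t u := Subtype.ext (S.comm i.1 j.1 k.1 l.1
    (fun h => hij (Subtype.ext h)) (fun h => hkl (Subtype.ext h)) (fun h => hil (Subtype.ext h))
    (fun h => hjk (Subtype.ext h)) t u)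
  comm3 i j l hij hjl hil t u := Subtype.ext (S.comm3 i.1 j.1 l.1
    (fun h => hij (Subtype.ext h)) (fun h => hjl (Subtype.ext h)) (fun h => hil (Subtype.ext h))
    t u)
  rel i j hij t u ht := Subtype.ext (S.rel i.1 j.1 (fun h => hij (Subtype.ext h)) t u ht)

lemma sub_gen (o : ι) : (S.sub o).XQ (fun _ _ => True) = ⊤ := by
  have h : {g : S.Lg o | ∃ (i j : {i // i ≠ o}) (t : K), i ≠ j ∧ True ∧ g = (S.sub o).x i j t} =
      ((↑) : S.Lg o → G) ⁻¹' {g | ∃ i j t, i ≠ j ∧ (i ≠ o ∧ j ≠ o) ∧ g = S.x i j t} := by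
    ext ⟨g, hg⟩
    constructor
    · rintro ⟨i, j, t, hij, -, h⟩
      exact ⟨i.1, j.1, t, fun h => hij (Subtype.ext h), ⟨i.2, j.2⟩, congrArg Subtype.val h⟩
    · rintro ⟨i, j, t, hij, ⟨hi, hj⟩, h⟩
      exact ⟨⟨i, hi⟩, ⟨j, hj⟩, t, fun h => hij (congrArg Subtype.val h), trivial, Subtype.ext h⟩
  unfold XQ
  rw [h]
  exact Subgroup.closure_closure_coe_preimage

lemma XQ_eq_bot_of_subsingleton [Subsingleton ι] (Q : ι → ι → Prop) : S.XQ Q = ⊥ := by
  rw [eq_bot_iff]
  apply S.XQ_le
  intro i j t hij
  exact absurd (Subsingleton.elim i j) hij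

namespace Rep

variable {S} {I : Type*} [Fintype I] [DecidableEq I] (R : S.Rep I)

/-- The restriction of a representation to the subsystem. -/
def sub (o : ι) : (S.sub o).Rep I where
  e := (Function.Embedding.subtype _).trans R.e
  φ := R.φ.comp (S.Lg o).subtype
  hφ i j hij t := R.hφ i.1 j.1 (fun h => hij (Subtype.ext h)) t

end Rep

end Sys

open Sys

/-- A representation of a generated abstract Steinberg system has trivial kernel. -/
theorem ker_trivial_aux {K : Type*} [Field K] [Finite K] {I : Type*} [Fintype I] [DecidableEq I] :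
    ∀ (m : ℕ) (ι : Type v) [Finite ι] (G : Type w) [Group G] (S : Sys K ι G) (R : S.Rep I),
      Nat.card ι = m → S.XQ (fun _ _ => True) = ⊤ → ∀ g, R.φ g = 1 → g = 1 := by
  intro m
  induction m with
  | zero =>
    intro ι _ G _ S R hcard hgen g _
    have : IsEmpty ι := (Nat.card_eq_zero.1 hcard).resolve_right (not_infinite_iff_finite.2 ‹_›)
    have hg : g ∈ S.XQ (fun _ _ => True) := by rw [hgen]; exact Subgroup.mem_top g
    rw [S.XQ_eq_bot_of_subsingleton] at hg
    exact Subgroup.mem_bot.1 hg
  | succ m ih =>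
    intro ι _ G _ S R hcard hgen g hg
    classical
    by_cases hm : m = 0
    · subst hm
      have : Subsingleton ι := (Nat.card_eq_one_iff_unique.1 hcard).1
      have hg : g ∈ S.XQ (fun _ _ => True) := by rw [hgen]; exact Subgroup.mem_top g
      rw [S.XQ_eq_bot_of_subsingleton] at hg
      exact Subgroup.mem_bot.1 hg
    · have hnt : Nontrivial ι := by
        rw [← Finite.one_lt_card_iff_nontrivial, hcard]
        omega
      obtain ⟨o, o', ho⟩ := exists_pair_ne ι
      have hsub : ∀ o : ι, ∀ l ∈ S.Lg o, R.φ l = 1 → l = 1 := by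
        intro o l hl hφl
        have hc : Nat.card {i // i ≠ o} = m := by
          have := Fintype.ofFinite ι
          rw [Nat.card_eq_fintype_card] at hcard ⊢
          rw [Fintype.card_subtype_compl, Fintype.card_subtype_eq, hcard]
          rfl
        have := ih {i // i ≠ o} (S.Lg o) (S.sub o) (R.sub o) hc (S.sub_gen o) ⟨l, hl⟩ hφl
        exact congrArg Subtype.val this
      exact R.ker_trivial hgen (Ne.symm ho) (hsub o) (hsub o') g hg

/-- A representation of a generated abstract Steinberg system over a finite field is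
injective. -/
theorem Sys.Rep.injective {K : Type*} [Field K] [Finite K] {I : Type*} [Fintype I]
    [DecidableEq I] {ι : Type v} [Finite ι] {G : Type w} [Group G] {S : Sys K ι G} (R : S.Rep I)
    (hgen : S.XQ (fun _ _ => True) = ⊤) : Function.Injective R.φ := by
  rw [injective_iff_map_eq_one]
  exact ker_trivial_aux (Nat.card ι) ι G S R rfl hgen

end Cfsg.Agent.Lib.helper7.St
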