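import Mathlib
import Cfsg.Agent.Lib.helper7.StK
import Cfsg.Agent.Lib.Lead.SLn

set_option autoImplicit false

/-!
Steinberg systems without the rank one relation; the rank one relation follows when there is
a third index.  The Steinberg presentation of `SL_n(F_q)`, `n ≥ 3`.
-/

namespace Cfsg.Agent.Lib.helper7.St

open Matrix Cfsg.Agent.Lib.helper15.St2

/-- An abstract Steinberg system without the rank one relation. -/
structure PreSys (K : Type*) [Field K] (ι : Type*) (G : Type*) [Group G] where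
  x : ι → ι → K → G
  diag : ∀ i t, x i i t = 1
  add : ∀ i j, i ≠ j → ∀ t u, x i j t * x i j u = x i j (t + u)
  comm : ∀ i j k l, i ≠ j → k ≠ l → i ≠ l → j ≠ k → ∀ t u,
    x i j t * x k l u = x k l u * x i j t
  comm3 : ∀ i j l, i ≠ j → j ≠ l → i ≠ l → ∀ t u,
    x i j t * x j l u * (x i j t)⁻¹ * (x j l u)⁻¹ = x i l (t * u)

namespace PreSys

variable {K : Type*} [Field K] {ι : Type*} {G : Type*} [Group G] (S : PreSys K ι G)

lemma x_zero (i j : ι) : S.x i j 0 = 1 := by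
  by_cases h : i = j
  · subst h; exact S.diag i 0
  · have := S.add i j h 0 0
    rw [add_zero] at this
    exact mul_eq_left.mp this

lemma x_neg (i j : ι) (t : K) : S.x i j (-t) = (S.x i j t)⁻¹ := by
  by_cases h : i = j
  · subst h; rw [S.diag, S.diag, inv_one]
  · exact eq_inv_of_mul_eq_one_left (by rw [S.add i j h, neg_add_cancel, S.x_zero])

lemma cj_comm {i j k l : ι} (hij : i ≠ j) (hkl : k ≠ l) (hil : i ≠ l) (hjk : j ≠ k) (t u : K) :
    cj (S.x i j t) (S.x k l u) = S.x k l u := by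
  unfold cj
  rw [S.comm i j k l hij hkl hil hjk t u]
  group

lemma cj3 {i j l : ι} (hij : i ≠ j) (hjl : j ≠ l) (hil : i ≠ l) (t u : K) :
    cj (S.x i j t) (S.x j l u) = S.x i l (t * u) * S.x j l u := by
  unfold cj
  rw [← S.comm3 i j l hij hjl hil t u]
  group

lemma cj3' {i j k : ι} (hij : i ≠ j) (hki : k ≠ i) (hkj : k ≠ j) (t u : K) :
    cj (S.x i j t) (S.x k i u) = S.x k j (-(u * t)) * S.x k i u := by
  unfold cj
  rw [S.x_neg, ← S.comm3 k i j hki hij hkj u t]
  group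

/-- `w_ij(u) x_il(t) w_ij(u)⁻¹ = x_jl(-u⁻¹ t)`. -/
lemma cj_w_il {i j l : ι} (hij : i ≠ j) (hli : l ≠ i) (hlj : l ≠ j) (u t : K) (hu : u ≠ 0) :
    cj (S.x i j u * S.x j i (-u⁻¹) * S.x i j u) (S.x i l t) = S.x j l (-(u⁻¹ * t)) := by
  rw [← cj_cj, ← cj_cj, S.cj_comm hij hli.symm hli.symm hij.symm,
    S.cj3 hij.symm hli.symm hlj.symm, cj_mul, S.cj3 hij hlj.symm hli.symm,
    S.cj_comm hij hli.symm hli.symm hij.symm]
  have e : u * (-u⁻¹ * t) = -t := by
    field_simp
  rw [e, S.comm i l j l hli.symm hlj.symm hli.symm hlj, mul_assoc, S.add i l hli.symm,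
    neg_add_cancel, S.x_zero, mul_one, neg_mul]

/-- `w_ij(u) x_kj(t) w_ij(u)⁻¹ = x_ki(u⁻¹ t)`. -/
lemma cj_w_kj {i j k : ι} (hij : i ≠ j) (hki : k ≠ i) (hkj : k ≠ j) (u t : K) (hu : u ≠ 0) :
    cj (S.x i j u * S.x j i (-u⁻¹) * S.x i j u) (S.x k j t) = S.x k i (u⁻¹ * t) := by
  have s1 : cj (S.x i j u) (S.x k j t) = S.x k j t := S.cj_comm hij hkj hij hkj.symm _ _
  have s2 : cj (S.x j i (-u⁻¹)) (S.x k j t) = S.x k i (-(t * -u⁻¹)) * S.x k j t :=
    S.cj3' hij.symm hkj hki _ _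
  have s3 : cj (S.x i j u) (S.x k i (-(t * -u⁻¹)) * S.x k j t) = S.x k i (u⁻¹ * t) := by
    rw [cj_mul, S.cj3' hij hki hkj, s1]
    have e : -(-(t * -u⁻¹) * u) = -t := by
      field_simp
    rw [e, mul_assoc, S.comm k i k j hki hkj hkj hki.symm, ← mul_assoc, S.add k j hkj,
      neg_add_cancel, S.x_zero, one_mul]
    congr 1
    ring
  rw [← cj_cj, ← cj_cj, s1, s2, s3]

/-- The rank one relation follows from the other relations when there is a third index. -/
lemma rel_of_third {i j k : ι} (hij : i ≠ j) (hki : k ≠ i) (hkj : k ≠ j) (t u : K) (ht : t ≠ 0) :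
    cj (S.x i j t * S.x j i (-t⁻¹) * S.x i j t) (S.x i j u) = S.x j i (-(t⁻¹ ^ 2 * u)) := by
  have e : S.x i j u = S.x i k u * S.x k j 1 * (S.x i k u)⁻¹ * (S.x k j 1)⁻¹ := by
    rw [S.comm3 i k j hki.symm hkj hij, mul_one]
  rw [e, cj_mul, cj_mul, cj_mul, cj_inv, cj_inv, S.cj_w_il hij hki hkj t u ht,
    S.cj_w_kj hij hki hkj t 1 ht, S.comm3 j k i hkj.symm hki hij.symm]
  congr 1
  ring

/-- A system without rank one relation on an index type with third indices is a system. -/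
def toSys (h3 : ∀ i j : ι, i ≠ j → ∃ k, k ≠ i ∧ k ≠ j) : Sys K ι G where
  x := S.x
  diag := S.diag
  add := S.add
  comm := S.comm
  comm3 := S.comm3
  rel i j hij t u ht := by
    obtain ⟨k, hki, hkj⟩ := h3 i j hij
    exact S.rel_of_third hij hki hkj t u ht

end PreSys

end Cfsg.Agent.Lib.helper7.St
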