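import Mathlib
import Cfsg.Agent.Lib.helper7.StL

set_option autoImplicit false

/-!
The Steinberg presentation of `SL_n(F_q)`, `n ≥ 3`.
-/

namespace Cfsg.Agent.Lib.helper7.St

open Matrix Cfsg.Agent.Lib.helper15.St2

section pres

variable (K : Type*) [Field K] (n : ℕ)

/-- The Steinberg relators. -/
def rels : Set (FreeGroup ({ij : Fin n × Fin n // ij.1 ≠ ij.2} × K)) :=
  {g : FreeGroup ({ij : Fin n × Fin n // ij.1 ≠ ij.2} × K) | ∃ (a : {ij : Fin n × Fin n // ij.1 ≠ ij.2}) (t u : K),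
            g = FreeGroup.of (a, t) * FreeGroup.of (a, u) * (FreeGroup.of (a, t + u))⁻¹} ∪
          {g | ∃ (a b : {ij : Fin n × Fin n // ij.1 ≠ ij.2}) (t u : K), a.1.1 ≠ b.1.2 ∧ a.1.2 ≠ b.1.1 ∧
            g = FreeGroup.of (a, t) * FreeGroup.of (b, u) * (FreeGroup.of (a, t))⁻¹ * (FreeGroup.of (b, u))⁻¹} ∪
          {g | ∃ (a b : {ij : Fin n × Fin n // ij.1 ≠ ij.2}) (h : a.1.1 ≠ b.1.2) (t u : K), a.1.2 = b.1.1 ∧
            g = FreeGroup.of (a, t) * FreeGroup.of (b, u) * (FreeGroup.of (a, t))⁻¹ * (FreeGroup.of (b, u))⁻¹ *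
              (FreeGroup.of (⟨(a.1.1, b.1.2), h⟩, t * u))⁻¹}

/-- The root elements of the presented group. -/
def gx (i j : Fin n) (t : K) : PresentedGroup (rels K n) :=
  if h : i ≠ j then PresentedGroup.of (⟨(i, j), h⟩, t) else 1

variable {K n}

lemma gx_of {i j : Fin n} (h : i ≠ j) (t : K) :
    gx K n i j t = PresentedGroup.of (⟨(i, j), h⟩, t) := dif_pos h

lemma of_eq_gx (a : {ij : Fin n × Fin n // ij.1 ≠ ij.2}) (t : K) :
    (PresentedGroup.of (a, t) : PresentedGroup (rels K n)) = gx K n a.1.1 a.1.2 t := by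
  rw [gx_of a.2]

variable (K n)

/-- The presented group is a Steinberg system without rank one relation. -/
def preSys : PreSys K (Fin n) (PresentedGroup (rels K n)) where
  x := gx K n
  diag i t := dif_neg (not_not.2 rfl)
  add i j hij t u := by
    rw [gx_of hij, gx_of hij, gx_of hij]
    have h : PresentedGroup.mk (rels K n)
        (FreeGroup.of ((⟨(i, j), hij⟩ : {ij : Fin n × Fin n // ij.1 ≠ ij.2}), t) *
          FreeGroup.of (⟨(i, j), hij⟩, u) * (FreeGroup.of (⟨(i, j), hij⟩, t + u))⁻¹) = 1 :=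
      PresentedGroup.one_of_mem (Or.inl (Or.inl ⟨_, t, u, rfl⟩))
    rw [map_mul, map_mul, map_inv, mul_inv_eq_one] at h
    exact h
  comm i j k l hij hkl hil hjk t u := by
    rw [gx_of hij, gx_of hkl]
    have h : PresentedGroup.mk (rels K n)
        (FreeGroup.of ((⟨(i, j), hij⟩ : {ij : Fin n × Fin n // ij.1 ≠ ij.2}), t) *
          FreeGroup.of ((⟨(k, l), hkl⟩ : {ij : Fin n × Fin n // ij.1 ≠ ij.2}), u) *
          (FreeGroup.of (⟨(i, j), hij⟩, t))⁻¹ * (FreeGroup.of (⟨(k, l), hkl⟩, u))⁻¹) = 1 :=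
      PresentedGroup.one_of_mem (Or.inl (Or.inr ⟨_, _, t, u, hil, hjk, rfl⟩))
    rw [map_mul, map_mul, map_mul, map_inv, map_inv, mul_inv_eq_one] at h
    exact mul_inv_eq_iff_eq_mul.1 h
  comm3 i j l hij hjl hil t u := by
    rw [gx_of hij, gx_of hjl, gx_of hil]
    have h : PresentedGroup.mk (rels K n)
        (FreeGroup.of ((⟨(i, j), hij⟩ : {ij : Fin n × Fin n // ij.1 ≠ ij.2}), t) *
          FreeGroup.of ((⟨(j, l), hjl⟩ : {ij : Fin n × Fin n // ij.1 ≠ ij.2}), u) *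
          (FreeGroup.of (⟨(i, j), hij⟩, t))⁻¹ * (FreeGroup.of (⟨(j, l), hjl⟩, u))⁻¹ *
          (FreeGroup.of (⟨(i, l), hil⟩, t * u))⁻¹) = 1 :=
      PresentedGroup.one_of_mem (Or.inr ⟨⟨(i, j), hij⟩, ⟨(j, l), hjl⟩, hil, t, u, rfl, rfl⟩)
    rw [map_mul, map_mul, map_mul, map_mul, map_inv, map_inv, map_inv, mul_inv_eq_one] at h
    exact h

omit [Field K] in
lemma exists_third (hn : 3 ≤ n) (i j : Fin n) (_ : i ≠ j) : ∃ k, k ≠ i ∧ k ≠ j := by
  by_contra hcon
  push Not at hcon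
  have h1 : (Finset.univ : Finset (Fin n)) ⊆ {i, j} := by
    intro x _
    by_cases hx : x = i
    · simp [hx]
    · simp [hcon x hx]
  have h2 := Finset.card_le_card h1
  have h3 : ({i, j} : Finset (Fin n)).card ≤ 2 := Finset.card_le_two
  rw [Finset.card_univ, Fintype.card_fin] at h2
  omega

/-- The presented group as a Steinberg system. -/
def sys (hn : 3 ≤ n) : Sys K (Fin n) (PresentedGroup (rels K n)) :=
  (preSys K n).toSys (exists_third n hn)

lemma sys_x (hn : 3 ≤ n) (i j : Fin n) (t : K) : (sys K n hn).x i j t = gx K n i j t := rfl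

lemma sys_gen (hn : 3 ≤ n) : (sys K n hn).XQ (fun _ _ => True) = ⊤ := by
  rw [eq_top_iff, ← PresentedGroup.closure_range_of]
  apply Subgroup.closure_mono
  rintro _ ⟨⟨a, t⟩, rfl⟩
  exact ⟨a.1.1, a.1.2, t, a.2, trivial, of_eq_gx a t⟩

end pres

end Cfsg.Agent.Lib.helper7.St
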