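import Mathlib
import Cfsg.Agent.Lib.helper7.StM

set_option autoImplicit false

/-!
The Steinberg presentation of `SL_n(F_q)`, `n ≥ 3`: the isomorphism.
-/

namespace Cfsg.Agent.Lib.helper7.St

open Matrix Cfsg.Agent.Lib.helper15.St2

section hom

variable (K : Type*) [Field K] (n : ℕ)

/-- The images of the generators. -/
def tf : {ij : Fin n × Fin n // ij.1 ≠ ij.2} × K → SpecialLinearGroup (Fin n) K :=
  fun p => SpecialLinearGroup.transvection p.1.2 p.2

variable {K n}

lemma transvection_comm' {i j k l : Fin n} (hij : i ≠ j) (hkl : k ≠ l) (hil : i ≠ l)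
    (hjk : j ≠ k) (t u : K) :
    SpecialLinearGroup.transvection hij t * SpecialLinearGroup.transvection hkl u =
      SpecialLinearGroup.transvection hkl u * SpecialLinearGroup.transvection hij t := by
  apply Subtype.ext
  rw [coe_mul', coe_mul', SpecialLinearGroup.transvection_coe, SpecialLinearGroup.transvection_coe]
  simp only [add_mul, mul_add, one_mul, mul_one, Matrix.single_mul_single_of_ne _ _ _ _ hjk,
    Matrix.single_mul_single_of_ne _ _ _ _ hil.symm, add_zero]
  abel

variable (K n)

lemma tf_rels : ∀ r ∈ rels K n, FreeGroup.lift (tf K n) r = 1 := by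
  rintro r ((⟨a, t, u, rfl⟩ | ⟨a, b, t, u, h1, h2, rfl⟩) | ⟨a, b, h, t, u, h2, rfl⟩)
  · simp only [map_mul, map_inv, FreeGroup.lift_apply_of, tf]
    rw [SpecialLinearGroup.transvection_add, mul_inv_cancel]
  · simp only [map_mul, map_inv, FreeGroup.lift_apply_of, tf]
    rw [transvection_comm' a.2 b.2 h1 h2]
    group
  · obtain ⟨⟨i, j⟩, hij⟩ := a
    obtain ⟨⟨k, l⟩, hkl⟩ := b
    simp only at h h2 hij hkl
    subst h2
    simp only [map_mul, map_inv, FreeGroup.lift_apply_of, tf]
    rw [Cfsg.Agent.Lib.Lead.transvection_eq_commutator h hij hkl t u, commutatorElement_def,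
      mul_inv_cancel]

/-- The homomorphism from the presented group to the special linear group. -/
def toSL : PresentedGroup (rels K n) →* SpecialLinearGroup (Fin n) K :=
  PresentedGroup.toGroup (tf_rels K n)

lemma toSL_of (a : {ij : Fin n × Fin n // ij.1 ≠ ij.2}) (t : K) :
    toSL K n (PresentedGroup.of (a, t)) = SpecialLinearGroup.transvection a.2 t :=
  PresentedGroup.toGroup.of (tf_rels K n)

/-- The representation of the presented group. -/
def rep (hn : 3 ≤ n) : (sys K n hn).Rep (Fin n) where
  e := Function.Embedding.refl _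
  φ := toSL K n
  hφ i j hij t := by
    rw [sys_x, gx_of hij, toSL_of]
    rfl

lemma toSL_surjective (hn : 3 ≤ n) : Function.Surjective (toSL K n) := by
  have : Nontrivial (Fin n) := Fin.nontrivial_iff_two_le.2 (by omega)
  rw [← MonoidHom.range_eq_top, eq_top_iff, ← Cfsg.Agent.Lib.Lead.SL_closure_transvections]
  apply (Subgroup.closure_le _).2
  rintro _ ⟨i, j, h, c, rfl⟩
  exact ⟨PresentedGroup.of (⟨(i, j), h⟩, c), toSL_of K n _ c⟩

/-- The Steinberg presentation of `SL_n` over a finite field, `n ≥ 3`. -/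
theorem steinberg_presentation [Finite K] (hn : 3 ≤ n) :
    ∃ e : PresentedGroup (rels K n) ≃* SpecialLinearGroup (Fin n) K,
      ∀ (a : {ij : Fin n × Fin n // ij.1 ≠ ij.2}) (t : K),
        ((e (PresentedGroup.of (a, t)) : Matrix (Fin n) (Fin n) K)) =
          Matrix.transvection a.1.1 a.1.2 t := by
  have hinj : Function.Injective (toSL K n) := (rep K n hn).injective (sys_gen K n hn)
  have hbij : Function.Bijective (toSL K n) := ⟨hinj, toSL_surjective K n hn⟩
  refine ⟨MulEquiv.ofBijective (toSL K n) hbij, fun a t => ?_⟩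
  show ((toSL K n (PresentedGroup.of (a, t)) : SpecialLinearGroup (Fin n) K) :
    Matrix (Fin n) (Fin n) K) = _
  rw [toSL_of]
  rfl

end hom

end Cfsg.Agent.Lib.helper7.St
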