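import Mathlib
import Cfsg.Agent.Lib.helper7.StN

set_option autoImplicit false

/-!
Central extensions: commutators of lifts, Milnor's trick and the torus trick.
-/

namespace Cfsg.Agent.Lib.helper7.Ce

open Cfsg.Agent.Lib.helper15.St2

section basic

variable {Γ G : Type*} [Group Γ] [Group G]

/-- The commutator `a b a⁻¹ b⁻¹`. -/
def cm (a b : Γ) : Γ := a * b * a⁻¹ * b⁻¹

lemma cm_eq_one_iff {a b : Γ} : cm a b = 1 ↔ a * b = b * a := by
  unfold cm
  constructor
  · intro h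
    have : a * b * a⁻¹ * b⁻¹ * (b * a) = 1 * (b * a) := by rw [h]
    rw [one_mul] at this
    rw [← this]
    group
  · intro h
    have e : a * b * a⁻¹ * b⁻¹ = (a * b) * (b * a)⁻¹ := by group
    rw [e, h, mul_inv_cancel]

lemma cm_mul_left (p q b : Γ) : cm (p * q) b = p * cm q b * p⁻¹ * cm p b := by
  unfold cm; group

lemma cm_mul_right (a b c : Γ) : cm a (b * c) = cm a b * (b * cm a c * b⁻¹) := by
  unfold cm; group

lemma cj_cm (e a b : Γ) : cj e (cm a b) = cm (cj e a) (cj e b) := by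
  unfold cm cj; group

lemma cm_inv_swap (a b : Γ) : (cm a b)⁻¹ = cm b a := by
  unfold cm; group

lemma map_cm (σ : Γ →* G) (a b : Γ) : σ (cm a b) = cm (σ a) (σ b) := by
  unfold cm
  rw [map_mul, map_mul, map_mul, map_inv, map_inv]

lemma map_cj (σ : Γ →* G) (a b : Γ) : σ (cj a b) = cj (σ a) (σ b) := by
  unfold cj
  rw [map_mul, map_mul, map_inv]

/-- A central extension: a surjective homomorphism with central kernel. -/
structure IsCE (σ : Γ →* G) : Prop where
  surj : Function.Surjective σ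
  cen : σ.ker ≤ Subgroup.center Γ

variable {σ : Γ →* G}

lemma IsCE.comm_of_map_one (h : IsCE σ) {z : Γ} (hz : σ z = 1) (a : Γ) : z * a = a * z :=
  (Subgroup.mem_center_iff.1 (h.cen (MonoidHom.mem_ker.2 hz)) a).symm

lemma IsCE.cj_of_map_one (h : IsCE σ) {z : Γ} (hz : σ z = 1) (a : Γ) : cj a z = z := by
  unfold cj
  rw [← h.comm_of_map_one hz a, mul_inv_cancel_right]

lemma IsCE.cm_mul_central_left (h : IsCE σ) {z : Γ} (hz : σ z = 1) (a b : Γ) :
    cm (a * z) b = cm a b := by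
  have e : cm (a * z) b = a * (z * b * z⁻¹) * a⁻¹ * b⁻¹ := by
    unfold cm; group
  rw [e, h.comm_of_map_one hz b, mul_inv_cancel_right]
  rfl

lemma IsCE.cm_mul_central_right (h : IsCE σ) {z : Γ} (hz : σ z = 1) (a b : Γ) :
    cm a (b * z) = cm a b := by
  have e : cm a (b * z) = a * b * (z * a⁻¹ * z⁻¹) * b⁻¹ := by
    unfold cm; group
  rw [e, h.comm_of_map_one hz a⁻¹, mul_inv_cancel_right]
  rfl

lemma IsCE.cm_congr (h : IsCE σ) {a a' b b' : Γ} (ha : σ a = σ a') (hb : σ b = σ b') :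
    cm a b = cm a' b' := by
  have h1 : σ (a'⁻¹ * a) = 1 := by rw [map_mul, map_inv, ha, inv_mul_cancel]
  have h2 : σ (b'⁻¹ * b) = 1 := by rw [map_mul, map_inv, hb, inv_mul_cancel]
  have e1 : a = a' * (a'⁻¹ * a) := by group
  have e2 : b = b' * (b'⁻¹ * b) := by group
  rw [e1, e2, h.cm_mul_central_left h1, h.cm_mul_central_right h2]

/-- Any two lifts of `x` and `y` commute. -/
def CL (σ : Γ →* G) (x y : G) : Prop := ∀ a b, σ a = x → σ b = y → a * b = b * a

lemma CL.symm {x y : G} (h : CL σ x y) : CL σ y x := fun a b ha hb => (h b a hb ha).symm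

lemma IsCE.CL_of_lift (h : IsCE σ) {a b : Γ} (hab : a * b = b * a) : CL σ (σ a) (σ b) := by
  intro a' b' ha hb
  rw [← cm_eq_one_iff, h.cm_congr ha hb, cm_eq_one_iff]
  exact hab

lemma IsCE.CL_of_lift' (h : IsCE σ) {a b : Γ} {x y : G} (ha : σ a = x) (hb : σ b = y)
    (hab : a * b = b * a) : CL σ x y := by
  subst ha hb
  exact h.CL_of_lift hab

lemma IsCE.CL_conj (h : IsCE σ) {x y : G} (hxy : CL σ x y) (g : G) : CL σ (cj g x) (cj g y) := by
  obtain ⟨e, rfl⟩ := h.surj g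
  obtain ⟨a, rfl⟩ := h.surj x
  obtain ⟨b, rfl⟩ := h.surj y
  have hab := hxy a b rfl rfl
  have : cj e a * cj e b = cj e b * cj e a := by
    rw [← cj_mul, ← cj_mul, hab]
  exact h.CL_of_lift' (map_cj σ e a) (map_cj σ e b) this

/-- Milnor's trick: if `w` commutes with `x` and `y` then lifts of `w` commute with lifts of
the commutator of `x` and `y`. -/
lemma IsCE.milnor (h : IsCE σ) {x y w : G} (hx : x * w = w * x) (hy : y * w = w * y) :
    CL σ (cm x y) w := by
  obtain ⟨a, rfl⟩ := h.surj x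
  obtain ⟨b, rfl⟩ := h.surj y
  obtain ⟨c, rfl⟩ := h.surj w
  have h1 : σ (cj c a) = σ a := by
    rw [map_cj]; unfold cj; rw [← hx, mul_inv_cancel_right]
  have h2 : σ (cj c b) = σ b := by
    rw [map_cj]; unfold cj; rw [← hy, mul_inv_cancel_right]
  have h3 : cj c (cm a b) = cm a b := by
    rw [cj_cm, h.cm_congr h1 h2]
  have h4 : cm a b * c = c * cm a b := by
    have := mul_eq_of_cj h3
    exact this.symm
  exact h.CL_of_lift' (map_cm σ a b) rfl h4

lemma IsCE.CL_mul_left (h : IsCE σ) {x y w : G} (hx : CL σ x w) (hy : CL σ y w) :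
    CL σ (x * y) w := by
  obtain ⟨a, rfl⟩ := h.surj x
  obtain ⟨b, rfl⟩ := h.surj y
  obtain ⟨c, rfl⟩ := h.surj w
  have h1 := hx a c rfl rfl
  have h2 := hy b c rfl rfl
  have h3 : a * b * c = c * (a * b) := by
    rw [mul_assoc, h2, ← mul_assoc, h1, mul_assoc]
  exact h.CL_of_lift' (map_mul σ a b) rfl h3

/-- The torus trick. -/
lemma IsCE.torus (h : IsCE σ) {K : Type*} [Field K] (x : K → G)
    (hadd : ∀ s t, x (s + t) = x s * x t) (w g : G) (c : K) (hc : c ≠ 1)
    (hxw : ∀ t, x t * w = w * x t)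
    (hg : ∀ t, cj g (x t) = x (c * t)) (hgw : cj g w = w) : ∀ t, CL σ (x t) w := by
  obtain ⟨e, rfl⟩ := h.surj g
  obtain ⟨b, rfl⟩ := h.surj w
  have hlift : ∀ t, ∃ a, σ a = x t := fun t => h.surj (x t)
  choose a ha using hlift
  have hk : ∀ t, σ (cm (a t) b) = 1 := by
    intro t
    rw [map_cm, ha, cm_eq_one_iff, hxw]
  have hadd' : ∀ s t, cm (a (s + t)) b = cm (a t) b * cm (a s) b := by
    intro s t
    have e1 : σ (a (s + t)) = σ (a s * a t) := by rw [map_mul, ha, ha, ha, hadd]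
    rw [h.cm_congr e1 rfl, cm_mul_left]
    have := h.cj_of_map_one (hk t) (a s)
    unfold cj at this
    rw [this]
  have hmul : ∀ t, cm (a (c * t)) b = cm (a t) b := by
    intro t
    have e1 : σ (a (c * t)) = σ (cj e (a t)) := by rw [map_cj, ha, ha, hg]
    have e2 : σ b = σ (cj e b) := by rw [map_cj, hgw]
    rw [h.cm_congr e1 e2, ← cj_cm, h.cj_of_map_one (hk t)]
  have hone : ∀ t, cm (a ((c - 1) * t)) b = 1 := by
    intro t
    have e1 := hadd' ((c - 1) * t) t
    have e2 : (c - 1) * t + t = c * t := by ring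
    rw [e2, hmul] at e1
    exact (mul_eq_left.1 e1.symm)
  intro t
  have hc' : c - 1 ≠ 0 := sub_ne_zero.2 hc
  have e3 : t = (c - 1) * ((c - 1)⁻¹ * t) := by
    rw [← mul_assoc, mul_inv_cancel₀ hc', one_mul]
  have e4 := hone ((c - 1)⁻¹ * t)
  rw [← e3, cm_eq_one_iff] at e4
  exact h.CL_of_lift' (ha t) rfl e4

end basic

end Cfsg.Agent.Lib.helper7.Ce
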