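import Mathlib
import Cfsg.Agent.Lib.helper7.CeA

set_option autoImplicit false

/-!
Central extensions of a group with a Steinberg system: the commutators `Y` of lifts of root
elements.
-/

namespace Cfsg.Agent.Lib.helper7.Ce

open Cfsg.Agent.Lib.helper15.St2 Cfsg.Agent.Lib.helper7.St

section sys

variable {K : Type*} [Field K] {ι : Type*} {Γ G : Type*} [Group Γ] [Group G]
  (S : Sys K ι G) {σ : Γ →* G}

/-- The commutation hypotheses on lifts of root elements in the same root subgroup, the same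
row or the same column. -/
structure H1 (S : Sys K ι G) (σ : Γ →* G) : Prop where
  same : ∀ i j, i ≠ j → ∀ s t, CL σ (S.x i j s) (S.x i j t)
  row : ∀ i j l, i ≠ j → i ≠ l → j ≠ l → ∀ s t, CL σ (S.x i j s) (S.x i l t)
  col : ∀ i j l, i ≠ l → j ≠ l → i ≠ j → ∀ s t, CL σ (S.x i l s) (S.x j l t)

/-- The commutation hypothesis for disjoint roots. -/
def Hdis (S : Sys K ι G) (σ : Γ →* G) : Prop :=
  ∀ i j k l, i ≠ j → i ≠ k → i ≠ l → j ≠ k → j ≠ l → k ≠ l → ∀ s t,
    CL σ (S.x i j s) (S.x k l t)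

/-- A chosen lift. -/
noncomputable def lf (h : IsCE σ) (g : G) : Γ := Function.surjInv h.surj g

lemma map_lf (h : IsCE σ) (g : G) : σ (lf h g) = g := Function.surjInv_eq h.surj g

/-- The commutator of lifts of `x_ij(s)` and `x_jl(t)`. -/
noncomputable def Y (h : IsCE σ) (i j l : ι) (s t : K) : Γ :=
  cm (lf h (S.x i j s)) (lf h (S.x j l t))

variable {S}

lemma cm_x {i j l : ι} (hij : i ≠ j) (hjl : j ≠ l) (hil : i ≠ l) (s t : K) :
    cm (S.x i j s) (S.x j l t) = S.x i l (s * t) :=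
  S.comm3 i j l hij hjl hil s t

lemma Y_eq (h : IsCE σ) {i j l : ι} {s t : K} {a b : Γ} (ha : σ a = S.x i j s)
    (hb : σ b = S.x j l t) : cm a b = Y S h i j l s t := by
  unfold Y
  exact h.cm_congr (by rw [ha, map_lf]) (by rw [hb, map_lf])

lemma map_Y (h : IsCE σ) {i j l : ι} (hij : i ≠ j) (hjl : j ≠ l) (hil : i ≠ l) (s t : K) :
    σ (Y S h i j l s t) = S.x i l (s * t) := by
  unfold Y
  rw [map_cm, map_lf, map_lf, cm_x hij hjl hil]

lemma Y_comm (h : IsCE σ) (h1 : H1 S σ) {i j j' l : ι} (hij : i ≠ j) (hjl : j ≠ l) (hil : i ≠ l)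
    (hij' : i ≠ j') (hjl' : j' ≠ l) (s t s' t' : K) :
    Y S h i j l s t * Y S h i j' l s' t' = Y S h i j' l s' t' * Y S h i j l s t :=
  h1.same i l hil _ _ _ _ (map_Y h hij hjl hil s t) (map_Y h hij' hjl' hil s' t')

lemma Y_add_left (h : IsCE σ) (h1 : H1 S σ) {i j l : ι} (hij : i ≠ j) (hjl : j ≠ l) (hil : i ≠ l)
    (s s' t : K) : Y S h i j l (s + s') t = Y S h i j l s t * Y S h i j l s' t := by
  have e1 : σ (lf h (S.x i j s) * lf h (S.x i j s')) = S.x i j (s + s') := by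
    rw [map_mul, map_lf, map_lf, S.add i j hij]
  rw [← Y_eq h e1 (map_lf h (S.x j l t)), cm_mul_left]
  have e2 : lf h (S.x i j s) * cm (lf h (S.x i j s')) (lf h (S.x j l t)) =
      cm (lf h (S.x i j s')) (lf h (S.x j l t)) * lf h (S.x i j s) :=
    h1.row i j l hij hil hjl s (s' * t) _ _ (map_lf h _)
      (by rw [map_cm, map_lf, map_lf, cm_x hij hjl hil])
  rw [e2, mul_inv_cancel_right]
  exact Y_comm h h1 hij hjl hil hij hjl _ _ _ _

lemma Y_add_right (h : IsCE σ) (h1 : H1 S σ) {i j l : ι} (hij : i ≠ j) (hjl : j ≠ l)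
    (hil : i ≠ l) (s t t' : K) :
    Y S h i j l s (t + t') = Y S h i j l s t * Y S h i j l s t' := by
  have e1 : σ (lf h (S.x j l t) * lf h (S.x j l t')) = S.x j l (t + t') := by
    rw [map_mul, map_lf, map_lf, S.add j l hjl]
  rw [← Y_eq h (map_lf h (S.x i j s)) e1, cm_mul_right]
  have e2 : cm (lf h (S.x i j s)) (lf h (S.x j l t')) * lf h (S.x j l t) =
      lf h (S.x j l t) * cm (lf h (S.x i j s)) (lf h (S.x j l t')) :=
    h1.col i j l hil hjl hij (s * t') t _ _
      (by rw [map_cm, map_lf, map_lf, cm_x hij hjl hil]) (map_lf h _)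
  rw [← e2, mul_inv_cancel_right]
  rfl

lemma Y_zero_left (h : IsCE σ) (h1 : H1 S σ) {i j l : ι} (hij : i ≠ j) (hjl : j ≠ l)
    (hil : i ≠ l) (t : K) : Y S h i j l 0 t = 1 := by
  have := Y_add_left h h1 hij hjl hil 0 0 t
  rw [add_zero] at this
  exact mul_eq_left.1 this.symm

lemma Y_neg_left (h : IsCE σ) (h1 : H1 S σ) {i j l : ι} (hij : i ≠ j) (hjl : j ≠ l)
    (hil : i ≠ l) (s t : K) : Y S h i j l (-s) t = (Y S h i j l s t)⁻¹ := by
  have := Y_add_left h h1 hij hjl hil (-s) s t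
  rw [neg_add_cancel, Y_zero_left h h1 hij hjl hil] at this
  exact eq_inv_of_mul_eq_one_left this.symm

/-- Milnor's argument: `Y i j l s t` only depends on `s * t`, through another index. -/
lemma Y_milnor (h : IsCE σ) (h1 : H1 S σ) (hd : Hdis S σ) {i j m l : ι} (hij : i ≠ j)
    (him : i ≠ m) (hil : i ≠ l) (hjm : j ≠ m) (hjl : j ≠ l) (hml : m ≠ l) (s t : K) :
    Y S h i j l s t = Y S h i m l (s * t) 1 := by
  set a := lf h (S.x i j s) with ha
  set v := lf h (S.x j m t) with hv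
  set w := lf h (S.x m l 1) with hw
  have sa : σ a = S.x i j s := map_lf h _
  have sv : σ v = S.x j m t := map_lf h _
  have sw : σ w = S.x m l 1 := map_lf h _
  have sr : σ (cm v w) = S.x j l t := by
    rw [map_cm, sv, sw, cm_x hjm hml hjl, mul_one]
  have sp : σ (cm a v) = S.x i m (s * t) := by
    rw [map_cm, sa, sv, cm_x hij hjm him]
  rw [← Y_eq h sa sr, ← Y_eq h sp sw]
  have e1 : a * w = w * a := hd i j m l hij him hil hjm hjl hml s 1 a w sa sw
  have e2 : cm a v * cm v w = cm v w * cm a v :=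
    hd i m j l him hij hil hjm.symm hml hjl (s * t) t _ _ sp sr
  have e3 : cm (cm a v) w * cm v w = cm v w * cm (cm a v) w :=
    h1.col i j l hil hjl hij (s * t * 1) t _ _
      (by rw [map_cm, sp, sw, cm_x him hml hil]) sr
  have e4 : cm a (cm v w) = cm a v * cm v w * (cm a v)⁻¹ * cm (cm a v) w * (cm v w)⁻¹ := by
    have e5 : cm a (cm v w) = cm (cm a v * v) (a * w * a⁻¹) * (cm v w)⁻¹ := by
      unfold cm; group
    rw [e5, e1, mul_inv_cancel_right, cm_mul_left]
  rw [e4, e2, mul_inv_cancel_right, ← e3, mul_inv_cancel_right]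

end sys

end Cfsg.Agent.Lib.helper7.Ce
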