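import Cfsg.Agent.Lib.Helper13.S5955.Defs

/-!
# Project S5955, row T4 (helper7): `peel_nd`.
-/

set_option autoImplicit false

namespace Cfsg.Agent.Lib.Helper13.S5955

open Polynomial Module

/-- `B (x^k u) (x^k v) = B u v`. -/
theorem s5955t4_pres_pow {F : Type*} [Field F] {V : Type*} [AddCommGroup V] [Module F V]
    {r : ℕ} {B : LinearMap.BilinForm F V} {x : Module.End F V} (h : SCtx r B x) (k : ℕ) (u v : V) :
    B ((x ^ k) u) ((x ^ k) v) = B u v := by
  induction k with
  | zero => simp
  | succ k ih =>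
    rw [pow_succ', Module.End.mul_apply, Module.End.mul_apply, h.pres, ih]

/-- an alternating form is skew. -/
theorem s5955t4_skew {F : Type*} [Field F] {V : Type*} [AddCommGroup V] [Module F V]
    {B : LinearMap.BilinForm F V} (halt : ∀ v, B v v = 0) (u v : V) : B u v = - B v u := by
  have h := halt (u + v)
  simp only [map_add, LinearMap.add_apply, halt, zero_add, add_zero] at h
  exact eq_neg_of_add_eq_zero_left (by rw [add_comm]; exact h)

/-- `B u (x v) = B (x^(r-1) u) v`. -/
theorem s5955t4_adj {F : Type*} [Field F] {V : Type*} [AddCommGroup V] [Module F V]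
    {r : ℕ} (hr : 0 < r) {B : LinearMap.BilinForm F V} {x : Module.End F V} (h : SCtx r B x) (u v : V) :
    B u (x v) = B ((x ^ (r - 1)) u) v := by
  have h1 := s5955t4_pres_pow h (r - 1) u (x v)
  rw [← h1]
  congr 1
  rw [← Module.End.mul_apply, ← pow_succ, Nat.sub_add_cancel hr, h.pow, Module.End.one_apply]

/-- the orthogonal of an invariant subspace is invariant (same as row T1, proved here to be self-contained). -/
theorem s5955t4_perp_inv {F : Type*} [Field F] {V : Type*} [AddCommGroup V] [Module F V]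
    {r : ℕ} (hr : 0 < r) {B : LinearMap.BilinForm F V} {x : Module.End F V} (h : SCtx r B x)
    (U : Submodule F V) (hU : SInv x U) : SInv x (B.orthogonal U) := by
  intro v hv
  rw [LinearMap.BilinForm.mem_orthogonal_iff] at hv ⊢
  intro u hu
  show B u (x v) = 0
  rw [s5955t4_adj hr h]
  exact hv _ (Cfsg.Agent.Lib.Helper24.el_pow_mem hU (r - 1) hu)

theorem peel_nd {F : Type*} [Field F] {V : Type*} [AddCommGroup V] [Module F V]
    [FiniteDimensional F V] {r : ℕ} (hr : 0 < r)
    {B : LinearMap.BilinForm F V} {x : Module.End F V} (h : SCtx r B x)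
    (N U : Submodule F V) (hN : SInv x N) (hNnd : SND B N) (hUN : U ≤ N) (hU : SInv x U)
    (hUnd : SND B U) :
    ∃ N' : Submodule F V, N' ≤ N ∧ SInv x N' ∧ SND B N' ∧ SOrth B U N' ∧ Disjoint U N' ∧
      finrank F N' + finrank F U = finrank F N := by
  have hskew := s5955t4_skew h.alt
  have hrefl : B.IsRefl := by
    intro u v huv
    rw [hskew, huv, neg_zero]
  -- the restriction of B to U is nondegenerate
  have hdisj : Disjoint U (B.orthogonal U) := by
    rw [Submodule.disjoint_def]
    intro u hu hu'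
    apply hUnd u hu
    intro v hv
    rw [hskew]
    have := (LinearMap.BilinForm.mem_orthogonal_iff.1 hu') v hv
    exact neg_eq_zero.2 this
  have hres : (B.restrict U).Nondegenerate :=
    LinearMap.BilinForm.nondegenerate_restrict_of_disjoint_orthogonal B hrefl hdisj
  have hcompl : IsCompl U (B.orthogonal U) :=
    (LinearMap.BilinForm.restrict_nondegenerate_iff_isCompl_orthogonal hrefl).1 hres
  refine ⟨N ⊓ B.orthogonal U, inf_le_left, ?_, ?_, ?_, ?_, ?_⟩
  · intro v hv
    exact ⟨hN v hv.1, s5955t4_perp_inv hr h U hU v hv.2⟩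
  · -- nondegenerate
    intro u hu hall
    apply hNnd u hu.1
    intro n hn
    have hnV : n ∈ U ⊔ B.orthogonal U := by rw [hcompl.sup_eq_top]; trivial
    obtain ⟨u₁, hu₁, n', hn', rfl⟩ := Submodule.mem_sup.1 hnV
    have hn'N : n' ∈ N := by
      have : n' = (u₁ + n') - u₁ := by abel
      rw [this]
      exact N.sub_mem hn (hUN hu₁)
    rw [map_add, hall n' ⟨hn'N, hn'⟩, add_zero, hskew]
    have := (LinearMap.BilinForm.mem_orthogonal_iff.1 hu.2) u₁ hu₁
    exact neg_eq_zero.2 this
  · intro u hu w hw
    exact (LinearMap.BilinForm.mem_orthogonal_iff.1 hw.2) u hu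
  · exact hcompl.disjoint.mono_right inf_le_right
  · have hsup : U ⊔ (N ⊓ B.orthogonal U) = N := by
      rw [inf_comm, ← sup_inf_assoc_of_le _ hUN, hcompl.sup_eq_top, top_inf_eq]
    have hinf : U ⊓ (N ⊓ B.orthogonal U) = ⊥ := by
      have := hcompl.disjoint.mono_right (inf_le_right : N ⊓ B.orthogonal U ≤ B.orthogonal U)
      exact this.eq_bot
    have := Submodule.finrank_sup_add_finrank_inf_eq U (N ⊓ B.orthogonal U)
    rw [hsup, hinf, finrank_bot, add_zero] at this
    omega

end Cfsg.Agent.Lib.Helper13.S5955
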