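import Mathlib

/-!
# SLK row L3 (`exists_unipotent`), helper7.  Verbatim statement of `Helper1/SLK/Skel.lean.txt`.
-/

set_option autoImplicit false

namespace Cfsg.Agent.Lib.Helper1.SLK

open Polynomial

universe u

theorem slkl3_ne (k : ℕ) : (0 : Fin (k + 2)) ≠ 1 := by
  intro h
  have := congrArg Fin.val h
  simp at this

/-- the transvection `1 + E₀₁` in `SL` -/
def slkl3_t (F : Type u) [Field F] (k : ℕ) : Matrix.SpecialLinearGroup (Fin (k + 2)) F :=
  ⟨Matrix.transvection 0 1 (1 : F), Matrix.det_transvection_of_ne 0 1 (slkl3_ne k) 1⟩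

theorem slkl3_t_val (F : Type u) [Field F] (k : ℕ) :
    (slkl3_t F k : Matrix (Fin (k + 2)) (Fin (k + 2)) F) = Matrix.transvection 0 1 (1 : F) := rfl

theorem slkl3_charpoly (F : Type u) [Field F] (k : ℕ) :
    (Matrix.transvection (0 : Fin (k + 2)) 1 (1 : F)).charpoly = (X - 1) ^ (k + 2) := by
  have h01 := slkl3_ne k
  have htri : (Matrix.transvection (0 : Fin (k + 2)) 1 (1 : F)).BlockTriangular id := by
    intro i j hij
    simp only [id] at hij
    rw [Matrix.transvection, Matrix.add_apply, Matrix.one_apply_ne (ne_of_gt hij)]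
    rw [Matrix.single_apply]
    rw [if_neg]
    · simp
    · rintro ⟨rfl, rfl⟩
      exact absurd hij (by simp)
  rw [Matrix.charpoly_of_isUpperTriangular _ htri]
  have hd : ∀ i : Fin (k + 2), Matrix.transvection (0 : Fin (k + 2)) 1 (1 : F) i i = 1 := by
    intro i
    rw [Matrix.transvection, Matrix.add_apply, Matrix.one_apply_eq, Matrix.single_apply, if_neg]
    · simp
    · rintro ⟨h1, h2⟩
      exact h01 (h1.trans h2.symm)
  simp only [hd, map_one]
  rw [Finset.prod_const, Finset.card_univ, Fintype.card_fin]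

theorem slkl3_ne_one (F : Type u) [Field F] (k : ℕ) : slkl3_t F k ≠ 1 := by
  intro h
  have h01 := slkl3_ne k
  have h2 : (slkl3_t F k : Matrix (Fin (k + 2)) (Fin (k + 2)) F) 0 1 =
      ((1 : Matrix.SpecialLinearGroup (Fin (k + 2)) F) : Matrix (Fin (k + 2)) (Fin (k + 2)) F) 0 1 := by
    rw [h]
  rw [Matrix.SpecialLinearGroup.coe_one, Matrix.one_apply_ne h01, slkl3_t_val, Matrix.transvection,
    Matrix.add_apply, Matrix.one_apply_ne h01, Matrix.single_apply, if_pos ⟨rfl, rfl⟩, zero_add] at h2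
  exact one_ne_zero h2

theorem slkl3_aux {F : Type u} [Field F] (k : ℕ) :
    ∃ t : Matrix.SpecialLinearGroup (Fin (k + 2)) F,
      (t : Matrix (Fin (k + 2)) (Fin (k + 2)) F).charpoly = (X - 1) ^ (k + 2) ∧
        ¬ IsConj (1 : Matrix.SpecialLinearGroup (Fin (k + 2)) F) t := by
  refine ⟨slkl3_t F k, ?_, ?_⟩
  · rw [slkl3_t_val]
    exact slkl3_charpoly F k
  · intro h
    obtain ⟨c, hc⟩ := h
    apply slkl3_ne_one F k
    have hc' : (c : Matrix.SpecialLinearGroup (Fin (k + 2)) F) * 1 = slkl3_t F k * c := hc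
    rw [mul_one] at hc'
    exact (mul_eq_right.1 hc'.symm)

/-- **L3**. -/
theorem exists_unipotent {F : Type u} [Field F] (n : ℕ) (hn : 2 ≤ n) :
    ∃ t : Matrix.SpecialLinearGroup (Fin n) F,
      (t : Matrix (Fin n) (Fin n) F).charpoly = (X - 1) ^ n ∧ ¬ IsConj (1 : Matrix.SpecialLinearGroup (Fin n) F) t := by
  obtain ⟨k, rfl⟩ : ∃ k, n = k + 2 := ⟨n - 2, by omega⟩
  exact slkl3_aux k

end Cfsg.Agent.Lib.Helper1.SLK
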