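import Mathlib

/-!
# SLK row M1 (`card_eq_sum_fibers`), helper7.  Verbatim statement of `Helper1/SLK/Skel.lean.txt`.
-/

set_option autoImplicit false

namespace Cfsg.Agent.Lib.Helper1.SLK

universe u

/-- a finite type is the disjoint union of the fibres of any map -/
theorem slkm1_card_eq_finsum {α β : Type*} [Finite α] (f : α → β) :
    Nat.card α = ∑ᶠ b : β, {a : α | f a = b}.ncard := by
  classical
  have := Fintype.ofFinite α
  have hsupp : (Function.support fun b : β => {a : α | f a = b}.ncard) ⊆
      ↑(Finset.univ.image f) := by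
    intro b hb
    rw [Function.mem_support] at hb
    have hne : {a : α | f a = b}.Nonempty := by
      by_contra h
      rw [Set.not_nonempty_iff_eq_empty] at h
      rw [h, Set.ncard_empty] at hb
      exact hb rfl
    obtain ⟨a, ha⟩ := hne
    rw [Finset.coe_image, Set.mem_image]
    exact ⟨a, by simp, ha⟩
  rw [finsum_eq_sum_of_support_subset _ hsupp, Nat.card_eq_fintype_card, ← Finset.card_univ,
    Finset.card_eq_sum_card_fiberwise (f := f) (t := Finset.univ.image f)
      (fun a _ => Finset.mem_image_of_mem f (Finset.mem_univ a))]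
  apply Finset.sum_congr rfl
  intro b _
  rw [← Set.ncard_coe_finset]
  congr 1
  ext a
  simp

/-- **M1**. -/
theorem card_eq_sum_fibers {S G : Type*} [Group S] [Group G] [Finite S] (ι : S →* G) :
    Nat.card (ConjClasses S) =
      ∑ᶠ C : ConjClasses G, {c : ConjClasses S | ConjClasses.map ι c = C}.ncard :=
  slkm1_card_eq_finsum (ConjClasses.map ι)

end Cfsg.Agent.Lib.Helper1.SLK
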