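import Mathlib

/-!
# PLK row U11 (`coeff_eq_zero_of_comp`), helper7.  Verbatim statement of `Helper1/PLK/Skel.lean.txt`.
-/

set_option autoImplicit false

namespace Cfsg.Agent.Lib.Helper1.PLK

open Polynomial

universe u

/-- **U11**. -/
theorem coeff_eq_zero_of_comp {F : Type u} [Field F] (ζ : Fˣ) (g : F[X]) (h0 : g.coeff 0 ≠ 0)
    (h : g.comp (C (ζ : F) * X) = C ((ζ : F) ^ g.natDegree) * g) (k : ℕ)
    (hk : ¬ orderOf ζ ∣ k) : g.coeff k = 0 := by
  have hc : ∀ j : ℕ, g.coeff j * (ζ : F) ^ j = (ζ : F) ^ g.natDegree * g.coeff j := by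
    intro j
    have h1 : (g.comp (C (ζ : F) * X)).coeff j = (C ((ζ : F) ^ g.natDegree) * g).coeff j := by rw [h]
    rw [Polynomial.comp_C_mul_X_coeff, Polynomial.coeff_C_mul] at h1
    exact h1
  have hdeg : (ζ : F) ^ g.natDegree = 1 := by
    have h1 := hc 0
    rw [pow_zero, mul_one] at h1
    have h2 : ((ζ : F) ^ g.natDegree - 1) * g.coeff 0 = 0 := by rw [sub_mul, one_mul, ← h1, sub_self]
    rcases mul_eq_zero.1 h2 with h3 | h3
    · exact sub_eq_zero.1 h3
    · exact absurd h3 h0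
  by_contra hne
  apply hk
  rw [orderOf_dvd_iff_pow_eq_one]
  have h1 := hc k
  rw [hdeg, one_mul] at h1
  have h2 : g.coeff k * ((ζ : F) ^ k - 1) = 0 := by rw [mul_sub, mul_one, h1, sub_self]
  rcases mul_eq_zero.1 h2 with h3 | h3
  · exact absurd h3 hne
  · apply Units.ext
    rw [Units.val_pow_eq_pow_val, Units.val_one]
    exact sub_eq_zero.1 h3

end Cfsg.Agent.Lib.Helper1.PLK
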