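import Mathlib

/-!
# PLK row U7 (`min_identity`), helper7.  Verbatim statement of `Helper1/PLK/Skel.lean.txt`.
-/

set_option autoImplicit false

namespace Cfsg.Agent.Lib.Helper1.PLK

universe u

theorem plku7_pointwise (e k : ℕ) :
    min e (k + 2) + min e k + (if e = k + 1 then 1 else 0) = 2 * min e (k + 1) := by
  by_cases h : e = k + 1
  · rw [if_pos h]
    subst h
    rw [min_eq_left (by omega), min_eq_right (by omega), min_eq_left (by omega)]
    omega
  · rw [if_neg h]
    rcases Nat.lt_or_ge e (k + 1) with h1 | h1
    · rw [min_eq_left (by omega), min_eq_left (by omega), min_eq_left (by omega)]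
      omega
    · rw [min_eq_right (by omega), min_eq_right (by omega), min_eq_right (by omega)]
      omega

/-- **U7**. -/
theorem min_identity {ι : Type*} (s : Finset ι) (e : ι → ℕ) (k : ℕ) :
    ∑ j ∈ s, min (e j) (k + 2) + ∑ j ∈ s, min (e j) k + (s.filter (fun j => e j = k + 1)).card =
      2 * ∑ j ∈ s, min (e j) (k + 1) := by
  classical
  rw [Finset.card_filter, ← Finset.sum_add_distrib, ← Finset.sum_add_distrib, Finset.mul_sum]
  apply Finset.sum_congr rfl
  intro j _
  exact plku7_pointwise (e j) k

end Cfsg.Agent.Lib.Helper1.PLK
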