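import Cfsg.Agent.Lib.Helper1.PLK.Defs

/-!
# PLK row U9a (`tw_props`), helper7.  Verbatim statement of `Helper1/PLK/Skel.lean.txt`.
-/

set_option autoImplicit false

namespace Cfsg.Agent.Lib.Helper1.PLK

open Polynomial
open Cfsg.Agent.Lib.Helper29.GLK
open Cfsg.Agent.Lib.Helper1.SLK

universe u

section U9a

variable {F : Type u} [Field F]

theorem plku9a_comp_X (ζ : Fˣ) : (C (ζ : F) * X).comp (C ((ζ⁻¹ : Fˣ) : F) * X) = X := by
  rw [mul_comp, C_comp, X_comp, ← mul_assoc, ← C_mul]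
  have : (ζ : F) * ((ζ⁻¹ : Fˣ) : F) = 1 := by
    rw [← Units.val_mul, mul_inv_cancel, Units.val_one]
  rw [this, C_1, one_mul]

theorem plku9a_comp_X' (ζ : Fˣ) : (C ((ζ⁻¹ : Fˣ) : F) * X).comp (C (ζ : F) * X) = X := by
  have := plku9a_comp_X (ζ⁻¹)
  rwa [inv_inv] at this

/-- substitution `X ↦ ζ X` as an algebra automorphism -/
noncomputable def plku9a_equiv (ζ : Fˣ) : F[X] ≃ₐ[F] F[X] :=
  algEquivOfCompEqX (C (ζ : F) * X) (C ((ζ⁻¹ : Fˣ) : F) * X) (plku9a_comp_X ζ) (plku9a_comp_X' ζ)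

theorem plku9a_equiv_apply (ζ : Fˣ) (P : F[X]) : plku9a_equiv ζ P = P.comp (C (ζ : F) * X) := by
  rw [plku9a_equiv, algEquivOfCompEqX_apply, comp_eq_aeval]

theorem plku9a_natDegree_lin (ζ : Fˣ) : (C (ζ : F) * X).natDegree = 1 := by
  rw [natDegree_C_mul (Units.ne_zero ζ), natDegree_X]

theorem plku9a_natDegree_comp (ζ : Fˣ) (P : F[X]) : (P.comp (C (ζ : F) * X)).natDegree = P.natDegree := by
  rw [natDegree_comp, plku9a_natDegree_lin, mul_one]

theorem plku9a_natDegree (ζ : Fˣ) (P : F[X]) : (tw ζ P).natDegree = P.natDegree := by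
  unfold tw
  rw [natDegree_C_mul (pow_ne_zero _ (Units.ne_zero _)), plku9a_natDegree_comp]

theorem plku9a_comp_comp (ζ : Fˣ) (P : F[X]) :
    (P.comp (C (ζ : F) * X)).comp (C ((ζ⁻¹ : Fˣ) : F) * X) = P := by
  rw [comp_assoc, plku9a_comp_X, comp_X]

/-- **U9a**. -/
theorem tw_props {F : Type u} [Field F] (ζ : Fˣ) (P : F[X]) (hP : Irreducible P) (hPm : P.Monic) :
    Irreducible (tw ζ P) ∧ (tw ζ P).Monic ∧ (tw ζ P).natDegree = P.natDegree ∧
      tw ζ⁻¹ (tw ζ P) = P := by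
  refine ⟨?_, ?_, plku9a_natDegree ζ P, ?_⟩
  · unfold tw
    have hu : IsUnit (C (((ζ⁻¹ : Fˣ) : F) ^ P.natDegree)) :=
      isUnit_C.2 (IsUnit.pow _ (Units.isUnit _))
    rw [irreducible_isUnit_mul hu, ← plku9a_equiv_apply]
    exact (MulEquiv.irreducible_iff (plku9a_equiv ζ)).2 hP
  · unfold Monic
    unfold tw
    rw [leadingCoeff_mul, leadingCoeff_C, leadingCoeff_comp (by rw [plku9a_natDegree_lin]; exact one_ne_zero),
      hPm.leadingCoeff, one_mul, leadingCoeff_mul, leadingCoeff_C, leadingCoeff_X, mul_one, ← mul_pow,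
      ← Units.val_mul, inv_mul_cancel, Units.val_one, one_pow]
  · have hdeg := plku9a_natDegree ζ P
    show C ((((ζ⁻¹)⁻¹ : Fˣ) : F) ^ (tw ζ P).natDegree) * (tw ζ P).comp (C ((ζ⁻¹ : Fˣ) : F) * X) = P
    rw [hdeg, inv_inv]
    unfold tw
    rw [mul_comp, C_comp, plku9a_comp_comp, ← mul_assoc, ← C_mul, ← mul_pow, ← Units.val_mul,
      mul_inv_cancel, Units.val_one, one_pow, C_1, one_mul]

end U9a

end Cfsg.Agent.Lib.Helper1.PLK
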