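import Mathlib
import Cfsg.Prelude.Def_Blocks
import Cfsg.Prelude.Def_Solvable
import Cfsg.Agent.Lib.Helper24.KleinSylow
import Cfsg.Agent.Lib.Helper22.Burnside
import Cfsg.Agent.Lib.Helper1.Fitting
import Cfsg.Agent.Lib.helper7.BlockFirstMain
import Cfsg.Agent.Lib.helper2.CharNat
import Cfsg.Agent.Lib.Helper25.CharLinear

set_option autoImplicit false
set_option linter.style.haveILetI false
set_option linter.unusedSectionVars false
set_option linter.unusedVariables false

namespace Cfsg.Agent.Lib.helper7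

open Cfsg.Agent.Lib.Helper24

variable {G : Type*} [Group G]

theorem h7_klein_card [Finite G] (P : Sylow 2 G) (hP : IsKleinFour (P : Subgroup G)) :
    Nat.card (P : Subgroup G) = 4 ∧ (Nat.card G).factorization 2 = 2 ∧
      ∃ m : ℕ, Odd m ∧ Nat.card G = 4 * m := by
  haveI : Fact (Nat.Prime 2) := ⟨Nat.prime_two⟩
  have h4 : Nat.card (P : Subgroup G) = 4 := IsKleinFour.card_four
  have h2 : (Nat.card G).factorization 2 = 2 := by
    have := P.card_eq_multiplicity
    rw [h4] at this
    have h22 : (4 : ℕ) = 2 ^ 2 := by norm_num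
    rw [h22] at this
    exact (Nat.pow_right_injective (le_refl 2) this).symm
  refine ⟨h4, h2, (P : Subgroup G).index, ?_, ?_⟩
  · rw [← Nat.not_even_iff_odd, even_iff_two_dvd]
    exact P.not_dvd_index
  · rw [← h4, mul_comm]
    exact ((P : Subgroup G).index_mul_card).symm

theorem h7_klein_norm_cent [Finite G] (P : Sylow 2 G) (hP : IsKleinFour (P : Subgroup G))
    (z : G) (hzP : z ∈ (P : Subgroup G)) (hz1 : z ≠ 1) (g : G) (hgz : g * z = z * g)
    (hgN : g ∈ Subgroup.normalizer ((P : Subgroup G) : Set G)) (y : G)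
    (hy : y ∈ (P : Subgroup G)) : g * y = y * g := by
  haveI : Fact (Nat.Prime 2) := ⟨Nat.prime_two⟩
  obtain ⟨hcard, hfac, m, hm, hG⟩ := h7_klein_card P hP
  obtain ⟨a, b, ha, hb, ha1, hb1, hab⟩ := ks_exists (P : Subgroup G) hP
  obtain ⟨t, ht, ht1, htz⟩ : ∃ t ∈ (P : Subgroup G), t ≠ 1 ∧ t ≠ z := by
    by_cases haz : a = z
    · exact ⟨b, hb, hb1, fun h => hab (haz.trans h.symm)⟩
    · exact ⟨a, ha, ha1, haz⟩
  have hzt : z * t = t * z := ks_comm _ hP hzP ht
  have hgt_mem : g * t * g⁻¹ ∈ (P : Subgroup G) := (Subgroup.mem_normalizer_iff.mp hgN t).mp ht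
  have hgt1 : g * t * g⁻¹ ≠ 1 := by
    intro h
    apply ht1
    have : t = g⁻¹ * (g * t * g⁻¹) * g := by group
    rw [this, h]
    group
  have hgtz : g * t * g⁻¹ ≠ z := by
    intro h
    apply htz
    have e1 : t = g⁻¹ * (g * t * g⁻¹) * g := by group
    rw [e1, h]
    have : g⁻¹ * z * g = g⁻¹ * (z * g) := by group
    rw [this, ← hgz]
    group
  have hcent_of : g * t = t * g → g * y = y * g := by
    intro hgt
    rcases ks_elems _ hP hzP ht hz1 ht1 (Ne.symm htz) hy with h | h | h | h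
    · rw [h, mul_one, one_mul]
    · rw [h]; exact hgz
    · rw [h]; exact hgt
    · rw [h, ← mul_assoc, hgz, mul_assoc, hgt, mul_assoc]
  rcases ks_elems _ hP hzP ht hz1 ht1 (Ne.symm htz) hgt_mem with h | h | h | h
  · exact absurd h hgt1
  · exact absurd h hgtz
  · apply hcent_of
    have := congrArg (fun w => w * g) h
    simpa using this
  · exfalso
    have h2 : g * (z * t) * g⁻¹ = t := by
      have e1 : g * (z * t) * g⁻¹ = (g * z * g⁻¹) * (g * t * g⁻¹) := by group
      have e2 : g * z * g⁻¹ = z := by rw [hgz]; group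
      rw [e1, e2, h, ← mul_assoc, ks_sq _ hP hzP, one_mul]
    have h3 := ks_swap_odd g t (z * t) h h2 m hm
    have hpow_mem : g ^ m ∈ (P : Subgroup G) := by
      have hQ : IsPGroup 2 (Subgroup.zpowers (g ^ m)) := by
        apply IsPGroup.of_card (n := (Nat.card (Subgroup.zpowers (g ^ m))).factorization 2)
        have hdvd : Nat.card (Subgroup.zpowers (g ^ m)) ∣ 2 ^ 2 := by
          rw [Nat.card_zpowers]
          apply orderOf_dvd_of_pow_eq_one
          have : (g ^ m) ^ (2 ^ 2) = g ^ (Nat.card G) := by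
            rw [← pow_mul, hG]
            congr 1
            ring
          rw [this, pow_card_eq_one']
        obtain ⟨k, _, hk⟩ := (Nat.dvd_prime_pow Nat.prime_two).mp hdvd
        rw [hk, Nat.Prime.factorization_pow Nat.prime_two]
        simp
      have hinf := hQ.inf_normalizer_sylow P
      have hmem : g ^ m ∈ Subgroup.zpowers (g ^ m) ⊓
          Subgroup.normalizer ((P : Subgroup G) : Set G) :=
        ⟨Subgroup.mem_zpowers _, Subgroup.pow_mem _ hgN m⟩
      exact (hinf.le hmem).2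
    have h4 : g ^ m * t * (g ^ m)⁻¹ = t := by
      rw [ks_comm _ hP hpow_mem ht]
      group
    rw [h4] at h3
    apply hz1
    have : t = z * t := h3
    have e3 : z = (z * t) * t⁻¹ := by group
    rw [e3, ← this]
    group

theorem h7_klein_centralizer_npc [Finite G] (P : Sylow 2 G) (hP : IsKleinFour (P : Subgroup G))
    (z : G) (hzP : z ∈ (P : Subgroup G)) (hz1 : z ≠ 1) :
    (∃ k : ℕ, (Cfsg.pPrimeCore 2 (Subgroup.centralizer ({z} : Set G))).index = 2 ^ k) ∧
      (Nat.card (Subgroup.centralizer ({z} : Set G))).factorization 2 = 2 := by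
  haveI : Fact (Nat.Prime 2) := ⟨Nat.prime_two⟩
  obtain ⟨hcard, hfac, m, hm, hG⟩ := h7_klein_card P hP
  have hPH : (P : Subgroup G) ≤ Subgroup.centralizer ({z} : Set G) := by
    intro y hy
    rw [Subgroup.mem_centralizer_singleton_iff]
    exact ks_comm _ hP hy hzP
  obtain ⟨K, hKH, hKmem, hKcard, -⟩ := Cfsg.Agent.Lib.Helper22.burnside_sub 2 P
    (Subgroup.centralizer ({z} : Set G)) hPH (by
      intro g hg hgN y hy
      exact h7_klein_norm_cent P hP z hzP hz1 g
        (Subgroup.mem_centralizer_singleton_iff.mp hg) hgN y hy)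
  rw [hcard] at hKcard
  have hHdvd : Nat.card (Subgroup.centralizer ({z} : Set G)) ∣ Nat.card G :=
    Subgroup.card_subgroup_dvd_card _
  have hKodd : Odd (Nat.card K) := by
    rw [← hKcard, hG, mul_comm] at hHdvd
    have := Nat.dvd_of_mul_dvd_mul_left (by norm_num : 0 < 4) hHdvd
    exact Odd.of_dvd_nat hm this
  have hfacH : (Nat.card (Subgroup.centralizer ({z} : Set G))).factorization 2 = 2 := by
    rw [← hKcard, Nat.factorization_mul Nat.card_pos.ne' (by norm_num)]
    simp only [Finsupp.coe_add, Pi.add_apply]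
    have h0 : (Nat.card K).factorization 2 = 0 := by
      apply Nat.factorization_eq_zero_of_not_dvd
      rw [← even_iff_two_dvd, Nat.not_even_iff_odd]
      exact hKodd
    have h4 : (4 : ℕ).factorization 2 = 2 := by
      have : (4 : ℕ) = 2 ^ 2 := by norm_num
      rw [this, Nat.Prime.factorization_pow Nat.prime_two]
      simp
    rw [h0, h4]
  refine ⟨?_, hfacH⟩
  have hKn : (K.subgroupOf (Subgroup.centralizer ({z} : Set G))).Normal := by
    constructor
    intro n hn g
    rw [Subgroup.mem_subgroupOf] at hn ⊢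
    rw [hKmem] at hn ⊢
    simp only [Subgroup.coe_mul, Subgroup.coe_inv]
    refine ⟨Subgroup.mul_mem _ (Subgroup.mul_mem _ g.2 hn.1) (Subgroup.inv_mem _ g.2), ?_⟩
    have : orderOf ((g : G) * (n : G) * (g : G)⁻¹) = orderOf (n : G) := by
      have := MulEquiv.orderOf_eq (MulAut.conj (g : G)) (n : G)
      rwa [MulAut.conj_apply] at this
    rw [this]
    exact hn.2
  have hKc : Nat.card (K.subgroupOf (Subgroup.centralizer ({z} : Set G))) = Nat.card K :=
    h7_card_subgroupOf hKH
  have hKcop : (Nat.card (K.subgroupOf (Subgroup.centralizer ({z} : Set G)))).Coprime 2 := by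
    rw [hKc]
    exact Nat.Coprime.symm (Nat.coprime_two_left.mpr hKodd)
  have hle := Cfsg.Agent.Lib.Helper1.le_pPrimeCore hKn hKcop
  have hidx := Subgroup.index_dvd_of_le hle
  have hKidx : (K.subgroupOf (Subgroup.centralizer ({z} : Set G))).index = 2 ^ 2 := by
    have h1 := (K.subgroupOf (Subgroup.centralizer ({z} : Set G))).index_mul_card
    rw [hKc, ← hKcard] at h1
    have hK0 : 0 < Nat.card K := Nat.card_pos
    have : (K.subgroupOf (Subgroup.centralizer ({z} : Set G))).index = 4 := by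
      have h2 : (K.subgroupOf (Subgroup.centralizer ({z} : Set G))).index * Nat.card K =
          4 * Nat.card K := by rw [h1, mul_comm]
      exact Nat.eq_of_mul_eq_mul_right hK0 h2
    rw [this]
    norm_num
  rw [hKidx] at hidx
  obtain ⟨k, _, hk⟩ := (Nat.dvd_prime_pow Nat.prime_two).mp hidx
  exact ⟨k, hk⟩

theorem h7_klein_mod4 [Finite G] (P : Sylow 2 G) (hP : IsKleinFour (P : Subgroup G))
    (hone : ∀ s t : G, orderOf s = 2 → orderOf t = 2 → IsConj s t)
    (ζ : Cfsg.IrrCharacter G) (z : G) (hz : orderOf z = 2) (n : ℤ)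
    (hn : (ζ : G → ℂ) z = (n : ℂ)) :
    (4 : ℤ) ∣ (Cfsg.charDegree (ζ : G → ℂ) : ℤ) - n := by
  classical
  haveI : Fintype G := Fintype.ofFinite G
  haveI : Fintype (P : Subgroup G) := Fintype.ofFinite _
  obtain ⟨hd1, hd2, hd3⟩ := h7_charDegree_props ζ
  have hcard : Nat.card (P : Subgroup G) = 4 := IsKleinFour.card_four
  obtain ⟨m, hm⟩ := Cfsg.Agent.Lib.helper2.classInner_character_nat
    (Cfsg.Agent.Lib.helper2.isCharacter_restrict (Cfsg.Agent.Lib.helper2.isCharacter_of_irr ζ)
      (P : Subgroup G))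
    (Cfsg.Agent.Lib.helper2.isCharacter_of_irr
      (Cfsg.Agent.Lib.Helper25.trivIrr (P : Subgroup G)))
  unfold Cfsg.classInner at hm
  have hval : ∀ u : (P : Subgroup G), (ζ : G → ℂ) u - (n : ℂ) =
      if u = 1 then (ζ : G → ℂ) 1 - (n : ℂ) else 0 := by
    intro u
    by_cases hu : u = 1
    · rw [if_pos hu, hu]
      rfl
    · rw [if_neg hu]
      have hu1 : (u : G) ≠ 1 := fun h => hu (Subtype.ext h)
      have ho := ks_order_two _ hP u.2 hu1
      have hc := hone (u : G) z ho hz
      rw [Cfsg.Agent.Lib.Helper25.irr_isConj_eq ζ hc, hn, sub_self]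
  have hsum : ∑ u : (P : Subgroup G), (ζ : G → ℂ) u = (ζ : G → ℂ) 1 + 3 * (n : ℂ) := by
    have h1 : ∑ u : (P : Subgroup G), ((ζ : G → ℂ) u - (n : ℂ)) = (ζ : G → ℂ) 1 - (n : ℂ) := by
      rw [Finset.sum_congr rfl (fun u _ => hval u), Finset.sum_ite_eq']
      simp
    rw [Finset.sum_sub_distrib, Finset.sum_const, Finset.card_univ, ← Nat.card_eq_fintype_card,
      hcard] at h1
    simp only [nsmul_eq_mul, Nat.cast_ofNat] at h1
    linear_combination h1
  have hm' : (ζ : G → ℂ) 1 + 3 * (n : ℂ) = 4 * (m : ℂ) := by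
    have h2 : ∑ u : (P : Subgroup G), (ζ : G → ℂ) u *
        (starRingEnd ℂ) ((Cfsg.Agent.Lib.Helper25.trivIrr (P : Subgroup G) :
          ↥(P : Subgroup G) → ℂ) u) = ∑ u : (P : Subgroup G), (ζ : G → ℂ) u := by
      refine Finset.sum_congr rfl fun u _ => ?_
      rw [Cfsg.Agent.Lib.Helper25.trivIrr_apply, map_one, mul_one]
    rw [h2, hsum, hcard] at hm
    have h4 : ((4 : ℕ) : ℂ) ≠ 0 := by norm_num
    field_simp at hm
    push_cast at hm
    linear_combination hm
  rw [← hd3] at hm'
  have hint : (Cfsg.charDegree (ζ : G → ℂ) : ℤ) + 3 * n = 4 * (m : ℤ) := by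
    have : (((Cfsg.charDegree (ζ : G → ℂ) : ℤ) + 3 * n : ℤ) : ℂ) = ((4 * (m : ℤ) : ℤ) : ℂ) := by
      push_cast
      exact hm'
    exact_mod_cast this
  exact ⟨(m : ℤ) - n, by linarith⟩

end Cfsg.Agent.Lib.helper7
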