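import Mathlib
import Cfsg.Prelude.Def_Blocks
import Cfsg.Agent.Lib.helper7.Q8Cent
import Cfsg.Agent.S0942
import Cfsg.Agent.S0948

set_option autoImplicit false
set_option linter.style.haveILetI false
set_option linter.unusedSectionVars false
set_option linter.unusedVariables false

namespace Cfsg.Agent.Lib.helper7

open scoped ComplexConjugate
open Cfsg.Agent.Lib.Helper25 Cfsg.Agent.Lib.Helper24

theorem h7_mem_zpowers_order_two {K : Type*} [Group K] (z : K) (hz : orderOf z = 2) (n : K)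
    (hn : n ∈ Subgroup.zpowers z) : n = 1 ∨ n = z := by
  obtain ⟨k, rfl⟩ := Subgroup.mem_zpowers_iff.mp hn
  rw [← zpow_mod_orderOf, hz]
  rcases Int.emod_two_eq_zero_or_one k with h | h
  · left
    rw [show (k % ((2 : ℕ) : ℤ)) = 0 from h, zpow_zero]
  · right
    rw [show (k % ((2 : ℕ) : ℤ)) = 1 from h, zpow_one]

/-- Step 1 of the `C`-side of Brauer–Suzuki for `Q8`: the four characters of the principal block
with `z` in the kernel, and the vanishing of the others on elements of order divisible by 4. -/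
theorem h7_q8cent_step1 {K : Type*} [Group K] [Finite K] (M : Ideal Cfsg.AlgInt)
    (hM : Cfsg.IsPModular 2 M) (z : K) (hz : orderOf z = 2) (hzc : z ∈ Subgroup.center K)
    [hn : (Subgroup.zpowers z).Normal]
    (hk1 : ∀ u : K, orderOf u = 4 → u * u = z)
    (hk3 : ∀ x : K, 4 ∣ orderOf x → ∃ u w : K, x = u * w ∧ orderOf u = 4 ∧
      w ∈ Cfsg.centralizerPPrimeCore 2 u)
    (hk4 : ∃ Q : Sylow 2 (K ⧸ Subgroup.zpowers z),
      IsKleinFour ↥(Q : Subgroup (K ⧸ Subgroup.zpowers z)) ∧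
      ∀ s t : K ⧸ Subgroup.zpowers z, orderOf s = 2 → orderOf t = 2 → IsConj s t)
    (h4 : ∀ u v : K, orderOf u = 4 → orderOf v = 4 → IsConj u v) :
    ∃ ψ₂ ψ₃ ψ₄ : Cfsg.IrrCharacter K, ∃ ε : ℤ, (ε = 1 ∨ ε = -1) ∧
      [trivIrr K, ψ₂, ψ₃, ψ₄].Nodup ∧
      ψ₂ ∈ Cfsg.principalBlock M K ∧ ψ₃ ∈ Cfsg.principalBlock M K ∧
      ψ₄ ∈ Cfsg.principalBlock M K ∧
      (∀ χ : Cfsg.IrrCharacter K, χ ∈ Cfsg.principalBlock M K →
        (χ : K → ℂ) z = (χ : K → ℂ) 1 → χ ∈ [trivIrr K, ψ₂, ψ₃, ψ₄]) ∧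
      (∀ x : K, (ψ₂ : K → ℂ) (z * x) = (ψ₂ : K → ℂ) x) ∧
      (∀ x : K, (ψ₃ : K → ℂ) (z * x) = (ψ₃ : K → ℂ) x) ∧
      (∀ x : K, (ψ₄ : K → ℂ) (z * x) = (ψ₄ : K → ℂ) x) ∧
      (∀ x : K, 4 ∣ orderOf x → (ψ₂ : K → ℂ) x = 1 ∧ (ψ₃ : K → ℂ) x = (ε : ℂ) ∧
        (ψ₄ : K → ℂ) x = -1) ∧
      (∀ y : K, Odd (orderOf y) →
        1 + (ψ₂ : K → ℂ) y + (ε : ℂ) * (ψ₃ : K → ℂ) y - (ψ₄ : K → ℂ) y = 0) ∧
      (∀ χ : Cfsg.IrrCharacter K, χ ∈ Cfsg.principalBlock M K →
        (χ : K → ℂ) z = -(χ : K → ℂ) 1 → ∀ x : K, 4 ∣ orderOf x → (χ : K → ℂ) x = 0) := by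
  classical
  haveI : Fact (Nat.Prime 2) := ⟨Nat.prime_two⟩
  have hPr := hM.2.1.isPrime
  have hzz : z * z = 1 := by
    rw [← pow_two, ← hz, pow_orderOf_eq_one]
  obtain ⟨Q, hQ, hone⟩ := hk4
  obtain ⟨ζ₂, ζ₃, ζ₄, ε, hε, hζ₂1, hζ₃1, h23, h24, h34, hblock, hval, -, -, -, hrel⟩ :=
    Cfsg.Agent.S0948.result M hM Q hQ hone
  have hP : IsPGroup 2 (Subgroup.zpowers z) := by
    apply IsPGroup.of_card (n := 1)
    rw [Nat.card_zpowers, hz, pow_one]
  have hC : ∃ k : ℕ, (Subgroup.centralizer ((Subgroup.zpowers z : Subgroup K) : Set K)).index =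
      2 ^ k := by
    refine ⟨0, ?_⟩
    have : Subgroup.centralizer ((Subgroup.zpowers z : Subgroup K) : Set K) = ⊤ := by
      rw [Subgroup.centralizer_eq_top_iff_subset]
      intro n hn
      rcases h7_mem_zpowers_order_two z hz n hn with rfl | rfl
      · exact Subgroup.one_mem _
      · exact hzc
    rw [this, Subgroup.index_top, pow_zero]
  obtain ⟨hL3a, hL3b⟩ := h7_principal_inflation 2 M hM (Subgroup.zpowers z) hP hC
  -- membership of the ζ's in the principal block of the quotient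
  have hmemq : ∀ χ' : Cfsg.IrrCharacter (K ⧸ Subgroup.zpowers z),
      χ' ∈ Cfsg.principalBlock M (K ⧸ Subgroup.zpowers z) ↔
        ((χ' : K ⧸ Subgroup.zpowers z → ℂ) = (fun _ => 1) ∨ χ' = ζ₂ ∨ χ' = ζ₃ ∨ χ' = ζ₄) := by
    intro χ'
    rw [hblock]
    rfl
  -- an involution of the quotient
  obtain ⟨t, ht⟩ : ∃ t : K ⧸ Subgroup.zpowers z, orderOf t = 2 := by
    apply exists_prime_orderOf_dvd_card' 2
    have h1 : Nat.card (Q : Subgroup (K ⧸ Subgroup.zpowers z)) ∣
        Nat.card (K ⧸ Subgroup.zpowers z) := Subgroup.card_subgroup_dvd_card _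
    rw [hQ.card_four] at h1
    exact Dvd.dvd.trans (by norm_num) h1
  have hζ₄1 : (ζ₄ : K ⧸ Subgroup.zpowers z → ℂ) ≠ (fun _ => 1) := by
    intro h
    have := (hval t ht).2.2
    rw [h] at this
    norm_num at this
  have htriv : ∀ ζ : Cfsg.IrrCharacter (K ⧸ Subgroup.zpowers z),
      (ζ : K ⧸ Subgroup.zpowers z → ℂ) ≠ (fun _ => 1) →
      trivIrr K ≠ qh_infl (Subgroup.zpowers z) ζ := by
    intro ζ hζ h
    apply hζ
    funext y
    obtain ⟨g, rfl⟩ := QuotientGroup.mk_surjective y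
    have := congrArg (fun χ : Cfsg.IrrCharacter K => (χ : K → ℂ) g) h
    simp only [trivIrr_apply, qh_infl_apply] at this
    exact this.symm
  have hinj := qh_infl_injective (Subgroup.zpowers z)
  have hzmem : z ∈ Subgroup.zpowers z := Subgroup.mem_zpowers z
  have hshift : ∀ (ζ : Cfsg.IrrCharacter (K ⧸ Subgroup.zpowers z)) (x : K),
      (qh_infl (Subgroup.zpowers z) ζ : K → ℂ) (z * x) =
        (qh_infl (Subgroup.zpowers z) ζ : K → ℂ) x := by
    intro ζ x
    rw [qh_infl_apply, qh_infl_apply, QuotientGroup.mk_mul,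
      (QuotientGroup.eq_one_iff z).mpr hzmem, one_mul]
  have hζmem : ∀ ζ : Cfsg.IrrCharacter (K ⧸ Subgroup.zpowers z),
      (ζ = ζ₂ ∨ ζ = ζ₃ ∨ ζ = ζ₄) →
      qh_infl (Subgroup.zpowers z) ζ ∈ Cfsg.principalBlock M K := by
    intro ζ h
    rw [← hL3a, hmemq]
    exact Or.inr h
  -- order-4 elements map to involutions
  have hinvol : ∀ u : K, orderOf u = 4 →
      orderOf (QuotientGroup.mk u : K ⧸ Subgroup.zpowers z) = 2 := by
    intro u hu
    apply orderOf_eq_prime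
    · rw [pow_two, ← QuotientGroup.mk_mul, hk1 u hu]
      exact (QuotientGroup.eq_one_iff z).mpr hzmem
    · intro h
      have hmem := (QuotientGroup.eq_one_iff u).mp h
      rcases h7_mem_zpowers_order_two z hz u hmem with rfl | rfl
      · rw [orderOf_one] at hu
        norm_num at hu
      · rw [hz] at hu
        norm_num at hu
  have h2pow : ∀ u : K, orderOf u = 4 → ∃ k : ℕ, orderOf u = 2 ^ k := by
    intro u hu
    exact ⟨2, by rw [hu]; norm_num⟩
  refine ⟨qh_infl (Subgroup.zpowers z) ζ₂, qh_infl (Subgroup.zpowers z) ζ₃,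
    qh_infl (Subgroup.zpowers z) ζ₄, ε, hε, ?_, hζmem ζ₂ (Or.inl rfl),
    hζmem ζ₃ (Or.inr (Or.inl rfl)), hζmem ζ₄ (Or.inr (Or.inr rfl)), ?_, hshift ζ₂, hshift ζ₃,
    hshift ζ₄, ?_, ?_, ?_⟩
  · -- nodup
    simp only [List.nodup_cons, List.mem_cons, List.not_mem_nil, or_false, not_or,
      List.nodup_nil, and_true]
    refine ⟨⟨htriv ζ₂ hζ₂1, htriv ζ₃ hζ₃1, htriv ζ₄ hζ₄1⟩, ⟨fun h => h23 (hinj h),
      fun h => h24 (hinj h)⟩, fun h => h34 (hinj h), not_false⟩
  · -- characters of the principal block with `z` in the kernel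
    intro χ hχ hχz
    have hker : ∀ n ∈ Subgroup.zpowers z, (χ : K → ℂ) n = (χ : K → ℂ) 1 := by
      intro n hn
      rcases h7_mem_zpowers_order_two z hz n hn with rfl | rfl
      · rfl
      · exact hχz
    obtain ⟨χ', hχ', rfl⟩ := hL3b χ hχ hker
    rw [hmemq] at hχ'
    simp only [List.mem_cons, List.not_mem_nil, or_false]
    rcases hχ' with h | h | h | h
    · left
      apply Subtype.ext
      funext g
      rw [qh_infl_apply, h]
      rfl
    · right; left; rw [h]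
    · right; right; left; rw [h]
    · right; right; right; rw [h]
  · -- values on elements of order divisible by 4
    intro x hx
    obtain ⟨u, w, rfl, hu, hw⟩ := hk3 x hx
    have hv := hval _ (hinvol u hu)
    refine ⟨?_, ?_, ?_⟩
    · rw [Cfsg.Agent.S0942.result 2 M hM u (h2pow u hu) w hw _ (hζmem ζ₂ (Or.inl rfl)),
        qh_infl_apply]
      exact hv.1
    · rw [Cfsg.Agent.S0942.result 2 M hM u (h2pow u hu) w hw _
        (hζmem ζ₃ (Or.inr (Or.inl rfl))), qh_infl_apply]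
      exact hv.2.1
    · rw [Cfsg.Agent.S0942.result 2 M hM u (h2pow u hu) w hw _
        (hζmem ζ₄ (Or.inr (Or.inr rfl))), qh_infl_apply]
      exact hv.2.2
  · -- relation on odd-order elements
    intro y hy
    simp only [qh_infl_apply]
    apply hrel
    have hdvd : orderOf (QuotientGroup.mk y : K ⧸ Subgroup.zpowers z) ∣ orderOf y := by
      apply orderOf_dvd_of_pow_eq_one
      rw [← QuotientGroup.mk_pow, pow_orderOf_eq_one]
      rfl
    exact Odd.of_dvd_nat hy hdvd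
  · -- vanishing of the faithful characters
    intro χ hχ hχz x hx
    obtain ⟨u, w, rfl, hu, hw⟩ := hk3 x hx
    rw [Cfsg.Agent.S0942.result 2 M hM u (h2pow u hu) w hw χ hχ]
    obtain ⟨c, hc, hcx⟩ := h7_central_invol_sign χ z hzc hzz
    have hc1 : c = -1 := by
      have h1 := hcx 1
      rw [mul_one, hχz] at h1
      have h2 : (c + 1) * (χ : K → ℂ) 1 = 0 := by
        linear_combination -h1
      rcases mul_eq_zero.mp h2 with h | h
      · exact eq_neg_of_add_eq_zero_left h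
      · exact absurd h (irr_one_ne_zero χ)
    have huinv : u⁻¹ = z * u := by
      apply inv_eq_of_mul_eq_one_right
      have : u * (z * u) = z * (u * u) := by
        rw [← mul_assoc, (Subgroup.mem_center_iff.mp hzc u), mul_assoc]
      rw [this, hk1 u hu, hzz]
    have hconj : IsConj u u⁻¹ := h4 u u⁻¹ hu (by rw [orderOf_inv]; exact hu)
    have h1 : (χ : K → ℂ) u = (χ : K → ℂ) u⁻¹ := irr_isConj_eq χ hconj
    rw [huinv, hcx, hc1] at h1
    have h2 : (2 : ℂ) * (χ : K → ℂ) u = 0 := by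
      linear_combination h1
    rcases mul_eq_zero.mp h2 with h | h
    · norm_num at h
    · exact h

end Cfsg.Agent.Lib.helper7
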