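import Mathlib
import Cfsg.Prelude.Def_Blocks
import Cfsg.Agent.Lib.helper7.Q8Cent2
import Cfsg.Agent.S0961
import Cfsg.Agent.Lib.Helper11.VirtChar

set_option autoImplicit false
set_option linter.style.haveILetI false
set_option linter.unusedSectionVars false
set_option linter.unusedVariables false

namespace Cfsg.Agent.Lib.helper7

open scoped ComplexConjugate
open Cfsg.Agent.Lib.Helper25 Cfsg.Agent.Lib.Helper24

/-- Integrality: `p ^ a` times the inner product of `ψ · 1_{p-regular}` with an irreducible
character is a rational integer (`p ^ a` the `p`-part of the group order). -/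
theorem h7_pregular_inner_int {G : Type*} [Group G] [Fintype G] (p : ℕ) [hp : Fact p.Prime]
    (ψ χ : Cfsg.IrrCharacter G) :
    ∃ n : ℤ, ((p ^ (Nat.card G).factorization p : ℕ) : ℂ) *
      Cfsg.classInner (fun x : G => if p ∣ orderOf x then 0 else (ψ : G → ℂ) x) (χ : G → ℂ) =
        (n : ℂ) := by
  obtain ⟨n, hn⟩ := Cfsg.Agent.Lib.Helper11.genChar_inner_int _
    (Cfsg.Agent.S0961.result p ψ) χ
  refine ⟨n, ?_⟩
  rw [← hn]
  unfold Cfsg.classInner
  rw [mul_left_comm, Finset.mul_sum]
  congr 1
  refine Finset.sum_congr rfl fun x _ => ?_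
  show _ * ((if p ∣ orderOf x then 0 else (ψ : G → ℂ) x) * _) =
    (if p ∣ orderOf x then 0 else _ * (ψ : G → ℂ) x) * _
  split_ifs <;> ring

end Cfsg.Agent.Lib.helper7
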