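import Mathlib
import Cfsg.Prelude.Def_GeometricClasses
import Cfsg.Agent.Lib.Helper27.ASC.Defs
import Cfsg.Agent.Lib.helper23.ASCO.Defs
import Cfsg.Agent.Lib.Lead.Reindex

set_option autoImplicit false
set_option linter.unusedVariables false
set_option linter.unusedSectionVars false

namespace Cfsg.Agent.Lib.helper23.ASCO

open Cfsg Cfsg.Geo Cfsg.Agent.Lib.Helper27.ASC
open scoped MatrixGroups Matrix

variable {n : ℕ} {F : Type*} [Field F] [Fintype F]

/-- A generator of the multiplicative group of a finite field, with natural exponents. -/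
theorem ascoh90_gen : ∃ g : Fˣ, (∀ x : Fˣ, ∃ k : ℕ, g ^ k = x) ∧
    orderOf g = Fintype.card F - 1 := by
  classical
  obtain ⟨g, hg⟩ := IsCyclic.exists_monoid_generator (α := Fˣ)
  refine ⟨g, fun x => ?_, ?_⟩
  · obtain ⟨k, hk⟩ := (Submonoid.mem_powers_iff x g).mp (hg x)
    exact ⟨k, hk⟩
  · rw [orderOf_eq_card_of_forall_mem_powers hg, Nat.card_eq_fintype_card, Fintype.card_units]

/-- The geometric sum identity in `ℕ`. -/
theorem ascoh90_geom (q ℓ : ℕ) (hq : 1 ≤ q) :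
    (∑ i ∈ Finset.range ℓ, q ^ i) * (q - 1) = q ^ ℓ - 1 := by
  have h := geom_sum_mul (q : ℤ) ℓ
  have h1 : 1 ≤ q ^ ℓ := Nat.one_le_pow _ _ hq
  zify [hq, h1]
  exact h

/-- The geometric sum is positive when there is a term. -/
theorem ascoh90_geom_pos (q ℓ : ℕ) (hq : 1 ≤ q) (hℓ : ℓ ≠ 0) :
    0 < ∑ i ∈ Finset.range ℓ, q ^ i := by
  have h := Finset.single_le_sum (f := fun i => q ^ i) (s := Finset.range ℓ)
    (fun i _ => Nat.zero_le _) (Finset.mem_range.mpr (Nat.pos_of_ne_zero hℓ))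
  simp only [pow_zero] at h
  omega

/-- H90 (second copy; the piece `hilbert90_subfield` itself is `Cfsg.Agent.Lib.Helper16.ASCOH90`, this one
has a fresh name so that both files can be imported together) : Hilbert 90 for an extension of finite
fields `F / F₁` of degree `ℓ`. -/
theorem ascoh90_hilbert90_alt (F₁ : Subfield F) (ℓ : ℕ) (hcard : Fintype.card F = Nat.card F₁ ^ ℓ)
    (c : F) (hc : c ≠ 0) (hN : ∏ i ∈ Finset.range ℓ, c ^ (Nat.card F₁ ^ i) = 1) :
    ∃ μ : F, μ ≠ 0 ∧ μ ^ Nat.card F₁ * c = μ := by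
  classical
  set q := Nat.card F₁ with hq
  have hq1 : 1 < q := by
    rw [hq, Nat.card_eq_fintype_card]; exact Fintype.one_lt_card
  have hF1 : 1 < Fintype.card F := Fintype.one_lt_card
  have hℓ : ℓ ≠ 0 := by
    rintro rfl
    rw [pow_zero] at hcard
    omega
  obtain ⟨g, hgen, hord⟩ := ascoh90_gen (F := F)
  set N := ∑ i ∈ Finset.range ℓ, q ^ i with hNdef
  have hNq : N * (q - 1) = q ^ ℓ - 1 := ascoh90_geom q ℓ hq1.le
  have hNpos : 0 < N := ascoh90_geom_pos q ℓ hq1.le hℓ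
  obtain ⟨k, hk⟩ := hgen (Units.mk0 c hc)
  have hcN : (Units.mk0 c hc) ^ N = 1 := by
    ext
    rw [Units.val_pow_eq_pow_val, Units.val_mk0, Units.val_one, ← hN, hNdef,
      Finset.prod_pow_eq_pow_sum]
  rw [← hk, ← pow_mul] at hcN
  have hdvd : orderOf g ∣ k * N := orderOf_dvd_of_pow_eq_one hcN
  rw [hord, hcard, ← hNq, mul_comm k N] at hdvd
  have hdvd' : (q - 1) ∣ k := (Nat.mul_dvd_mul_iff_left hNpos).mp hdvd
  obtain ⟨m, hm⟩ := hdvd'
  refine ⟨((g ^ m)⁻¹ : Fˣ), Units.ne_zero _, ?_⟩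
  have hunit : ((g ^ m)⁻¹ : Fˣ) ^ q * Units.mk0 c hc = (g ^ m)⁻¹ := by
    obtain ⟨r, hr⟩ : ∃ r, q = r + 1 := ⟨q - 1, by omega⟩
    have hr' : q - 1 = r := by omega
    rw [← hk, hm, hr', hr]
    have h1 : ((g ^ m)⁻¹ : Fˣ) ^ r * g ^ (r * m) = 1 := by
      rw [inv_pow, ← pow_mul, mul_comm m r, inv_mul_cancel]
    rw [pow_succ', mul_assoc, h1, mul_one]
  have := congrArg (fun u : Fˣ => (u : F)) hunit
  simpa using this

end Cfsg.Agent.Lib.helper23.ASCO
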