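import Mathlib
import Cfsg.Prelude.Def_GeometricClasses
import Cfsg.Agent.Lib.Helper27.ASC.Defs
import Cfsg.Agent.Lib.helper23.ASCO.Defs
import Cfsg.Agent.Lib.Lead.Reindex
import Cfsg.Agent.Lib.helper4.ASCSUBF1
import Cfsg.Agent.Lib.helper7.ASCOH90

set_option autoImplicit false
set_option linter.unusedVariables false
set_option linter.unusedSectionVars false

namespace Cfsg.Agent.Lib.helper23.ASCO

open Cfsg Cfsg.Geo Cfsg.Agent.Lib.Helper27.ASC
open scoped MatrixGroups Matrix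

variable {n : ℕ} {F : Type*} [Field F] [Fintype F]

/-- A sum of an odd number of powers of an odd number is odd. -/
theorem ascosq_geom_odd (q ℓ : ℕ) (hq : Odd q) (hℓ : Odd ℓ) :
    Odd (∑ i ∈ Finset.range ℓ, q ^ i) := by
  have key : ∀ m : ℕ, (∑ i ∈ Finset.range m, q ^ i) % 2 = m % 2 := by
    intro m
    induction m with
    | zero => simp
    | succ m ih =>
      rw [Finset.sum_range_succ, Nat.add_mod, ih]
      have h1 : q ^ m % 2 = 1 := Nat.odd_iff.mp (hq.pow)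
      rw [h1]
      omega
  rw [Nat.odd_iff, key ℓ]
  exact Nat.odd_iff.mp hℓ

/-- SQ1 : for a subfield of odd index every element of `F` is a square times an element of the subfield. -/
theorem square_class_odd (hF : Odd (Fintype.card F)) (F₁ : Subfield F) (ℓ : ℕ) (hℓ : Odd ℓ)
    (hcard : Fintype.card F = Nat.card F₁ ^ ℓ) (μ : F) (hμ : μ ≠ 0) :
    ∃ ν ∈ F₁, ∃ c : F, ν ≠ 0 ∧ c ≠ 0 ∧ c ^ 2 = μ * ν := by
  classical
  set q := Nat.card F₁ with hq
  have hq1 : 1 < q := by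
    rw [hq, Nat.card_eq_fintype_card]; exact Fintype.one_lt_card
  have hℓ0 : ℓ ≠ 0 := by
    rintro rfl
    exact absurd hℓ (by decide)
  have hqodd : Odd q := by
    rw [hcard] at hF
    obtain ⟨r, hr⟩ : ∃ r, ℓ = r + 1 := ⟨ℓ - 1, by omega⟩
    rw [hr, pow_succ] at hF
    exact (Nat.odd_mul.mp hF).2
  obtain ⟨g, hgen, hord⟩ := ascoh90_gen (F := F)
  set N := ∑ i ∈ Finset.range ℓ, q ^ i with hNdef
  have hNq : N * (q - 1) = q ^ ℓ - 1 := ascoh90_geom q ℓ hq1.le
  have hNodd : Odd N := ascosq_geom_odd q ℓ hqodd hℓ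
  -- `g ^ N` lies in the subfield
  have hgN : ((g ^ N : Fˣ) : F) ∈ F₁ := by
    apply ascsubf1_mem_of_pow
    rw [← hq]
    have h1 : (g ^ N : Fˣ) ^ (q - 1) = 1 := by
      rw [← pow_mul, hNq, ← hcard, ← hord]
      exact pow_orderOf_eq_one g
    have h2 : (g ^ N : Fˣ) ^ q = g ^ N := by
      obtain ⟨r, hr⟩ : ∃ r, q = r + 1 := ⟨q - 1, by omega⟩
      have hr' : q - 1 = r := by omega
      rw [hr'] at h1
      rw [hr, pow_succ, h1, one_mul]
    have := congrArg (fun u : Fˣ => (u : F)) h2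
    simpa using this
  obtain ⟨k, hk⟩ := hgen (Units.mk0 μ hμ)
  have hμk : μ = ((g ^ k : Fˣ) : F) := by rw [hk]; rfl
  rcases Nat.even_or_odd k with hke | hko
  · obtain ⟨j, hj⟩ := hke
    refine ⟨1, F₁.one_mem, ((g ^ j : Fˣ) : F), one_ne_zero, Units.ne_zero _, ?_⟩
    rw [mul_one, hμk, hj, pow_add]
    push_cast
    ring
  · obtain ⟨j, hj⟩ := (hko.add_odd hNodd)
    refine ⟨((g ^ N : Fˣ) : F), hgN, ((g ^ j : Fˣ) : F), Units.ne_zero _, Units.ne_zero _, ?_⟩
    rw [hμk, ← Units.val_mul, ← pow_add, hj, pow_add]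
    push_cast
    ring

/-- SQ2 : every element of the subfield of index two is a square in `F`. -/
theorem square_of_mem_index_two (hF : Odd (Fintype.card F)) (F₁ : Subfield F)
    (hcard : Fintype.card F = Nat.card F₁ ^ 2) (x : F) (hx : x ∈ F₁) : ∃ c : F, c ^ 2 = x := by
  classical
  by_cases hx0 : x = 0
  · exact ⟨0, by rw [hx0]; ring⟩
  set q := Nat.card F₁ with hq
  have hq1 : 1 < q := by
    rw [hq, Nat.card_eq_fintype_card]; exact Fintype.one_lt_card
  have hqodd : Odd q := by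
    rw [hcard, pow_two] at hF
    exact (Nat.odd_mul.mp hF).2
  obtain ⟨g, hgen, hord⟩ := ascoh90_gen (F := F)
  obtain ⟨k, hk⟩ := hgen (Units.mk0 x hx0)
  have hxk : x = ((g ^ k : Fˣ) : F) := by rw [hk]; rfl
  -- `x ^ (q - 1) = 1`
  have hx1 : x ^ (q - 1) = 1 := by
    have h := FiniteField.pow_card_sub_one_eq_one (⟨x, hx⟩ : F₁) (by
      intro h0; apply hx0; exact congrArg Subtype.val h0)
    rw [hq, Nat.card_eq_fintype_card]
    have := congrArg (Subtype.val : F₁ → F) h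
    simpa using this
  have hgk : g ^ (k * (q - 1)) = 1 := by
    have h1 : ((g ^ k : Fˣ) : F) ^ (q - 1) = 1 := by rw [← hxk]; exact hx1
    rw [pow_mul]
    ext
    rw [Units.val_pow_eq_pow_val, h1, Units.val_one]
  have hdvd : orderOf g ∣ k * (q - 1) := orderOf_dvd_of_pow_eq_one hgk
  have hfac : q ^ 2 - 1 = (q + 1) * (q - 1) := by
    have := Nat.sq_sub_sq q 1
    simpa using this
  rw [hord, hcard, hfac] at hdvd
  have hdvd' : (q + 1) ∣ k := (Nat.mul_dvd_mul_iff_right (by omega : 0 < q - 1)).mp hdvd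
  have h2 : 2 ∣ q + 1 := by
    obtain ⟨r, hr⟩ := hqodd
    exact ⟨r + 1, by omega⟩
  obtain ⟨j, hj⟩ := h2.trans hdvd'
  refine ⟨((g ^ j : Fˣ) : F), ?_⟩
  rw [hxk, hj]
  push_cast
  ring

end Cfsg.Agent.Lib.helper23.ASCO
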