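import Mathlib
import Cfsg.Agent.Lib.Helper10.C3Q.Defs
import Cfsg.Agent.Lib.helper4.OTSOMEGAODD

/-!
# Project C3Q (S5977 + S5978), row NPEX: second copy `c3qnpex_h7` of `n_p_ex` (the Siegel element).  (helper7)
-/

set_option autoImplicit false
set_option linter.unusedVariables false
set_option linter.unusedSectionVars false
set_option linter.unusedSimpArgs false

namespace Cfsg.Agent.Lib.Helper10.C3Q

open Matrix Module Cfsg.Agent.Lib.Helper13.OTS

universe u

variable {F : Type u} [Field F] {ι : Type} [Fintype ι] [DecidableEq ι]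

/-- the Siegel map `v ↦ v + B(z,v) w - (B(w,v) + c B(z,v)) z` -/
noncomputable def c3qnpex_T (Q : QuadraticForm F (ι → F)) (z w : ι → F) (c : F) :
    (ι → F) →ₗ[F] (ι → F) :=
  LinearMap.id + (QuadraticMap.polarBilin Q z).smulRight w
    - ((QuadraticMap.polarBilin Q w) + c • (QuadraticMap.polarBilin Q z)).smulRight z

theorem c3qnpex_T_apply (Q : QuadraticForm F (ι → F)) (z w : ι → F) (c : F) (v : ι → F) :
    c3qnpex_T Q z w c v = v + QuadraticMap.polar (⇑Q) z v • w
      - (QuadraticMap.polar (⇑Q) w v + c * QuadraticMap.polar (⇑Q) z v) • z := by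
  simp [c3qnpex_T, QuadraticMap.polarBilin_apply_apply]

/-- the nilpotent part -/
noncomputable def c3qnpex_N (Q : QuadraticForm F (ι → F)) (z w : ι → F) (c : F) :
    (ι → F) →ₗ[F] (ι → F) :=
  (QuadraticMap.polarBilin Q z).smulRight w
    - ((QuadraticMap.polarBilin Q w) + c • (QuadraticMap.polarBilin Q z)).smulRight z

theorem c3qnpex_N_apply (Q : QuadraticForm F (ι → F)) (z w : ι → F) (c : F) (v : ι → F) :
    c3qnpex_N Q z w c v = QuadraticMap.polar (⇑Q) z v • w
      - (QuadraticMap.polar (⇑Q) w v + c * QuadraticMap.polar (⇑Q) z v) • z := by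
  simp [c3qnpex_N, QuadraticMap.polarBilin_apply_apply]

theorem c3qnpex_T_eq (Q : QuadraticForm F (ι → F)) (z w : ι → F) (c : F) :
    c3qnpex_T Q z w c = 1 + c3qnpex_N Q z w c := by
  unfold c3qnpex_T c3qnpex_N
  rw [Module.End.one_eq_id, add_sub_assoc]

section calcs

variable (Q : QuadraticForm F (ι → F)) (z w : ι → F)
  (hz : Q z = 0) (hzw : QuadraticMap.polar (⇑Q) z w = 0)

include hz hzw

theorem c3qnpex_pzz : QuadraticMap.polar (⇑Q) z z = 0 := by
  rw [QuadraticMap.polar_self, hz, smul_zero]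

theorem c3qnpex_pwz : QuadraticMap.polar (⇑Q) w z = 0 := by
  rw [QuadraticMap.polar_comm]; exact hzw

theorem c3qnpex_pww : QuadraticMap.polar (⇑Q) w w = 2 * Q w := by
  rw [QuadraticMap.polar_self]; simp [two_mul]

theorem c3qnpex_N_z (c : F) : c3qnpex_N Q z w c z = 0 := by
  rw [c3qnpex_N_apply, c3qnpex_pzz Q z w hz hzw, c3qnpex_pwz Q z w hz hzw]
  simp

theorem c3qnpex_pzN (c : F) (v : ι → F) :
    QuadraticMap.polar (⇑Q) z (c3qnpex_N Q z w c v) = 0 := by
  rw [c3qnpex_N_apply, QuadraticMap.polar_sub_right, QuadraticMap.polar_smul_right,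
    QuadraticMap.polar_smul_right, hzw, c3qnpex_pzz Q z w hz hzw]
  simp

theorem c3qnpex_N_sq (v : ι → F) :
    c3qnpex_N Q z w (Q w) (c3qnpex_N Q z w (Q w) v)
      = (-(2 * Q w * QuadraticMap.polar (⇑Q) z v)) • z := by
  have e1 := c3qnpex_pzN Q z w hz hzw (Q w) v
  have e2 : QuadraticMap.polar (⇑Q) w (c3qnpex_N Q z w (Q w) v)
      = 2 * Q w * QuadraticMap.polar (⇑Q) z v := by
    rw [c3qnpex_N_apply, QuadraticMap.polar_sub_right, QuadraticMap.polar_smul_right,
      QuadraticMap.polar_smul_right, c3qnpex_pwz Q z w hz hzw, c3qnpex_pww Q z w hz hzw]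
    simp only [smul_eq_mul]
    ring
  rw [c3qnpex_N_apply (v := c3qnpex_N Q z w (Q w) v), e1, e2]
  simp

theorem c3qnpex_N_cube : c3qnpex_N Q z w (Q w) ^ 3 = 0 := by
  apply LinearMap.ext
  intro v
  rw [pow_succ, pow_two, Module.End.mul_apply, Module.End.mul_apply, LinearMap.zero_apply,
    c3qnpex_N_sq Q z w hz hzw, c3qnpex_pzN Q z w hz hzw]
  simp

/-- the Siegel map is an isometry -/
theorem c3qnpex_isom (v : ι → F) : Q (c3qnpex_T Q z w (Q w) v) = Q v := by
  rw [c3qnpex_T_apply]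
  have hva : QuadraticMap.polar (⇑Q) v z = QuadraticMap.polar (⇑Q) z v := QuadraticMap.polar_comm _ _ _
  have hvb : QuadraticMap.polar (⇑Q) v w = QuadraticMap.polar (⇑Q) w v := QuadraticMap.polar_comm _ _ _
  have hwz := c3qnpex_pwz Q z w hz hzw
  generalize QuadraticMap.polar (⇑Q) z v = a at *
  generalize QuadraticMap.polar (⇑Q) w v = b at *
  rw [sub_eq_add_neg, ← neg_smul, QuadraticMap.map_add Q, QuadraticMap.map_add Q]
  simp only [QuadraticMap.map_smul, QuadraticMap.polar_add_left, QuadraticMap.polar_smul_left,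
    QuadraticMap.polar_smul_right, hz, hva, hvb, hwz, smul_eq_mul]
  ring

/-- the Siegel map of `-w` inverts the Siegel map of `w` -/
theorem c3qnpex_inv (v : ι → F) :
    c3qnpex_T Q z (-w) (Q w) (c3qnpex_T Q z w (Q w) v) = v := by
  rw [c3qnpex_T_apply Q z (-w), c3qnpex_T_apply Q z w]
  have hwz := c3qnpex_pwz Q z w hz hzw
  have hzz := c3qnpex_pzz Q z w hz hzw
  have hww := c3qnpex_pww Q z w hz hzw
  simp only [QuadraticMap.polar_add_right, QuadraticMap.polar_sub_right, QuadraticMap.polar_smul_right,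
    QuadraticMap.polar_neg_left, hzw, hwz, hzz, hww, smul_eq_mul]
  ext k
  simp only [Pi.add_apply, Pi.sub_apply, Pi.smul_apply, Pi.neg_apply, smul_eq_mul]
  ring

end calcs

theorem c3qnpex_two_ne {p : ℕ} [Fact p.Prime] [CharP F p] (hp2 : p ≠ 2) : (2 : F) ≠ 0 := by
  intro h
  have h2 : ((2 : ℕ) : F) = 0 := by exact_mod_cast h
  have hd := (CharP.cast_eq_zero_iff F p 2).mp h2
  have hp : p.Prime := Fact.out
  exact hp2 ((Nat.prime_dvd_prime_iff_eq hp Nat.prime_two).mp hd)

theorem c3qnpex_toMatrix_pow (f : (ι → F) →ₗ[F] (ι → F)) (n : ℕ) :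
    LinearMap.toMatrix' (f ^ n) = LinearMap.toMatrix' f ^ n :=
  map_pow LinearMap.toMatrixAlgEquiv' f n

theorem c3qnpex_rank_toMatrix (f : (ι → F) →ₗ[F] (ι → F)) :
    (LinearMap.toMatrix' f).rank = Module.finrank F (LinearMap.range f) := by
  unfold Matrix.rank
  rw [← Matrix.toLin'_apply', Matrix.toLin'_toMatrix']

/-- NPEX, second copy (same statement as `n_p_ex`). -/
theorem c3qnpex_h7 [Fintype F] {p : ℕ} [Fact p.Prime] [CharP F p] (hp2 : p ≠ 2) (Q : QuadraticForm F (ι → F))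
    (hQ : (QuadraticMap.polarBilin Q).Nondegenerate) (hn : 5 ≤ Fintype.card ι) (z w : ι → F)
    (hz0 : z ≠ 0) (hz : Q z = 0) (hzw : QuadraticMap.polar (⇑Q) z w = 0) (hw : Q w ≠ 0) :
    ∃ x : GL ι F, x ∈ Cfsg.Geo.omegaGL (⇑Q) ∧ x ^ p = 1 ∧
      (((x : Matrix ι ι F) - 1) * ((x : Matrix ι ι F) - 1)).rank = 1 := by
  classical
  haveI : Nonempty ι := Fintype.card_pos_iff.mp (by omega)
  have h2 : (2 : F) ≠ 0 := c3qnpex_two_ne hp2
  have hp : p.Prime := Fact.out
  have hp3 : 3 ≤ p := by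
    have := hp.two_le
    omega
  have hQn : Q (-w) = Q w := QuadraticMap.map_neg Q w
  have hzw' : QuadraticMap.polar (⇑Q) z (-w) = 0 := by
    rw [QuadraticMap.polar_neg_right, hzw, neg_zero]
  -- the two maps
  have hT'T : c3qnpex_T Q z (-w) (Q w) * c3qnpex_T Q z w (Q w) = 1 := by
    apply LinearMap.ext
    intro v
    rw [Module.End.mul_apply, Module.End.one_apply]
    exact c3qnpex_inv Q z w hz hzw v
  have hTT' : c3qnpex_T Q z w (Q w) * c3qnpex_T Q z (-w) (Q w) = 1 := by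
    apply LinearMap.ext
    intro v
    rw [Module.End.mul_apply, Module.End.one_apply]
    have := c3qnpex_inv Q z (-w) hz hzw' v
    rw [neg_neg, hQn] at this
    exact this
  have hX1 : LinearMap.toMatrix' (c3qnpex_T Q z w (Q w)) * LinearMap.toMatrix' (c3qnpex_T Q z (-w) (Q w)) = 1 := by
    rw [← LinearMap.toMatrix'_mul, hTT', LinearMap.toMatrix'_one]
  have hX2 : LinearMap.toMatrix' (c3qnpex_T Q z (-w) (Q w)) * LinearMap.toMatrix' (c3qnpex_T Q z w (Q w)) = 1 := by
    rw [← LinearMap.toMatrix'_mul, hT'T, LinearMap.toMatrix'_one]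
  let x : GL ι F := ⟨LinearMap.toMatrix' (c3qnpex_T Q z w (Q w)),
    LinearMap.toMatrix' (c3qnpex_T Q z (-w) (Q w)), hX1, hX2⟩
  have hxval : (x : Matrix ι ι F) = LinearMap.toMatrix' (c3qnpex_T Q z w (Q w)) := rfl
  have hxN : (x : Matrix ι ι F) - 1 = LinearMap.toMatrix' (c3qnpex_N Q z w (Q w)) := by
    rw [hxval, c3qnpex_T_eq, map_add, LinearMap.toMatrix'_one, add_sub_cancel_left]
  -- x ^ p = 1
  have hNp : c3qnpex_N Q z w (Q w) ^ p = 0 := by
    have : p = 3 + (p - 3) := by omega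
    rw [this, pow_add, c3qnpex_N_cube Q z w hz hzw, zero_mul]
  have hxp : x ^ p = 1 := by
    apply Units.ext
    rw [Units.val_pow_eq_pow_val, Units.val_one, hxval, c3qnpex_T_eq, map_add, LinearMap.toMatrix'_one,
      add_pow_char_of_commute _ (Commute.one_left _), one_pow, ← c3qnpex_toMatrix_pow, hNp, map_zero,
      add_zero]
  -- isometry
  have hxiso : x ∈ Cfsg.isometryGroup F (⇑Q) := by
    intro u v
    show Q ((x : Matrix ι ι F) *ᵥ u) = Q u
    rw [hxval, LinearMap.toMatrix'_mulVec]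
    exact c3qnpex_isom Q z w hz hzw u
  refine ⟨x, ?_, hxp, ?_⟩
  · exact q_omega_of_odd Q hQ hn x hxiso p (hp.odd_of_ne_two hp2) hxp
  · rw [hxN, ← LinearMap.toMatrix'_mul, c3qnpex_rank_toMatrix]
    have hrange : LinearMap.range (c3qnpex_N Q z w (Q w) * c3qnpex_N Q z w (Q w)) = Submodule.span F {z} := by
      apply le_antisymm
      · rintro _ ⟨v, rfl⟩
        rw [Module.End.mul_apply, c3qnpex_N_sq Q z w hz hzw]
        exact Submodule.smul_mem _ _ (Submodule.mem_span_singleton_self z)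
      · rw [Submodule.span_singleton_le_iff_mem]
        -- some `v0` with `B(z, v0) ≠ 0`
        have hex : ∃ v0, QuadraticMap.polar (⇑Q) z v0 ≠ 0 := by
          by_contra hcon
          push_neg at hcon
          apply hz0
          apply hQ.1
          intro v
          rw [QuadraticMap.polarBilin_apply_apply]
          exact hcon v
        obtain ⟨v0, hv0⟩ := hex
        have hne : -(2 * Q w * QuadraticMap.polar (⇑Q) z v0) ≠ 0 :=
          neg_ne_zero.mpr (mul_ne_zero (mul_ne_zero h2 hw) hv0)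
        refine ⟨(-(2 * Q w * QuadraticMap.polar (⇑Q) z v0))⁻¹ • v0, ?_⟩
        rw [map_smul, Module.End.mul_apply, c3qnpex_N_sq Q z w hz hzw, smul_smul, inv_mul_cancel₀ hne,
          one_smul]
    rw [hrange, finrank_span_singleton hz0]

end Cfsg.Agent.Lib.Helper10.C3Q
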