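import Mathlib

/-!
# Project S5975 (C3E), row ARITH (helper7): `c3e_arith`.
-/

set_option autoImplicit false

namespace Cfsg.Agent.Lib.Helper10.C3E

/-- the factors `q^(2i) - 1`, `k ∣ i`, of `|Sp_{2kn'}(q)|` are the factors of `|Sp_{2n'}(q^k)|`. -/
theorem c3earith_prod_dvd (q k n' : ℕ) (hk : 0 < k) :
    ∏ i ∈ (Finset.range (k * n')).filter (fun i => k ∣ i + 1), (q ^ (2 * (i + 1)) - 1) =
      ∏ j ∈ Finset.range n', ((q ^ k) ^ (2 * (j + 1)) - 1) := by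
  symm
  apply Finset.prod_bij (fun j _ => k * (j + 1) - 1)
  · intro j hj
    rw [Finset.mem_range] at hj
    rw [Finset.mem_filter, Finset.mem_range]
    have h1 : 1 ≤ k * (j + 1) := Nat.mul_pos hk (Nat.succ_pos j)
    have h2 : k * (j + 1) ≤ k * n' := Nat.mul_le_mul_left k hj
    refine ⟨by omega, ?_⟩
    rw [Nat.sub_add_cancel h1]
    exact dvd_mul_right k (j + 1)
  · intro j hj j' hj' hjj
    have h1 : 1 ≤ k * (j + 1) := Nat.mul_pos hk (Nat.succ_pos j)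
    have h1' : 1 ≤ k * (j' + 1) := Nat.mul_pos hk (Nat.succ_pos j')
    have h2 : k * (j + 1) = k * (j' + 1) := by omega
    have h3 := Nat.eq_of_mul_eq_mul_left hk h2
    omega
  · intro i hi
    rw [Finset.mem_filter, Finset.mem_range] at hi
    obtain ⟨hi1, c, hc⟩ := hi
    have hc1 : 1 ≤ c := by
      rcases Nat.eq_zero_or_pos c with h | h
      · rw [h, mul_zero] at hc; omega
      · exact h
    have hcn : c ≤ n' := by
      by_contra hcon
      have : k * (n' + 1) ≤ k * c := Nat.mul_le_mul_left k (by omega)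
      have h4 : k * (n' + 1) = k * n' + k := by ring
      omega
    refine ⟨c - 1, Finset.mem_range.2 (by omega), ?_⟩
    show k * (c - 1 + 1) - 1 = i
    rw [Nat.sub_add_cancel hc1, ← hc]
    omega
  · intro j hj
    have h1 : 1 ≤ k * (j + 1) := Nat.mul_pos hk (Nat.succ_pos j)
    show (q ^ k) ^ (2 * (j + 1)) - 1 = q ^ (2 * (k * (j + 1) - 1 + 1)) - 1
    rw [Nat.sub_add_cancel h1, ← pow_mul]
    congr 2
    ring

theorem c3e_arith (q k n' r h : ℕ) (hr : r.Prime) (hk : k.Prime) (hq : 2 ≤ q) (hrq : ¬ r ∣ q)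
    (hC : (q ^ k) ^ (n' ^ 2) * ∏ j ∈ Finset.range n', ((q ^ k) ^ (2 * (j + 1)) - 1) ∣ h)
    (hS : h ∣ q ^ ((k * n') ^ 2) * ∏ i ∈ Finset.range (k * n'), (q ^ (2 * (i + 1)) - 1))
    (hΩ : r ∣ (q ^ ((k * n') ^ 2) * ∏ i ∈ Finset.range (k * n'), (q ^ (2 * (i + 1)) - 1)) / h) :
    ∃ i, 1 ≤ i ∧ i ≤ k * n' ∧ ¬ k ∣ i ∧ r ∣ q ^ (2 * i) - 1 := by
  classical
  have hfac : ∀ e : ℕ, 0 < q ^ (2 * (e + 1)) - 1 := by
    intro e
    have : 2 ^ (2 * (e + 1)) ≤ q ^ (2 * (e + 1)) := Nat.pow_le_pow_left hq _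
    have h2 : 2 ≤ 2 ^ (2 * (e + 1)) := by
      calc 2 = 2 ^ 1 := (pow_one 2).symm
        _ ≤ 2 ^ (2 * (e + 1)) := Nat.pow_le_pow_right (by norm_num) (by omega)
    omega
  have hqpos : 0 < q := by omega
  have hPpos : 0 < ∏ i ∈ Finset.range (k * n'), (q ^ (2 * (i + 1)) - 1) :=
    Finset.prod_pos (fun i _ => hfac i)
  have hSpos : 0 < q ^ ((k * n') ^ 2) * ∏ i ∈ Finset.range (k * n'), (q ^ (2 * (i + 1)) - 1) :=
    Nat.mul_pos (pow_pos hqpos _) hPpos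
  obtain ⟨t, ht⟩ := hC
  obtain ⟨m, hm⟩ := hS
  have hhpos : 0 < h := by
    rcases Nat.eq_zero_or_pos h with h0 | h0
    · rw [h0, zero_mul] at hm; omega
    · exact h0
  have hdiv : (q ^ ((k * n') ^ 2) * ∏ i ∈ Finset.range (k * n'), (q ^ (2 * (i + 1)) - 1)) / h = m := by
    rw [hm]; exact Nat.mul_div_cancel_left m hhpos
  rw [hdiv] at hΩ
  have hsplit := Finset.prod_filter_mul_prod_filter_not (Finset.range (k * n')) (fun i => k ∣ i + 1)
    (fun i => q ^ (2 * (i + 1)) - 1)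
  rw [c3earith_prod_dvd q k n' hk.pos] at hsplit
  have hPCpos : 0 < ∏ j ∈ Finset.range n', ((q ^ k) ^ (2 * (j + 1)) - 1) := by
    rw [← c3earith_prod_dvd q k n' hk.pos]
    exact Finset.prod_pos (fun i _ => hfac i)
  -- cancel
  have hkey : q ^ ((k * n') ^ 2) * ∏ i ∈ (Finset.range (k * n')).filter (fun i => ¬ k ∣ i + 1),
      (q ^ (2 * (i + 1)) - 1) = (q ^ k) ^ (n' ^ 2) * t * m := by
    apply Nat.eq_of_mul_eq_mul_left hPCpos
    have e1 : (∏ j ∈ Finset.range n', ((q ^ k) ^ (2 * (j + 1)) - 1)) *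
        (q ^ ((k * n') ^ 2) * ∏ i ∈ (Finset.range (k * n')).filter (fun i => ¬ k ∣ i + 1),
          (q ^ (2 * (i + 1)) - 1)) =
        q ^ ((k * n') ^ 2) * ∏ i ∈ Finset.range (k * n'), (q ^ (2 * (i + 1)) - 1) := by
      rw [← hsplit]; ring
    rw [e1, hm, ht]; ring
  have hrdvd : r ∣ q ^ ((k * n') ^ 2) * ∏ i ∈ (Finset.range (k * n')).filter (fun i => ¬ k ∣ i + 1),
      (q ^ (2 * (i + 1)) - 1) := by
    rw [hkey]; exact Dvd.dvd.mul_left hΩ _
  rcases (Nat.Prime.dvd_mul hr).1 hrdvd with h1 | h1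
  · exact absurd (hr.dvd_of_dvd_pow h1) hrq
  · obtain ⟨i, hi, hri⟩ := (Prime.dvd_finsetProd_iff (Nat.prime_iff.1 hr) _).1 h1
    rw [Finset.mem_filter, Finset.mem_range] at hi
    exact ⟨i + 1, by omega, by omega, hi.2, hri⟩

end Cfsg.Agent.Lib.Helper10.C3E
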