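import Cfsg.Agent.Lib.helper7.C3EDERRcore
import Cfsg.Agent.Lib.Helper22.C3EORDS
import Cfsg.Agent.Lib.Helper22.C3ECASES
import Cfsg.Agent.Lib.Helper22.C3ESEMI
import Cfsg.Agent.Lib.helper15.C3ERNG
import Cfsg.Agent.Lib.helper4.C3ECOUNT

/-!
# Project S5975 (C3E), row DERR (helper7): `c3e_der_odd`, verbatim.
-/

set_option autoImplicit false

namespace Cfsg.Agent.Lib.Helper10.C3E

open Module Cfsg.Agent.Lib.helper8.C3S

variable {F K V : Type*} [Field F] [Field K] [Algebra F K] [AddCommGroup V] [Module F V] [Module K V]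
  [IsScalarTower F K V]

/-- DERR : see the PLAN. -/
theorem c3e_der_odd [Fintype F] [Finite K] [FiniteDimensional F K] [FiniteDimensional K V] [FiniteDimensional F V]
    (B : V →ₗ[K] V →ₗ[K] K) (hB0 : ∀ x, B x x = 0)
    (hfn : ∀ x : V, (∀ y : V, Algebra.trace F K (B x y) = 0) → x = 0)
    {r : ℕ} [Fact r.Prime] (hr2 : r ≠ 2) (hrF : (r : F) ≠ 0) (hrq : ¬ r ∣ Fintype.card F) (hk : (finrank F K).Prime)
    {d i : ℕ} (hV : finrank F V = 2 * d) (hd : 1 ≤ d) (hkd : finrank F K ∣ d) (hi : ¬ finrank F K ∣ i)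
    (hri : r ∣ Fintype.card F ^ (2 * i) - 1)
    (g : V ≃ₗ[F] V) (hg : g ∈ Spf F B) (hN : Nrm K g) (hgr : g ^ r = 1) (hg1 : g ≠ 1)
    (hrk : rk g 1 ≤ Nat.lcm 2 (orderOf ((Fintype.card F : ℕ) : ZMod r))) : False := by
  have hr : r.Prime := Fact.out
  have hVpos : 0 < finrank F V := by omega
  have : Nontrivial V := Module.nontrivial_of_finrank_pos (R := F) hVpos
  refine c3ederr_core (K := K) hr2 hrq hV hd hkd hi hri g hg1 hrk
    (c3e_count hrF g hgr) (c3e_nrm_cases g hN)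
    (fun hL => c3e_rng_even B hB0 hfn hrF g hg hL hgr)
    (fun σ hσ1 hσ => c3e_semi_order hr hk g σ hσ1 hσ 1 (fun x => by rw [hgr, one_smul]; rfl))
    (fun σ hσ a ha => c3e_semi_fix g σ hσ a ha 1)

end Cfsg.Agent.Lib.Helper10.C3E
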