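import Mathlib
import Cfsg.Agent.Lib.Helper10.C6P.Defs

/-!
# Project C6P (S6000), rows WSMUL, WTRANS, WZ1: scalar multiples, transport along a conjugation, `pD1`
-/

set_option autoImplicit false
set_option linter.unusedVariables false
set_option linter.unusedSectionVars false

namespace Cfsg.Agent.Lib.Helper10.C6P

open Polynomial Matrix

variable {F : Type*} [Field F]

/-- the scalar `c • 1` as an element of `GL`. -/
noncomputable def c6pwsmul_scal (c : F) (hc : c ≠ 0) : GL (Fin 4) F :=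
  ⟨c • (1 : M4 F), c⁻¹ • (1 : M4 F),
    by rw [Matrix.smul_mul, Matrix.mul_smul, Matrix.one_mul, smul_smul, mul_inv_cancel₀ hc, one_smul],
    by rw [Matrix.smul_mul, Matrix.mul_smul, Matrix.one_mul, smul_smul, inv_mul_cancel₀ hc, one_smul]⟩

theorem c6pwsmul_scal_coe (c : F) (hc : c ≠ 0) :
    ((c6pwsmul_scal c hc : GL (Fin 4) F) : M4 F) = c • (1 : M4 F) := rfl

theorem c6pwsmul_scal_comm (c : F) (hc : c ≠ 0) (g : GL (Fin 4) F) :
    c6pwsmul_scal c hc * g = g * c6pwsmul_scal c hc := by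
  apply Units.ext
  rw [Units.val_mul, Units.val_mul, c6pwsmul_scal_coe, Matrix.smul_mul, Matrix.mul_smul,
    Matrix.one_mul, Matrix.mul_one]

/-- WSMUL [S] : non-zero scalar multiples of normalizing matrices normalize. -/
theorem nrm_smul (R : Subgroup (GL (Fin 4) F)) (M : M4 F) (h : Nrm R M) (c : F) (hc : c ≠ 0) : Nrm R (c • M) := by
  obtain ⟨n, hn, hnN⟩ := h
  refine ⟨c6pwsmul_scal c hc * n, ?_, ?_⟩
  · rw [Units.val_mul, c6pwsmul_scal_coe, hn, Matrix.smul_mul, Matrix.one_mul]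
  · apply Subgroup.mul_mem _ _ hnN
    unfold Cfsg.Geo.subgroupNormalizer
    rw [Subgroup.mem_normalizer_iff]
    intro g
    have : c6pwsmul_scal c hc * g * (c6pwsmul_scal c hc)⁻¹ = g := by
      rw [c6pwsmul_scal_comm, mul_assoc, mul_inv_cancel, mul_one]
    rw [this]

/-- WTRANS [S-M] : transport along a conjugation. -/
theorem nrm_transport (R : Subgroup (GL (Fin 4) F)) (P : GL (Fin 4) F) (M : M4 F)
    (h : Nrm (R.map (MulAut.conj P).toMonoidHom) M) :
    Nrm R (((P⁻¹ : GL (Fin 4) F) : M4 F) * M * (P : M4 F)) := by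
  obtain ⟨n, hn, hnN⟩ := h
  refine ⟨P⁻¹ * n * P, ?_, ?_⟩
  · rw [Units.val_mul, Units.val_mul, hn]
  · unfold Cfsg.Geo.subgroupNormalizer at hnN ⊢
    rw [Subgroup.mem_normalizer_iff] at hnN ⊢
    intro g
    have hmem : ∀ k : GL (Fin 4) F, P * k * P⁻¹ ∈ R.map (MulAut.conj P).toMonoidHom ↔ k ∈ R := by
      intro k
      constructor
      · rintro ⟨k', hk', hkk'⟩
        have : k' = k := by
          have h1 : P * k' * P⁻¹ = P * k * P⁻¹ := hkk'
          have h2 := congrArg (fun t => P⁻¹ * t * P) h1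
          simp only [mul_assoc, inv_mul_cancel_left, inv_mul_cancel, mul_one] at h2
          exact h2
        rw [← this]
        exact hk'
      · intro hk
        exact ⟨k, hk, rfl⟩
    rw [← hmem g, hnN (P * g * P⁻¹), ← hmem (P⁻¹ * n * P * g * (P⁻¹ * n * P)⁻¹)]
    have : P * (P⁻¹ * n * P * g * (P⁻¹ * n * P)⁻¹) * P⁻¹ = n * (P * g * P⁻¹) * n⁻¹ := by
      group
    rw [this]

/-- `pD1` as an element of `GL`. -/
noncomputable def c6pwz1_D1 (F : Type*) [Field F] : GL (Fin 4) F :=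
  ⟨(pD1 : M4 F), (pD1 : M4 F),
    by unfold pD1; rw [Matrix.diagonal_mul_diagonal, ← Matrix.diagonal_one]; congr 1; funext k; fin_cases k <;> simp,
    by unfold pD1; rw [Matrix.diagonal_mul_diagonal, ← Matrix.diagonal_one]; congr 1; funext k; fin_cases k <;> simp⟩

/-- WZ1 [S] : `pD1` normalizes a standard `R`. -/
theorem nrm_Z1 {i : F} {R : Subgroup (GL (Fin 4) F)} (h : IsStd i R) : Nrm R (pD1 : M4 F) := by
  refine ⟨c6pwz1_D1 F, rfl, ?_⟩
  have hmem : c6pwz1_D1 F ∈ R := by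
    rw [h.2]
    refine ⟨0, 1, 0, 0, 0, ?_⟩
    show (pD1 : M4 F) = pauliM i 0 1 0 0 0
    unfold pauliM
    rw [pow_zero, pow_zero, pow_zero, pow_zero, pow_one, one_smul, mul_one, mul_one, mul_one]
  exact Subgroup.le_normalizer hmem

end Cfsg.Agent.Lib.Helper10.C6P
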