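import Mathlib
import Cfsg.Agent.Lib.Helper10.C6P.Defs

/-!
# Project C6P (S6000), rows WCZ, WUB, WUA, WY5: the explicit Clifford elements normalize a standard `R`.
Cores: the statement of WNRM (`nrm_of_gens`) for this `R` is a hypothesis `hN`.
-/

set_option autoImplicit false
set_option linter.unusedVariables false
set_option linter.unusedSectionVars false
set_option linter.unusedSimpArgs false
set_option linter.unreachableTactic false
set_option linter.unusedTactic false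

namespace Cfsg.Agent.Lib.Helper10.C6P

open Polynomial Matrix

variable {F : Type*} [Field F]

theorem c6pw_D1_eq : (pD1 : M4 F) = !![1, 0, 0, 0; 0, 1, 0, 0; 0, 0, -1, 0; 0, 0, 0, -1] := by
  ext a b
  fin_cases a <;> fin_cases b <;> simp [pD1, Matrix.diagonal_apply]

theorem c6pw_D2_eq : (pD2 : M4 F) = !![1, 0, 0, 0; 0, -1, 0, 0; 0, 0, 1, 0; 0, 0, 0, -1] := by
  ext a b
  fin_cases a <;> fin_cases b <;> simp [pD2, Matrix.diagonal_apply]

/-! ### CZ -/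

theorem c6pwcz_sq : CZ F * CZ F = 1 := by
  ext a b
  fin_cases a <;> fin_cases b <;> simp [CZ, Matrix.mul_apply, Fin.sum_univ_four]

theorem c6pwcz_D1 (i : F) : CZ F * pD1 = pauliM i 0 1 0 0 0 * CZ F := by
  unfold pauliM
  simp only [pow_zero, pow_one, one_smul, one_mul, mul_one]
  ext a b
  fin_cases a <;> fin_cases b <;>
    simp [CZ, c6pw_D1_eq, pX1, c6pw_D2_eq, pX2, Matrix.mul_apply, Fin.sum_univ_four]

theorem c6pwcz_X1 (i : F) : CZ F * pX1 = pauliM i 0 0 1 1 0 * CZ F := by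
  unfold pauliM
  simp only [pow_zero, pow_one, one_smul, one_mul, mul_one]
  ext a b
  fin_cases a <;> fin_cases b <;>
    simp [CZ, c6pw_D1_eq, pX1, c6pw_D2_eq, pX2, Matrix.mul_apply, Fin.sum_univ_four]

theorem c6pwcz_D2 (i : F) : CZ F * pD2 = pauliM i 0 0 0 1 0 * CZ F := by
  unfold pauliM
  simp only [pow_zero, pow_one, one_smul, one_mul, mul_one]
  ext a b
  fin_cases a <;> fin_cases b <;>
    simp [CZ, c6pw_D1_eq, pX1, c6pw_D2_eq, pX2, Matrix.mul_apply, Fin.sum_univ_four]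

theorem c6pwcz_X2 (i : F) : CZ F * pX2 = pauliM i 0 1 0 0 1 * CZ F := by
  unfold pauliM
  simp only [pow_zero, pow_one, one_smul, one_mul, mul_one]
  ext a b
  fin_cases a <;> fin_cases b <;>
    simp [CZ, c6pw_D1_eq, pX1, c6pw_D2_eq, pX2, Matrix.mul_apply, Fin.sum_univ_four]

/-- WCZ core. -/
theorem c6pwcz_core {i : F} {R : Subgroup (GL (Fin 4) F)}
    (hN : ∀ M Minv : M4 F, M * Minv = 1 →
      (∃ a b c d e : ℕ, M * pD1 = pauliM i a b c d e * M) →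
      (∃ a b c d e : ℕ, M * pX1 = pauliM i a b c d e * M) →
      (∃ a b c d e : ℕ, M * pD2 = pauliM i a b c d e * M) →
      (∃ a b c d e : ℕ, M * pX2 = pauliM i a b c d e * M) → Nrm R M) : Nrm R (CZ F) :=
  hN (CZ F) (CZ F) c6pwcz_sq ⟨0, 1, 0, 0, 0, c6pwcz_D1 i⟩ ⟨0, 0, 1, 1, 0, c6pwcz_X1 i⟩
    ⟨0, 0, 0, 1, 0, c6pwcz_D2 i⟩ ⟨0, 1, 0, 0, 1, c6pwcz_X2 i⟩

/-! ### UB -/

theorem c6pwub_quad (i : F) (hi : i * i = -1) :
    UB i * UB i + (2 : F) • UB i + (4 : F) • (1 : M4 F) = 0 := by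
  ext a b
  fin_cases a <;> fin_cases b <;>
    simp [UB, Matrix.mul_apply, Fin.sum_univ_four, Matrix.one_apply] <;> grind

theorem c6pwub_D1 (i : F) (hi : i * i = -1) : UB i * pD1 = pauliM i 3 1 1 0 0 * UB i := by
  unfold pauliM
  simp only [pow_zero, pow_one, one_smul, one_mul, mul_one]
  ext a b
  fin_cases a <;> fin_cases b <;>
    simp [UB, c6pw_D1_eq, pX1, c6pw_D2_eq, pX2, Matrix.mul_apply, Fin.sum_univ_four] <;> grind

theorem c6pwub_X1 (i : F) : UB i * pX1 = pauliM i 0 1 0 0 0 * UB i := by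
  unfold pauliM
  simp only [pow_zero, pow_one, one_smul, one_mul, mul_one]
  ext a b
  fin_cases a <;> fin_cases b <;>
    simp [UB, c6pw_D1_eq, pX1, c6pw_D2_eq, pX2, Matrix.mul_apply, Fin.sum_univ_four] <;> grind

theorem c6pwub_D2 (i : F) : UB i * pD2 = pauliM i 0 0 0 1 0 * UB i := by
  unfold pauliM
  simp only [pow_zero, pow_one, one_smul, one_mul, mul_one]
  ext a b
  fin_cases a <;> fin_cases b <;>
    simp [UB, c6pw_D1_eq, pX1, c6pw_D2_eq, pX2, Matrix.mul_apply, Fin.sum_univ_four] <;> grind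

theorem c6pwub_X2 (i : F) : UB i * pX2 = pauliM i 0 0 0 0 1 * UB i := by
  unfold pauliM
  simp only [pow_zero, pow_one, one_smul, one_mul, mul_one]
  ext a b
  fin_cases a <;> fin_cases b <;>
    simp [UB, c6pw_D1_eq, pX1, c6pw_D2_eq, pX2, Matrix.mul_apply, Fin.sum_univ_four] <;> grind

theorem c6pwub_inv (i : F) (hi : i * i = -1) (h2 : (2 : F) ≠ 0) :
    UB i * ((-(4 : F)⁻¹) • (UB i + (2 : F) • (1 : M4 F))) = 1 := by
  have h4 : (4 : F) ≠ 0 := by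
    have : (4 : F) = 2 * 2 := by norm_num
    rw [this]
    exact mul_ne_zero h2 h2
  have hq := c6pwub_quad i hi
  have e : UB i * UB i + (2 : F) • UB i = -((4 : F) • (1 : M4 F)) := by
    rw [eq_neg_iff_add_eq_zero]
    exact hq
  rw [Matrix.mul_smul, Matrix.mul_add, Matrix.mul_smul, Matrix.mul_one, e, smul_neg, neg_smul,
    neg_neg, smul_smul, inv_mul_cancel₀ h4, one_smul]

/-- WUB core. -/
theorem c6pwub_core {i : F} {R : Subgroup (GL (Fin 4) F)} (hi : i * i = -1) (h2 : (2 : F) ≠ 0)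
    (hN : ∀ M Minv : M4 F, M * Minv = 1 →
      (∃ a b c d e : ℕ, M * pD1 = pauliM i a b c d e * M) →
      (∃ a b c d e : ℕ, M * pX1 = pauliM i a b c d e * M) →
      (∃ a b c d e : ℕ, M * pD2 = pauliM i a b c d e * M) →
      (∃ a b c d e : ℕ, M * pX2 = pauliM i a b c d e * M) → Nrm R M) :
    Nrm R (UB i) ∧ UB i * UB i + (2 : F) • UB i + (4 : F) • (1 : M4 F) = 0 :=
  ⟨hN (UB i) _ (c6pwub_inv i hi h2) ⟨3, 1, 1, 0, 0, c6pwub_D1 i hi⟩ ⟨0, 1, 0, 0, 0, c6pwub_X1 i⟩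
    ⟨0, 0, 0, 1, 0, c6pwub_D2 i⟩ ⟨0, 0, 0, 0, 1, c6pwub_X2 i⟩, c6pwub_quad i hi⟩

/-! ### UA -/

/-- `UA` explicitly. -/
def c6pwua_A (i : F) : M4 F :=
  !![2 * i, 2 * i, 2 * i, 2 * i; -2, 2, -2, 2; -2, -2, 2, 2; -(2 * i), 2 * i, 2 * i, -(2 * i)]

/-- `UA ^ 2` explicitly. -/
def c6pwua_A2 (i : F) : M4 F :=
  !![-(8 * i), -8, -8, 8 * i; -(8 * i), 8, -8, -(8 * i); -(8 * i), -8, 8, -(8 * i);
    -(8 * i), 8, 8, 8 * i]

theorem c6pwua_eq (i : F) (hi : i * i = -1) : UA i = c6pwua_A i := by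
  unfold UA
  ext a b
  fin_cases a <;> fin_cases b <;>
    simp [UB, UBp, c6pwua_A, Matrix.mul_apply, Fin.sum_univ_four] <;> grind

theorem c6pwua_sq (i : F) (hi : i * i = -1) : c6pwua_A i * c6pwua_A i = c6pwua_A2 i := by
  ext a b
  fin_cases a <;> fin_cases b <;>
    simp [c6pwua_A, c6pwua_A2, Matrix.mul_apply, Fin.sum_univ_four] <;> grind

theorem c6pwua_cube (i : F) (hi : i * i = -1) :
    c6pwua_A2 i * c6pwua_A i = (64 : F) • (1 : M4 F) := by
  ext a b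
  fin_cases a <;> fin_cases b <;>
    simp [c6pwua_A, c6pwua_A2, Matrix.mul_apply, Fin.sum_univ_four, Matrix.one_apply] <;> grind

theorem c6pwua_cube' (i : F) (hi : i * i = -1) :
    c6pwua_A i * c6pwua_A2 i = (64 : F) • (1 : M4 F) := by
  ext a b
  fin_cases a <;> fin_cases b <;>
    simp [c6pwua_A, c6pwua_A2, Matrix.mul_apply, Fin.sum_univ_four, Matrix.one_apply] <;> grind

theorem c6pwua_D1 (i : F) (hi : i * i = -1) :
    c6pwua_A i * pD1 = pauliM i 3 1 1 0 0 * c6pwua_A i := by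
  unfold pauliM
  simp only [pow_zero, pow_one, one_smul, one_mul, mul_one]
  ext a b
  fin_cases a <;> fin_cases b <;>
    simp [c6pwua_A, c6pw_D1_eq, pX1, c6pw_D2_eq, pX2, Matrix.mul_apply, Fin.sum_univ_four] <;> grind

theorem c6pwua_X1 (i : F) (hi : i * i = -1) :
    c6pwua_A i * pX1 = pauliM i 0 1 0 0 0 * c6pwua_A i := by
  unfold pauliM
  simp only [pow_zero, pow_one, one_smul, one_mul, mul_one]
  ext a b
  fin_cases a <;> fin_cases b <;>
    simp [c6pwua_A, c6pw_D1_eq, pX1, c6pw_D2_eq, pX2, Matrix.mul_apply, Fin.sum_univ_four] <;> grind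

theorem c6pwua_D2 (i : F) (hi : i * i = -1) :
    c6pwua_A i * pD2 = pauliM i 3 0 0 1 1 * c6pwua_A i := by
  unfold pauliM
  simp only [pow_zero, pow_one, one_smul, one_mul, mul_one]
  ext a b
  fin_cases a <;> fin_cases b <;>
    simp [c6pwua_A, c6pw_D1_eq, pX1, c6pw_D2_eq, pX2, Matrix.mul_apply, Fin.sum_univ_four] <;> grind

theorem c6pwua_X2 (i : F) (hi : i * i = -1) :
    c6pwua_A i * pX2 = pauliM i 0 0 0 1 0 * c6pwua_A i := by
  unfold pauliM
  simp only [pow_zero, pow_one, one_smul, one_mul, mul_one]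
  ext a b
  fin_cases a <;> fin_cases b <;>
    simp [c6pwua_A, c6pw_D1_eq, pX1, c6pw_D2_eq, pX2, Matrix.mul_apply, Fin.sum_univ_four] <;> grind

theorem c6pw_i_ne_zero (i : F) (hi : i * i = -1) : i ≠ 0 := by
  rintro rfl
  rw [mul_zero] at hi
  have h3 : (-1 : F) = 0 := hi.symm
  have : (1 : F) = 0 := by linear_combination -h3
  exact one_ne_zero this

theorem c6pw_pow2_ne_zero (h2 : (2 : F) ≠ 0) (k : ℕ) : ((2 : F) ^ k) ≠ 0 := pow_ne_zero k h2

/-- WUA core. -/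
theorem c6pwua_core {i : F} {R : Subgroup (GL (Fin 4) F)} (hi : i * i = -1) (h2 : (2 : F) ≠ 0)
    (hN : ∀ M Minv : M4 F, M * Minv = 1 →
      (∃ a b c d e : ℕ, M * pD1 = pauliM i a b c d e * M) →
      (∃ a b c d e : ℕ, M * pX1 = pauliM i a b c d e * M) →
      (∃ a b c d e : ℕ, M * pD2 = pauliM i a b c d e * M) →
      (∃ a b c d e : ℕ, M * pX2 = pauliM i a b c d e * M) → Nrm R M) :
    Nrm R (UA i) ∧ UA i ^ 3 = (64 : F) • (1 : M4 F) ∧ (UA i - (4 : F) • (1 : M4 F)).det = 0 ∧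
      UA i ≠ (4 : F) • (1 : M4 F) := by
  have h64 : (64 : F) ≠ 0 := by
    have : (64 : F) = 2 ^ 6 := by norm_num
    rw [this]
    exact pow_ne_zero 6 h2
  have hi0 := c6pw_i_ne_zero i hi
  rw [c6pwua_eq i hi]
  refine ⟨?_, ?_, ?_, ?_⟩
  · apply hN (c6pwua_A i) ((64 : F)⁻¹ • c6pwua_A2 i)
    · rw [Matrix.mul_smul, c6pwua_cube' i hi, smul_smul, inv_mul_cancel₀ h64, one_smul]
    · exact ⟨3, 1, 1, 0, 0, c6pwua_D1 i hi⟩
    · exact ⟨0, 1, 0, 0, 0, c6pwua_X1 i hi⟩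
    · exact ⟨3, 0, 0, 1, 1, c6pwua_D2 i hi⟩
    · exact ⟨0, 0, 0, 1, 0, c6pwua_X2 i hi⟩
  · rw [pow_succ, pow_two, c6pwua_sq i hi, c6pwua_cube i hi]
  · rw [← Matrix.exists_mulVec_eq_zero_iff]
    refine ⟨![2, -1 - i, -1 - i, -(2 * i)], ?_, ?_⟩
    · intro h0
      have := congrFun h0 0
      simp at this
      exact h2 this
    · funext a
      fin_cases a <;>
        simp [c6pwua_A, Matrix.mulVec, dotProduct, Fin.sum_univ_four, Matrix.sub_apply,
          Matrix.one_apply] <;> grind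
  · intro h0
    have := congrFun (congrFun h0 0) 1
    simp [c6pwua_A, Matrix.one_apply] at this
    rcases this with h3 | h3
    · exact h2 h3
    · exact hi0 h3

/-! ### Y5 -/

/-- `Y5 ^ 2` explicitly. -/
def c6pwy5_B2 (i : F) : M4 F :=
  !![2, 2 * i, 2 * i, -2; 2 * i, 2, 2, -(2 * i); 2, -(2 * i), 2 * i, 2; -(2 * i), 2, -2, -(2 * i)]

/-- `Y5 ^ 4` explicitly. -/
def c6pwy5_B4 (i : F) : M4 F :=
  !![8 * i, 8 * i, 8 * i, 8 * i; 8 * i, -(8 * i), 8 * i, -(8 * i); 8, 8, -8, -8; -8, 8, 8, -8]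

theorem c6pwy5_sq (i : F) (hi : i * i = -1) : Y5 i * Y5 i = c6pwy5_B2 i := by
  ext a b
  fin_cases a <;> fin_cases b <;>
    simp [Y5, c6pwy5_B2, Matrix.mul_apply, Fin.sum_univ_four] <;> grind

theorem c6pwy5_four (i : F) (hi : i * i = -1) : c6pwy5_B2 i * c6pwy5_B2 i = c6pwy5_B4 i := by
  ext a b
  fin_cases a <;> fin_cases b <;>
    simp [c6pwy5_B2, c6pwy5_B4, Matrix.mul_apply, Fin.sum_univ_four] <;> grind

theorem c6pwy5_five (i : F) (hi : i * i = -1) :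
    c6pwy5_B4 i * Y5 i = ((32 : F) * i) • (1 : M4 F) := by
  ext a b
  fin_cases a <;> fin_cases b <;>
    simp [Y5, c6pwy5_B4, Matrix.mul_apply, Fin.sum_univ_four, Matrix.one_apply] <;> grind

theorem c6pwy5_five' (i : F) (hi : i * i = -1) :
    Y5 i * c6pwy5_B4 i = ((32 : F) * i) • (1 : M4 F) := by
  ext a b
  fin_cases a <;> fin_cases b <;>
    simp [Y5, c6pwy5_B4, Matrix.mul_apply, Fin.sum_univ_four, Matrix.one_apply] <;> grind

theorem c6pwy5_D1 (i : F) (hi : i * i = -1) : Y5 i * pD1 = pauliM i 0 0 1 0 0 * Y5 i := by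
  unfold pauliM
  simp only [pow_zero, pow_one, one_smul, one_mul, mul_one]
  ext a b
  fin_cases a <;> fin_cases b <;>
    simp [Y5, c6pw_D1_eq, pX1, c6pw_D2_eq, pX2, Matrix.mul_apply, Fin.sum_univ_four] <;> grind

theorem c6pwy5_X1 (i : F) (hi : i * i = -1) : Y5 i * pX1 = pauliM i 1 1 1 0 1 * Y5 i := by
  unfold pauliM
  simp only [pow_zero, pow_one, one_smul, one_mul, mul_one]
  ext a b
  fin_cases a <;> fin_cases b <;>
    simp [Y5, c6pw_D1_eq, pX1, c6pw_D2_eq, pX2, Matrix.mul_apply, Fin.sum_univ_four] <;> grind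

theorem c6pwy5_D2 (i : F) (hi : i * i = -1) : Y5 i * pD2 = pauliM i 0 0 0 0 1 * Y5 i := by
  unfold pauliM
  simp only [pow_zero, pow_one, one_smul, one_mul, mul_one]
  ext a b
  fin_cases a <;> fin_cases b <;>
    simp [Y5, c6pw_D1_eq, pX1, c6pw_D2_eq, pX2, Matrix.mul_apply, Fin.sum_univ_four] <;> grind

theorem c6pwy5_X2 (i : F) (hi : i * i = -1) : Y5 i * pX2 = pauliM i 0 0 1 1 0 * Y5 i := by
  unfold pauliM
  simp only [pow_zero, pow_one, one_smul, one_mul, mul_one]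
  ext a b
  fin_cases a <;> fin_cases b <;>
    simp [Y5, c6pw_D1_eq, pX1, c6pw_D2_eq, pX2, Matrix.mul_apply, Fin.sum_univ_four] <;> grind

/-- WY5 core. -/
theorem c6pwy5_core {i : F} {R : Subgroup (GL (Fin 4) F)} (hi : i * i = -1) (h2 : (2 : F) ≠ 0)
    (hN : ∀ M Minv : M4 F, M * Minv = 1 →
      (∃ a b c d e : ℕ, M * pD1 = pauliM i a b c d e * M) →
      (∃ a b c d e : ℕ, M * pX1 = pauliM i a b c d e * M) →
      (∃ a b c d e : ℕ, M * pD2 = pauliM i a b c d e * M) →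
      (∃ a b c d e : ℕ, M * pX2 = pauliM i a b c d e * M) → Nrm R M) :
    Nrm R (Y5 i) ∧ Y5 i ^ 5 = ((32 : F) * i) • (1 : M4 F) ∧ ∀ c : F, Y5 i ≠ c • (1 : M4 F) := by
  have hi0 := c6pw_i_ne_zero i hi
  have h32 : (32 : F) * i ≠ 0 := by
    have : (32 : F) = 2 ^ 5 := by norm_num
    rw [this]
    exact mul_ne_zero (pow_ne_zero 5 h2) hi0
  refine ⟨?_, ?_, ?_⟩
  · apply hN (Y5 i) (((32 : F) * i)⁻¹ • c6pwy5_B4 i)
    · rw [Matrix.mul_smul, c6pwy5_five' i hi, smul_smul, inv_mul_cancel₀ h32, one_smul]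
    · exact ⟨0, 0, 1, 0, 0, c6pwy5_D1 i hi⟩
    · exact ⟨1, 1, 1, 0, 1, c6pwy5_X1 i hi⟩
    · exact ⟨0, 0, 0, 0, 1, c6pwy5_D2 i hi⟩
    · exact ⟨0, 0, 1, 1, 0, c6pwy5_X2 i hi⟩
  · have e : Y5 i ^ 5 = ((Y5 i * Y5 i) * (Y5 i * Y5 i)) * Y5 i := by
      rw [pow_succ, pow_succ, pow_succ, pow_two]
      simp only [mul_assoc]
    rw [e, c6pwy5_sq i hi, c6pwy5_four i hi, c6pwy5_five i hi]
  · intro c h0
    have := congrFun (congrFun h0 0) 1
    simp [Y5, Matrix.one_apply] at this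

end Cfsg.Agent.Lib.Helper10.C6P
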