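import Mathlib
import Cfsg.Agent.Lib.Helper10.C6P.Defs
import Cfsg.Agent.Lib.helper7.C6PWCZcore
import Cfsg.Agent.Lib.Lead.C6PWNRM

/-!
# Project C6P (S6000), rows WCZ, WUB, WUA, WY5 (verbatim): the explicit Clifford elements normalize a standard `R`.
-/

set_option autoImplicit false
set_option linter.unusedVariables false
set_option linter.unusedSectionVars false

namespace Cfsg.Agent.Lib.Helper10.C6P

open Polynomial Matrix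

variable {F : Type*} [Field F]

/-- WCZ [M] -/
theorem nrm_CZ {i : F} {R : Subgroup (GL (Fin 4) F)} (h : IsStd i R) : Nrm R (CZ F) :=
  c6pwcz_core (fun M Minv h1 hD1 hX1 hD2 hX2 => nrm_of_gens h M Minv h1 hD1 hX1 hD2 hX2)

/-- WUB [M] -/
theorem nrm_UB {i : F} {R : Subgroup (GL (Fin 4) F)} (h : IsStd i R) (h2 : (2 : F) ≠ 0) :
    Nrm R (UB i) ∧ UB i * UB i + (2 : F) • UB i + (4 : F) • (1 : M4 F) = 0 :=
  c6pwub_core h.1 h2 (fun M Minv h1 hD1 hX1 hD2 hX2 => nrm_of_gens h M Minv h1 hD1 hX1 hD2 hX2)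

/-- WUA [M] -/
theorem nrm_UA {i : F} {R : Subgroup (GL (Fin 4) F)} (h : IsStd i R) (h2 : (2 : F) ≠ 0) :
    Nrm R (UA i) ∧ UA i ^ 3 = (64 : F) • (1 : M4 F) ∧ (UA i - (4 : F) • (1 : M4 F)).det = 0 ∧
      UA i ≠ (4 : F) • (1 : M4 F) :=
  c6pwua_core h.1 h2 (fun M Minv h1 hD1 hX1 hD2 hX2 => nrm_of_gens h M Minv h1 hD1 hX1 hD2 hX2)

/-- WY5 [M] -/
theorem nrm_Y5 {i : F} {R : Subgroup (GL (Fin 4) F)} (h : IsStd i R) (h2 : (2 : F) ≠ 0) :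
    Nrm R (Y5 i) ∧ Y5 i ^ 5 = ((32 : F) * i) • (1 : M4 F) ∧ ∀ c : F, Y5 i ≠ c • (1 : M4 F) :=
  c6pwy5_core h.1 h2 (fun M Minv h1 hD1 hX1 hD2 hX2 => nrm_of_gens h M Minv h1 hD1 hX1 hD2 hX2)

end Cfsg.Agent.Lib.Helper10.C6P
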