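import Mathlib
import Cfsg.Prelude.Def_Characters
import Cfsg.Agent.Lib.helper7.ClassSum
import Cfsg.Agent.Lib.helper7.CharTools
import Cfsg.Agent.Lib.helper2.CharInt

set_option autoImplicit false

namespace Cfsg.Agent.Lib.helper7

open scoped ComplexConjugate

section scalar

variable {Γ : Type*} [Group Γ] [Fintype Γ] {U : Type*} [AddCommGroup U] [Module ℂ U]
  [FiniteDimensional ℂ U]

theorem h7_scalar_char_mul (Φ : Representation ℂ Γ U) (a x : Γ) (c : ℂ)
    (hc : Φ a = c • LinearMap.id) : Φ.character (x * a) = c * Φ.character x := by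
  simp only [Representation.character]
  rw [map_mul, hc]
  have : Φ x * c • (LinearMap.id : U →ₗ[ℂ] U) = c • Φ x := by
    rw [mul_smul_comm]
    congr 1
  rw [this, map_smul, smul_eq_mul]

theorem h7_scalar_norm [Nontrivial U] (Φ : Representation ℂ Γ U) (a : Γ) (c : ℂ)
    (hc : Φ a = c • LinearMap.id) : c * conj c = 1 := by
  have h1 : Φ (a ^ Fintype.card Γ) = 1 := by
    rw [pow_card_eq_one, map_one]
  rw [map_pow, hc] at h1
  have h2 : (c • (LinearMap.id : U →ₗ[ℂ] U)) ^ Fintype.card Γ =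
      (c ^ Fintype.card Γ) • (LinearMap.id : U →ₗ[ℂ] U) := by
    rw [smul_pow]
    congr 1
    exact one_pow _
  rw [h2] at h1
  have h3 : c ^ Fintype.card Γ = 1 := by
    obtain ⟨v, hv⟩ := exists_ne (0 : U)
    have h4 := congrArg (fun L : Module.End ℂ U => L v) h1
    simp only [LinearMap.smul_apply, LinearMap.id_apply, Module.End.one_apply] at h4
    have h5 : (c ^ Fintype.card Γ - 1) • v = 0 := by
      rw [sub_smul, h4, one_smul, sub_self]
    rcases smul_eq_zero.mp h5 with h6 | h6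
    · exact sub_eq_zero.mp h6
    · exact absurd h6 hv
  have h4 : ‖c‖ = 1 := Complex.norm_eq_one_of_pow_eq_one h3 Fintype.card_ne_zero
  rw [Complex.mul_conj, Complex.normSq_eq_norm_sq, h4]
  simp

end scalar

section main

variable {Γ : Type*} [Group Γ] [Fintype Γ] {U : Type*} [AddCommGroup U] [Module ℂ U]
  [FiniteDimensional ℂ U]

theorem h7_quot_class_integral (Φ : Representation ℂ Γ U) [Φ.IsIrreducible] (A : Subgroup Γ)
    [A.Normal] (hA : ∀ a ∈ A, ∃ c : ℂ, Φ a = c • LinearMap.id) (g : Γ)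
    (hg : Φ.character g ≠ 0) :
    IsIntegral ℤ (((Subgroup.centralizer ({(g : Γ ⧸ A)} : Set (Γ ⧸ A))).index : ℂ) *
      Φ.character g / (Module.finrank ℂ U : ℂ)) := by
  classical
  have hfr : Module.finrank ℂ U ≠ 0 := Cfsg.Agent.Lib.Helper25.finrank_ne_zero_of_irr Φ
  haveI : Nontrivial U := Module.nontrivial_of_finrank_pos (R := ℂ) (Nat.pos_of_ne_zero hfr)
  set q₀ : Γ ⧸ A := (g : Γ ⧸ A) with hq₀
  let C : Finset (Γ ⧸ A) := Finset.univ.filter (fun q => IsConj q₀ q)
  have hex : ∀ q : Γ ⧸ A, IsConj q₀ q → ∃ y : Γ, (y : Γ ⧸ A) = q ∧ IsConj g y := by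
    intro q hq
    obtain ⟨t, ht⟩ := isConj_iff.mp hq
    obtain ⟨t', rfl⟩ := QuotientGroup.mk_surjective t
    refine ⟨t' * g * t'⁻¹, ?_, isConj_iff.mpr ⟨t', rfl⟩⟩
    rw [← ht]
    rfl
  let y : Γ ⧸ A → Γ := fun q => if h : IsConj q₀ q then (hex q h).choose else g
  have hy1 : ∀ q ∈ C, ((y q : Γ) : Γ ⧸ A) = q := by
    intro q hq
    have h : IsConj q₀ q := (Finset.mem_filter.mp hq).2
    have : y q = (hex q h).choose := dif_pos h
    rw [this]
    exact (hex q h).choose_spec.1
  have hy2 : ∀ q ∈ C, IsConj g (y q) := by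
    intro q hq
    have h : IsConj q₀ q := (Finset.mem_filter.mp hq).2
    have : y q = (hex q h).choose := dif_pos h
    rw [this]
    exact (hex q h).choose_spec.2
  have hchar_conj : ∀ z : Γ, IsConj g z → Φ.character z = Φ.character g := by
    intro z hz
    obtain ⟨t, rfl⟩ := isConj_iff.mp hz
    exact Representation.char_conj Φ g t
  have hCconj : ∀ (h : Γ) (q : Γ ⧸ A), q ∈ C → (h : Γ ⧸ A) * q * (h : Γ ⧸ A)⁻¹ ∈ C := by
    intro h q hq
    have h1 : IsConj q₀ q := (Finset.mem_filter.mp hq).2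
    exact Finset.mem_filter.mpr ⟨Finset.mem_univ _, h1.trans (isConj_iff.mpr ⟨_, rfl⟩)⟩
  have hkey : ∀ (h : Γ) (q : Γ ⧸ A), q ∈ C →
      Φ (h * y q * h⁻¹) = Φ (y ((h : Γ ⧸ A) * q * (h : Γ ⧸ A)⁻¹)) := by
    intro h q hq
    set q'' := (h : Γ ⧸ A) * q * (h : Γ ⧸ A)⁻¹ with hq''
    have hq''C : q'' ∈ C := hCconj h q hq
    have ha : (y q'')⁻¹ * (h * y q * h⁻¹) ∈ A := by
      rw [← QuotientGroup.eq, hy1 q'' hq''C, QuotientGroup.mk_mul, QuotientGroup.mk_mul,
        QuotientGroup.mk_inv, hy1 q hq]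
    obtain ⟨c, hc⟩ := hA _ ha
    have h1 : h * y q * h⁻¹ = y q'' * ((y q'')⁻¹ * (h * y q * h⁻¹)) := by group
    have h2 := h7_scalar_char_mul Φ _ (y q'') c hc
    rw [← h1, hchar_conj _ (hy2 q'' hq''C),
      hchar_conj _ ((hy2 q hq).trans (isConj_iff.mpr ⟨h, rfl⟩))] at h2
    have hc1 : c = 1 := by
      have h3 : (c - 1) * Φ.character g = 0 := by
        rw [sub_mul, one_mul, ← h2, sub_self]
      rcases mul_eq_zero.mp h3 with h4 | h4
      · exact sub_eq_zero.mp h4
      · exact absurd h4 hg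
    rw [h1, map_mul, hc, hc1, one_smul]
    rfl
  set T : Module.End ℂ U := ∑ q ∈ C, Φ (y q) with hT
  have hcomm : ∀ h : Γ, T ∘ₗ Φ h = Φ h ∘ₗ T := by
    intro h
    rw [← Module.End.mul_eq_comp, ← Module.End.mul_eq_comp, hT, Finset.sum_mul, Finset.mul_sum]
    symm
    refine Finset.sum_bij (fun q _ => (h : Γ ⧸ A) * q * (h : Γ ⧸ A)⁻¹) ?_ ?_ ?_ ?_
    · intro q hq
      exact hCconj h q hq
    · intro q _ q' _ hqq
      have := congrArg (fun z => (h : Γ ⧸ A)⁻¹ * z * (h : Γ ⧸ A)) hqq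
      simpa [mul_assoc] using this
    · intro q hq
      refine ⟨(h : Γ ⧸ A)⁻¹ * q * (h : Γ ⧸ A), ?_, by group⟩
      have := hCconj h⁻¹ q hq
      rw [QuotientGroup.mk_inv, inv_inv] at this
      exact this
    · intro q hq
      rw [← hkey h q hq, ← map_mul, ← map_mul]
      congr 1
      group
  obtain ⟨c, hc⟩ := Cfsg.Agent.Lib.Helper25.commuting_end_scalar Φ T hcomm
  have htr : LinearMap.trace ℂ U T =
      ((Subgroup.centralizer ({q₀} : Set (Γ ⧸ A))).index : ℂ) * Φ.character g := by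
    rw [hT, map_sum]
    have : ∀ q ∈ C, LinearMap.trace ℂ U (Φ (y q)) = Φ.character g := by
      intro q hq
      exact hchar_conj _ (hy2 q hq)
    rw [Finset.sum_congr rfl this, Finset.sum_const, nsmul_eq_mul,
      h7_index_centralizer_eq_card_class, Nat.card_eq_fintype_card, Fintype.card_subtype]
  have htr2 : LinearMap.trace ℂ U T = c * (Module.finrank ℂ U : ℂ) := by
    rw [hc, map_smul, LinearMap.trace_id, smul_eq_mul]
  have h1 : (Module.finrank ℂ U : ℂ) ≠ 0 := by exact_mod_cast hfr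
  have hcval : c = ((Subgroup.centralizer ({q₀} : Set (Γ ⧸ A))).index : ℂ) * Φ.character g /
      (Module.finrank ℂ U : ℂ) := by
    rw [eq_div_iff h1, ← htr2, htr]
  rw [← hcval]
  have hint : IsIntegral ℤ T := by
    have h2 := Cfsg.Agent.Lib.helper2.rep_int_comb_integral Φ (C.image y) (fun _ => 1)
    simp only [one_smul] at h2
    rw [Finset.sum_image] at h2
    · exact h2
    · intro q hq q' hq' hqq
      rw [← hy1 q hq, ← hy1 q' hq', hqq]
  have hinj : Function.Injective (algebraMap ℂ (Module.End ℂ U)) :=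
    FaithfulSMul.algebraMap_injective ℂ (Module.End ℂ U)
  rw [← isIntegral_algebraMap_iff hinj]
  rw [hc] at hint
  convert hint using 1
  exact Algebra.algebraMap_eq_smul_one _

theorem h7_degree_dvd_index_of_scalar (Φ : Representation ℂ Γ U) [Φ.IsIrreducible]
    (A : Subgroup Γ) [A.Normal] (hA : ∀ a ∈ A, ∃ c : ℂ, Φ a = c • LinearMap.id) :
    Module.finrank ℂ U ∣ A.index := by
  classical
  have hfr : Module.finrank ℂ U ≠ 0 := Cfsg.Agent.Lib.Helper25.finrank_ne_zero_of_irr Φ
  haveI : Nontrivial U := Module.nontrivial_of_finrank_pos (R := ℂ) (Nat.pos_of_ne_zero hfr)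
  haveI : Fintype (ConjClasses (Γ ⧸ A)) := Fintype.ofFinite _
  let F : Γ → ℂ := fun x => Φ.character x * conj (Φ.character x)
  have hFA : ∀ x a, a ∈ A → F (x * a) = F x := by
    intro x a ha
    obtain ⟨c, hc⟩ := hA a ha
    simp only [F]
    rw [h7_scalar_char_mul Φ a x c hc, map_mul]
    have h1 := h7_scalar_norm Φ a c hc
    calc c * Φ.character x * (conj c * conj (Φ.character x))
        = (c * conj c) * (Φ.character x * conj (Φ.character x)) := by ring
      _ = Φ.character x * conj (Φ.character x) := by rw [h1, one_mul]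
  have hFconj : ∀ x t, F (t * x * t⁻¹) = F x := by
    intro x t
    simp only [F]
    rw [Representation.char_conj]
  have hsum : ∑ x : Γ, F x = (Fintype.card Γ : ℂ) := by
    have h := h7_irr_norm (Cfsg.Agent.Lib.Helper25.isIrrCharacter_of_irreducible Φ)
    unfold Cfsg.classInner at h
    have hG : (Nat.card Γ : ℂ) ≠ 0 := by exact_mod_cast Nat.card_pos.ne'
    rw [Nat.card_eq_fintype_card] at h hG
    field_simp at h
    exact h
  let Fq : Γ ⧸ A → ℂ := fun q => F (Quotient.out q)
  have hFq : ∀ x : Γ, Fq (x : Γ ⧸ A) = F x := by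
    intro x
    have h1 : x⁻¹ * Quotient.out (x : Γ ⧸ A) ∈ A :=
      QuotientGroup.eq.mp (QuotientGroup.out_eq' _).symm
    have h2 : Quotient.out (x : Γ ⧸ A) = x * (x⁻¹ * Quotient.out (x : Γ ⧸ A)) := by group
    simp only [Fq]
    rw [h2, hFA _ _ h1]
  have hfib : ∑ x : Γ, F x = (Fintype.card A : ℂ) * ∑ q : Γ ⧸ A, Fq q := by
    let e : (Γ ⧸ A) × A ≃ Γ :=
      { toFun := fun p => Quotient.out p.1 * (p.2 : Γ)
        invFun := fun x => ((x : Γ ⧸ A), ⟨(Quotient.out (x : Γ ⧸ A))⁻¹ * x,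
          QuotientGroup.eq.mp (QuotientGroup.out_eq' _)⟩)
        left_inv := by
          rintro ⟨q, a⟩
          have h1 : ((Quotient.out q * (a : Γ) : Γ) : Γ ⧸ A) = q := by
            rw [QuotientGroup.mk_mul, (QuotientGroup.eq_one_iff (a : Γ)).mpr a.2, mul_one]
            exact QuotientGroup.out_eq' q
          apply Prod.ext
          · exact h1
          · apply Subtype.ext
            simp only
            rw [h1]
            group
        right_inv := by
          intro x
          simp only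
          group }
    rw [← Equiv.sum_comp e, Fintype.sum_prod_type, Finset.mul_sum]
    refine Finset.sum_congr rfl fun q _ => ?_
    have h1 : ∀ a : A, F (e (q, a)) = Fq q := by
      intro a
      exact hFA _ _ a.2
    rw [Finset.sum_congr rfl (fun a _ => h1 a), Finset.sum_const, Finset.card_univ, nsmul_eq_mul]
  have hFqconj : ∀ q k : Γ ⧸ A, Fq (k * q * k⁻¹) = Fq q := by
    intro q k
    obtain ⟨x, rfl⟩ := QuotientGroup.mk_surjective q
    obtain ⟨t, rfl⟩ := QuotientGroup.mk_surjective k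
    rw [← QuotientGroup.mk_inv, ← QuotientGroup.mk_mul, ← QuotientGroup.mk_mul, hFq, hFq, hFconj]
  rw [h7_sum_eq_sum_conjClasses Fq hFqconj, hsum] at hfib
  have hcardA : (Fintype.card A : ℂ) ≠ 0 := by
    exact_mod_cast Fintype.card_ne_zero
  have hidx : (A.index : ℂ) = ∑ K : ConjClasses (Γ ⧸ A),
      (Subgroup.centralizer ({Quotient.out K} : Set (Γ ⧸ A))).index • Fq (Quotient.out K) := by
    have h1 : (Fintype.card Γ : ℂ) = (A.index : ℂ) * (Fintype.card A : ℂ) := by
      have := Subgroup.index_mul_card A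
      rw [Nat.card_eq_fintype_card, Nat.card_eq_fintype_card] at this
      exact_mod_cast this.symm
    rw [h1, mul_comm] at hfib
    exact mul_left_cancel₀ hcardA hfib
  apply Cfsg.Agent.Lib.helper2.nat_dvd_of_isIntegral_div _ _ hfr
  rw [hidx, Finset.sum_div]
  apply IsIntegral.sum
  intro K _
  obtain ⟨x, hx⟩ := QuotientGroup.mk_surjective (Quotient.out K)
  rw [← hx, hFq]
  by_cases h0 : Φ.character x = 0
  · have : F x = 0 := by
      simp only [F]
      rw [h0, zero_mul]
    rw [this, smul_zero, zero_div]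
    exact isIntegral_zero
  · have h1 := h7_quot_class_integral Φ A hA x h0
    have h2 : ((Subgroup.centralizer ({(x : Γ ⧸ A)} : Set (Γ ⧸ A))).index • F x) /
        (Module.finrank ℂ U : ℂ) =
        (((Subgroup.centralizer ({(x : Γ ⧸ A)} : Set (Γ ⧸ A))).index : ℂ) * Φ.character x /
          (Module.finrank ℂ U : ℂ)) * conj (Φ.character x) := by
      rw [nsmul_eq_mul]
      simp only [F]
      ring
    rw [h2]
    exact h1.mul (map_isIntegral_int (starRingEnd ℂ)
      (Cfsg.Agent.Lib.helper2.char_integral Φ x))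

end main

end Cfsg.Agent.Lib.helper7
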