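import Mathlib
import Cfsg.Prelude.Def_Characters
import Cfsg.Agent.Lib.helper7.ProjExt

set_option autoImplicit false

namespace Cfsg.Agent.Lib.helper7

section implsub

variable {V : Type*} [AddCommGroup V] [Module ℂ V]
variable {N : Type*} [Group N]

def h7_implSubgroup (ρ : Representation ℂ N V) : Subgroup ((Module.End ℂ V)ˣ × MulAut N) where
  carrier := {p | ∀ n : N, p.1 * ρ.asGroupHom n * p.1⁻¹ = ρ.asGroupHom (p.2 n)}
  mul_mem' := by
    intro p q hp hq n
    simp only [Prod.fst_mul, Prod.snd_mul, MulAut.mul_apply]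
    rw [← hp (q.2 n), ← hq n, mul_inv_rev]
    group
  one_mem' := by
    intro n
    simp
  inv_mem' := by
    intro p hp n
    simp only [Prod.fst_inv, Prod.snd_inv, inv_inv]
    have h1 := hp (p.2⁻¹ n)
    rw [MulAut.apply_inv_self] at h1
    rw [← h1]
    group

theorem h7_implements_zpow [FiniteDimensional ℂ V] (ρ : Representation ℂ N V)
    {A : (Module.End ℂ V)ˣ} {φ : MulAut N} (h : h7_Implements ρ A φ) (k : ℤ) :
    h7_Implements ρ (A ^ k) (φ ^ k) := by
  have h1 : ((A, φ) : (Module.End ℂ V)ˣ × MulAut N) ∈ h7_implSubgroup ρ := h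
  have h2 := (h7_implSubgroup ρ).zpow_mem h1 k
  exact h2

end implsub

section cyclic

variable {G : Type*} [Group G] [Fintype G] (N : Subgroup G) [hN : N.Normal]
variable {V : Type*} [AddCommGroup V] [Module ℂ V] [FiniteDimensional ℂ V]

theorem h7_extend_cyclic (hcyc : IsCyclic (G ⧸ N)) (ρ : Representation ℂ N V) [ρ.IsIrreducible]
    (hinv : ∀ (g : G) (n : N), ρ.character (MulAut.conjNormal g n) = ρ.character n) :
    ∃ σ : Representation ℂ G V, σ.IsIrreducible ∧ ∀ n : N, σ (n : G) = ρ n := by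
  classical
  obtain ⟨q₀, hq₀⟩ := hcyc.exists_generator
  obtain ⟨x, rfl⟩ := QuotientGroup.mk_surjective q₀
  have hdecomp : ∀ g : G, ∃ (i : ℤ) (n : N), g = x ^ i * (n : G) := by
    intro g
    obtain ⟨i, hi⟩ := Subgroup.mem_zpowers_iff.mp (hq₀ (g : G ⧸ N))
    have h1 : ((x ^ i : G) : G ⧸ N) = (g : G ⧸ N) := by
      rw [QuotientGroup.mk_zpow]
      exact hi
    have h2 : (x ^ i)⁻¹ * g ∈ N := QuotientGroup.eq.mp h1
    exact ⟨i, ⟨_, h2⟩, by simp⟩
  set m := orderOf ((x : G) : G ⧸ N) with hm_def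
  have hm : 0 < m := orderOf_pos _
  have hxm : x ^ m ∈ N := by
    rw [← QuotientGroup.eq_one_iff, QuotientGroup.mk_pow, hm_def, pow_orderOf_eq_one]
  obtain ⟨A₀, hA₀⟩ := h7_exists_implements N ρ hinv x
  have hA₀m : h7_Implements ρ (A₀ ^ m) (MulAut.conj (⟨x ^ m, hxm⟩ : N)) := by
    have h1 := h7_implements_zpow ρ hA₀ (m : ℤ)
    rw [zpow_natCast, zpow_natCast, ← map_pow] at h1
    rw [← MulAut.conjNormal_val]
    exact h1
  obtain ⟨c, hc⟩ := h7_implements_unique ρ hA₀m (h7_implements_rho ρ ⟨x ^ m, hxm⟩)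
  obtain ⟨z, hz⟩ := IsAlgClosed.exists_pow_nat_eq (c : ℂ) hm
  have hz0 : z ≠ 0 := by
    intro h0
    rw [h0, zero_pow hm.ne'] at hz
    exact c.ne_zero hz.symm
  set d : ℂˣ := Units.mk0 z hz0 with hd_def
  have hdm : d ^ m = c := by
    apply Units.ext
    rw [Units.val_pow_eq_pow_val, hd_def, Units.val_mk0, hz]
  set A : (Module.End ℂ V)ˣ := h7_sc d⁻¹ * A₀ with hA_def
  have hA : h7_Implements ρ A (MulAut.conjNormal x) := by
    intro n
    rw [← hA₀ n, hA_def, mul_inv_rev, map_inv]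
    have h1 : (h7_sc d)⁻¹ * A₀ * ρ.asGroupHom n * (A₀⁻¹ * (h7_sc d)⁻¹⁻¹) =
        (h7_sc d)⁻¹ * (A₀ * ρ.asGroupHom n * A₀⁻¹) * h7_sc d := by group
    rw [h1, mul_assoc, ← h7_sc_comm, ← mul_assoc, inv_mul_cancel, one_mul]
  have hAm : A ^ m = ρ.asGroupHom ⟨x ^ m, hxm⟩ := by
    have hcomm : Commute (h7_sc (V := V) d⁻¹) A₀ := h7_sc_comm _ _
    rw [hA_def, hcomm.mul_pow, hc, ← map_pow, inv_pow, hdm, ← mul_assoc, ← map_mul,
      inv_mul_cancel, map_one, one_mul]
  have hkey : ∀ (k : ℤ) (hk : x ^ k ∈ N), A ^ k = ρ.asGroupHom ⟨x ^ k, hk⟩ := by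
    intro k hk
    have h1 : ((x : G) : G ⧸ N) ^ k = 1 := by
      rw [← QuotientGroup.mk_zpow]
      exact (QuotientGroup.eq_one_iff _).mpr hk
    obtain ⟨t, ht⟩ := (orderOf_dvd_iff_zpow_eq_one).mpr h1
    have h2 : (⟨x ^ k, hk⟩ : N) = (⟨x ^ m, hxm⟩ : N) ^ t := by
      apply Subtype.ext
      rw [Subgroup.coe_zpow]
      simp only
      rw [← zpow_natCast, ← zpow_mul, ← ht]
    rw [h2, map_zpow, ← hAm, ← zpow_natCast, ← zpow_mul, ← ht]
  choose i n hin using hdecomp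
  let σ₀ : G → (Module.End ℂ V)ˣ := fun g => A ^ (i g) * ρ.asGroupHom (n g)
  have hwd : ∀ (j : ℤ) (n' : N), σ₀ (x ^ j * (n' : G)) = A ^ j * ρ.asGroupHom n' := by
    intro j n'
    have h1 := hin (x ^ j * (n' : G))
    set g := x ^ j * (n' : G) with hg
    have h2 : x ^ (j - i g) = (n g : G) * (n' : G)⁻¹ := by
      rw [sub_eq_neg_add, zpow_add, zpow_neg]
      have : x ^ j = x ^ i g * (n g : G) * (n' : G)⁻¹ := by
        rw [← h1, hg]
        group
      rw [this]
      group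
    have h3 : x ^ (j - i g) ∈ N := by
      rw [h2]
      exact N.mul_mem (n g).2 (N.inv_mem n'.2)
    have h4 := hkey (j - i g) h3
    have h5 : (⟨x ^ (j - i g), h3⟩ : N) = n g * n'⁻¹ := by
      apply Subtype.ext
      rw [Subgroup.coe_mul, Subgroup.coe_inv]
      exact h2
    change A ^ (i g) * ρ.asGroupHom (n g) = A ^ j * ρ.asGroupHom n'
    have h6 : A ^ j = A ^ (i g) * A ^ (j - i g) := by
      rw [← zpow_add]
      congr 1
      ring
    rw [h6, h4, h5, mul_assoc, ← map_mul, inv_mul_cancel_right]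
  have hσN : ∀ n' : N, σ₀ (n' : G) = ρ.asGroupHom n' := by
    intro n'
    have h1 := hwd 0 n'
    rw [zpow_zero, one_mul, zpow_zero, one_mul] at h1
    exact h1
  have hmul : ∀ g h : G, σ₀ (g * h) = σ₀ g * σ₀ h := by
    intro g h
    have hφ := h7_implements_zpow ρ hA (-(i h))
    have h1 := hφ (n g)
    set n'' : N := ((MulAut.conjNormal x : MulAut N) ^ (-(i h))) (n g) with hn''
    have h2 : g * h = x ^ (i g + i h) * ((n'' * n h : N) : G) := by
      conv_lhs => rw [hin g, hin h]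
      rw [Subgroup.coe_mul, hn'', ← map_zpow, MulAut.conjNormal_apply, zpow_add]
      group
    rw [h2, hwd]
    change A ^ (i g + i h) * ρ.asGroupHom (n'' * n h) =
      A ^ (i g) * ρ.asGroupHom (n g) * (A ^ (i h) * ρ.asGroupHom (n h))
    rw [map_mul, ← h1, zpow_add, zpow_neg]
    group
  let σu : G →* (Module.End ℂ V)ˣ :=
    { toFun := σ₀
      map_one' := by
        have h1 := hσN 1
        simp only [OneMemClass.coe_one, map_one] at h1
        exact h1
      map_mul' := hmul }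
  let σ : Representation ℂ G V := (Units.coeHom (Module.End ℂ V)).comp σu
  have hσ : ∀ n' : N, σ (n' : G) = ρ n' := by
    intro n'
    change ((σ₀ (n' : G) : (Module.End ℂ V)ˣ) : Module.End ℂ V) = ρ n'
    rw [hσN n']
    rfl
  exact ⟨σ, h7_isIrr_of_restrict ρ σ (fun n' : N => (n' : G)) hσ, hσ⟩

end cyclic

end Cfsg.Agent.Lib.helper7
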