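import Mathlib
import Cfsg.Prelude.Def_Characters
import Cfsg.Agent.Lib.helper7.ProjExtCyclic
import Cfsg.Agent.Lib.helper7.CenterDvd

set_option autoImplicit false

namespace Cfsg.Agent.Lib.helper7

section gam

variable {G : Type*} [Group G] [Fintype G] (N : Subgroup G) [hN : N.Normal]
variable {V : Type*} [AddCommGroup V] [Module ℂ V] [FiniteDimensional ℂ V]

def h7_gam0 (ρ : Representation ℂ N V) : Subgroup (G × (Module.End ℂ V)ˣ) :=
  (h7_implSubgroup ρ).comap
    ((MonoidHom.snd G (Module.End ℂ V)ˣ).prod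
      ((MulAut.conjNormal : G →* MulAut N).comp (MonoidHom.fst G (Module.End ℂ V)ˣ)))

theorem h7_mem_gam0 (ρ : Representation ℂ N V) (p : G × (Module.End ℂ V)ˣ) :
    p ∈ h7_gam0 N ρ ↔ h7_Implements ρ p.2 (MulAut.conjNormal p.1) := Iff.rfl

noncomputable def h7_detk : G × (Module.End ℂ V)ˣ →* ℂˣ :=
  (powMonoidHom (Fintype.card G)).comp
    ((Units.map (LinearMap.det : Module.End ℂ V →* ℂ)).comp (MonoidHom.snd G (Module.End ℂ V)ˣ))

theorem h7_detk_apply (p : G × (Module.End ℂ V)ˣ) :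
    h7_detk p = (Units.map (LinearMap.det : Module.End ℂ V →* ℂ) p.2) ^ Fintype.card G := rfl

noncomputable def h7_gam1 (ρ : Representation ℂ N V) : Subgroup (G × (Module.End ℂ V)ˣ) :=
  h7_gam0 N ρ ⊓ (h7_detk (G := G) (V := V)).ker

theorem h7_det_sc (c : ℂˣ) :
    Units.map (LinearMap.det : Module.End ℂ V →* ℂ) (h7_sc c) = c ^ Module.finrank ℂ V := by
  apply Units.ext
  simp only [h7_sc, Units.coe_map, MonoidHom.coe_coe, Units.val_pow_eq_pow_val]
  rw [Algebra.algebraMap_eq_smul_one, LinearMap.det_smul, map_one, mul_one]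

theorem h7_gam1_surj (ρ : Representation ℂ N V) [ρ.IsIrreducible]
    (hinv : ∀ (g : G) (n : N), ρ.character (MulAut.conjNormal g n) = ρ.character n) (g : G) :
    ∃ T : (Module.End ℂ V)ˣ, (g, T) ∈ h7_gam1 N ρ := by
  obtain ⟨A₀, hA₀⟩ := h7_exists_implements N ρ hinv g
  have hd : 0 < Module.finrank ℂ V :=
    Nat.pos_of_ne_zero (Cfsg.Agent.Lib.Helper25.finrank_ne_zero_of_irr ρ)
  have hk : 0 < Fintype.card G := Fintype.card_pos
  set δ : ℂˣ := Units.map (LinearMap.det : Module.End ℂ V →* ℂ) A₀ with hδ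
  obtain ⟨z, hz⟩ := IsAlgClosed.exists_pow_nat_eq ((δ⁻¹ : ℂˣ) : ℂ) hd
  have hz0 : z ≠ 0 := by
    intro h0
    rw [h0, zero_pow hd.ne'] at hz
    exact (δ⁻¹).ne_zero hz.symm
  set c : ℂˣ := Units.mk0 z hz0 with hc
  have hcd : c ^ Module.finrank ℂ V = δ⁻¹ := by
    apply Units.ext
    rw [Units.val_pow_eq_pow_val, hc, Units.val_mk0, hz]
  refine ⟨h7_sc c * A₀, Subgroup.mem_inf.mpr ⟨?_, ?_⟩⟩
  · change h7_Implements ρ (h7_sc c * A₀) (MulAut.conjNormal g)
    intro n
    rw [← hA₀ n, mul_inv_rev]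
    have h1 : h7_sc c * A₀ * ρ.asGroupHom n * (A₀⁻¹ * (h7_sc c)⁻¹) =
        h7_sc c * (A₀ * ρ.asGroupHom n * A₀⁻¹) * (h7_sc c)⁻¹ := by group
    rw [h1, h7_sc_comm, mul_assoc, mul_inv_cancel, mul_one]
  · change h7_detk (g, h7_sc c * A₀) = 1
    rw [h7_detk_apply]
    simp only
    rw [map_mul, h7_det_sc, hcd, ← hδ, inv_mul_cancel, one_pow]

theorem h7_gam1_finite (ρ : Representation ℂ N V) [ρ.IsIrreducible]
    (hinv : ∀ (g : G) (n : N), ρ.character (MulAut.conjNormal g n) = ρ.character n) :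
    Finite (h7_gam1 N ρ) := by
  classical
  have hV : Nontrivial V := by
    have := Cfsg.Agent.Lib.Helper25.finrank_ne_zero_of_irr ρ
    exact Module.nontrivial_of_finrank_pos (R := ℂ) (Nat.pos_of_ne_zero this)
  have hd : 0 < Module.finrank ℂ V :=
    Nat.pos_of_ne_zero (Cfsg.Agent.Lib.Helper25.finrank_ne_zero_of_irr ρ)
  have hk : 0 < Fintype.card G := Fintype.card_pos
  choose T₀ hT₀ using h7_gam1_surj N ρ hinv
  haveI : NeZero (Module.finrank ℂ V * Fintype.card G) := ⟨(Nat.mul_pos hd hk).ne'⟩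
  let f : G × rootsOfUnity (Module.finrank ℂ V * Fintype.card G) ℂ → G × (Module.End ℂ V)ˣ :=
    fun q => (q.1, h7_sc (q.2 : ℂˣ) * T₀ q.1)
  have hsub : (h7_gam1 N ρ : Set (G × (Module.End ℂ V)ˣ)) ⊆ Set.range f := by
    rintro ⟨g, T⟩ hp
    have h1 : h7_Implements ρ T (MulAut.conjNormal g) := hp.1
    have h2 : h7_Implements ρ (T₀ g) (MulAut.conjNormal g) := (hT₀ g).1
    obtain ⟨c, hc⟩ := h7_implements_unique ρ h1 h2
    have h3 : h7_detk (g, T) = 1 := hp.2
    have h4 : h7_detk (g, T₀ g) = 1 := (hT₀ g).2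
    rw [h7_detk_apply] at h3 h4
    simp only at h3 h4
    rw [hc, map_mul, mul_pow, h4, mul_one, h7_det_sc, ← pow_mul] at h3
    have hcr : c ∈ rootsOfUnity (Module.finrank ℂ V * Fintype.card G) ℂ := by
      rw [mem_rootsOfUnity]
      exact h3
    exact ⟨(g, ⟨c, hcr⟩), by simp only [f]; rw [hc]⟩
  exact (Set.Finite.subset (Set.finite_range f) hsub).to_subtype

end gam

section homrep

variable {G : Type*} [Group G] [Fintype G] (N : Subgroup G) [hN : N.Normal]
variable {V : Type*} [AddCommGroup V] [Module ℂ V] [FiniteDimensional ℂ V]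
variable {W : Type*} [AddCommGroup W] [Module ℂ W] [FiniteDimensional ℂ W]

def h7_homN (ρ : Representation ℂ N V) (X : Representation ℂ G W) :
    Submodule ℂ (V →ₗ[ℂ] W) where
  carrier := {f | ∀ n : N, f ∘ₗ ρ n = X (n : G) ∘ₗ f}
  add_mem' := by
    intro f g hf hg n
    rw [LinearMap.add_comp, LinearMap.comp_add, hf n, hg n]
  zero_mem' := by
    intro n
    simp
  smul_mem' := by
    intro c f hf n
    rw [LinearMap.smul_comp, LinearMap.comp_smul, hf n]

theorem h7_mem_homN (ρ : Representation ℂ N V) (X : Representation ℂ G W) (f : V →ₗ[ℂ] W) :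
    f ∈ h7_homN N ρ X ↔ ∀ n : N, f ∘ₗ ρ n = X (n : G) ∘ₗ f := Iff.rfl

noncomputable def h7_homAct (X : Representation ℂ G W) :
    (G × (Module.End ℂ V)ˣ) →* Module.End ℂ (V →ₗ[ℂ] W) where
  toFun p :=
    { toFun := fun f => X p.1 ∘ₗ f ∘ₗ ((p.2⁻¹ : (Module.End ℂ V)ˣ) : Module.End ℂ V)
      map_add' := by
        intro f g
        rw [LinearMap.add_comp, LinearMap.comp_add]
      map_smul' := by
        intro c f
        rw [LinearMap.smul_comp, LinearMap.comp_smul]
        rfl }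
  map_one' := by
    apply LinearMap.ext
    intro f
    apply LinearMap.ext
    intro v
    simp
  map_mul' p q := by
    apply LinearMap.ext
    intro f
    apply LinearMap.ext
    intro v
    simp [mul_inv_rev]

theorem h7_homAct_apply (X : Representation ℂ G W) (p : G × (Module.End ℂ V)ˣ)
    (f : V →ₗ[ℂ] W) (v : V) :
    h7_homAct X p f v = X p.1 (f (((p.2⁻¹ : (Module.End ℂ V)ˣ) : Module.End ℂ V) v)) := rfl

theorem h7_homAct_mem (ρ : Representation ℂ N V) (X : Representation ℂ G W)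
    (p : G × (Module.End ℂ V)ˣ) (hp : p ∈ h7_gam0 N ρ) (f : V →ₗ[ℂ] W)
    (hf : f ∈ h7_homN N ρ X) : h7_homAct X p f ∈ h7_homN N ρ X := by
  intro n
  apply LinearMap.ext
  intro v
  rw [LinearMap.comp_apply, LinearMap.comp_apply, h7_homAct_apply, h7_homAct_apply]
  have hp' : h7_Implements ρ p.2 (MulAut.conjNormal p.1) := hp
  have h1 : h7_Implements ρ p.2⁻¹ (MulAut.conjNormal p.1)⁻¹ :=
    (h7_implSubgroup ρ).inv_mem (x := (p.2, MulAut.conjNormal p.1)) hp'
  have h2 := h1 n
  rw [inv_inv] at h2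
  have h3 : p.2⁻¹ * ρ.asGroupHom n = ρ.asGroupHom ((MulAut.conjNormal p.1 : MulAut N)⁻¹ n) * p.2⁻¹ := by
    rw [← h2]
    group
  have h4 := congrArg (fun T : (Module.End ℂ V)ˣ => (T : Module.End ℂ V) v) h3
  simp only [Units.val_mul, Module.End.mul_apply, Representation.asGroupHom_apply] at h4
  rw [h4]
  have h5 := congrArg (fun L => L (((p.2⁻¹ : (Module.End ℂ V)ˣ) : Module.End ℂ V) v))
    (hf ((MulAut.conjNormal p.1 : MulAut N)⁻¹ n))
  simp only [LinearMap.comp_apply] at h5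
  rw [h5, ← Module.End.mul_apply, ← map_mul, ← Module.End.mul_apply, ← map_mul]
  congr 2
  rw [MulAut.conjNormal_inv_apply]
  group

theorem h7_gam1_le (ρ : Representation ℂ N V) : h7_gam1 N ρ ≤ h7_gam0 N ρ := inf_le_left

noncomputable def h7_homRep (ρ : Representation ℂ N V) (X : Representation ℂ G W) :
    Representation ℂ (h7_gam1 N ρ) (h7_homN N ρ X) where
  toFun p := (h7_homAct X (p : G × (Module.End ℂ V)ˣ)).restrict
    (fun f hf => h7_homAct_mem N ρ X p (h7_gam1_le N ρ p.2) f hf)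
  map_one' := by
    apply LinearMap.ext
    intro f
    apply Subtype.ext
    rw [LinearMap.restrict_apply]
    simp
  map_mul' p q := by
    apply LinearMap.ext
    intro f
    apply Subtype.ext
    rw [LinearMap.restrict_apply]
    simp only [Subgroup.coe_mul, map_mul, Module.End.mul_apply, LinearMap.restrict_apply]

theorem h7_homRep_apply (ρ : Representation ℂ N V) (X : Representation ℂ G W)
    (p : h7_gam1 N ρ) (f : h7_homN N ρ X) (v : V) :
    ((h7_homRep N ρ X p f : h7_homN N ρ X) : V →ₗ[ℂ] W) v =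
      X (p : G × (Module.End ℂ V)ˣ).1 ((f : V →ₗ[ℂ] W)
        ((((p : G × (Module.End ℂ V)ˣ).2⁻¹ : (Module.End ℂ V)ˣ) : Module.End ℂ V) v)) := rfl

theorem h7_homRep_scalar (ρ : Representation ℂ N V) [ρ.IsIrreducible]
    (X : Representation ℂ G W) (p : h7_gam1 N ρ) (hp : (p : G × (Module.End ℂ V)ˣ).1 ∈ N) :
    ∃ c : ℂ, h7_homRep N ρ X p = c • LinearMap.id := by
  obtain ⟨⟨g, T⟩, hgT⟩ := p
  simp only at hp
  have h1 : h7_Implements ρ T (MulAut.conjNormal g) := hgT.1
  have h2 : h7_Implements ρ (ρ.asGroupHom ⟨g, hp⟩) (MulAut.conjNormal g) := by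
    have := h7_implements_rho ρ ⟨g, hp⟩
    rw [← MulAut.conjNormal_val] at this
    exact this
  obtain ⟨c, hc⟩ := h7_implements_unique ρ h1 h2
  refine ⟨((c⁻¹ : ℂˣ) : ℂ), ?_⟩
  apply LinearMap.ext
  intro f
  apply Subtype.ext
  apply LinearMap.ext
  intro v
  rw [h7_homRep_apply]
  simp only
  rw [hc, mul_inv_rev, ← map_inv, ← map_inv]
  have hf := f.2 ⟨g, hp⟩⁻¹
  have h3 := congrArg (fun L => L (((h7_sc c⁻¹ : (Module.End ℂ V)ˣ) : Module.End ℂ V) v)) hf
  simp only [LinearMap.comp_apply] at h3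
  rw [Units.val_mul, Module.End.mul_apply, Representation.asGroupHom_apply, h3]
  rw [← Module.End.mul_apply, ← map_mul]
  have h4 : g * ((⟨g, hp⟩ : N)⁻¹ : N) = 1 := by
    rw [Subgroup.coe_inv]
    exact mul_inv_cancel g
  rw [h4, map_one, Module.End.one_apply]
  simp only [h7_sc, Units.coe_map, MonoidHom.coe_coe]
  rw [Algebra.algebraMap_eq_smul_one, LinearMap.smul_apply, Module.End.one_apply, map_smul]
  rfl

open scoped TensorProduct in
theorem h7_homRep_irr (ρ : Representation ℂ N V) [ρ.IsIrreducible]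
    (X : Representation ℂ G W) [X.IsIrreducible]
    (hinv : ∀ (g : G) (n : N), ρ.character (MulAut.conjNormal g n) = ρ.character n)
    (hdim : Module.finrank ℂ W = Module.finrank ℂ (h7_homN N ρ X) * Module.finrank ℂ V) :
    (h7_homRep N ρ X).IsIrreducible := by
  classical
  have hd : 0 < Module.finrank ℂ V :=
    Nat.pos_of_ne_zero (Cfsg.Agent.Lib.Helper25.finrank_ne_zero_of_irr ρ)
  have hW : 0 < Module.finrank ℂ W :=
    Nat.pos_of_ne_zero (Cfsg.Agent.Lib.Helper25.finrank_ne_zero_of_irr X)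
  have hU : 0 < Module.finrank ℂ (h7_homN N ρ X) := by
    rcases Nat.eq_zero_or_pos (Module.finrank ℂ (h7_homN N ρ X)) with h | h
    · rw [h, zero_mul] at hdim
      omega
    · exact h
  haveI : Nontrivial (h7_homN N ρ X) := Module.nontrivial_of_finrank_pos (R := ℂ) hU
  refine { exists_pair_ne := ⟨⊥, ⊤, ?_⟩, eq_bot_or_eq_top := ?_ }
  · intro hbt
    have h2 : ((⊥ : Subrepresentation (h7_homRep N ρ X)).toSubmodule) =
        (⊤ : Subrepresentation (h7_homRep N ρ X)).toSubmodule := congrArg _ hbt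
    exact bot_ne_top h2
  · intro S
    set S' : Submodule ℂ (h7_homN N ρ X) := S.toSubmodule with hS'
    let WS : Submodule ℂ W := Submodule.span ℂ
      {w | ∃ f ∈ S', ∃ v : V, ((f : h7_homN N ρ X) : V →ₗ[ℂ] W) v = w}
    have hWS_inv : ∀ g : G, ∀ w ∈ WS, X g w ∈ WS := by
      intro g
      obtain ⟨T, hT⟩ := h7_gam1_surj N ρ hinv g
      have hle : WS ≤ WS.comap (X g) := by
        apply Submodule.span_le.mpr
        rintro w ⟨f, hf, v, rfl⟩
        change X g (((f : h7_homN N ρ X) : V →ₗ[ℂ] W) v) ∈ WS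
        apply Submodule.subset_span
        refine ⟨h7_homRep N ρ X ⟨(g, T), hT⟩ f, S.apply_mem_toSubmodule _ hf,
          (T : Module.End ℂ V) v, ?_⟩
        rw [h7_homRep_apply]
        simp only
        rw [← Module.End.mul_apply, ← Units.val_mul, inv_mul_cancel, Units.val_one,
          Module.End.one_apply]
      intro w hw
      exact hle hw
    rcases Cfsg.Agent.Lib.Helper25.irr_eq_bot_or_top X WS hWS_inv with h | h
    · left
      apply Subrepresentation.toSubmodule_injective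
      change S' = ⊥
      rw [eq_bot_iff]
      intro f hf
      rw [Submodule.mem_bot]
      apply Subtype.ext
      apply LinearMap.ext
      intro v
      have h1 : ((f : h7_homN N ρ X) : V →ₗ[ℂ] W) v ∈ WS :=
        Submodule.subset_span ⟨f, hf, v, rfl⟩
      rw [h, Submodule.mem_bot] at h1
      rw [h1]
      rfl
    · right
      apply Subrepresentation.toSubmodule_injective
      change S' = ⊤
      let B : S' →ₗ[ℂ] V →ₗ[ℂ] W := (h7_homN N ρ X).subtype.comp S'.subtype
      let L : S' ⊗[ℂ] V →ₗ[ℂ] W := TensorProduct.lift B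
      have hrange : LinearMap.range L = ⊤ := by
        rw [eq_top_iff, ← h]
        apply Submodule.span_le.mpr
        rintro w ⟨f, hf, v, rfl⟩
        exact ⟨(⟨f, hf⟩ : S') ⊗ₜ[ℂ] v, by simp [L, B]⟩
      have h1 : Module.finrank ℂ W ≤ Module.finrank ℂ (S' ⊗[ℂ] V) := by
        rw [← finrank_top ℂ W, ← hrange]
        exact LinearMap.finrank_range_le L
      haveI : Module.Free ℂ S' := Module.Free.of_divisionRing ℂ S'
      rw [Module.finrank_tensorProduct, hdim] at h1
      have h2 : Module.finrank ℂ (h7_homN N ρ X) ≤ Module.finrank ℂ S' :=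
        Nat.le_of_mul_le_mul_right h1 hd
      exact Submodule.eq_top_of_finrank_eq (le_antisymm (Submodule.finrank_le S') h2)

theorem h7_ramification_dvd (ρ : Representation ℂ N V) [ρ.IsIrreducible]
    (X : Representation ℂ G W) [X.IsIrreducible]
    (hinv : ∀ (g : G) (n : N), ρ.character (MulAut.conjNormal g n) = ρ.character n)
    (hdim : Module.finrank ℂ W = Module.finrank ℂ (h7_homN N ρ X) * Module.finrank ℂ V) :
    Module.finrank ℂ (h7_homN N ρ X) ∣ N.index := by
  classical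
  haveI : Finite (h7_gam1 N ρ) := h7_gam1_finite N ρ hinv
  haveI : Fintype (h7_gam1 N ρ) := Fintype.ofFinite _
  haveI := h7_homRep_irr N ρ X hinv hdim
  let pr : h7_gam1 N ρ →* G :=
    (MonoidHom.fst G (Module.End ℂ V)ˣ).comp (h7_gam1 N ρ).subtype
  have hpr : Function.Surjective pr := by
    intro g
    obtain ⟨T, hT⟩ := h7_gam1_surj N ρ hinv g
    exact ⟨⟨(g, T), hT⟩, rfl⟩
  let A : Subgroup (h7_gam1 N ρ) := N.comap pr
  haveI : A.Normal := Subgroup.Normal.comap hN pr
  have hA : ∀ a ∈ A, ∃ c : ℂ, h7_homRep N ρ X a = c • LinearMap.id :=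
    fun a ha => h7_homRep_scalar N ρ X a ha
  have h1 := h7_degree_dvd_index_of_scalar (h7_homRep N ρ X) A hA
  rwa [Subgroup.index_comap_of_surjective N hpr] at h1

noncomputable def h7_homN_equiv (ρ : Representation ℂ N V) (X : Representation ℂ G W) :
    h7_homN N ρ X ≃ₗ[ℂ]
      Representation.IntertwiningMap ρ (X.comp N.subtype : Representation ℂ N W) where
  toFun f := ⟨f.1, f.2⟩
  map_add' f g := rfl
  map_smul' c f := rfl
  invFun f := ⟨f.toLinearMap, f.isIntertwining'⟩
  left_inv f := rfl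
  right_inv f := rfl

end homrep

end Cfsg.Agent.Lib.helper7
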