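import Cfsg.Agent.Lib.helper7.FullDefect
import Cfsg.Agent.Lib.helper7.BlockFirstMain
import Cfsg.Agent.Lib.helper7.BlockHom
import Cfsg.Agent.S0906
import Cfsg.Agent.S0908
import Cfsg.Agent.S0916

set_option autoImplicit false
open Cfsg

namespace Cfsg.Agent.Lib.helper7

open Cfsg.Agent.Lib.Helper25 Cfsg.Agent.Lib.helper2
open scoped ComplexConjugate

variable {G : Type*} [Group G]

theorem h7_sylow_defect_iff [Finite G] {p : ℕ} [hp : Fact p.Prime] {M : Ideal Cfsg.AlgInt}
    (hM : Cfsg.IsPModular p M) (P : Sylow p G) (B : Set (Cfsg.IrrCharacter G))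
    (hB : Cfsg.IsPBlock M B) :
    Cfsg.IsDefectGroup p M B (P : Subgroup G) ↔
      (Nat.card G).factorization p ≤ Cfsg.blockDefect p B := by
  haveI : Fintype G := Fintype.ofFinite G
  constructor
  · intro hD
    have h1 := Cfsg.Agent.S0908.result p M hM B hB _ hD
    have h2 : Nat.card (P : Subgroup G) = p ^ (Nat.card G).factorization p :=
      Sylow.card_eq_multiplicity P
    rw [h2] at h1
    exact (Nat.pow_right_injective hp.out.two_le h1).le
  · intro hle
    obtain ⟨g, hg⟩ := Cfsg.Agent.S0906.result p M hM B hB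
    have Q : Sylow p (Subgroup.centralizer ({g} : Set G)) := default
    have hD : Cfsg.IsDefectGroup p M B ((Q : Subgroup (Subgroup.centralizer ({g} : Set G))).map
        (Subgroup.centralizer ({g} : Set G)).subtype) := ⟨g, hg, Q, rfl⟩
    have h1 := Cfsg.Agent.S0908.result p M hM B hB _ hD
    have hQp : IsPGroup p ((Q : Subgroup (Subgroup.centralizer ({g} : Set G))).map
        (Subgroup.centralizer ({g} : Set G)).subtype) := Q.isPGroup'.map _
    obtain ⟨c, hc⟩ := h7_sylow_conj_of_card P _ hQp (by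
      rw [h1]
      exact Nat.pow_le_pow_right hp.out.pos hle)
    rw [← hc]
    exact h7_isDefectGroup_conj p M B _ hD c

theorem h7_sylow_fusion [Finite G] {p : ℕ} [hp : Fact p.Prime] (P : Sylow p G) (x y : G)
    (hx : x ∈ Subgroup.centralizer ((P : Subgroup G) : Set G))
    (hy : y ∈ Subgroup.centralizer ((P : Subgroup G) : Set G)) (hc : IsConj x y) :
    ∃ m ∈ Subgroup.normalizer ((P : Subgroup G) : Set G), m * x * m⁻¹ = y := by
  have hPle : (P : Subgroup G) ≤ Subgroup.centralizer ({x} : Set G) := by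
    intro u hu
    rw [Subgroup.mem_centralizer_singleton_iff]
    exact (Subgroup.mem_centralizer_iff.mp hx u hu)
  have hcardP : Nat.card (P : Subgroup G) = p ^ (Nat.card G).factorization p :=
    Sylow.card_eq_multiplicity P
  have hfac : (Nat.card (Subgroup.centralizer ({x} : Set G))).factorization p =
      (Nat.card G).factorization p := by
    apply le_antisymm
    · exact (Nat.factorization_le_iff_dvd Nat.card_pos.ne' Nat.card_pos.ne').mpr
        (Subgroup.card_subgroup_dvd_card _) p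
    · have h1 : p ^ (Nat.card G).factorization p ∣
          Nat.card (Subgroup.centralizer ({x} : Set G)) := by
        rw [← hcardP]
        exact Subgroup.card_dvd_of_le hPle
      exact (Nat.Prime.pow_dvd_iff_le_factorization hp.out Nat.card_pos.ne').mp h1
  have hc' : Nat.card ((P : Subgroup G).subgroupOf (Subgroup.centralizer ({x} : Set G))) =
      p ^ (Nat.card (Subgroup.centralizer ({x} : Set G))).factorization p := by
    rw [hfac, ← hcardP]
    exact Nat.card_congr (Subgroup.subgroupOfEquivOfLe hPle).toEquiv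
  have h := (Cfsg.Agent.S0916.result p (P : Subgroup G) P.isPGroup').1 x
    ⟨Sylow.ofCard _ hc', by rw [Sylow.coe_ofCard, Subgroup.map_subgroupOf_eq_of_le hPle]⟩
  exact h.2 x y (IsConj.refl x) hc hx hy

theorem h7_not_full_dvd [Finite G] {p : ℕ} [hp : Fact p.Prime] {M : Ideal Cfsg.AlgInt}
    (hPr : M.IsPrime) (χ : Cfsg.IrrCharacter G)
    (h : ¬ (Nat.card G).factorization p ≤ Cfsg.blockDefect p (Cfsg.blockOf M (χ : G → ℂ))) :
    p ∣ Cfsg.charDegree (χ : G → ℂ) := by
  haveI : Fintype G := Fintype.ofFinite G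
  haveI : Fintype (Cfsg.IrrCharacter G) := Fintype.ofFinite _
  unfold Cfsg.blockDefect at h
  have hmem : (Cfsg.charDegree (χ : G → ℂ)).factorization p ∈
      ((fun ψ : Cfsg.IrrCharacter G => (Cfsg.charDegree (ψ : G → ℂ)).factorization p) ''
        Cfsg.blockOf M (χ : G → ℂ)) := ⟨χ, h7_sameBlock_refl hPr _, rfl⟩
  have hle := Nat.sInf_le hmem
  apply Nat.dvd_of_factorization_pos
  omega

theorem h7_natCard_le_of_mul_eq_one {R : Type*} [CommRing R] [Nontrivial R] {n m : Type*}
    [Fintype n] [Fintype m] [DecidableEq n] [DecidableEq m] (A : Matrix n m R)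
    (W : Matrix m n R) (h : A * W = 1) : Nat.card n ≤ Nat.card m := by
  rw [Nat.card_eq_fintype_card, Nat.card_eq_fintype_card]
  exact h7_card_le_of_mul_eq_one A W h

theorem h7_card_fullclasses_le [Finite G] (p : ℕ) [hp : Fact p.Prime] (M : Ideal Cfsg.AlgInt)
    (hM : Cfsg.IsPModular p M) :
    Nat.card {C : ConjClasses G // ∃ g : G, ConjClasses.mk g = C ∧ Cfsg.IsPRegular p g ∧
      (Nat.card G).factorization p ≤
        (Nat.card (Subgroup.centralizer ({g} : Set G))).factorization p} ≤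
    Nat.card {B : Set (Cfsg.IrrCharacter G) // Cfsg.IsPBlock M B ∧
      (Nat.card G).factorization p ≤ Cfsg.blockDefect p B} := by
  classical
  haveI : Fintype G := Fintype.ofFinite G
  haveI : Fintype (Cfsg.IrrCharacter G) := Fintype.ofFinite _
  haveI : Fintype (ConjClasses G) := Fintype.ofFinite _
  have hPr := hM.2.1.isPrime
  haveI : Fintype {B : Set (Cfsg.IrrCharacter G) // Cfsg.IsPBlock M B ∧
      (Nat.card G).factorization p ≤ Cfsg.blockDefect p B} := Fintype.ofFinite _
  obtain ⟨P⟩ : Nonempty (Sylow p G) := inferInstance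
  have hrepK : ∀ K : {C : ConjClasses G // ∃ g : G, ConjClasses.mk g = C ∧ Cfsg.IsPRegular p g ∧
      (Nat.card G).factorization p ≤
        (Nat.card (Subgroup.centralizer ({g} : Set G))).factorization p},
      ∃ k : G, ConjClasses.mk k = K.1 ∧ ¬ p ∣ orderOf k ∧
        ∀ u ∈ (P : Subgroup G), u * k = k * u := by
    intro K
    obtain ⟨g, hg, hreg, hle⟩ := K.2
    obtain ⟨c, hc⟩ := h7_full_defect_rep P g hle
    refine ⟨c * g * c⁻¹, ?_, ?_, hc⟩
    · rw [← hg]
      exact ConjClasses.mk_eq_mk_iff_isConj.mpr (isConj_iff.mpr ⟨c, rfl⟩).symm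
    · have := MulEquiv.orderOf_eq (MulAut.conj c) g
      rw [MulAut.conj_apply] at this
      rw [this]
      exact hreg
  choose kr hkr using hrepK
  obtain ⟨rep, hrep⟩ : ∃ rep : Set (Cfsg.IrrCharacter G) → Cfsg.IrrCharacter G,
      ∀ B : Set (Cfsg.IrrCharacter G), B.Nonempty → rep B ∈ B := by
    refine ⟨fun B => if h : B.Nonempty then h.some else trivIrr G, ?_⟩
    intro B hB
    simp only [dif_pos hB]
    exact hB.some_mem
  have hr : ∀ χ : Cfsg.IrrCharacter G, Cfsg.SameBlock M (χ : G → ℂ)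
      (rep (Cfsg.blockOf M (χ : G → ℂ)) : G → ℂ) := by
    intro χ
    exact hrep _ ⟨χ, (show χ ∈ Cfsg.blockOf M (χ : G → ℂ) from h7_sameBlock_refl hPr _)⟩
  have hfull : ∀ χ : Cfsg.IrrCharacter G,
      ¬ (Nat.card G).factorization p ≤ Cfsg.blockDefect p (Cfsg.blockOf M (χ : G → ℂ)) →
      p ∣ Cfsg.charDegree (χ : G → ℂ) := fun χ h => h7_not_full_dvd hPr χ h
  apply h7_natCard_le_of_mul_eq_one (R := h7_resRing M hPr)
    (Matrix.of fun (K : {C : ConjClasses G // ∃ g : G, ConjClasses.mk g = C ∧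
        Cfsg.IsPRegular p g ∧ (Nat.card G).factorization p ≤
        (Nat.card (Subgroup.centralizer ({g} : Set G))).factorization p})
      (B : {B : Set (Cfsg.IrrCharacter G) // Cfsg.IsPBlock M B ∧
        (Nat.card G).factorization p ≤ Cfsg.blockDefect p B}) =>
      h7_res M hPr (Cfsg.centralChar (rep B.1 : G → ℂ) (kr K)))
    (Matrix.of fun (B : {B : Set (Cfsg.IrrCharacter G) // Cfsg.IsPBlock M B ∧
        (Nat.card G).factorization p ≤ Cfsg.blockDefect p B})
      (L : {C : ConjClasses G // ∃ g : G, ConjClasses.mk g = C ∧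
        Cfsg.IsPRegular p g ∧ (Nat.card G).factorization p ≤
        (Nat.card (Subgroup.centralizer ({g} : Set G))).factorization p}) =>
      h7_res M hPr (∑ χ : Cfsg.IrrCharacter G, if χ ∈ B.1 then
        h7_fdE (P : Subgroup G) (χ : G → ℂ) (kr L) else 0))
  ext K L
  rw [Matrix.mul_apply, Matrix.one_apply]
  simp only [Matrix.of_apply]
  have hE : ∀ χ : Cfsg.IrrCharacter G,
      Cfsg.MemLocalRing M (h7_fdE (P : Subgroup G) (χ : G → ℂ) (kr L)) :=
    fun χ => h7_fdE_memLocalRing hM P χ (kr L) (hkr L).2.2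
  have hW : ∀ B : {B : Set (Cfsg.IrrCharacter G) // Cfsg.IsPBlock M B ∧
      (Nat.card G).factorization p ≤ Cfsg.blockDefect p B},
      Cfsg.MemLocalRing M (∑ χ : Cfsg.IrrCharacter G, if χ ∈ B.1 then
        h7_fdE (P : Subgroup G) (χ : G → ℂ) (kr L) else 0) := by
    intro B
    apply h7_memLocalRing_sum hPr
    intro χ _
    split_ifs
    · exact hE χ
    · exact h7_memLocalRing_zero hPr
  have hA : ∀ B : {B : Set (Cfsg.IrrCharacter G) // Cfsg.IsPBlock M B ∧
      (Nat.card G).factorization p ≤ Cfsg.blockDefect p B},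
      Cfsg.MemLocalRing M (Cfsg.centralChar (rep B.1 : G → ℂ) (kr K)) :=
    fun B => h7_memLocalRing_centralChar hPr _ _
  have hprod : ∀ B ∈ (Finset.univ : Finset {B : Set (Cfsg.IrrCharacter G) //
      Cfsg.IsPBlock M B ∧ (Nat.card G).factorization p ≤ Cfsg.blockDefect p B}),
      Cfsg.MemLocalRing M (Cfsg.centralChar (rep B.1 : G → ℂ) (kr K) *
        ∑ χ : Cfsg.IrrCharacter G, if χ ∈ B.1 then
          h7_fdE (P : Subgroup G) (χ : G → ℂ) (kr L) else 0) :=
    fun B _ => h7_memLocalRing_mul hPr (hA B) (hW B)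
  have hlhs : (∑ B : {B : Set (Cfsg.IrrCharacter G) // Cfsg.IsPBlock M B ∧
      (Nat.card G).factorization p ≤ Cfsg.blockDefect p B},
      h7_res M hPr (Cfsg.centralChar (rep B.1 : G → ℂ) (kr K)) *
      h7_res M hPr (∑ χ : Cfsg.IrrCharacter G, if χ ∈ B.1 then
        h7_fdE (P : Subgroup G) (χ : G → ℂ) (kr L) else 0)) =
      h7_res M hPr (∑ B : {B : Set (Cfsg.IrrCharacter G) // Cfsg.IsPBlock M B ∧
      (Nat.card G).factorization p ≤ Cfsg.blockDefect p B},
      Cfsg.centralChar (rep B.1 : G → ℂ) (kr K) *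
      ∑ χ : Cfsg.IrrCharacter G, if χ ∈ B.1 then
        h7_fdE (P : Subgroup G) (χ : G → ℂ) (kr L) else 0) := by
    rw [h7_res_sum hPr _ _ hprod]
    refine Finset.sum_congr rfl fun B _ => ?_
    rw [h7_res_mul hPr (hA B) (hW B)]
  rw [hlhs]
  have hinner : (∑ B : {B : Set (Cfsg.IrrCharacter G) // Cfsg.IsPBlock M B ∧
      (Nat.card G).factorization p ≤ Cfsg.blockDefect p B},
      Cfsg.centralChar (rep B.1 : G → ℂ) (kr K) *
      ∑ χ : Cfsg.IrrCharacter G, if χ ∈ B.1 then
        h7_fdE (P : Subgroup G) (χ : G → ℂ) (kr L) else 0) =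
      ∑ χ : Cfsg.IrrCharacter G,
        if (Nat.card G).factorization p ≤ Cfsg.blockDefect p (Cfsg.blockOf M (χ : G → ℂ)) then
          Cfsg.centralChar (rep (Cfsg.blockOf M (χ : G → ℂ)) : G → ℂ) (kr K) *
            h7_fdE (P : Subgroup G) (χ : G → ℂ) (kr L) else 0 := by
    simp only [Finset.mul_sum]
    rw [Finset.sum_comm]
    refine Finset.sum_congr rfl fun χ _ => ?_
    have hBeq : ∀ B : {B : Set (Cfsg.IrrCharacter G) // Cfsg.IsPBlock M B ∧
        (Nat.card G).factorization p ≤ Cfsg.blockDefect p B}, χ ∈ B.1 →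
        B.1 = Cfsg.blockOf M (χ : G → ℂ) := by
      intro B hχ
      obtain ⟨χ₀, h₀⟩ := B.2.1
      rw [h₀] at hχ ⊢
      exact h7_blockOf_eq_of_mem hPr χ₀ χ hχ
    split_ifs with hf
    · have hblk : Cfsg.IsPBlock M (Cfsg.blockOf M (χ : G → ℂ)) := ⟨χ, rfl⟩
      rw [Finset.sum_eq_single (⟨Cfsg.blockOf M (χ : G → ℂ), hblk, hf⟩ :
        {B : Set (Cfsg.IrrCharacter G) // Cfsg.IsPBlock M B ∧
        (Nat.card G).factorization p ≤ Cfsg.blockDefect p B})]
      · have hmem : χ ∈ Cfsg.blockOf M (χ : G → ℂ) := h7_sameBlock_refl hPr _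
        simp only [if_pos hmem]
      · intro B _ hne
        rw [if_neg, mul_zero]
        intro hχ
        exact hne (Subtype.ext (hBeq B hχ))
      · intro h
        exact absurd (Finset.mem_univ _) h
    · apply Finset.sum_eq_zero
      intro B _
      rw [if_neg, mul_zero]
      intro hχ
      apply hf
      rw [← hBeq B hχ]
      exact B.2.2
  rw [hinner]
  have hcore := h7_fd_core hM P (kr K) (kr L) (hkr L).2.2 (hkr L).2.1 (hkr K).2.1
    (fun χ => rep (Cfsg.blockOf M (χ : G → ℂ))) hr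
    (fun χ => (Nat.card G).factorization p ≤ Cfsg.blockDefect p (Cfsg.blockOf M (χ : G → ℂ)))
    hfull
  have hsum_mem : Cfsg.MemLocalRing M (∑ χ : Cfsg.IrrCharacter G,
        if (Nat.card G).factorization p ≤ Cfsg.blockDefect p (Cfsg.blockOf M (χ : G → ℂ)) then
          Cfsg.centralChar (rep (Cfsg.blockOf M (χ : G → ℂ)) : G → ℂ) (kr K) *
            h7_fdE (P : Subgroup G) (χ : G → ℂ) (kr L) else 0) := by
    apply h7_memLocalRing_sum hPr
    intro χ _
    split_ifs
    · exact h7_memLocalRing_mul hPr (h7_memLocalRing_centralChar hPr _ _) (hE χ)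
    · exact h7_memLocalRing_zero hPr
  have hδ : Cfsg.MemLocalRing M (if IsConj (kr L) (kr K) then (1 : ℂ) else 0) := by
    split_ifs
    · exact h7_memLocalRing_one hPr
    · exact h7_memLocalRing_zero hPr
  rw [(h7_res_eq_iff hPr hsum_mem hδ).mpr hcore]
  by_cases hKL : K = L
  · rw [if_pos hKL, hKL, if_pos (IsConj.refl _), h7_res_one]
  · rw [if_neg hKL, if_neg, h7_res_zero]
    intro hc
    apply hKL
    apply Subtype.ext
    rw [← (hkr K).1, ← (hkr L).1]
    exact (ConjClasses.mk_eq_mk_iff_isConj.mpr hc).symm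

theorem h7_centralizer_full [Finite G] {p : ℕ} [hp : Fact p.Prime] (P : Sylow p G) (k : G)
    (hk : ∀ u ∈ (P : Subgroup G), u * k = k * u) :
    (Nat.card G).factorization p ≤
      (Nat.card (Subgroup.centralizer ({k} : Set G))).factorization p := by
  have hPle : (P : Subgroup G) ≤ Subgroup.centralizer ({k} : Set G) := by
    intro u hu
    rw [Subgroup.mem_centralizer_singleton_iff]
    exact hk u hu
  have hcardP : Nat.card (P : Subgroup G) = p ^ (Nat.card G).factorization p :=
    Sylow.card_eq_multiplicity P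
  have h1 : p ^ (Nat.card G).factorization p ∣
      Nat.card (Subgroup.centralizer ({k} : Set G)) := by
    rw [← hcardP]
    exact Subgroup.card_dvd_of_le hPle
  exact (Nat.Prime.pow_dvd_iff_le_factorization hp.out Nat.card_pos.ne').mp h1

theorem h7_card_normalizer_classes [Finite G] (p : ℕ) [hp : Fact p.Prime] (P : Sylow p G) :
    Nat.card {C : ConjClasses (Subgroup.normalizer ((P : Subgroup G) : Set G)) //
      ∀ n : Subgroup.normalizer ((P : Subgroup G) : Set G), ConjClasses.mk n = C →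
        ¬ p ∣ orderOf n ∧ (n : G) ∈ Subgroup.centralizer ((P : Subgroup G) : Set G)} =
    Nat.card {C : ConjClasses G // ∃ g : G, ConjClasses.mk g = C ∧ Cfsg.IsPRegular p g ∧
      (Nat.card G).factorization p ≤
        (Nat.card (Subgroup.centralizer ({g} : Set G))).factorization p} := by
  classical
  have hwd : ∀ C : {C : ConjClasses (Subgroup.normalizer ((P : Subgroup G) : Set G)) //
      ∀ n : Subgroup.normalizer ((P : Subgroup G) : Set G), ConjClasses.mk n = C →
        ¬ p ∣ orderOf n ∧ (n : G) ∈ Subgroup.centralizer ((P : Subgroup G) : Set G)},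
      ∃ g : G, ConjClasses.mk g = ConjClasses.mk ((Quotient.out C.1 :
        Subgroup.normalizer ((P : Subgroup G) : Set G)) : G) ∧ Cfsg.IsPRegular p g ∧
      (Nat.card G).factorization p ≤
        (Nat.card (Subgroup.centralizer ({g} : Set G))).factorization p := by
    intro C
    have hn := C.2 (Quotient.out C.1) (Quotient.out_eq C.1)
    refine ⟨_, rfl, ?_, ?_⟩
    · unfold Cfsg.IsPRegular
      rw [Subgroup.orderOf_coe]
      exact hn.1
    · apply h7_centralizer_full P
      intro u hu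
      exact Subgroup.mem_centralizer_iff.mp hn.2 u hu
  apply Nat.card_eq_of_bijective (fun C => ⟨_, hwd C⟩)
  constructor
  · intro C C' hCC'
    have h1 : ConjClasses.mk ((Quotient.out C.1 :
        Subgroup.normalizer ((P : Subgroup G) : Set G)) : G) =
        ConjClasses.mk ((Quotient.out C'.1 :
        Subgroup.normalizer ((P : Subgroup G) : Set G)) : G) := congrArg Subtype.val hCC'
    have h2 := ConjClasses.mk_eq_mk_iff_isConj.mp h1
    have hn := C.2 (Quotient.out C.1) (Quotient.out_eq C.1)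
    have hn' := C'.2 (Quotient.out C'.1) (Quotient.out_eq C'.1)
    obtain ⟨m, hm, hmn⟩ := h7_sylow_fusion P _ _ hn.2 hn'.2 h2
    apply Subtype.ext
    rw [← Quotient.out_eq C.1, ← Quotient.out_eq C'.1]
    exact ConjClasses.mk_eq_mk_iff_isConj.mpr (isConj_iff.mpr ⟨⟨m, hm⟩, Subtype.ext hmn⟩)
  · intro K
    obtain ⟨g, hg, hreg, hle⟩ := K.2
    obtain ⟨c, hc⟩ := h7_full_defect_rep P g hle
    have hkC : c * g * c⁻¹ ∈ Subgroup.centralizer ((P : Subgroup G) : Set G) := by
      rw [Subgroup.mem_centralizer_iff]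
      exact hc
    have hkN : c * g * c⁻¹ ∈ Subgroup.normalizer ((P : Subgroup G) : Set G) :=
      Subgroup.centralizer_le_normalizer _ hkC
    have hordk : orderOf (c * g * c⁻¹) = orderOf g := by
      have := MulEquiv.orderOf_eq (MulAut.conj c) g
      rwa [MulAut.conj_apply] at this
    have hCmem : ∀ n : Subgroup.normalizer ((P : Subgroup G) : Set G),
        ConjClasses.mk n = ConjClasses.mk (⟨c * g * c⁻¹, hkN⟩ :
          Subgroup.normalizer ((P : Subgroup G) : Set G)) →
        ¬ p ∣ orderOf n ∧ (n : G) ∈ Subgroup.centralizer ((P : Subgroup G) : Set G) := by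
      intro n hn
      obtain ⟨m, hm⟩ := isConj_iff.mp (ConjClasses.mk_eq_mk_iff_isConj.mp hn)
      have hm' : (m : G) * (n : G) * (m : G)⁻¹ = c * g * c⁻¹ := by
        have := congrArg Subtype.val hm
        simpa using this
      constructor
      · have h1 : orderOf n = orderOf (c * g * c⁻¹) := by
          rw [← Subgroup.orderOf_coe, ← hm']
          have := MulEquiv.orderOf_eq (MulAut.conj (m : G)) (n : G)
          rw [MulAut.conj_apply] at this
          exact this.symm
        rw [h1, hordk]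
        exact hreg
      · rw [Subgroup.mem_centralizer_iff]
        intro u hu
        have hu' : (m : G) * u * (m : G)⁻¹ ∈ (P : Subgroup G) :=
          (Subgroup.mem_normalizer_iff.mp m.2 u).mp hu
        have h2 := hc _ hu'
        have hn_eq : (n : G) = (m : G)⁻¹ * (c * g * c⁻¹) * (m : G) := by
          rw [← hm']
          group
        rw [hn_eq]
        have e1 : u * ((m : G)⁻¹ * (c * g * c⁻¹) * (m : G)) =
            (m : G)⁻¹ * ((m : G) * u * (m : G)⁻¹ * (c * g * c⁻¹)) * (m : G) := by group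
        have e2 : (m : G)⁻¹ * (c * g * c⁻¹) * (m : G) * u =
            (m : G)⁻¹ * ((c * g * c⁻¹) * ((m : G) * u * (m : G)⁻¹)) * (m : G) := by group
        rw [e1, e2, h2]
    refine ⟨⟨ConjClasses.mk ⟨c * g * c⁻¹, hkN⟩, hCmem⟩, ?_⟩
    apply Subtype.ext
    show ConjClasses.mk ((Quotient.out (ConjClasses.mk (⟨c * g * c⁻¹, hkN⟩ :
      Subgroup.normalizer ((P : Subgroup G) : Set G))) :
      Subgroup.normalizer ((P : Subgroup G) : Set G)) : G) = K.1
    have h3 := Quotient.out_eq (ConjClasses.mk (⟨c * g * c⁻¹, hkN⟩ :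
      Subgroup.normalizer ((P : Subgroup G) : Set G)))
    obtain ⟨m, hm⟩ := isConj_iff.mp (ConjClasses.mk_eq_mk_iff_isConj.mp h3)
    have hm' : (m : G) * ((Quotient.out (ConjClasses.mk (⟨c * g * c⁻¹, hkN⟩ :
      Subgroup.normalizer ((P : Subgroup G) : Set G))) :
      Subgroup.normalizer ((P : Subgroup G) : Set G)) : G) * (m : G)⁻¹ = c * g * c⁻¹ := by
      have := congrArg Subtype.val hm
      simpa using this
    rw [← hg]
    apply ConjClasses.mk_eq_mk_iff_isConj.mpr
    rw [isConj_iff]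
    refine ⟨c⁻¹ * (m : G), ?_⟩
    have e : c⁻¹ * (m : G) * ((Quotient.out (ConjClasses.mk (⟨c * g * c⁻¹, hkN⟩ :
      Subgroup.normalizer ((P : Subgroup G) : Set G))) :
      Subgroup.normalizer ((P : Subgroup G) : Set G)) : G) * (c⁻¹ * (m : G))⁻¹ =
      c⁻¹ * ((m : G) * ((Quotient.out (ConjClasses.mk (⟨c * g * c⁻¹, hkN⟩ :
      Subgroup.normalizer ((P : Subgroup G) : Set G))) :
      Subgroup.normalizer ((P : Subgroup G) : Set G)) : G) * (m : G)⁻¹) * c := by group
    rw [e, hm']
    group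

end Cfsg.Agent.Lib.helper7
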