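import Mathlib
import Cfsg.Agent.Lib.Helper19.G2V.Defs

/-!
# G2V row GP (`good'_inv`), helper7.  Verbatim statement of `Helper19/G2V/Skel.lean.txt`.
-/

set_option autoImplicit false

namespace Cfsg.Agent.Lib.Helper19.G2V

open Cfsg.Lie Cfsg.Lie.ChevalleyDatum Matrix
open Cfsg.Agent.Lib.helper8
open Cfsg.Agent.Lib.helper23.P4V

universe u

variable {F : Type u} [Field F]

/-- **GP**. -/
theorem good'_inv (τ ν : F) (hG : Good' τ ν) : Good' (τ / ν) ν⁻¹ := by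
  obtain ⟨⟨hτ, hν1, hirr⟩, hD⟩ := hG
  have hν : ν ≠ 0 := by
    intro h
    apply hirr 0
    rw [h]; ring
  refine ⟨⟨div_ne_zero hτ hν, ?_, ?_⟩, ?_⟩
  · intro h
    apply hν1
    rw [inv_eq_one] at h
    exact h
  · intro t ht
    by_cases ht0 : t = 0
    · rw [ht0] at ht
      apply inv_ne_zero hν
      have : ν⁻¹ = 0 ^ 2 - τ / ν * 0 + ν⁻¹ := by ring
      rw [this, ht]
    · apply hirr t⁻¹
      have : t⁻¹ ^ 2 - τ * t⁻¹ + ν = ν * (t ^ 2 - τ / ν * t + ν⁻¹) / t ^ 2 := by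
        field_simp
        ring
      rw [this, ht, mul_zero, zero_div]
  · intro h
    apply hD
    have : ν ^ 2 + ν - τ ^ 3 + 3 * τ * ν = ν ^ 3 * (ν⁻¹ ^ 2 + ν⁻¹ - (τ / ν) ^ 3 + 3 * (τ / ν) * ν⁻¹) := by
      field_simp
      ring
    rw [this, h, mul_zero]

end Cfsg.Agent.Lib.Helper19.G2V
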