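import Mathlib
import Cfsg.Prelude.Def_Blocks
import Cfsg.Agent.Lib.helper7.OrbitSum
import Cfsg.Agent.Lib.helper7.LocalIdeal
import Cfsg.Agent.Lib.helper7.BlockDefect2

set_option autoImplicit false
set_option linter.style.haveILetI false
set_option linter.unusedSectionVars false
set_option linter.unusedVariables false

namespace Cfsg.Agent.Lib.helper7

open scoped ComplexConjugate

/-- Weighted fixed-point lemma: if a `p`-group acts on a finite set, `f` is an invariant function
with values in the local ring and `∑ f` is not in the local ideal, then some fixed point has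
`f` outside the local ideal. -/
theorem h7_fixed_not_mem {Q X : Type*} [Group Q] [Fintype Q] [MulAction Q X] [Fintype X] {p : ℕ}
    [hp : Fact p.Prime] {M : Ideal Cfsg.AlgInt} (hM : Cfsg.IsPModular p M) (hQ : IsPGroup p Q)
    (f : X → ℂ) (hf : ∀ (a : Q) (x : X), f (a • x) = f x)
    (hR : ∀ x, Cfsg.MemLocalRing M (f x)) (hnot : ¬ Cfsg.MemLocalIdeal M (∑ x, f x)) :
    ∃ x : X, (∀ a : Q, a • x = x) ∧ ¬ Cfsg.MemLocalIdeal M (f x) := by
  classical
  haveI : Fintype (Quotient (MulAction.orbitRel Q X)) := Fintype.ofFinite _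
  have hPr := hM.2.1.isPrime
  by_contra hcon
  push Not at hcon
  apply hnot
  rw [h7_sum_eq_sum_orbits f hf]
  apply h7_memLocalIdeal_sum hPr
  intro ω _
  rw [nsmul_eq_mul]
  by_cases h : ∀ c : Q, c • (Quotient.out ω) = Quotient.out ω
  · exact h7_memLocalIdeal_mul_left hPr (h7_memLocalRing_natCast hPr _) (hcon _ h)
  · have hne : MulAction.stabilizer Q (Quotient.out ω) ≠ ⊤ := by
      intro htop
      apply h
      intro c
      have : c ∈ MulAction.stabilizer Q (Quotient.out ω) := by
        rw [htop]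
        exact Subgroup.mem_top c
      exact this
    obtain ⟨n, hn⟩ := hQ.index (MulAction.stabilizer Q (Quotient.out ω))
    have hidx : Nat.card Q / Nat.card (MulAction.stabilizer Q (Quotient.out ω)) =
        (MulAction.stabilizer Q (Quotient.out ω)).index := by
      rw [← Subgroup.index_mul_card (MulAction.stabilizer Q (Quotient.out ω)),
        Nat.mul_div_cancel _ Nat.card_pos]
    rw [hidx, hn]
    have hn0 : n ≠ 0 := by
      intro h0
      rw [h0, pow_zero] at hn
      exact hne (Subgroup.index_eq_one.mp hn)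
    obtain ⟨k, rfl⟩ := Nat.exists_eq_succ_of_ne_zero hn0
    rw [pow_succ]
    push_cast
    rw [mul_assoc]
    apply h7_memLocalIdeal_mul_left hPr
    · have := h7_memLocalRing_natCast hPr (p ^ k)
      simpa using this
    · exact h7_memLocalIdeal_mul_right hPr (h7_memLocalIdeal_p hM) (hR _)

section LemmaB

variable {H : Type*} [Group H] [Fintype H]

/-- The subgroup `T ∩ hTh⁻¹`, in elementwise form. -/
def h7_dcStab (T : Subgroup H) (h : H) : Subgroup H where
  carrier := {w | w ∈ T ∧ h⁻¹ * w * h ∈ T}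
  mul_mem' := by
    rintro a b ⟨ha, ha'⟩ ⟨hb, hb'⟩
    refine ⟨T.mul_mem ha hb, ?_⟩
    have : h⁻¹ * (a * b) * h = (h⁻¹ * a * h) * (h⁻¹ * b * h) := by group
    rw [this]
    exact T.mul_mem ha' hb'
  one_mem' := by
    refine ⟨T.one_mem, ?_⟩
    have : h⁻¹ * 1 * h = 1 := by group
    rw [this]
    exact T.one_mem
  inv_mem' := by
    rintro a ⟨ha, ha'⟩
    refine ⟨T.inv_mem ha, ?_⟩
    have : h⁻¹ * a⁻¹ * h = (h⁻¹ * a * h)⁻¹ := by group
    rw [this]
    exact T.inv_mem ha'

/-- Lemma B: the coset fixed point argument. -/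
theorem h7_coset_fixed {p : ℕ} [hp : Fact p.Prime] {M : Ideal Cfsg.AlgInt}
    (hM : Cfsg.IsPModular p M) (T : Subgroup H) [Fintype T] (hT : IsPGroup p T) (a : H → ℂ)
    (hacl : ∀ g w : H, a (w * g * w⁻¹) = a g) (haR : ∀ g, Cfsg.MemLocalRing M (a g)) (h : H)
    (hβ : ¬ Cfsg.MemLocalIdeal M (∑ u : T, a (h * (u : H)))) :
    ∃ g : H, h⁻¹ * g ∈ T ∧ ¬ Cfsg.MemLocalIdeal M (a g) ∧
      ∀ w ∈ T, h⁻¹ * w * h ∈ T → w * g * w⁻¹ = g := by
  classical
  -- the coset `hT` as a type
  let X := {g : H // h⁻¹ * g ∈ T}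
  let Q := h7_dcStab T h
  haveI : Fintype X := Fintype.ofFinite _
  haveI : Fintype Q := Fintype.ofFinite _
  have hQ : IsPGroup p Q := by
    have hle : Q ≤ T := fun w hw => hw.1
    exact hT.to_le hle
  letI act : MulAction Q X :=
    { smul := fun w x => ⟨(w : H) * (x : H) * (w : H)⁻¹, by
        have hw := w.2
        have hx := x.2
        have e : h⁻¹ * ((w : H) * (x : H) * (w : H)⁻¹) =
            (h⁻¹ * (w : H) * h) * (h⁻¹ * (x : H)) * (w : H)⁻¹ := by group
        show h⁻¹ * ((w : H) * (x : H) * (w : H)⁻¹) ∈ T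
        rw [e]
        exact T.mul_mem (T.mul_mem hw.2 hx) (T.inv_mem hw.1)⟩
      one_smul := by
        intro x
        apply Subtype.ext
        show ((1 : Q) : H) * (x : H) * ((1 : Q) : H)⁻¹ = (x : H)
        simp
      mul_smul := by
        intro w₁ w₂ x
        apply Subtype.ext
        show ((w₁ * w₂ : Q) : H) * (x : H) * ((w₁ * w₂ : Q) : H)⁻¹ =
          (w₁ : H) * ((w₂ : H) * (x : H) * (w₂ : H)⁻¹) * (w₁ : H)⁻¹
        simp only [Subgroup.coe_mul]
        group }
  have hsmul : ∀ (w : Q) (x : X), ((w • x : X) : H) = (w : H) * (x : H) * (w : H)⁻¹ :=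
    fun w x => rfl
  let f : X → ℂ := fun x => a (x : H)
  have hf : ∀ (w : Q) (x : X), f (w • x) = f x := by
    intro w x
    show a ((w • x : X) : H) = a (x : H)
    rw [hsmul, hacl]
  have hsum : ∑ x : X, f x = ∑ u : T, a (h * (u : H)) := by
    symm
    refine Fintype.sum_equiv
      { toFun := fun u : T => (⟨h * (u : H), by
          show h⁻¹ * (h * (u : H)) ∈ T
          rw [inv_mul_cancel_left]
          exact u.2⟩ : X)
        invFun := fun x : X => ⟨h⁻¹ * (x : H), x.2⟩
        left_inv := fun u => by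
          apply Subtype.ext
          show h⁻¹ * (h * (u : H)) = (u : H)
          rw [inv_mul_cancel_left]
        right_inv := fun x => by
          apply Subtype.ext
          show h * (h⁻¹ * (x : H)) = (x : H)
          rw [mul_inv_cancel_left] } _ _ ?_
    intro u
    rfl
  rw [← hsum] at hβ
  obtain ⟨x, hxfix, hxa⟩ := h7_fixed_not_mem hM hQ f hf (fun x => haR _) hβ
  refine ⟨(x : H), x.2, hxa, ?_⟩
  intro w hw hw'
  have := hxfix ⟨w, hw, hw'⟩
  have h2 := congrArg (fun y : X => (y : H)) this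
  simpa [hsmul] using h2

end LemmaB

end Cfsg.Agent.Lib.helper7
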