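import Mathlib
import Cfsg.Prelude.Def_Blocks
import Cfsg.Agent.Lib.helper7.Green1
import Cfsg.Agent.Lib.helper7.BlockOsima
import Cfsg.Agent.Lib.helper7.LocalIdeal2
import Cfsg.Agent.Lib.helper7.BlockInd2

set_option autoImplicit false
set_option linter.style.haveILetI false
set_option linter.unusedSectionVars false
set_option linter.unusedVariables false

namespace Cfsg.Agent.Lib.helper7

open scoped ComplexConjugate
open Cfsg.Agent.Lib.Helper25

variable {G : Type*} [Group G] [Fintype G] [Fintype (Cfsg.IrrCharacter G)]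

/-- Shifted evaluation of the coefficient function of a central element. -/
theorem h7_coef_eval_shift (c : Cfsg.IrrCharacter G → ℂ) (χ : Cfsg.IrrCharacter G) (k : G) :
    ∑ g : G, h7_coef c g * (χ : G → ℂ) (g * k) = c χ * (χ : G → ℂ) k := by
  classical
  unfold h7_coef
  have hG : (Nat.card G : ℂ) ≠ 0 := by exact_mod_cast Nat.card_pos.ne'
  have key : ∀ ψ : Cfsg.IrrCharacter G,
      ∑ g : G, conj ((ψ : G → ℂ) g) * (χ : G → ℂ) (g * k) =
        if χ = ψ then (Nat.card G : ℂ) * (χ : G → ℂ) k / (χ : G → ℂ) 1 else 0 := by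
    intro ψ
    rw [← h7_gen_orth χ ψ k]
    refine Fintype.sum_equiv (Equiv.inv G) _ _ ?_
    intro g
    show conj ((ψ : G → ℂ) g) * (χ : G → ℂ) (g * k) =
      (χ : G → ℂ) (k * (g⁻¹)⁻¹) * (ψ : G → ℂ) g⁻¹
    rw [inv_inv, irr_inv ψ g, mul_comm]
    congr 1
    have : k * g = g⁻¹ * (g * k) * (g⁻¹)⁻¹ := by group
    rw [this, irr_conj_invariant]
  have e1 : ∀ g : G, ((Nat.card G : ℂ)⁻¹ * ∑ ψ : Cfsg.IrrCharacter G,
      c ψ * ((ψ : G → ℂ) 1 * conj ((ψ : G → ℂ) g))) * (χ : G → ℂ) (g * k) =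
      ∑ ψ : Cfsg.IrrCharacter G, ((Nat.card G : ℂ)⁻¹ * c ψ * (ψ : G → ℂ) 1) *
        (conj ((ψ : G → ℂ) g) * (χ : G → ℂ) (g * k)) := by
    intro g
    rw [Finset.mul_sum, Finset.sum_mul]
    refine Finset.sum_congr rfl fun ψ _ => ?_
    ring
  rw [Finset.sum_congr rfl (fun g _ => e1 g), Finset.sum_comm]
  have e2 : ∀ ψ : Cfsg.IrrCharacter G, ∑ g : G, ((Nat.card G : ℂ)⁻¹ * c ψ * (ψ : G → ℂ) 1) *
        (conj ((ψ : G → ℂ) g) * (χ : G → ℂ) (g * k)) =
      ((Nat.card G : ℂ)⁻¹ * c ψ * (ψ : G → ℂ) 1) *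
        (if χ = ψ then (Nat.card G : ℂ) * (χ : G → ℂ) k / (χ : G → ℂ) 1 else 0) := by
    intro ψ
    rw [← Finset.mul_sum, key]
  rw [Finset.sum_congr rfl (fun ψ _ => e2 ψ)]
  rw [Finset.sum_eq_single χ]
  · rw [if_pos rfl]
    have := irr_one_ne_zero χ
    field_simp
  · intro ψ _ hne
    rw [if_neg (fun h => hne h.symm), mul_zero]
  · intro h
    exact absurd (Finset.mem_univ χ) h

open Classical in
/-- Lemma A: a block idempotent does not annihilate the permutation module on the cosets of a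
Sylow `p`-subgroup. -/
theorem h7_exists_coset_sum {p : ℕ} [hp : Fact p.Prime] {M : Ideal Cfsg.AlgInt}
    (hM : Cfsg.IsPModular p M) (b : Set (Cfsg.IrrCharacter G)) (T : Sylow p G)
    [Fintype (T : Subgroup G)]
    (h1b : (fun χ : Cfsg.IrrCharacter G => if χ ∈ b then (1 : ℂ) else 0) ∈
      h7_intSubring (G := G) M hM.2.1.isPrime)
    (g₀ : G)
    (hg₀ : ¬ Cfsg.MemLocalIdeal M
      (h7_coef (fun χ : Cfsg.IrrCharacter G => if χ ∈ b then (1 : ℂ) else 0) g₀))
    (hweak : ∀ y : G, p ∣ orderOf y → ∑ χ : Cfsg.IrrCharacter G,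
      (if χ ∈ b then (χ : G → ℂ) g₀ * conj ((χ : G → ℂ) y) else 0) = 0) :
    ∃ h : G, ¬ Cfsg.MemLocalIdeal M (∑ u : (T : Subgroup G),
      h7_coef (fun χ : Cfsg.IrrCharacter G => if χ ∈ b then (1 : ℂ) else 0) (h * (u : G))) := by
  classical
  have hPr := hM.2.1.isPrime
  have hGne : (Nat.card G : ℂ) ≠ 0 := by exact_mod_cast Nat.card_pos.ne'
  obtain ⟨idm, hidm⟩ : ∃ idm : Cfsg.IrrCharacter G → ℂ,
      idm = fun χ : Cfsg.IrrCharacter G => if χ ∈ b then (1 : ℂ) else 0 := ⟨_, rfl⟩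
  rw [← hidm] at h1b hg₀ ⊢
  have hidmsq : ∀ χ, idm χ * idm χ = idm χ := by
    intro χ
    rw [hidm]
    by_cases hχ : χ ∈ b
    · simp only [if_pos hχ, mul_one]
    · simp only [if_neg hχ, mul_zero]
  have haR : ∀ g, Cfsg.MemLocalRing M (h7_coef idm g) := h1b
  by_contra hall
  push Not at hall
  obtain ⟨β, hβ⟩ : ∃ β : G → ℂ, β = fun h => ∑ u : (T : Subgroup G), h7_coef idm (h * (u : G)) :=
    ⟨_, rfl⟩
  have hβm : ∀ h, Cfsg.MemLocalIdeal M (β h) := by
    intro h
    rw [hβ]
    exact hall h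
  obtain ⟨Ψ, hΨ⟩ : ∃ Ψ : G → ℂ, Ψ = fun h => ∑ χ : Cfsg.IrrCharacter G,
      idm χ * ((χ : G → ℂ) h * conj ((χ : G → ℂ) g₀)) := ⟨_, rfl⟩
  have hΨcl : ∀ h w : G, Ψ (w * h * w⁻¹) = Ψ h := by
    intro h w
    rw [hΨ]
    refine Finset.sum_congr rfl fun χ _ => ?_
    rw [irr_conj_invariant]
  -- (A1)
  have hA1 : ∑ h : G, β h * Ψ h = (Nat.card G : ℂ) * h7_coef idm g₀ := by
    have e1 : ∑ h : G, β h * Ψ h =
        ∑ u : (T : Subgroup G), ∑ h : G, h7_coef idm (h * (u : G)) * Ψ h := by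
      rw [hβ]
      simp only [Finset.sum_mul]
      rw [Finset.sum_comm]
    have e2 : ∀ u : (T : Subgroup G), ∑ h : G, h7_coef idm (h * (u : G)) * Ψ h =
        ∑ χ : Cfsg.IrrCharacter G,
          idm χ * (conj ((χ : G → ℂ) g₀) * (χ : G → ℂ) (u : G)⁻¹) := by
      intro u
      have e3 : ∑ h : G, h7_coef idm (h * (u : G)) * Ψ h =
          ∑ g : G, h7_coef idm g * Ψ (g * (u : G)⁻¹) := by
        refine Fintype.sum_equiv (Equiv.mulRight (u : G)) _ _ ?_
        intro h
        show h7_coef idm (h * (u : G)) * Ψ h = h7_coef idm (h * (u : G)) * Ψ (h * (u : G) * (u : G)⁻¹)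
        rw [mul_inv_cancel_right]
      rw [e3, hΨ]
      simp only [Finset.mul_sum]
      rw [Finset.sum_comm]
      refine Finset.sum_congr rfl fun χ _ => ?_
      have e4 : ∀ g : G, h7_coef idm g *
          (idm χ * ((χ : G → ℂ) (g * (u : G)⁻¹) * conj ((χ : G → ℂ) g₀))) =
          (idm χ * conj ((χ : G → ℂ) g₀)) * (h7_coef idm g * (χ : G → ℂ) (g * (u : G)⁻¹)) := by
        intro g
        ring
      rw [Finset.sum_congr rfl (fun g _ => e4 g), ← Finset.mul_sum, h7_coef_eval_shift]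
      have := hidmsq χ
      linear_combination (conj ((χ : G → ℂ) g₀) * (χ : G → ℂ) (u : G)⁻¹) * this
    rw [e1, Finset.sum_congr rfl (fun u _ => e2 u)]
    rw [Finset.sum_eq_single (1 : (T : Subgroup G))]
    · unfold h7_coef
      rw [← mul_assoc, mul_inv_cancel₀ hGne, one_mul]
      refine Finset.sum_congr rfl fun χ _ => ?_
      simp only [Subgroup.coe_one, inv_one]
      ring
    · intro u _ hu1
      have hup : p ∣ orderOf ((u : G)⁻¹) := by
        rw [orderOf_inv]
        obtain ⟨k, hk⟩ := (IsPGroup.iff_orderOf.mp T.isPGroup' u : ∃ k, orderOf u = p ^ k)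
        rw [Subgroup.orderOf_coe, hk]
        have hk0 : k ≠ 0 := by
          rintro rfl
          rw [pow_zero, orderOf_eq_one_iff] at hk
          exact hu1 hk
        exact dvd_pow_self p hk0
      have hw := hweak _ hup
      have hw2 := congrArg (starRingEnd ℂ) hw
      rw [map_sum, map_zero] at hw2
      rw [← hw2]
      refine Finset.sum_congr rfl fun χ _ => ?_
      rw [hidm]
      by_cases hχ : χ ∈ b
      · simp only [if_pos hχ, one_mul, map_mul, Complex.conj_conj]
      · simp only [if_neg hχ, zero_mul, map_zero]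
    · intro h
      exact absurd (Finset.mem_univ _) h
  -- (A2') integrality
  obtain ⟨r, hr⟩ : ∃ r : G → ℂ, r = fun h => h7_coef
      ((fun χ : Cfsg.IrrCharacter G => Cfsg.centralChar (χ : G → ℂ) h) * idm) g₀ := ⟨_, rfl⟩
  have hrR : ∀ h, Cfsg.MemLocalRing M (r h) := by
    intro h
    rw [hr]
    exact (h7_intSubring (G := G) M hPr).mul_mem (h7_centralChar_mem hPr h) h1b g₀
  have hΨr : ∀ h : G, Ψ h = (Nat.card (Subgroup.centralizer ({h} : Set G)) : ℂ) * r h := by
    intro h
    rw [hr, hΨ]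
    unfold h7_coef Cfsg.centralChar
    have hidx : ((Subgroup.centralizer ({h} : Set G)).index : ℂ) *
        (Nat.card (Subgroup.centralizer ({h} : Set G)) : ℂ) = (Nat.card G : ℂ) := by
      exact_mod_cast Subgroup.index_mul_card (Subgroup.centralizer ({h} : Set G))
    have hCne : (Nat.card (Subgroup.centralizer ({h} : Set G)) : ℂ) ≠ 0 := by
      exact_mod_cast Nat.card_pos.ne'
    have e5 : ∀ χ : Cfsg.IrrCharacter G,
        ((fun χ : Cfsg.IrrCharacter G =>
          ((Subgroup.centralizer ({h} : Set G)).index : ℂ) * (χ : G → ℂ) h / (χ : G → ℂ) 1) * idm) χ *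
          ((χ : G → ℂ) 1 * conj ((χ : G → ℂ) g₀)) =
        ((Subgroup.centralizer ({h} : Set G)).index : ℂ) *
          (idm χ * ((χ : G → ℂ) h * conj ((χ : G → ℂ) g₀))) := by
      intro χ
      have := irr_one_ne_zero χ
      simp only [Pi.mul_apply]
      field_simp
    beta_reduce
    rw [Finset.sum_congr rfl (fun χ _ => e5 χ), ← Finset.mul_sum]
    rw [← hidx]
    have hine : ((Subgroup.centralizer ({h} : Set G)).index : ℂ) ≠ 0 := by
      intro h0
      rw [h0, zero_mul] at hidx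
      exact hGne hidx.symm
    field_simp
  -- (A2) orbits under conjugation by `T`
  letI act : MulAction (T : Subgroup G) G :=
    MulAction.compHom G ((MulAut.conj : G →* MulAut G).comp (T : Subgroup G).subtype)
  have hsmul : ∀ (w : (T : Subgroup G)) (h : G), w • h = (w : G) * h * (w : G)⁻¹ := by
    intro w h
    rfl
  haveI : Fintype (Quotient (MulAction.orbitRel (T : Subgroup G) G)) := Fintype.ofFinite _
  have hFinv : ∀ (w : (T : Subgroup G)) (h : G), β (w • h) * Ψ (w • h) = β h * Ψ h := by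
    intro w h
    rw [hsmul, hΨcl]
    congr 1
    rw [hβ]
    refine Fintype.sum_equiv (MulAut.conj w⁻¹).toEquiv _ _ ?_
    intro u
    show h7_coef idm ((w : G) * h * (w : G)⁻¹ * (u : G)) =
      h7_coef idm (h * ((MulAut.conj w⁻¹ u : (T : Subgroup G)) : G))
    have e6 : ((MulAut.conj w⁻¹ u : (T : Subgroup G)) : G) = (w : G)⁻¹ * (u : G) * (w : G) := by
      simp
    rw [e6]
    have e7 : (w : G) * h * (w : G)⁻¹ * (u : G) =
        (w : G) * (h * ((w : G)⁻¹ * (u : G) * (w : G))) * (w : G)⁻¹ := by group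
    rw [e7, h7_coef_conj]
  have hsumorb := h7_sum_eq_sum_orbits (A := (T : Subgroup G)) (X := G)
    (fun h => β h * Ψ h) hFinv
  have hm : Cfsg.MemLocalIdeal M ((Nat.card (T : Subgroup G) : ℂ)⁻¹ * ∑ h : G, β h * Ψ h) := by
    rw [hsumorb, Finset.mul_sum]
    apply h7_memLocalIdeal_sum hPr
    intro ω _
    set h := Quotient.out ω with hh
    set S := MulAction.stabilizer (T : Subgroup G) h with hS
    have hTne : (Nat.card (T : Subgroup G) : ℂ) ≠ 0 := by exact_mod_cast Nat.card_pos.ne'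
    have hSne : (Nat.card S : ℂ) ≠ 0 := by exact_mod_cast Nat.card_pos.ne'
    have hST : Nat.card S ∣ Nat.card (T : Subgroup G) := Subgroup.card_subgroup_dvd_card S
    have hSC : Nat.card S ∣ Nat.card (Subgroup.centralizer ({h} : Set G)) := by
      let φ : S →* Subgroup.centralizer ({h} : Set G) :=
        { toFun := fun w => ⟨((w : (T : Subgroup G)) : G), by
            rw [Subgroup.mem_centralizer_singleton_iff]
            have hw : (w : (T : Subgroup G)) • h = h := w.2
            rw [hsmul] at hw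
            calc ((w : (T : Subgroup G)) : G) * h
                = (((w : (T : Subgroup G)) : G) * h * ((w : (T : Subgroup G)) : G)⁻¹) *
                  ((w : (T : Subgroup G)) : G) := by group
              _ = h * ((w : (T : Subgroup G)) : G) := by rw [hw]⟩
          map_one' := rfl
          map_mul' := fun _ _ => rfl }
      apply Subgroup.card_dvd_of_injective φ
      intro w₁ w₂ h12
      apply Subtype.ext
      apply Subtype.ext
      exact congrArg (fun c : Subgroup.centralizer ({h} : Set G) => (c : G)) h12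
    obtain ⟨k, hk⟩ := hSC
    rw [nsmul_eq_mul, Nat.cast_div hST hSne, hΨr, hk]
    push_cast
    have e8 : (Nat.card (T : Subgroup G) : ℂ)⁻¹ *
        ((Nat.card (T : Subgroup G) : ℂ) / (Nat.card S : ℂ) *
          (β h * ((Nat.card S : ℂ) * (k : ℂ) * r h))) = β h * ((k : ℂ) * r h) := by
      field_simp
    rw [e8]
    exact h7_memLocalIdeal_mul_right hPr (hβm h)
      (h7_memLocalRing_mul hPr (h7_memLocalRing_natCast hPr k) (hrR h))
  rw [hA1] at hm
  have hidxT : ((T : Subgroup G).index : ℂ) * (Nat.card (T : Subgroup G) : ℂ) = (Nat.card G : ℂ) := by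
    exact_mod_cast Subgroup.index_mul_card (T : Subgroup G)
  have hTne : (Nat.card (T : Subgroup G) : ℂ) ≠ 0 := by exact_mod_cast Nat.card_pos.ne'
  have e9 : (Nat.card (T : Subgroup G) : ℂ)⁻¹ * ((Nat.card G : ℂ) * h7_coef idm g₀) =
      ((T : Subgroup G).index : ℂ) * h7_coef idm g₀ := by
    rw [← hidxT]
    field_simp
  rw [e9] at hm
  rcases h7_memLocalIdeal_mul_cases hPr (h7_memLocalRing_natCast hPr _) (haR g₀) hm with h | h
  · rw [h7_memLocalIdeal_natCast_iff hM] at h
    exact T.not_dvd_index h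
  · exact hg₀ h

end Cfsg.Agent.Lib.helper7
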