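import Mathlib
import Cfsg.Prelude.Def_Blocks
import Cfsg.Agent.Lib.helper7.Green2
import Cfsg.Agent.Lib.helper7.BlockMinMax
import Cfsg.Agent.Lib.helper7.BlockSing2
import Cfsg.Agent.Lib.helper7.BlockFirstMain

set_option autoImplicit false
set_option linter.style.haveILetI false
set_option linter.unusedSectionVars false
set_option linter.unusedVariables false

namespace Cfsg.Agent.Lib.helper7

open scoped ComplexConjugate
open Cfsg.Agent.Lib.Helper25

/-- Normalizer growth in `p`-groups, in elementwise form. -/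
theorem h7_normalizer_grow {G : Type*} [Group G] [Finite G] {p : ℕ} [hp : Fact p.Prime]
    (D R : Subgroup G) (hR : IsPGroup p R) (hDR : D ≤ R) (hne : ¬ R ≤ D) :
    ∃ n ∈ R, n ∉ D ∧ n ∈ Subgroup.normalizer (D : Set G) := by
  haveI : Group.IsNilpotent R := hR.isNilpotent
  have hNC : NormalizerCondition R := Group.normalizerCondition_of_isNilpotent
  have hlt : D.subgroupOf R < ⊤ := by
    rw [lt_top_iff_ne_top]
    intro htop
    apply hne
    intro r hr
    have : (⟨r, hr⟩ : R) ∈ D.subgroupOf R := by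
      rw [htop]
      exact Subgroup.mem_top _
    exact this
  have h2 := hNC _ hlt
  obtain ⟨n, hnN, hnD⟩ := SetLike.exists_of_lt h2
  refine ⟨(n : G), n.2, fun h => hnD (Subgroup.mem_subgroupOf.mpr h), ?_⟩
  rw [Subgroup.mem_normalizer_iff] at hnN ⊢
  intro h
  constructor
  · intro hh
    have := (hnN ⟨h, hDR hh⟩).mp (Subgroup.mem_subgroupOf.mpr hh)
    exact Subgroup.mem_subgroupOf.mp this
  · intro hh
    have hhR : h ∈ R := by
      have h1 : (n : G) * h * (n : G)⁻¹ ∈ R := hDR hh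
      have h2 : h = (n : G)⁻¹ * ((n : G) * h * (n : G)⁻¹) * (n : G) := by group
      rw [h2]
      exact R.mul_mem (R.mul_mem (R.inv_mem n.2) h1) n.2
    have := (hnN ⟨h, hhR⟩).mpr (Subgroup.mem_subgroupOf.mpr hh)
    exact Subgroup.mem_subgroupOf.mp this

section NLevel

variable {H : Type*} [Group H] [Fintype H] [Fintype (Cfsg.IrrCharacter H)]

theorem h7_blockCoeff_regular {p : ℕ} [hp : Fact p.Prime] {M : Ideal Cfsg.AlgInt}
    (hM : Cfsg.IsPModular p M) (χ₀ : Cfsg.IrrCharacter H) (g : H)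
    (hg : ¬ Cfsg.MemLocalIdeal M (Cfsg.blockCoeff (Cfsg.blockOf M (χ₀ : H → ℂ)) g)) :
    ¬ p ∣ orderOf g := by
  intro hdvd
  apply hg
  have h1 : ¬ p ∣ orderOf (1 : H) := by
    rw [orderOf_one]
    exact hp.out.not_dvd_one
  have := h7_weak_block_orth hM χ₀ 1 g h1 hdvd
  unfold Cfsg.blockCoeff
  rw [this, mul_zero]
  exact h7_memLocalIdeal_zero hM.2.1.isPrime

open Classical in
/-- Green's theorem for a block with normal defect group. -/
theorem h7_green_normal {p : ℕ} [hp : Fact p.Prime] {M : Ideal Cfsg.AlgInt}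
    (hM : Cfsg.IsPModular p M) (χ₀ : Cfsg.IrrCharacter H) (D : Subgroup H) [hDn : D.Normal]
    (hDp : IsPGroup p D)
    (hD : Cfsg.IsDefectGroup p M (Cfsg.blockOf M (χ₀ : H → ℂ)) D) (T : Sylow p H) :
    ∃ g : H, ¬ p ∣ orderOf g ∧ (∀ d ∈ D, d * g = g * d) ∧
      (∀ w ∈ T, g⁻¹ * w * g ∈ T → w ∈ D) ∧
      (∀ K : Subgroup H, IsPGroup p K → (∀ k ∈ K, k * g = g * k) → K ≤ D) := by
  have hPr := hM.2.1.isPrime
  haveI : Fintype (T : Subgroup H) := Fintype.ofFinite _
  obtain ⟨g₀, hg₀, P₀, hDP₀⟩ := hD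
  obtain ⟨b, hb⟩ : ∃ b : Set (Cfsg.IrrCharacter H), b = Cfsg.blockOf M (χ₀ : H → ℂ) := ⟨_, rfl⟩
  have h1b : (fun χ : Cfsg.IrrCharacter H => if χ ∈ b then (1 : ℂ) else 0) ∈
      h7_intSubring (G := H) M hPr := by
    rw [hb]
    exact h7_block_indicator_mem hPr χ₀
  have hg₀' : ¬ Cfsg.MemLocalIdeal M
      (h7_coef (fun χ : Cfsg.IrrCharacter H => if χ ∈ b then (1 : ℂ) else 0) g₀) := by
    rw [h7_coef_indicator, hb]
    exact hg₀.2.1
  have hg₀reg : ¬ p ∣ orderOf g₀ := h7_blockCoeff_regular hM χ₀ g₀ hg₀.2.1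
  have hweak : ∀ y : H, p ∣ orderOf y → ∑ χ : Cfsg.IrrCharacter H,
      (if χ ∈ b then (χ : H → ℂ) g₀ * conj ((χ : H → ℂ) y) else 0) = 0 := by
    intro y hy
    have := h7_weak_block_orth hM χ₀ g₀ y hg₀reg hy
    refine Eq.trans ?_ this
    rw [finsum_mem_def, finsum_eq_sum_of_fintype, hb]
    refine Finset.sum_congr rfl fun χ _ => ?_
    rw [Set.indicator_apply]
  obtain ⟨h, hh⟩ := h7_exists_coset_sum hM b T h1b g₀ hg₀' hweak
  obtain ⟨g, hgT, hga, hgfix⟩ := h7_coset_fixed hM (T : Subgroup H) T.isPGroup'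
    (h7_coef (fun χ : Cfsg.IrrCharacter H => if χ ∈ b then (1 : ℂ) else 0))
    (fun g w => h7_coef_conj _ g w) h1b h hh
  rw [h7_coef_indicator, hb] at hga
  have hgreg := h7_blockCoeff_regular hM χ₀ g hga
  have hconj : ∀ w : H, g⁻¹ * w * g ∈ T → h⁻¹ * w * h ∈ T := by
    intro w hw
    have e : h⁻¹ * w * h = (h⁻¹ * g) * (g⁻¹ * w * g) * (h⁻¹ * g)⁻¹ := by group
    rw [e]
    exact T.mul_mem (T.mul_mem hgT hw) (T.inv_mem hgT)
  obtain ⟨x, Q, hQ⟩ := h7_minmax_a hM χ₀ g₀ hg₀ P₀ g hga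
  rw [← hDP₀] at hQ
  have hDx : D.map (MulAut.conj x).toMonoidHom ≤ D := by
    rintro _ ⟨d, hd, rfl⟩
    exact hDn.conj_mem d hd x
  have hQD := hQ.trans hDx
  -- every `p`-subgroup of `C(g)` lies in `D`
  have hK : ∀ K : Subgroup H, IsPGroup p K → (∀ k ∈ K, k * g = g * k) → K ≤ D := by
    intro K hKp hKc
    have hKle : K ≤ Subgroup.centralizer ({g} : Set H) := by
      intro k hk
      rw [Subgroup.mem_centralizer_singleton_iff]
      exact hKc k hk
    obtain ⟨Q', hQ'⟩ := (hKp.comap_subtype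
      (K := Subgroup.centralizer ({g} : Set H))).exists_le_sylow
    obtain ⟨c, hc⟩ := MulAction.exists_smul_eq (Subgroup.centralizer ({g} : Set H)) Q Q'
    intro k hk
    have hk' : (⟨k, hKle hk⟩ : Subgroup.centralizer ({g} : Set H)) ∈
        (Q' : Subgroup (Subgroup.centralizer ({g} : Set H))) := hQ' (by exact hk)
    rw [← hc, Sylow.coe_subgroup_smul, Subgroup.mem_pointwise_smul_iff_inv_smul_mem] at hk'
    have hk2 : c⁻¹ * (⟨k, hKle hk⟩ : Subgroup.centralizer ({g} : Set H)) * c ∈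
        (Q : Subgroup (Subgroup.centralizer ({g} : Set H))) := by
      simpa [MulAut.smul_def] using hk'
    have hk3 : (c : H)⁻¹ * k * (c : H) ∈ D := by
      apply hQD
      exact ⟨_, hk2, rfl⟩
    have e : k = (c : H) * ((c : H)⁻¹ * k * (c : H)) * (c : H)⁻¹ := by group
    rw [e]
    exact hDn.conj_mem _ hk3 _
  have hDT : D ≤ T := hDp.le_sylow_of_normal T
  have hDg : ∀ d ∈ D, d * g = g * d := by
    intro d hd
    have h1 : g⁻¹ * d * g ∈ T := by
      apply hDT
      have := hDn.conj_mem d hd g⁻¹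
      simpa using this
    have := hgfix d (hDT hd) (hconj d h1)
    calc d * g = d * g * d⁻¹ * d := by group
      _ = g * d := by rw [this]
  refine ⟨g, hgreg, hDg, ?_, hK⟩
  intro w hw hw'
  -- the subgroup `T ∩ gTg⁻¹`
  have hWp : IsPGroup p (h7_dcStab (T : Subgroup H) g) :=
    T.isPGroup'.to_le (fun w hw => hw.1)
  have hWc : ∀ k ∈ h7_dcStab (T : Subgroup H) g, k * g = g * k := by
    intro k hk
    have := hgfix k hk.1 (hconj k hk.2)
    calc k * g = k * g * k⁻¹ * k := by group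
      _ = g * k := by rw [this]
  exact hK _ hWp hWc ⟨hw, hw'⟩

end NLevel

section GLevel

variable {G : Type*} [Group G] [Fintype G] [Fintype (Cfsg.IrrCharacter G)]

/-- Green's theorem: a defect group is a Sylow intersection and a Sylow subgroup of the
centralizer of a `p`-regular element. -/
theorem h7_green {p : ℕ} [hp : Fact p.Prime] {M : Ideal Cfsg.AlgInt}
    (hM : Cfsg.IsPModular p M) (B : Set (Cfsg.IrrCharacter G)) (hB : Cfsg.IsPBlock M B)
    (D : Subgroup G) (hD : Cfsg.IsDefectGroup p M B D) (P : Sylow p G) (hDP : D ≤ P) :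
    ∃ x : G, ¬ p ∣ orderOf x ∧ (∃ S : Sylow p (Subgroup.centralizer ({x} : Set G)),
      (S : Subgroup (Subgroup.centralizer ({x} : Set G))).map
        (Subgroup.centralizer ({x} : Set G)).subtype = D) ∧
      (P : Subgroup G) ⊓ (P : Subgroup G).map (MulAut.conj x).toMonoidHom = D := by
  classical
  have hDp : IsPGroup p D := P.isPGroup'.to_le hDP
  obtain ⟨b, hb1, hb2, hb3⟩ := h7_first_main_exists hM D hDp B hB hD
  set N : Subgroup G := Subgroup.normalizer (D : Set G) with hN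
  haveI : Fintype N := Fintype.ofFinite _
  haveI : Fintype (Cfsg.IrrCharacter N) := Fintype.ofFinite _
  obtain ⟨ξ₀, rfl⟩ := hb1
  have hDN : D ≤ N := Subgroup.le_normalizer
  haveI hDn : (D.subgroupOf N).Normal := Subgroup.normal_in_normalizer
  have hD'p : IsPGroup p (D.subgroupOf N) := hDp.comap_subtype
  have hPNp : IsPGroup p ((P : Subgroup G).subgroupOf N) := P.isPGroup'.comap_subtype
  obtain ⟨T, hT⟩ := hPNp.exists_le_sylow
  obtain ⟨g, hgreg, hgD, hgT, hgK⟩ := h7_green_normal hM ξ₀ (D.subgroupOf N) hD'p hb2 T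
  obtain ⟨x, hx⟩ : ∃ x : G, x = (g : G) := ⟨_, rfl⟩
  have hxN : x ∈ Subgroup.normalizer (D : Set G) := by
    rw [hx]
    exact g.2
  have hxreg : ¬ p ∣ orderOf x := by
    rw [hx, Subgroup.orderOf_coe]
    exact hgreg
  have hDx : ∀ d ∈ D, d * x = x * d := by
    intro d hd
    have := hgD ⟨d, hDN hd⟩ (Subgroup.mem_subgroupOf.mpr hd)
    rw [hx]
    exact congrArg (fun y : N => (y : G)) this
  have hKG : ∀ K : Subgroup G, IsPGroup p K → K ≤ N → (∀ k ∈ K, k * x = x * k) → K ≤ D := by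
    intro K hKp hKN hKc k hk
    have h1 : K.subgroupOf N ≤ D.subgroupOf N := by
      apply hgK (K.subgroupOf N) hKp.comap_subtype
      intro k' hk'
      apply Subtype.ext
      have := hKc (k' : G) (Subgroup.mem_subgroupOf.mp hk')
      rw [hx] at this
      exact this
    have h2 : (⟨k, hKN hk⟩ : N) ∈ D.subgroupOf N := h1 (Subgroup.mem_subgroupOf.mpr hk)
    exact Subgroup.mem_subgroupOf.mp h2
  have hDC : D ≤ Subgroup.centralizer ({x} : Set G) := by
    intro d hd
    rw [Subgroup.mem_centralizer_singleton_iff]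
    exact hDx d hd
  refine ⟨x, hxreg, ?_, ?_⟩
  · obtain ⟨S, hS⟩ := (hDp.comap_subtype
      (K := Subgroup.centralizer ({x} : Set G))).exists_le_sylow
    refine ⟨S, ?_⟩
    obtain ⟨R, hR⟩ : ∃ R : Subgroup G, R = (S : Subgroup (Subgroup.centralizer ({x} : Set G))).map
        (Subgroup.centralizer ({x} : Set G)).subtype := ⟨_, rfl⟩
    rw [← hR]
    have hRp : IsPGroup p R := by
      rw [hR]
      exact S.isPGroup'.map _
    have hDR : D ≤ R := by
      intro d hd
      rw [hR]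
      exact ⟨⟨d, hDC hd⟩, hS (by exact hd), rfl⟩
    refine le_antisymm ?_ hDR
    by_contra hne
    obtain ⟨n, hnR, hnD, hnN⟩ := h7_normalizer_grow D R hRp hDR hne
    have h3 : R ⊓ N ≤ D := by
      apply hKG (R ⊓ N) (hRp.to_le inf_le_left) inf_le_right
      intro k hk
      have hk1 := hk.1
      rw [hR] at hk1
      obtain ⟨c, hc, rfl⟩ := hk1
      exact Subgroup.mem_centralizer_singleton_iff.mp c.2
    exact hnD (h3 ⟨hnR, hnN⟩)
  · obtain ⟨R, hR⟩ : ∃ R : Subgroup G,
        R = (P : Subgroup G) ⊓ (P : Subgroup G).map (MulAut.conj x).toMonoidHom := ⟨_, rfl⟩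
    rw [← hR]
    have hRp : IsPGroup p R := by
      rw [hR]
      exact P.isPGroup'.to_le inf_le_left
    have hDR : D ≤ R := by
      rw [hR]
      refine le_inf hDP ?_
      intro d hd
      refine ⟨x⁻¹ * d * x, hDP ((Subgroup.mem_normalizer_iff''.mp hxN d).mp hd), ?_⟩
      show x * (x⁻¹ * d * x) * x⁻¹ = d
      group
    refine le_antisymm ?_ hDR
    by_contra hne
    obtain ⟨n, hnR, hnD, hnN⟩ := h7_normalizer_grow D R hRp hDR hne
    rw [hR] at hnR
    apply hnD
    have h1 : (⟨n, hnN⟩ : N) ∈ T := hT (Subgroup.mem_subgroupOf.mpr hnR.1)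
    have h2 : g⁻¹ * (⟨n, hnN⟩ : N) * g ∈ T := by
      apply hT
      rw [Subgroup.mem_subgroupOf]
      show (g : G)⁻¹ * n * (g : G) ∈ P
      obtain ⟨m, hm, hmn⟩ := hnR.2
      have hmn' : x * m * x⁻¹ = n := hmn
      rw [← hmn', ← hx]
      have e : x⁻¹ * (x * m * x⁻¹) * x = m := by group
      rw [e]
      exact hm
    have h3 := hgT _ h1 h2
    exact Subgroup.mem_subgroupOf.mp h3

end GLevel

end Cfsg.Agent.Lib.helper7
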