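import Mathlib
import Cfsg.Prelude.Def_Blocks
import Cfsg.Agent.Lib.helper7.BlockOsima

/-!
Counting pairs `(y, z)` in two conjugacy classes with `z y⁻¹` in a subgroup, via characters.
-/

set_option autoImplicit false
set_option linter.style.haveILetI false
set_option linter.unusedSectionVars false
set_option linter.unusedVariables false
set_option maxHeartbeats 800000

namespace Cfsg.Agent.Lib.helper7

open scoped ComplexConjugate
open Cfsg.Agent.Lib.Helper25

variable {G : Type*} [Group G]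

theorem h7_isConj_inv_iff (h x : G) : IsConj h⁻¹ x ↔ IsConj h x⁻¹ := by
  rw [isConj_iff, isConj_iff]
  constructor
  · rintro ⟨c, hc⟩
    refine ⟨c, ?_⟩
    rw [← hc]
    group
  · rintro ⟨c, hc⟩
    refine ⟨c, ?_⟩
    have : x = (c * h * c⁻¹)⁻¹ := by rw [hc, inv_inv]
    rw [this]
    group

section

variable [Fintype G] [Fintype (Cfsg.IrrCharacter G)]

open Classical in
theorem h7_rob_count (S : Subgroup G) (x y : G) :
    ((Nat.card {yz : G × G // yz.1 ∈ (ConjClasses.mk x).carrier ∧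
      yz.2 ∈ (ConjClasses.mk y).carrier ∧ yz.2 * yz.1⁻¹ ∈ S} : ℕ) : ℂ) =
    ∑ s : G, if s ∈ S then h7_coef
      ((fun χ : Cfsg.IrrCharacter G => Cfsg.centralChar (χ : G → ℂ) y) *
        (fun χ : Cfsg.IrrCharacter G => Cfsg.centralChar (χ : G → ℂ) x⁻¹)) s else 0 := by
  rw [Nat.card_eq_fintype_card, Fintype.card_subtype, ← Finset.sum_boole, Fintype.sum_prod_type]
  have hmem : ∀ a b : G, a ∈ (ConjClasses.mk b).carrier ↔ IsConj a b := by
    intro a b
    rw [ConjClasses.mem_carrier_iff_mk_eq, ConjClasses.mk_eq_mk_iff_isConj]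
  have hL : ∀ y' : G, (∑ z' : G, (if y' ∈ (ConjClasses.mk x).carrier ∧
      z' ∈ (ConjClasses.mk y).carrier ∧ z' * y'⁻¹ ∈ S then (1 : ℂ) else 0)) =
      ∑ s : G, (if IsConj y' x ∧ IsConj (s * y') y ∧ s ∈ S then (1 : ℂ) else 0) := by
    intro y'
    symm
    refine Fintype.sum_equiv (Equiv.mulRight y') _ _ fun s => ?_
    simp only [Equiv.coe_mulRight, hmem, mul_inv_cancel_right]
  rw [Finset.sum_congr rfl (fun y' _ => hL y'), Finset.sum_comm]
  refine Finset.sum_congr rfl fun s _ => ?_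
  by_cases hs : s ∈ S
  · rw [if_pos hs, h7_coef_mul]
    refine Fintype.sum_equiv (Equiv.inv G) _ _ fun y' => ?_
    simp only [Equiv.inv_apply]
    rw [h7_coef_centralChar, h7_coef_centralChar, inv_inv]
    set h := y'⁻¹ with hh
    have hy' : y' = h⁻¹ := by rw [hh, inv_inv]
    rw [hy']
    by_cases h1 : IsConj h⁻¹ x
    · have h1' : IsConj h x⁻¹ := (h7_isConj_inv_iff h x).mp h1
      by_cases h2 : IsConj (s * h⁻¹) y
      · rw [if_pos ⟨h1, h2, hs⟩, if_pos h2, if_pos h1', mul_one]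
      · rw [if_neg (fun hh => h2 hh.2.1), if_neg h2, zero_mul]
    · have h1' : ¬ IsConj h x⁻¹ := fun hh => h1 ((h7_isConj_inv_iff h x).mpr hh)
      rw [if_neg (fun hh => h1 hh.1), if_neg h1', mul_zero]
  · rw [if_neg hs]
    apply Finset.sum_eq_zero
    intro y' _
    rw [if_neg (fun hh => hs hh.2.2)]

open Classical in
theorem h7_rob_count' (S : Subgroup G) (x y : G) :
    ((Nat.card {yz : G × G // yz.1 ∈ (ConjClasses.mk x).carrier ∧
      yz.2 ∈ (ConjClasses.mk y).carrier ∧ yz.2 * yz.1⁻¹ ∈ S} : ℕ) : ℂ) =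
    (Nat.card G : ℂ)⁻¹ * ∑ χ : Cfsg.IrrCharacter G,
      Cfsg.centralChar (χ : G → ℂ) y * Cfsg.centralChar (χ : G → ℂ) x⁻¹ *
        ((χ : G → ℂ) 1 * conj (∑ s : G, if s ∈ S then (χ : G → ℂ) s else 0)) := by
  rw [h7_rob_count]
  unfold h7_coef
  have h1 : ∀ s : G, (if s ∈ S then (Nat.card G : ℂ)⁻¹ * ∑ χ : Cfsg.IrrCharacter G,
      ((fun χ : Cfsg.IrrCharacter G => Cfsg.centralChar (χ : G → ℂ) y) *
        (fun χ : Cfsg.IrrCharacter G => Cfsg.centralChar (χ : G → ℂ) x⁻¹)) χ *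
        ((χ : G → ℂ) 1 * conj ((χ : G → ℂ) s)) else 0) =
      (Nat.card G : ℂ)⁻¹ * ∑ χ : Cfsg.IrrCharacter G,
        Cfsg.centralChar (χ : G → ℂ) y * Cfsg.centralChar (χ : G → ℂ) x⁻¹ *
        ((χ : G → ℂ) 1 * conj (if s ∈ S then (χ : G → ℂ) s else 0)) := by
    intro s
    by_cases hs : s ∈ S
    · simp only [if_pos hs, Pi.mul_apply]
    · simp only [if_neg hs, map_zero, mul_zero, Finset.sum_const_zero]
  rw [Finset.sum_congr rfl (fun s _ => h1 s), ← Finset.mul_sum, Finset.sum_comm]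
  congr 1
  refine Finset.sum_congr rfl fun χ _ => ?_
  rw [← Finset.mul_sum, ← Finset.mul_sum, map_sum]

end

end Cfsg.Agent.Lib.helper7
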