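import Mathlib
import Cfsg.Prelude.Def_Blocks
import Cfsg.Agent.Lib.helper7.Rob2
import Cfsg.Agent.Lib.helper7.DegSqSum
import Cfsg.Agent.Lib.helper7.BlockMinMax
import Cfsg.Agent.Lib.Helper25.PCoreBlocks
import Cfsg.Agent.S0908

/-!
Block-theoretic ingredients for the rank formula counting blocks with a normal defect group.
-/

set_option autoImplicit false
set_option linter.style.haveILetI false
set_option linter.unusedSectionVars false
set_option linter.unusedVariables false
set_option maxHeartbeats 800000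

namespace Cfsg.Agent.Lib.helper7

open scoped ComplexConjugate
open Cfsg.Agent.Lib.Helper25
open Cfsg.Agent.Lib.Helper24
open Cfsg.Agent.Lib.Helper11
open Cfsg.Agent.Lib.helper2

variable {G : Type*} [Group G]

open Classical in
/-- the dimension of the fixed space of `S` in a representation with character `χ` -/
noncomputable def h7_fixDim [Fintype G] (S : Subgroup G) (χ : G → ℂ) : ℂ :=
  (Nat.card S : ℂ)⁻¹ * ∑ s : G, if s ∈ S then χ s else 0

theorem h7_fixDim_nat [Fintype G] (S : Subgroup G) (χ : Cfsg.IrrCharacter G) :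
    ∃ n : ℕ, h7_fixDim S (χ : G → ℂ) = (n : ℂ) := by
  classical
  haveI : Fintype S := Fintype.ofFinite _
  have h1 : Cfsg.IsCharacter S (fun s : S => (χ : G → ℂ) s) :=
    isCharacter_restrict (isCharacter_of_irr χ) S
  have h2 : Cfsg.IsCharacter S (fun _ : S => (1 : ℂ)) := isCharacter_of_irr (trivIrr S)
  obtain ⟨n, hn⟩ := classInner_character_nat h1 h2
  refine ⟨n, ?_⟩
  rw [← hn]
  unfold h7_fixDim Cfsg.classInner
  congr 1
  simp only [map_one, mul_one]
  rw [← Finset.sum_filter]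
  exact Finset.sum_subtype (Finset.univ.filter (· ∈ S)) (by simp) (fun s => (χ : G → ℂ) s)

/-- a normal subgroup that is the image of one Sylow subgroup of `C` is the image of all -/
theorem h7_sylow_map_eq_of_normal [Finite G] (p : ℕ) [hp : Fact p.Prime] (D : Subgroup G)
    [hDn : D.Normal] (C : Subgroup G) (Q Q' : Sylow p C)
    (hQ : (Q : Subgroup C).map C.subtype = D) : (Q' : Subgroup C).map C.subtype = D := by
  obtain ⟨c, hc⟩ := MulAction.exists_smul_eq C Q Q'
  have hle : (Q' : Subgroup C).map C.subtype ≤ D := by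
    rintro _ ⟨y, hy, rfl⟩
    rw [← hc] at hy
    rw [SetLike.mem_coe, Sylow.coe_subgroup_smul, Subgroup.mem_pointwise_smul_iff_inv_smul_mem] at hy
    have h1 : C.subtype ((MulAut.conj c)⁻¹ • y) ∈ D := by
      rw [← hQ]
      exact ⟨_, hy, rfl⟩
    have h2 : C.subtype ((MulAut.conj c)⁻¹ • y) = (c : G)⁻¹ * (y : G) * (c : G) := by
      simp [MulAut.smul_def, MulAut.conj_inv_apply]
    rw [h2] at h1
    have h3 := hDn.conj_mem _ h1 (c : G)
    have h4 : (c : G) * ((c : G)⁻¹ * (y : G) * (c : G)) * (c : G)⁻¹ = (y : G) := by group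
    rw [h4] at h3
    exact h3
  apply Subgroup.eq_of_le_of_card_ge hle
  rw [← hQ, Subgroup.card_map_of_injective C.subtype_injective,
    Subgroup.card_map_of_injective C.subtype_injective, Sylow.card_eq_multiplicity,
    Sylow.card_eq_multiplicity]

/-- `g` is `p`-regular and `D` is a Sylow `p`-subgroup of its centralizer -/
def h7_good (p : ℕ) (D : Subgroup G) (g : G) : Prop :=
  ¬ p ∣ orderOf g ∧ ∃ Q : Sylow p (Subgroup.centralizer ({g} : Set G)),
    (Q : Subgroup (Subgroup.centralizer ({g} : Set G))).map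
      (Subgroup.centralizer ({g} : Set G)).subtype = D

theorem h7_exists_sylow_of_eq (p : ℕ) (D : Subgroup G) (C C' : Subgroup G) (h : C = C')
    (hQ : ∃ Q : Sylow p C, (Q : Subgroup C).map C.subtype = D) :
    ∃ Q : Sylow p C', (Q : Subgroup C').map C'.subtype = D := by
  subst h
  exact hQ

theorem h7_centralizer_inv (g : G) :
    Subgroup.centralizer ({g⁻¹} : Set G) = Subgroup.centralizer ({g} : Set G) := by
  ext x
  simp only [Subgroup.mem_centralizer_iff, Set.mem_singleton_iff, forall_eq]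
  constructor
  · intro h
    have : x * g = g * x := by
      have h1 : g * (g⁻¹ * x) * g = g * (x * g⁻¹) * g := by rw [h]
      simp only [mul_inv_cancel_left, mul_assoc, inv_mul_cancel, mul_one] at h1
      exact h1
    exact this.symm
  · intro h
    have h1 : g⁻¹ * (g * x) * g⁻¹ = g⁻¹ * (x * g) * g⁻¹ := by rw [h]
    simp only [inv_mul_cancel_left, mul_assoc, mul_inv_cancel, mul_one] at h1
    exact h1.symm

theorem h7_good_inv (p : ℕ) (D : Subgroup G) (g : G) (h : h7_good p D g) :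
    h7_good p D g⁻¹ := by
  refine ⟨by rw [orderOf_inv]; exact h.1, ?_⟩
  exact h7_exists_sylow_of_eq p D _ _ (h7_centralizer_inv g).symm h.2

theorem h7_good_index [Finite G] (p : ℕ) [hp : Fact p.Prime] (D : Subgroup G) (g : G)
    (h : h7_good p D g) :
    ∃ k : ℕ, ¬ p ∣ k ∧ (Subgroup.centralizer ({g} : Set G)).index =
      p ^ ((Nat.card G).factorization p - (Nat.card D).factorization p) * k := by
  obtain ⟨_, Q, hQ⟩ := h
  set C := Subgroup.centralizer ({g} : Set G) with hC
  have hcardD : Nat.card D = p ^ (Nat.card C).factorization p := by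
    rw [← hQ, Subgroup.card_map_of_injective C.subtype_injective, Sylow.card_eq_multiplicity]
  have hdfac : (Nat.card D).factorization p = (Nat.card C).factorization p := by
    rw [hcardD, Nat.Prime.factorization_pow hp.out]
    simp
  have hidx : C.index * Nat.card C = Nat.card G := Subgroup.index_mul_card C
  have hidx0 : C.index ≠ 0 := Subgroup.index_ne_zero_of_finite
  have hC0 : Nat.card C ≠ 0 := Nat.card_pos.ne'
  have hfac : (Nat.card G).factorization p =
      C.index.factorization p + (Nat.card C).factorization p := by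
    rw [← hidx, Nat.factorization_mul hidx0 hC0]
    rfl
  refine ⟨C.index / p ^ C.index.factorization p, Nat.not_dvd_ordCompl hp.out hidx0, ?_⟩
  have : (Nat.card G).factorization p - (Nat.card D).factorization p =
      C.index.factorization p := by omega
  rw [this]
  exact (Nat.ordProj_mul_ordCompl_eq_self C.index p).symm

section blocks

variable [Fintype G] [Fintype (Cfsg.IrrCharacter G)]

theorem h7_card_map_conj [Finite G] (H : Subgroup G) (x : G) :
    Nat.card (H.map (MulAut.conj x).toMonoidHom) = Nat.card H :=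
  Subgroup.card_map_of_injective (MulAut.conj x).injective

/-- a good class on which the central character of `χ` is a unit forces the block of `χ`
to have defect group `D` -/
theorem h7_rob_defect_of_unit {p : ℕ} [hp : Fact p.Prime] {M : Ideal Cfsg.AlgInt}
    (hM : Cfsg.IsPModular p M) (D : Subgroup G) [hDn : D.Normal] (hD : IsPGroup p D)
    (g : G) (hg : h7_good p D g) (χ : Cfsg.IrrCharacter G)
    (hω : ¬ Cfsg.MemLocalIdeal M (Cfsg.centralChar (χ : G → ℂ) g)) :
    Cfsg.IsDefectGroup p M (Cfsg.blockOf M (χ : G → ℂ)) D := by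
  have hPr := hM.2.1.isPrime
  obtain ⟨g₀, hg₀⟩ := h7_exists_defect_class hPr χ
  let P₀ : Sylow p (Subgroup.centralizer ({g₀} : Set G)) := default
  set DB := (P₀ : Subgroup (Subgroup.centralizer ({g₀} : Set G))).map
    (Subgroup.centralizer ({g₀} : Set G)).subtype with hDB
  have hdef : Cfsg.IsDefectGroup p M (Cfsg.blockOf M (χ : G → ℂ)) DB := ⟨g₀, hg₀, P₀, rfl⟩
  obtain ⟨x, Q', hle⟩ := h7_minmax_b hM χ g₀ hg₀ P₀ g ⟨χ, h7_sameBlock_refl hPr _, hω⟩
  obtain ⟨_, Q, hQ⟩ := hg
  have hQ' := h7_sylow_map_eq_of_normal p D _ Q Q' hQ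
  rw [hQ'] at hle
  have h1 : D ≤ DB := by
    have h2 : D ≤ Cfsg.pCore p G := le_sSup ⟨hDn, hD⟩
    exact h2.trans (an_pCore_le_defectGroup p M hM _ ⟨χ, rfl⟩ DB hdef)
  have h3 : Nat.card DB ≤ Nat.card D := by
    rw [← h7_card_map_conj DB x]
    exact Nat.card_mono (Set.toFinite _) hle
  have h4 : D = DB := Subgroup.eq_of_le_of_card_ge h1 h3
  rw [h4]
  exact hdef

/-- a class on which a block idempotent coefficient and a central character of blocks with
defect group `D` are both units is good -/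
theorem h7_rob_good_of_units {p : ℕ} [hp : Fact p.Prime] {M : Ideal Cfsg.AlgInt}
    (hM : Cfsg.IsPModular p M) (D : Subgroup G) [hDn : D.Normal]
    (χ' χ : Cfsg.IrrCharacter G)
    (hB' : Cfsg.IsDefectGroup p M (Cfsg.blockOf M (χ' : G → ℂ)) D)
    (hB : Cfsg.IsDefectGroup p M (Cfsg.blockOf M (χ : G → ℂ)) D) (g : G)
    (ha : ¬ Cfsg.MemLocalIdeal M (Cfsg.blockCoeff (Cfsg.blockOf M (χ' : G → ℂ)) g))
    (hω : ¬ Cfsg.MemLocalIdeal M (Cfsg.centralChar (χ : G → ℂ) g)) :
    h7_good p D g := by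
  have hPr := hM.2.1.isPrime
  constructor
  · intro hsing
    apply ha
    rw [h7_blockCoeff_psingular hM χ' g hsing]
    exact h7_memLocalIdeal_zero hPr
  · obtain ⟨g₁, hg₁, P₁, hP₁⟩ := hB'
    obtain ⟨g₂, hg₂, P₂, hP₂⟩ := hB
    obtain ⟨x, Q, hQle⟩ := h7_minmax_a hM χ' g₁ hg₁ P₁ g ha
    obtain ⟨x', Q'', hQ''⟩ := h7_minmax_b hM χ g₂ hg₂ P₂ g ⟨χ, h7_sameBlock_refl hPr _, hω⟩
    rw [← hP₁] at hQle
    rw [← hP₂] at hQ''
    have hconj : ∀ z : G, D.map (MulAut.conj z).toMonoidHom = D := by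
      intro z
      apply le_antisymm
      · rintro _ ⟨d, hd, rfl⟩
        exact hDn.conj_mem d hd z
      · intro d hd
        refine ⟨z⁻¹ * d * z, ?_, ?_⟩
        · have := hDn.conj_mem d hd z⁻¹
          rwa [inv_inv] at this
        · simp [MulAut.conj_apply, mul_assoc]
    rw [hconj] at hQle hQ''
    refine ⟨Q, ?_⟩
    apply Subgroup.eq_of_le_of_card_ge hQle
    have h1 : Nat.card D ≤ Nat.card ((Q'' : Subgroup (Subgroup.centralizer ({g} : Set G))).map
        (Subgroup.centralizer ({g} : Set G)).subtype) := Nat.card_mono (Set.toFinite _) hQ''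
    rw [Subgroup.card_map_of_injective (Subgroup.subtype_injective _),
      Sylow.card_eq_multiplicity] at h1
    rw [Subgroup.card_map_of_injective (Subgroup.subtype_injective _),
      Sylow.card_eq_multiplicity]
    exact h1

end blocks

section mB

variable [Fintype G] [Fintype (Cfsg.IrrCharacter G)]

theorem h7_dvd_orderOf_of_mem_sylow {p : ℕ} [hp : Fact p.Prime] (S : Sylow p G) (s : G)
    (hs : s ∈ (S : Subgroup G)) (hs1 : s ≠ 1) : p ∣ orderOf s := by
  obtain ⟨k, hk⟩ := S.2 ⟨s, hs⟩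
  have h1 : s ^ (p ^ k) = 1 := by
    have := congrArg Subtype.val hk
    simpa using this
  obtain ⟨j, hj, hj2⟩ := (Nat.dvd_prime_pow hp.out).mp (orderOf_dvd_of_pow_eq_one h1)
  rw [hj2]
  rcases Nat.eq_zero_or_pos j with h0 | h0
  · exfalso
    rw [h0, pow_zero, orderOf_eq_one_iff] at hj2
    exact hs1 hj2
  · exact dvd_pow_self p h0.ne'

/-- the dimension of the block component of the permutation module on the cosets of a Sylow
subgroup has `p`-part exactly `p^(a-d)` -/
theorem h7_rob_mB {p : ℕ} [hp : Fact p.Prime] {M : Ideal Cfsg.AlgInt}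
    (hM : Cfsg.IsPModular p M) (S : Sylow p G) (χ₀ : Cfsg.IrrCharacter G)
    [DecidablePred (· ∈ Cfsg.blockOf M (χ₀ : G → ℂ))] :
    ∃ q : ℕ, ¬ p ∣ q ∧
      ∑ χ : Cfsg.IrrCharacter G, (if χ ∈ Cfsg.blockOf M (χ₀ : G → ℂ) then
        h7_fixDim (S : Subgroup G) (χ : G → ℂ) * (χ : G → ℂ) 1 else 0) =
      ((p ^ ((Nat.card G).factorization p -
        Cfsg.blockDefect p (Cfsg.blockOf M (χ₀ : G → ℂ))) * q : ℕ) : ℂ) := by
  classical
  obtain ⟨hνa, q, hq, hS⟩ := h7_dss_main p M hM χ₀
  refine ⟨q, hq, ?_⟩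
  set νB := sInf ((fun ψ : Cfsg.IrrCharacter G =>
    (Cfsg.charDegree (ψ : G → ℂ)).factorization p) '' Cfsg.blockOf M (χ₀ : G → ℂ)) with hνB
  set a := (Nat.card G).factorization p with ha
  have hdB : Cfsg.blockDefect p (Cfsg.blockOf M (χ₀ : G → ℂ)) = a - νB := rfl
  have hcardS : Nat.card (S : Subgroup G) = p ^ a := Sylow.card_eq_multiplicity S
  have hp0 : (p : ℂ) ≠ 0 := by exact_mod_cast hp.out.ne_zero
  -- the sum over s
  have hvan : ∀ s : G, s ∈ (S : Subgroup G) → s ≠ 1 →
      ∑ χ : Cfsg.IrrCharacter G, (if χ ∈ Cfsg.blockOf M (χ₀ : G → ℂ) then (χ : G → ℂ) s * (χ : G → ℂ) 1 else 0) = 0 := by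
    intro s hs hs1
    have hx' : p ∣ orderOf s⁻¹ := by
      rw [orderOf_inv]
      exact h7_dvd_orderOf_of_mem_sylow S s hs hs1
    have h1 := br_weak_orth hM χ₀ 1 s⁻¹ (ci_one_regular p) hx'
    refine Eq.trans ?_ h1
    refine Finset.sum_congr rfl fun ψ _ => ?_
    by_cases hψ : ψ ∈ Cfsg.blockOf M (χ₀ : G → ℂ)
    · simp only [if_pos hψ]
      rw [irr_inv, Complex.conj_conj, mul_comm]
    · simp only [if_neg hψ]
  have hsum : ∑ χ : Cfsg.IrrCharacter G, (if χ ∈ Cfsg.blockOf M (χ₀ : G → ℂ) then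
      h7_fixDim (S : Subgroup G) (χ : G → ℂ) * (χ : G → ℂ) 1 else 0) =
      (Nat.card (S : Subgroup G) : ℂ)⁻¹ * ∑ χ : Cfsg.IrrCharacter G,
        (if χ ∈ Cfsg.blockOf M (χ₀ : G → ℂ) then (χ : G → ℂ) 1 * (χ : G → ℂ) 1 else 0) := by
    have h1 : ∀ χ : Cfsg.IrrCharacter G, (if χ ∈ Cfsg.blockOf M (χ₀ : G → ℂ) then
        h7_fixDim (S : Subgroup G) (χ : G → ℂ) * (χ : G → ℂ) 1 else 0) =
        (Nat.card (S : Subgroup G) : ℂ)⁻¹ * ∑ s : G, (if s ∈ (S : Subgroup G) then
          (if χ ∈ Cfsg.blockOf M (χ₀ : G → ℂ) then (χ : G → ℂ) s * (χ : G → ℂ) 1 else 0) else 0) := by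
      intro χ
      by_cases hχ : χ ∈ Cfsg.blockOf M (χ₀ : G → ℂ)
      · simp only [if_pos hχ]
        unfold h7_fixDim
        rw [mul_assoc, Finset.sum_mul]
        congr 1
        refine Finset.sum_congr rfl fun s _ => ?_
        split_ifs
        · rfl
        · rw [zero_mul]
      · simp only [if_neg hχ]
        simp
    rw [Finset.sum_congr rfl (fun χ _ => h1 χ), ← Finset.mul_sum, Finset.sum_comm]
    congr 1
    rw [Finset.sum_eq_single (1 : G)]
    · simp only [if_pos (Subgroup.one_mem (S : Subgroup G))]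
    · intro s _ hs1
      by_cases hs : s ∈ (S : Subgroup G)
      · simp only [if_pos hs]
        exact hvan s hs hs1
      · simp only [if_neg hs]
        exact Finset.sum_const_zero
    · intro h
      exact absurd (Finset.mem_univ _) h
  have hdeg : ∑ χ : Cfsg.IrrCharacter G,
      (if χ ∈ Cfsg.blockOf M (χ₀ : G → ℂ) then (χ : G → ℂ) 1 * (χ : G → ℂ) 1 else 0) =
      ((∑ ψ : Cfsg.IrrCharacter G, (if ψ ∈ Cfsg.blockOf M (χ₀ : G → ℂ) then
        Cfsg.charDegree (ψ : G → ℂ) ^ 2 else 0) : ℕ) : ℂ) := by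
    rw [Nat.cast_sum]
    refine Finset.sum_congr rfl fun ψ _ => ?_
    split_ifs
    · obtain ⟨_, _, h3⟩ := h7_charDegree_props ψ
      rw [← h3]
      push_cast
      ring
    · exact Nat.cast_zero.symm
  have hS' : ∑ ψ : Cfsg.IrrCharacter G, (if ψ ∈ Cfsg.blockOf M (χ₀ : G → ℂ) then
      Cfsg.charDegree (ψ : G → ℂ) ^ 2 else 0) = p ^ (2 * νB + Cfsg.blockDefect p (Cfsg.blockOf M (χ₀ : G → ℂ))) * q := hS
  rw [hsum, hdeg, hS', hcardS, hdB]
  have hexp : 2 * νB + (a - νB) = a + (a - (a - νB)) := by omega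
  rw [hexp, pow_add]
  push_cast
  have hpa : ((p : ℂ) ^ a) ≠ 0 := pow_ne_zero _ hp0
  field_simp

end mB

end Cfsg.Agent.Lib.helper7
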