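import Mathlib
import Cfsg.Prelude.Def_Blocks
import Cfsg.Agent.Lib.helper7.Rob1
import Cfsg.Agent.Lib.helper7.Rob3
import Cfsg.Agent.Lib.helper7.BlockHom
import Cfsg.Agent.Lib.helper7.BlockFirstMain

/-!
Linear independence of the reduced central characters of the blocks with a given normal defect
group on the good classes, and the residue formula for the counting matrix.
-/

set_option autoImplicit false
set_option linter.style.haveILetI false
set_option linter.unusedSectionVars false
set_option linter.unusedVariables false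
set_option maxHeartbeats 1600000

namespace Cfsg.Agent.Lib.helper7

open scoped ComplexConjugate
open Cfsg.Agent.Lib.Helper25
open Cfsg.Agent.Lib.Helper24
open Cfsg.Agent.Lib.Helper11
open Cfsg.Agent.Lib.helper2

variable {G : Type*} [Group G]

/-- the blocks with defect group `D` -/
abbrev h7_robBlocks (p : ℕ) (M : Ideal Cfsg.AlgInt) (D : Subgroup G) : Type _ :=
  {B : Set (Cfsg.IrrCharacter G) // Cfsg.IsPBlock M B ∧ Cfsg.IsDefectGroup p M B D}

/-- a representative character of a block -/
noncomputable def h7_robRep {p : ℕ} {M : Ideal Cfsg.AlgInt} {D : Subgroup G}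
    (B : h7_robBlocks (G := G) p M D) : Cfsg.IrrCharacter G :=
  Classical.choose B.2.1

theorem h7_robRep_spec {p : ℕ} {M : Ideal Cfsg.AlgInt} {D : Subgroup G}
    (B : h7_robBlocks (G := G) p M D) : B.1 = Cfsg.blockOf M (h7_robRep B : G → ℂ) :=
  Classical.choose_spec B.2.1

section

variable [Fintype G] [Fintype (Cfsg.IrrCharacter G)]

theorem h7_robRep_mem_iff {p : ℕ} {M : Ideal Cfsg.AlgInt} (hPr : M.IsPrime) {D : Subgroup G}
    (B B' : h7_robBlocks (G := G) p M D) : h7_robRep B ∈ B'.1 ↔ B = B' := by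
  constructor
  · intro h
    rw [h7_robRep_spec B'] at h
    apply Subtype.ext
    rw [h7_robRep_spec B, h7_robRep_spec B']
    exact (h7_blockOf_eq_of_mem hPr _ _ h).symm
  · rintro rfl
    rw [h7_robRep_spec B]
    exact h7_sameBlock_refl hPr _

/-- the reduced central characters of the blocks with defect group `D`, evaluated on
representatives of the good classes, are linearly independent -/
theorem h7_rob_indep {p : ℕ} [hp : Fact p.Prime] {M : Ideal Cfsg.AlgInt}
    (hM : Cfsg.IsPModular p M) (D : Subgroup G) [hDn : D.Normal]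
    [Fintype (h7_robBlocks (G := G) p M D)]
    {ι : Type*} (y : ι → G)
    (hy : ∀ g : G, h7_good p D g → ∃ i, IsConj g (y i)) :
    LinearIndependent (h7_resRing M hM.2.1.isPrime)
      (fun B : h7_robBlocks (G := G) p M D => fun i : ι =>
        h7_res M hM.2.1.isPrime (Cfsg.centralChar (h7_robRep B : G → ℂ) (y i))) := by
  classical
  haveI : Fintype (ConjClasses G) := Fintype.ofFinite _
  have hPr := hM.2.1.isPrime
  rw [Fintype.linearIndependent_iff]
  intro γ hγ B'
  have hγ' : ∀ i : ι, ∑ B : h7_robBlocks (G := G) p M D,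
      γ B * h7_res M hPr (Cfsg.centralChar (h7_robRep B : G → ℂ) (y i)) = 0 := by
    intro i
    have := congrFun hγ i
    simpa [Finset.sum_apply, Pi.smul_apply, smul_eq_mul] using this
  set χ' := h7_robRep B' with hχ'
  have hB'eq : B'.1 = Cfsg.blockOf M (χ' : G → ℂ) := h7_robRep_spec B'
  have hB'def : Cfsg.IsDefectGroup p M (Cfsg.blockOf M (χ' : G → ℂ)) D := by
    rw [← hB'eq]
    exact B'.2.2
  -- the coefficients of the block idempotent are local integers
  have hcoefR : ∀ g : G, Cfsg.MemLocalRing M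
      (Cfsg.blockCoeff (Cfsg.blockOf M (χ' : G → ℂ)) g) := by
    intro g
    have := h7_block_indicator_mem hPr χ' g
    rwa [h7_coef_indicator] at this
  -- the expansion of the indicator
  have hexp : ∀ B : h7_robBlocks (G := G) p M D,
      (if B = B' then (1 : h7_resRing M hPr) else 0) =
      ∑ K : ConjClasses G, h7_res M hPr
        (Cfsg.blockCoeff (Cfsg.blockOf M (χ' : G → ℂ)) (Quotient.out K)) *
        h7_res M hPr (Cfsg.centralChar (h7_robRep B : G → ℂ) (Quotient.out K)) := by
    intro B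
    have h1 := h7_eval_expand (fun χ : Cfsg.IrrCharacter G =>
      if χ ∈ Cfsg.blockOf M (χ' : G → ℂ) then (1 : ℂ) else 0) (h7_robRep B)
    simp only [h7_coef_indicator] at h1
    have h2 := congrArg (h7_res M hPr) h1
    rw [h7_res_sum hPr Finset.univ (fun K : ConjClasses G =>
      Cfsg.blockCoeff (Cfsg.blockOf M (χ' : G → ℂ)) (Quotient.out K) *
        Cfsg.centralChar (h7_robRep B : G → ℂ) (Quotient.out K))
      (fun K _ => h7_memLocalRing_mul hPr (hcoefR _)
      (h7_memLocalRing_centralChar hPr _ _))] at h2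
    have h2' := h2.trans (Finset.sum_congr rfl (fun K _ => h7_res_mul hPr (hcoefR (Quotient.out K))
      (h7_memLocalRing_centralChar hPr (h7_robRep B) (Quotient.out K))))
    rw [← h2']
    have h3 : (h7_robRep B ∈ Cfsg.blockOf M (χ' : G → ℂ)) ↔ B = B' := by
      rw [← hB'eq]
      exact h7_robRep_mem_iff hPr B B'
    by_cases hBB : B = B'
    · rw [if_pos hBB, if_pos (h3.mpr hBB), h7_res_one]
    · rw [if_neg hBB, if_neg (fun h => hBB (h3.mp h)), h7_res_zero]
  have hfin : γ B' = ∑ B : h7_robBlocks (G := G) p M D,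
      γ B * (if B = B' then (1 : h7_resRing M hPr) else 0) := by
    rw [Finset.sum_eq_single B']
    · rw [if_pos rfl, mul_one]
    · intro B _ hne
      rw [if_neg hne, mul_zero]
    · intro h
      exact absurd (Finset.mem_univ _) h
  rw [hfin, Finset.sum_congr rfl (fun B _ => by rw [hexp B])]
  simp only [Finset.mul_sum]
  rw [Finset.sum_comm]
  apply Finset.sum_eq_zero
  intro K _
  set g := Quotient.out K with hg
  have hrw : ∀ B : h7_robBlocks (G := G) p M D,
      γ B * (h7_res M hPr (Cfsg.blockCoeff (Cfsg.blockOf M (χ' : G → ℂ)) g) *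
        h7_res M hPr (Cfsg.centralChar (h7_robRep B : G → ℂ) g)) =
      h7_res M hPr (Cfsg.blockCoeff (Cfsg.blockOf M (χ' : G → ℂ)) g) *
        (γ B * h7_res M hPr (Cfsg.centralChar (h7_robRep B : G → ℂ) g)) := by
    intro B
    ring
  rw [Finset.sum_congr rfl (fun B _ => hrw B), ← Finset.mul_sum]
  by_cases ha : Cfsg.MemLocalIdeal M (Cfsg.blockCoeff (Cfsg.blockOf M (χ' : G → ℂ)) g)
  · rw [(h7_res_eq_zero_iff hPr (hcoefR g)).mpr ha, zero_mul]
  · by_cases hall : ∀ B : h7_robBlocks (G := G) p M D,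
        Cfsg.MemLocalIdeal M (Cfsg.centralChar (h7_robRep B : G → ℂ) g)
    · rw [Finset.sum_eq_zero, mul_zero]
      intro B _
      rw [(h7_res_eq_zero_iff hPr (h7_memLocalRing_centralChar hPr _ _)).mpr (hall B), mul_zero]
    · push Not at hall
      obtain ⟨B, hB⟩ := hall
      have hBdef : Cfsg.IsDefectGroup p M (Cfsg.blockOf M (h7_robRep B : G → ℂ)) D := by
        rw [← h7_robRep_spec B]
        exact B.2.2
      have hgood := h7_rob_good_of_units hM D χ' (h7_robRep B) hB'def hBdef g ha hB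
      obtain ⟨i, hi⟩ := hy g hgood
      have h5 : ∀ B₁ : h7_robBlocks (G := G) p M D,
          γ B₁ * h7_res M hPr (Cfsg.centralChar (h7_robRep B₁ : G → ℂ) g) =
          γ B₁ * h7_res M hPr (Cfsg.centralChar (h7_robRep B₁ : G → ℂ) (y i)) := by
        intro B₁
        rw [h7_centralChar_of_isConj _ hi]
      rw [Finset.sum_congr rfl (fun B₁ _ => h5 B₁), hγ' i, mul_zero]

end

theorem h7_pow_dvd_of_eq_mul {p : ℕ} [hp : Fact p.Prime] {M : Ideal Cfsg.AlgInt}
    (hM : Cfsg.IsPModular p M) (k : ℕ) : ∀ (n : ℕ) (w : ℂ), Cfsg.MemLocalRing M w →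
    (n : ℂ) = (p : ℂ) ^ k * w → p ^ k ∣ n := by
  have hPr := hM.2.1.isPrime
  have hp0 : (p : ℂ) ≠ 0 := by exact_mod_cast hp.out.ne_zero
  induction k with
  | zero =>
    intro n w _ _
    simp
  | succ k ih =>
    intro n w hw h
    have h1 : Cfsg.MemLocalIdeal M (n : ℂ) := by
      rw [h, pow_succ, mul_assoc]
      apply h7_memLocalIdeal_mul_left hPr
      · have := h7_memLocalRing_natCast hPr (p ^ k)
        simpa using this
      · exact h7_memLocalIdeal_mul_right hPr (h7_memLocalIdeal_p hM) hw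
    obtain ⟨n', rfl⟩ := (h7_memLocalIdeal_natCast_iff hM n).mp h1
    have h2 : (n' : ℂ) = (p : ℂ) ^ k * w := by
      have h3 : (p : ℂ) * (n' : ℂ) = (p : ℂ) * ((p : ℂ) ^ k * w) := by
        have h4 := h
        push_cast at h4
        rw [h4]
        ring
      exact mul_left_cancel₀ hp0 h3
    obtain ⟨m, rfl⟩ := ih n' w hw h2
    exact ⟨m, by ring⟩

section entry

variable [Fintype G] [Fintype (Cfsg.IrrCharacter G)]

/-- the number of pairs as a character sum, with the `p`-part of the class size split off -/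
theorem h7_rob_entry_eq {p : ℕ} [hp : Fact p.Prime] (S : Sylow p G) (x y : G) (e k : ℕ)
    (hidx : (Subgroup.centralizer ({y} : Set G)).index = p ^ e * k) :
    ((Nat.card {yz : G × G // yz.1 ∈ (ConjClasses.mk x).carrier ∧
      yz.2 ∈ (ConjClasses.mk y).carrier ∧ yz.2 * yz.1⁻¹ ∈ (S : Subgroup G)} : ℕ) : ℂ) =
    (p : ℂ) ^ e * ((((S : Subgroup G).index : ℕ) : ℂ)⁻¹ * ∑ χ : Cfsg.IrrCharacter G,
      h7_fixDim (S : Subgroup G) (χ : G → ℂ) * (k : ℂ) * (χ : G → ℂ) y *
        Cfsg.centralChar (χ : G → ℂ) x⁻¹) := by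
  classical
  rw [h7_rob_count']
  have hcardS : (Nat.card (S : Subgroup G) : ℂ) ≠ 0 := by exact_mod_cast Nat.card_pos.ne'
  have hG : (Nat.card G : ℂ) = (((S : Subgroup G).index : ℕ) : ℂ) *
      (Nat.card (S : Subgroup G) : ℂ) := by
    rw [← (S : Subgroup G).index_mul_card]
    push_cast
    ring
  have hidx0 : ((((S : Subgroup G).index : ℕ)) : ℂ) ≠ 0 := by
    have : (S : Subgroup G).index ≠ 0 := Subgroup.index_ne_zero_of_finite
    exact_mod_cast this
  rw [hG, Finset.mul_sum, Finset.mul_sum, Finset.mul_sum]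
  refine Finset.sum_congr rfl fun χ _ => ?_
  obtain ⟨n, hn⟩ := h7_fixDim_nat (S : Subgroup G) χ
  have hsum : (∑ s : G, if s ∈ (S : Subgroup G) then (χ : G → ℂ) s else 0) =
      (Nat.card (S : Subgroup G) : ℂ) * (n : ℂ) := by
    rw [← hn]
    unfold h7_fixDim
    rw [← mul_assoc, mul_inv_cancel₀ hcardS, one_mul]
  rw [hsum, hn, map_mul, Complex.conj_natCast, Complex.conj_natCast]
  have hχ1 := irr_one_ne_zero χ
  have hcc : Cfsg.centralChar (χ : G → ℂ) y * (χ : G → ℂ) 1 =
      ((p : ℂ) ^ e * (k : ℂ)) * (χ : G → ℂ) y := by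
    unfold Cfsg.centralChar
    rw [hidx]
    push_cast
    field_simp
  have hrw : Cfsg.centralChar (χ : G → ℂ) y * Cfsg.centralChar (χ : G → ℂ) x⁻¹ *
      ((χ : G → ℂ) 1 * ((Nat.card (S : Subgroup G) : ℂ) * (n : ℂ))) =
      (Cfsg.centralChar (χ : G → ℂ) y * (χ : G → ℂ) 1) * Cfsg.centralChar (χ : G → ℂ) x⁻¹ *
        ((Nat.card (S : Subgroup G) : ℂ) * (n : ℂ)) := by ring
  rw [hrw, hcc]
  field_simp

end entry

end Cfsg.Agent.Lib.helper7
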