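import Mathlib
import Cfsg.Prelude.Def_Blocks
import Cfsg.Agent.Lib.helper7.Rob4

/-!
The residue formula for the entries of the counting matrix.
-/

set_option autoImplicit false
set_option linter.style.haveILetI false
set_option linter.unusedSectionVars false
set_option linter.unusedVariables false
set_option maxHeartbeats 1600000

namespace Cfsg.Agent.Lib.helper7

open scoped ComplexConjugate
open Cfsg.Agent.Lib.Helper25
open Cfsg.Agent.Lib.Helper24
open Cfsg.Agent.Lib.Helper11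
open Cfsg.Agent.Lib.helper2

variable {G : Type*} [Group G] [Fintype G] [Fintype (Cfsg.IrrCharacter G)]

open Classical in
theorem h7_rob_mB' {p : ℕ} [hp : Fact p.Prime] {M : Ideal Cfsg.AlgInt}
    (hM : Cfsg.IsPModular p M) (S : Sylow p G) (χ₀ : Cfsg.IrrCharacter G) :
    ∃ q : ℕ, ¬ p ∣ q ∧
      ∑ χ : Cfsg.IrrCharacter G, (if χ ∈ Cfsg.blockOf M (χ₀ : G → ℂ) then
        h7_fixDim (S : Subgroup G) (χ : G → ℂ) * (χ : G → ℂ) 1 else 0) =
      ((p ^ ((Nat.card G).factorization p -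
        Cfsg.blockDefect p (Cfsg.blockOf M (χ₀ : G → ℂ))) * q : ℕ) : ℂ) :=
  h7_rob_mB hM S χ₀

/-- the `p'`-cofactor of the dimension of the block component of the Sylow permutation module -/
noncomputable def h7_robQ {p : ℕ} [hp : Fact p.Prime] {M : Ideal Cfsg.AlgInt}
    (hM : Cfsg.IsPModular p M) (S : Sylow p G) {D : Subgroup G}
    (B : h7_robBlocks (G := G) p M D) : ℕ :=
  Classical.choose (h7_rob_mB' hM S (h7_robRep B))

open Classical in
theorem h7_robQ_spec {p : ℕ} [hp : Fact p.Prime] {M : Ideal Cfsg.AlgInt}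
    (hM : Cfsg.IsPModular p M) (S : Sylow p G) {D : Subgroup G}
    (B : h7_robBlocks (G := G) p M D) :
    ¬ p ∣ h7_robQ hM S B ∧
      ∑ χ : Cfsg.IrrCharacter G, (if χ ∈ Cfsg.blockOf M (h7_robRep B : G → ℂ) then
        h7_fixDim (S : Subgroup G) (χ : G → ℂ) * (χ : G → ℂ) 1 else 0) =
      ((p ^ ((Nat.card G).factorization p -
        Cfsg.blockDefect p (Cfsg.blockOf M (h7_robRep B : G → ℂ))) * h7_robQ hM S B : ℕ) : ℂ) :=
  Classical.choose_spec (h7_rob_mB' hM S (h7_robRep B))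

/-- the defect of a block with defect group `D` -/
theorem h7_rob_defect_eq {p : ℕ} [hp : Fact p.Prime] {M : Ideal Cfsg.AlgInt}
    (hM : Cfsg.IsPModular p M) {D : Subgroup G} (B : h7_robBlocks (G := G) p M D) :
    Cfsg.blockDefect p (Cfsg.blockOf M (h7_robRep B : G → ℂ)) =
      (Nat.card D).factorization p := by
  rw [← h7_robRep_spec B]
  have h1 := Cfsg.Agent.S0908.result p M hM B.1 B.2.1 D B.2.2
  rw [h1, Nat.Prime.factorization_pow hp.out]
  simp

/-- the degrees in a block with defect group `D` are divisible by `p^(a-d)` -/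
theorem h7_rob_degree {p : ℕ} [hp : Fact p.Prime] {M : Ideal Cfsg.AlgInt}
    (hM : Cfsg.IsPModular p M) {D : Subgroup G} (B : h7_robBlocks (G := G) p M D)
    (χ : Cfsg.IrrCharacter G) (hχ : χ ∈ B.1) :
    ∃ t : ℕ, (χ : G → ℂ) 1 = (p : ℂ) ^ ((Nat.card G).factorization p -
      (Nat.card D).factorization p) * (t : ℂ) := by
  obtain ⟨t, ht, -⟩ := hz_cofactor p B.1 χ hχ
  obtain ⟨hd1, hd2, hd3⟩ := h7_charDegree_props χ
  set νB := sInf ((fun ψ : Cfsg.IrrCharacter G =>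
    (Cfsg.charDegree (ψ : G → ℂ)).factorization p) '' B.1) with hνB
  have hdef : Cfsg.blockDefect p B.1 = (Nat.card G).factorization p - νB := rfl
  have h1 : Cfsg.blockDefect p B.1 = (Nat.card D).factorization p := by
    rw [h7_robRep_spec B]
    exact h7_rob_defect_eq hM B
  have hle1 : νB ≤ (Cfsg.charDegree (χ : G → ℂ)).factorization p := Nat.sInf_le ⟨χ, hχ, rfl⟩
  have hle2 : (Cfsg.charDegree (χ : G → ℂ)).factorization p ≤ (Nat.card G).factorization p :=
    (Nat.factorization_le_iff_dvd hd2.ne' Nat.card_pos.ne').mpr hd1 p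
  have hexp : (Nat.card G).factorization p - (Nat.card D).factorization p = νB := by
    rw [← h1, hdef]
    omega
  refine ⟨t, ?_⟩
  rw [hexp, ← hd3, ht]
  push_cast
  rfl

/-- the term of a character in a block with defect group `D` -/
theorem h7_rob_term {p : ℕ} [hp : Fact p.Prime] {M : Ideal Cfsg.AlgInt}
    (hM : Cfsg.IsPModular p M) {D : Subgroup G} (S : Sylow p G)
    (B : h7_robBlocks (G := G) p M D) (χ : Cfsg.IrrCharacter G) (hχ : χ ∈ B.1) (x y : G) (k : ℕ)
    (hidx : (Subgroup.centralizer ({y} : Set G)).index =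
      p ^ ((Nat.card G).factorization p - (Nat.card D).factorization p) * k) :
    Cfsg.MemLocalRing M (h7_fixDim (S : Subgroup G) (χ : G → ℂ) * (χ : G → ℂ) 1 /
      (p : ℂ) ^ ((Nat.card G).factorization p - (Nat.card D).factorization p)) ∧
    Cfsg.MemLocalRing M (h7_fixDim (S : Subgroup G) (χ : G → ℂ) * (k : ℂ) * (χ : G → ℂ) y *
      Cfsg.centralChar (χ : G → ℂ) x⁻¹) ∧
    h7_res M hM.2.1.isPrime (h7_fixDim (S : Subgroup G) (χ : G → ℂ) * (k : ℂ) * (χ : G → ℂ) y *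
      Cfsg.centralChar (χ : G → ℂ) x⁻¹) =
    h7_res M hM.2.1.isPrime (h7_fixDim (S : Subgroup G) (χ : G → ℂ) * (χ : G → ℂ) 1 /
      (p : ℂ) ^ ((Nat.card G).factorization p - (Nat.card D).factorization p)) *
      h7_res M hM.2.1.isPrime (Cfsg.centralChar (h7_robRep B : G → ℂ) y) *
      h7_res M hM.2.1.isPrime (Cfsg.centralChar (h7_robRep B : G → ℂ) x⁻¹) := by
  have hPr := hM.2.1.isPrime
  set e := (Nat.card G).factorization p - (Nat.card D).factorization p with he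
  obtain ⟨t, ht⟩ := h7_rob_degree hM B χ hχ
  rw [← he] at ht
  obtain ⟨n, hn⟩ := h7_fixDim_nat (S : Subgroup G) χ
  have hp0 : (p : ℂ) ≠ 0 := by exact_mod_cast hp.out.ne_zero
  have hpe0 : ((p : ℂ) ^ e) ≠ 0 := pow_ne_zero _ hp0
  have hχ1 := irr_one_ne_zero χ
  have ht0 : (t : ℂ) ≠ 0 := by
    intro h0
    rw [h0, mul_zero] at ht
    exact hχ1 ht
  have hτ : h7_fixDim (S : Subgroup G) (χ : G → ℂ) * (χ : G → ℂ) 1 / (p : ℂ) ^ e =
      ((n * t : ℕ) : ℂ) := by
    rw [hn, ht]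
    push_cast
    field_simp
  have hτR : Cfsg.MemLocalRing M (h7_fixDim (S : Subgroup G) (χ : G → ℂ) * (χ : G → ℂ) 1 /
      (p : ℂ) ^ e) := by
    rw [hτ]
    exact h7_memLocalRing_natCast hPr _
  have hω1 := h7_memLocalRing_centralChar hPr χ y
  have hω2 := h7_memLocalRing_centralChar hPr χ x⁻¹
  have hT : h7_fixDim (S : Subgroup G) (χ : G → ℂ) * (k : ℂ) * (χ : G → ℂ) y *
      Cfsg.centralChar (χ : G → ℂ) x⁻¹ =
      (h7_fixDim (S : Subgroup G) (χ : G → ℂ) * (χ : G → ℂ) 1 / (p : ℂ) ^ e) *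
        Cfsg.centralChar (χ : G → ℂ) y * Cfsg.centralChar (χ : G → ℂ) x⁻¹ := by
    congr 1
    unfold Cfsg.centralChar
    rw [hidx, ht]
    push_cast
    field_simp
  have hTR : Cfsg.MemLocalRing M (h7_fixDim (S : Subgroup G) (χ : G → ℂ) * (k : ℂ) *
      (χ : G → ℂ) y * Cfsg.centralChar (χ : G → ℂ) x⁻¹) := by
    rw [hT]
    exact h7_memLocalRing_mul hPr (h7_memLocalRing_mul hPr hτR hω1) hω2
  refine ⟨hτR, hTR, ?_⟩
  have hsame : Cfsg.SameBlock M (h7_robRep B : G → ℂ) (χ : G → ℂ) := by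
    have := hχ
    rw [h7_robRep_spec B] at this
    exact this
  have hres : ∀ g : G, h7_res M hPr (Cfsg.centralChar (χ : G → ℂ) g) =
      h7_res M hPr (Cfsg.centralChar (h7_robRep B : G → ℂ) g) := by
    intro g
    rw [h7_res_eq_iff hPr (h7_memLocalRing_centralChar hPr χ g)
      (h7_memLocalRing_centralChar hPr _ g)]
    have := h7_memLocalIdeal_neg (hsame g)
    rwa [neg_sub] at this
  rw [hT, h7_res_mul hPr (h7_memLocalRing_mul hPr hτR hω1) hω2, h7_res_mul hPr hτR hω1,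
    hres y, hres x⁻¹]

/-- the term of a character outside the blocks with defect group `D` -/
theorem h7_rob_term_out {p : ℕ} [hp : Fact p.Prime] {M : Ideal Cfsg.AlgInt}
    (hM : Cfsg.IsPModular p M) (D : Subgroup G) [hDn : D.Normal] (hD : IsPGroup p D)
    (S : Sylow p G) (χ : Cfsg.IrrCharacter G)
    (hχ : ∀ B : h7_robBlocks (G := G) p M D, χ ∉ B.1) (x y : G) (hx : h7_good p D x) (k : ℕ) :
    Cfsg.MemLocalIdeal M (h7_fixDim (S : Subgroup G) (χ : G → ℂ) * (k : ℂ) * (χ : G → ℂ) y *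
      Cfsg.centralChar (χ : G → ℂ) x⁻¹) := by
  have hPr := hM.2.1.isPrime
  obtain ⟨n, hn⟩ := h7_fixDim_nat (S : Subgroup G) χ
  have hω : Cfsg.MemLocalIdeal M (Cfsg.centralChar (χ : G → ℂ) x⁻¹) := by
    by_contra hcon
    have hdef := h7_rob_defect_of_unit hM D hD x⁻¹ (h7_good_inv p D x hx) χ hcon
    exact hχ ⟨Cfsg.blockOf M (χ : G → ℂ), ⟨χ, rfl⟩, hdef⟩ (h7_sameBlock_refl hPr _)
  apply h7_memLocalIdeal_mul_left hPr _ hω
  rw [hn]
  apply h7_memLocalRing_mul hPr
  · have := h7_memLocalRing_natCast hPr (n * k)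
    simpa using this
  · exact h7_memLocalRing_of_algInt hPr ⟨_, irr_integral χ y⟩

open Classical in
/-- the weights of a block with defect group `D` add up to its cofactor -/
theorem h7_rob_tau_sum {p : ℕ} [hp : Fact p.Prime] {M : Ideal Cfsg.AlgInt}
    (hM : Cfsg.IsPModular p M) {D : Subgroup G} (S : Sylow p G)
    (B : h7_robBlocks (G := G) p M D) :
    ∑ χ : Cfsg.IrrCharacter G, (if χ ∈ B.1 then
      h7_fixDim (S : Subgroup G) (χ : G → ℂ) * (χ : G → ℂ) 1 /
        (p : ℂ) ^ ((Nat.card G).factorization p - (Nat.card D).factorization p) else 0) =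
      (h7_robQ hM S B : ℂ) := by
  obtain ⟨-, hq⟩ := h7_robQ_spec hM S B
  rw [h7_rob_defect_eq hM B] at hq
  set e := (Nat.card G).factorization p - (Nat.card D).factorization p with he
  have hp0 : (p : ℂ) ≠ 0 := by exact_mod_cast hp.out.ne_zero
  have hpe0 : ((p : ℂ) ^ e) ≠ 0 := pow_ne_zero _ hp0
  have h1 : ∑ χ : Cfsg.IrrCharacter G, (if χ ∈ B.1 then
      h7_fixDim (S : Subgroup G) (χ : G → ℂ) * (χ : G → ℂ) 1 / (p : ℂ) ^ e else 0) =
      (∑ χ : Cfsg.IrrCharacter G, (if χ ∈ Cfsg.blockOf M (h7_robRep B : G → ℂ) then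
        h7_fixDim (S : Subgroup G) (χ : G → ℂ) * (χ : G → ℂ) 1 else 0)) / (p : ℂ) ^ e := by
    rw [Finset.sum_div]
    refine Finset.sum_congr rfl fun χ _ => ?_
    have hiff : χ ∈ B.1 ↔ χ ∈ Cfsg.blockOf M (h7_robRep B : G → ℂ) := by
      rw [← h7_robRep_spec B]
    by_cases hχ : χ ∈ B.1
    · rw [if_pos hχ, if_pos (hiff.mp hχ)]
    · rw [if_neg hχ, if_neg (fun h => hχ (hiff.mpr h)), zero_div]
  rw [h1, hq]
  push_cast
  field_simp

open Classical in
/-- the entries of the counting matrix: divisibility by `p^(a-d)` and the residue of the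
quotient -/
theorem h7_rob_entry {p : ℕ} [hp : Fact p.Prime] {M : Ideal Cfsg.AlgInt}
    (hM : Cfsg.IsPModular p M) (D : Subgroup G) [hDn : D.Normal] (hD : IsPGroup p D)
    (S : Sylow p G) [Fintype (h7_robBlocks (G := G) p M D)] (x y : G)
    (hx : h7_good p D x) (hy : h7_good p D y) :
    ∃ W : ℕ, Nat.card {yz : G × G // yz.1 ∈ (ConjClasses.mk x).carrier ∧
        yz.2 ∈ (ConjClasses.mk y).carrier ∧ yz.2 * yz.1⁻¹ ∈ (S : Subgroup G)} =
        p ^ ((Nat.card G).factorization p - (Nat.card D).factorization p) * W ∧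
      h7_res M hM.2.1.isPrime (W : ℂ) = ∑ B : h7_robBlocks (G := G) p M D,
        (h7_res M hM.2.1.isPrime ((((S : Subgroup G).index : ℕ) : ℂ)⁻¹) *
          h7_res M hM.2.1.isPrime (h7_robQ hM S B : ℂ) *
          h7_res M hM.2.1.isPrime (Cfsg.centralChar (h7_robRep B : G → ℂ) x⁻¹)) *
        h7_res M hM.2.1.isPrime (Cfsg.centralChar (h7_robRep B : G → ℂ) y) := by
  have hPr := hM.2.1.isPrime
  set e := (Nat.card G).factorization p - (Nat.card D).factorization p with he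
  obtain ⟨k, hk, hidx⟩ := h7_good_index p D y hy
  rw [← he] at hidx
  have hEq := h7_rob_entry_eq S x y e k hidx
  set Ω := Nat.card {yz : G × G // yz.1 ∈ (ConjClasses.mk x).carrier ∧
        yz.2 ∈ (ConjClasses.mk y).carrier ∧ yz.2 * yz.1⁻¹ ∈ (S : Subgroup G)} with hΩ
  set T : Cfsg.IrrCharacter G → ℂ := fun χ =>
    h7_fixDim (S : Subgroup G) (χ : G → ℂ) * (k : ℂ) * (χ : G → ℂ) y *
      Cfsg.centralChar (χ : G → ℂ) x⁻¹ with hT
  set τ : Cfsg.IrrCharacter G → ℂ := fun χ =>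
    h7_fixDim (S : Subgroup G) (χ : G → ℂ) * (χ : G → ℂ) 1 / (p : ℂ) ^ e with hτ
  have hTR : ∀ χ, Cfsg.MemLocalRing M (T χ) := by
    intro χ
    by_cases hex : ∃ B : h7_robBlocks (G := G) p M D, χ ∈ B.1
    · obtain ⟨B, hB⟩ := hex
      exact (h7_rob_term hM S B χ hB x y k hidx).2.1
    · push Not at hex
      exact h7_memLocalRing_of_memLocalIdeal (h7_rob_term_out hM D hD S χ hex x y hx k)
  have hidxcop : ((S : Subgroup G).index).Coprime p :=
    (Nat.Coprime.symm ((Nat.Prime.coprime_iff_not_dvd hp.out).mpr S.not_dvd_index))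
  have hinvR : Cfsg.MemLocalRing M ((((S : Subgroup G).index : ℕ) : ℂ)⁻¹) :=
    h7_memLocalRing_inv_natCast hM _ hidxcop
  have hsumR : Cfsg.MemLocalRing M (∑ χ : Cfsg.IrrCharacter G, T χ) :=
    h7_memLocalRing_sum hPr _ _ (fun χ _ => hTR χ)
  have hW'R : Cfsg.MemLocalRing M ((((S : Subgroup G).index : ℕ) : ℂ)⁻¹ *
      ∑ χ : Cfsg.IrrCharacter G, T χ) := h7_memLocalRing_mul hPr hinvR hsumR
  obtain ⟨W, hW⟩ := h7_pow_dvd_of_eq_mul hM e Ω _ hW'R hEq
  refine ⟨W, hW, ?_⟩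
  have hp0 : (p : ℂ) ≠ 0 := by exact_mod_cast hp.out.ne_zero
  have hpe0 : ((p : ℂ) ^ e) ≠ 0 := pow_ne_zero _ hp0
  have hWeq : (W : ℂ) = (((S : Subgroup G).index : ℕ) : ℂ)⁻¹ *
      ∑ χ : Cfsg.IrrCharacter G, T χ := by
    have h1 : (p : ℂ) ^ e * (W : ℂ) = (p : ℂ) ^ e * ((((S : Subgroup G).index : ℕ) : ℂ)⁻¹ *
        ∑ χ : Cfsg.IrrCharacter G, T χ) := by
      rw [← hEq, hW]
      push_cast
      ring
    exact mul_left_cancel₀ hpe0 h1
  rw [hWeq, h7_res_mul hPr hinvR hsumR, h7_res_sum hPr _ _ (fun χ _ => hTR χ)]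
  -- each term
  have hterm : ∀ χ : Cfsg.IrrCharacter G, h7_res M hPr (T χ) =
      ∑ B : h7_robBlocks (G := G) p M D, (if χ ∈ B.1 then
        h7_res M hPr (τ χ) * h7_res M hPr (Cfsg.centralChar (h7_robRep B : G → ℂ) y) *
          h7_res M hPr (Cfsg.centralChar (h7_robRep B : G → ℂ) x⁻¹) else 0) := by
    intro χ
    by_cases hex : ∃ B : h7_robBlocks (G := G) p M D, χ ∈ B.1
    · obtain ⟨B, hB⟩ := hex
      rw [Finset.sum_eq_single B]
      · rw [if_pos hB]
        exact (h7_rob_term hM S B χ hB x y k hidx).2.2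
      · intro B₁ _ hne
        rw [if_neg]
        intro hB₁
        apply hne
        apply Subtype.ext
        have h1 := hB
        have h2 := hB₁
        rw [h7_robRep_spec B] at h1
        rw [h7_robRep_spec B₁] at h2
        rw [h7_robRep_spec B, h7_robRep_spec B₁, h7_blockOf_eq_of_mem hPr _ _ h1,
          h7_blockOf_eq_of_mem hPr _ _ h2]
      · intro h
        exact absurd (Finset.mem_univ _) h
    · push Not at hex
      rw [(h7_res_eq_zero_iff hPr (hTR χ)).mpr (h7_rob_term_out hM D hD S χ hex x y hx k)]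
      symm
      apply Finset.sum_eq_zero
      intro B _
      rw [if_neg (hex B)]
  rw [Finset.sum_congr rfl (fun χ _ => hterm χ), Finset.sum_comm, Finset.mul_sum]
  refine Finset.sum_congr rfl fun B _ => ?_
  -- the sum of the weights
  have hτR : ∀ χ : Cfsg.IrrCharacter G, Cfsg.MemLocalRing M (if χ ∈ B.1 then τ χ else 0) := by
    intro χ
    by_cases hχ : χ ∈ B.1
    · rw [if_pos hχ]
      exact (h7_rob_term hM S B χ hχ x y k hidx).1
    · rw [if_neg hχ]
      exact h7_memLocalRing_zero hPr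
  have hq := h7_rob_tau_sum hM S B
  rw [← he] at hq
  have hqres : h7_res M hPr (h7_robQ hM S B : ℂ) = ∑ χ : Cfsg.IrrCharacter G,
      (if χ ∈ B.1 then h7_res M hPr (τ χ) else 0) := by
    rw [← hq, h7_res_sum hPr _ _ (fun χ _ => hτR χ)]
    refine Finset.sum_congr rfl fun χ _ => ?_
    by_cases hχ : χ ∈ B.1
    · rw [if_pos hχ, if_pos hχ]
    · rw [if_neg hχ, if_neg hχ, h7_res_zero]
  rw [hqres]
  simp only [Finset.mul_sum, Finset.sum_mul]
  refine Finset.sum_congr rfl fun χ _ => ?_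
  by_cases hχ : χ ∈ B.1
  · rw [if_pos hχ, if_pos hχ]
    ring
  · rw [if_neg hχ, if_neg hχ]
    ring

end Cfsg.Agent.Lib.helper7
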