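import Mathlib
import Cfsg.Prelude.Def_Blocks
import Cfsg.Agent.Lib.helper7.Rob5

/-!
The number of blocks with a given normal defect group `D` equals the rank of the counting
matrix on the good classes (Robinson-type formula).
-/

set_option autoImplicit false
set_option linter.style.haveILetI false
set_option linter.unusedSectionVars false
set_option linter.unusedVariables false
set_option maxHeartbeats 1600000

namespace Cfsg.Agent.Lib.helper7

open scoped ComplexConjugate
open Cfsg.Agent.Lib.Helper25
open Cfsg.Agent.Lib.Helper24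
open Cfsg.Agent.Lib.Helper11
open Cfsg.Agent.Lib.helper2

variable {G : Type*} [Group G] [Fintype G] [Fintype (Cfsg.IrrCharacter G)]

theorem h7_rob_main {p : ℕ} [hp : Fact p.Prime] {M : Ideal Cfsg.AlgInt}
    (hM : Cfsg.IsPModular p M) (D : Subgroup G) [hDn : D.Normal] (hD : IsPGroup p D)
    (S : Sylow p G) {ι : Type*} [Fintype ι] [DecidableEq ι] (x : ι → G)
    (hxgood : ∀ i, h7_good p D (x i))
    (hxall : ∀ g : G, h7_good p D g → ∃ i, IsConj g (x i)) :
    Nat.card (h7_robBlocks (G := G) p M D) =
      (Matrix.of fun i j : ι => ((Nat.card {yz : G × G //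
        yz.1 ∈ (ConjClasses.mk (x i)).carrier ∧ yz.2 ∈ (ConjClasses.mk (x j)).carrier ∧
        yz.2 * yz.1⁻¹ ∈ (S : Subgroup G)} /
        p ^ ((Nat.card G).factorization p - (Nat.card D).factorization p) : ℕ) : ZMod p)).rank := by
  classical
  haveI : Fintype (h7_robBlocks (G := G) p M D) := Fintype.ofFinite _
  have hPr := hM.2.1.isPrime
  set e := (Nat.card G).factorization p - (Nat.card D).factorization p with he
  have hentry := fun i j => h7_rob_entry hM D hD S (x i) (x j) (hxgood i) (hxgood j)
  choose W hW1 hW2 using hentry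
  set A : Matrix ι ι (ZMod p) := Matrix.of fun i j : ι => ((Nat.card {yz : G × G //
        yz.1 ∈ (ConjClasses.mk (x i)).carrier ∧ yz.2 ∈ (ConjClasses.mk (x j)).carrier ∧
        yz.2 * yz.1⁻¹ ∈ (S : Subgroup G)} / p ^ e : ℕ) : ZMod p) with hA
  have hAW : ∀ i j, A i j = ((W i j : ℕ) : ZMod p) := by
    intro i j
    rw [hA, Matrix.of_apply, hW1 i j, Nat.mul_div_cancel_left _ (pow_pos hp.out.pos e)]
  -- the two families
  set cst : h7_robBlocks (G := G) p M D → h7_resRing M hPr := fun B =>
    h7_res M hPr ((((S : Subgroup G).index : ℕ) : ℂ)⁻¹) * h7_res M hPr (h7_robQ hM S B : ℂ)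
    with hcst
  set U : Matrix (h7_robBlocks (G := G) p M D) ι (h7_resRing M hPr) := fun B i =>
    cst B * h7_res M hPr (Cfsg.centralChar (h7_robRep B : G → ℂ) (x i)⁻¹) with hU
  set V : Matrix (h7_robBlocks (G := G) p M D) ι (h7_resRing M hPr) := fun B j =>
    h7_res M hPr (Cfsg.centralChar (h7_robRep B : G → ℂ) (x j)) with hV
  have hmap : A.map (h7_zmodHom hM) = U.transpose * V := by
    ext i j
    rw [Matrix.map_apply, hAW, h7_zmodHom_natCast, hW2 i j, Matrix.mul_apply]
    refine Finset.sum_congr rfl fun B _ => ?_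
    rw [Matrix.transpose_apply]
  have hVind : LinearIndependent (h7_resRing M hPr) (fun B => V B) :=
    h7_rob_indep hM D x hxall
  have hcst0 : ∀ B, cst B ≠ 0 := by
    intro B
    have hidxcop : ((S : Subgroup G).index).Coprime p :=
      (Nat.Coprime.symm ((Nat.Prime.coprime_iff_not_dvd hp.out).mpr S.not_dvd_index))
    have hinvR : Cfsg.MemLocalRing M ((((S : Subgroup G).index : ℕ) : ℂ)⁻¹) :=
      h7_memLocalRing_inv_natCast hM _ hidxcop
    have hidx0 : ((((S : Subgroup G).index : ℕ)) : ℂ) ≠ 0 := by
      have : (S : Subgroup G).index ≠ 0 := Subgroup.index_ne_zero_of_finite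
      exact_mod_cast this
    apply mul_ne_zero
    · rw [Ne, h7_res_eq_zero_iff hPr hinvR]
      intro hmem
      apply h7_not_memLocalIdeal_one hPr
      have := h7_memLocalIdeal_mul_left hPr (h7_memLocalRing_natCast hPr (S : Subgroup G).index) hmem
      rwa [mul_inv_cancel₀ hidx0] at this
    · rw [Ne, h7_res_eq_zero_iff hPr (h7_memLocalRing_natCast hPr _),
        h7_memLocalIdeal_natCast_iff hM]
      exact (h7_robQ_spec hM S B).1
  have hUind : LinearIndependent (h7_resRing M hPr) (fun B => U B) := by
    have hbase : LinearIndependent (h7_resRing M hPr)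
        (fun B : h7_robBlocks (G := G) p M D => fun i : ι =>
          h7_res M hPr (Cfsg.centralChar (h7_robRep B : G → ℂ) ((fun i => (x i)⁻¹) i))) := by
      apply h7_rob_indep hM D (fun i => (x i)⁻¹)
      intro g hg
      obtain ⟨i, hi⟩ := hxall g⁻¹ (h7_good_inv p D g hg)
      exact ⟨i, (h7_isConj_inv_iff g (x i)).mp hi⟩
    have h2 := hbase.units_smul (fun B => Units.mk0 (cst B) (hcst0 B))
    convert h2 using 1
    funext B i
    simp only [Pi.smul_apply', Pi.smul_apply, Units.smul_def, Units.val_mk0, smul_eq_mul, hU]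
  have hrank := h7_rank_transpose_mul U V hUind hVind
  rw [Nat.card_eq_fintype_card, ← hrank, ← hmap, h7_rank_map_field]

end Cfsg.Agent.Lib.helper7
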