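import Mathlib
import Cfsg.Agent.Lib.Lead.BCS.Defs

/-!
# Project BCS (S2362), row A3 (`bcs_comm_inv`), verbatim from `Lead/BCS/Skel.lean.txt`.  (helper7)
-/

set_option autoImplicit false
set_option linter.unusedVariables false

namespace Cfsg.Agent.Lib.Lead.BCS

open Polynomial Module Matrix Cfsg.Agent.Lib.Helper13.S5955 Cfsg.Agent.Lib.helper15.S5972
  Cfsg.Agent.Lib.Helper18.ONE

/-- `g` commutes with every polynomial in `y` -/
theorem bcsa3_comm_aeval {F : Type*} [Field F] {V : Type*} [AddCommGroup V] [Module F V]
    (g y : Module.End F V) (hc : Commute g y) (P : F[X]) : Commute g (aeval y P) := by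
  induction P using Polynomial.induction_on' with
  | add p q hp hq => rw [map_add]; exact hp.add_right hq
  | monomial n a =>
    rw [aeval_monomial]
    exact (Algebra.commute_algebraMap_right a g).mul_right (hc.pow_right n)

/-- `g` preserves the kernel of every polynomial in `y` -/
theorem bcsa3_inv_ker {F : Type*} [Field F] {V : Type*} [AddCommGroup V] [Module F V]
    (g y : Module.End F V) (hc : Commute g y) (P : F[X]) : SInv g (LinearMap.ker (aeval y P)) := by
  intro w hw
  rw [LinearMap.mem_ker] at hw ⊢
  have h := bcsa3_comm_aeval g y hc P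
  have h1 : (aeval y P * g) w = (g * aeval y P) w := by rw [h.eq]
  rw [Module.End.mul_apply, Module.End.mul_apply, hw, map_zero] at h1
  exact h1

/-- A3 [S] -/
theorem bcs_comm_inv {F : Type*} [Field F] {V : Type*} [AddCommGroup V] [Module F V]
    (g y : Module.End F V) (hc : Commute g y) (r : ℕ) :
    SInv g (fixS y) ∧ SInv g (cycS r y) :=
  ⟨bcsa3_inv_ker g y hc _, bcsa3_inv_ker g y hc _⟩

end Cfsg.Agent.Lib.Lead.BCS
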