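import Mathlib
import Cfsg.Agent.Lib.Helper19.SO8.Defs
import Cfsg.Agent.Lib.helper4.OTSSTDP
import Cfsg.Agent.Lib.helper15.OTSSTDCTX
import Cfsg.Agent.Lib.Helper25.BCGX4

set_option autoImplicit false

/-!
# Project SO8 (designer helper19), row IPLUS (`oreal_iplus`), verbatim from `Helper19/SO8/Skel.lean.txt`.  (helper7)

Also the generic tool `so8iplus_of_end`: an endomorphism of order `N` preserving a standard quadratic form gives `OReal`.
-/

namespace Cfsg.Agent.Lib.Helper19.SO8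

open Polynomial Cfsg.Agent.Lib.Helper13.OTS

/-- generic: an endomorphism `y` of the coordinate space preserving `Qs` (standard, of dimension `2 d` and type `s`), of order `N ≥ 1`
in the endomorphism monoid, gives `OReal F d s N`. -/
theorem so8iplus_of_end {F : Type*} [Field F] [Fintype F] {ι : Type} [Fintype ι] [DecidableEq ι]
    (Qs : QuadraticForm F (ι → F)) (d : ℕ) (s : ℤ) (hs : QStd Qs d s) (N : ℕ)
    (y : Module.End F (ι → F)) (hpres : ∀ v, Qs (y v) = Qs v) (hord : orderOf y = N) :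
    OReal F d s N := by
  classical
  have hctx : QCtx N Qs y := by
    refine ⟨?_, hpres, ?_⟩
    · intro u hu
      apply hs.nd.1
      intro v
      rw [QuadraticMap.polarBilin_apply_apply]
      exact hu v
    · rw [← hord]
      exact pow_orderOf_eq_one y
  obtain ⟨x, hx, hxy, _⟩ := q_realize Qs N y hctx
  refine ⟨ι, inferInstance, inferInstance, Qs, hs, ⟨x, hx⟩, ?_⟩
  rw [← hord]
  have h1 : orderOf (⟨x, hx⟩ : ↥(Cfsg.isometryGroup F (⇑Qs))) = orderOf x :=
    (Subgroup.orderOf_coe (⟨x, hx⟩ : ↥(Cfsg.isometryGroup F (⇑Qs)))).symm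
  rw [h1, orderOf_eq_orderOf_iff]
  intro k
  rw [Cfsg.Agent.Lib.Lead.BCG.gl_same x k, hxy]

/-- order-two version -/
theorem so8iplus_of_invol {F : Type*} [Field F] [Fintype F] {ι : Type} [Fintype ι] [DecidableEq ι]
    (Qs : QuadraticForm F (ι → F)) (d : ℕ) (s : ℤ) (hs : QStd Qs d s)
    (y : Module.End F (ι → F)) (hpres : ∀ v, Qs (y v) = Qs v) (h2 : y * y = 1) (hne : y ≠ 1) :
    OReal F d s 2 := by
  apply so8iplus_of_end Qs d s hs 2 y hpres
  have : Fact (Nat.Prime 2) := ⟨Nat.prime_two⟩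
  exact orderOf_eq_prime (by rw [pow_two]; exact h2) hne

/-- IPLUS [S-M]: the swap `(x, y) ↦ (y, x)` on `quadFormPlus 1 F` (`q_std_plus 1`); order 2 (`≠ 1`: evaluate at `(1, 0)`). -/
theorem oreal_iplus {F : Type*} [Field F] [Fintype F] : OReal F 1 1 2 := by
  classical
  let y : Module.End F (Fin 1 ⊕ Fin 1 → F) := LinearMap.funLeft F F Sum.swap
  have hy : ∀ (v : Fin 1 ⊕ Fin 1 → F) (j : Fin 1 ⊕ Fin 1), y v j = v j.swap := fun v j => rfl
  apply so8iplus_of_invol (Cfsg.Agent.Lib.Helper16.qfPlus 1 F) 1 1 (q_std_plus 1) y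
  · intro v
    rw [Cfsg.Agent.Lib.Helper16.qfPlus_coe]
    unfold Cfsg.quadFormPlus
    apply Finset.sum_congr rfl
    intro i _
    rw [hy, hy, Sum.swap_inl, Sum.swap_inr, mul_comm]
  · apply LinearMap.ext
    intro v
    funext j
    rw [Module.End.mul_apply, hy, hy, Sum.swap_swap]
    rfl
  · intro h
    have h1 := congrFun (LinearMap.congr_fun h (Pi.single (Sum.inl 0) 1)) (Sum.inl 0)
    rw [hy, Sum.swap_inl] at h1
    simp at h1

end Cfsg.Agent.Lib.Helper19.SO8
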