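import Mathlib
import Cfsg.Agent.Lib.Helper19.SO8.Defs
import Cfsg.Agent.Lib.helper7.SO8IPLUS

set_option autoImplicit false

/-!
# Project SO8 (designer helper19), row IMINUS (`oreal_iminus`), verbatim from `Helper19/SO8/Skel.lean.txt`.  (helper7)
-/

namespace Cfsg.Agent.Lib.Helper19.SO8

open Polynomial Cfsg.Agent.Lib.Helper13.OTS

/-- the map `(z₁, z₂) ↦ (z₁ + z₂, z₂)` on the coordinates `(Fin 0 ⊕ Fin 0) ⊕ Fin 2` -/
noncomputable def so8iminus_y (F : Type*) [Field F] : Module.End F ((Fin 0 ⊕ Fin 0) ⊕ Fin 2 → F) where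
  toFun v := fun j => if j = Sum.inr 0 then v (Sum.inr 0) + v (Sum.inr 1) else v j
  map_add' u v := by
    funext j
    by_cases hj : j = Sum.inr 0
    · simp only [Pi.add_apply, if_pos hj]
      ring
    · simp only [Pi.add_apply, if_neg hj]
  map_smul' a v := by
    funext j
    by_cases hj : j = Sum.inr 0
    · simp only [Pi.smul_apply, if_pos hj, RingHom.id_apply, smul_eq_mul]
      ring
    · simp only [Pi.smul_apply, if_neg hj, RingHom.id_apply]

theorem so8iminus_y_zero (F : Type*) [Field F] (v : (Fin 0 ⊕ Fin 0) ⊕ Fin 2 → F) :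
    so8iminus_y F v (Sum.inr 0) = v (Sum.inr 0) + v (Sum.inr 1) := by
  show (if (Sum.inr 0 : (Fin 0 ⊕ Fin 0) ⊕ Fin 2) = Sum.inr 0 then v (Sum.inr 0) + v (Sum.inr 1)
    else v (Sum.inr 0)) = _
  rw [if_pos rfl]

theorem so8iminus_y_one (F : Type*) [Field F] (v : (Fin 0 ⊕ Fin 0) ⊕ Fin 2 → F) :
    so8iminus_y F v (Sum.inr 1) = v (Sum.inr 1) := by
  show (if (Sum.inr 1 : (Fin 0 ⊕ Fin 0) ⊕ Fin 2) = Sum.inr 0 then v (Sum.inr 0) + v (Sum.inr 1)
    else v (Sum.inr 1)) = _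
  rw [if_neg (by decide)]

/-- IMINUS [S-M]: `(z₁, z₂) ↦ (z₁ + z₂, z₂)` on `quadFormMinus 0 F 1 c` (`otsstdp_minus 0 1 c hc`): `(z₁+z₂)^2 + (z₁+z₂) z₂ + c z₂^2 = z₁^2 + z₁ z₂ + c z₂^2` (char 2); order 2.
Use `q_realize` (helper15/OTSSTDCTX.lean) to get the matrix from the linear map, and `gl_same` (Helper25/BCGX4.lean) for the order. -/
theorem oreal_iminus {F : Type*} [Field F] [Fintype F] [CharP F 2] (c : F)
    (hc : ∀ z₁ z₂ : F, z₁ ^ 2 + 1 * z₁ * z₂ + c * z₂ ^ 2 = 0 → z₁ = 0 ∧ z₂ = 0) :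
    OReal F 1 (-1) 2 := by
  classical
  have h2 : (2 : F) = 0 := CharTwo.two_eq_zero
  apply so8iplus_of_invol (Cfsg.Agent.Lib.Helper16.qfMinus 0 F 1 c) 1 (-1) (otsstdp_minus 0 1 c hc)
    (so8iminus_y F)
  · intro v
    rw [Cfsg.Agent.Lib.Helper16.qfMinus_coe]
    unfold Cfsg.quadFormMinus
    rw [so8iminus_y_zero, so8iminus_y_one]
    simp only [Finset.univ_eq_empty, Finset.sum_empty]
    linear_combination (v (Sum.inr 0) * v (Sum.inr 1) + v (Sum.inr 1) ^ 2) * h2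
  · apply LinearMap.ext
    intro v
    funext j
    rw [Module.End.mul_apply]
    by_cases hj : j = Sum.inr 0
    · subst hj
      rw [so8iminus_y_zero, so8iminus_y_zero, so8iminus_y_one]
      show _ = v (Sum.inr 0)
      linear_combination v (Sum.inr 1) * h2
    · show (if j = Sum.inr 0 then _ else (if j = Sum.inr 0 then _ else v j)) = v j
      rw [if_neg hj, if_neg hj]
  · intro h
    have h1 := congrFun (LinearMap.congr_fun h (Pi.single (Sum.inr 1) 1)) (Sum.inr 0)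
    rw [so8iminus_y_zero] at h1
    simp at h1

end Cfsg.Agent.Lib.Helper19.SO8
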