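import Mathlib
import Cfsg.Prelude.Def_Characters
import Cfsg.Prelude.Def_Blocks
import Cfsg.Agent.Lib.Helper25.CharLinear
import Cfsg.Agent.Lib.Helper29.LeoOrbit
import Cfsg.Agent.Lib.helper7.BR.Defs
import Cfsg.Agent.Lib.Helper13.BT.Defs
import Cfsg.Agent.Lib.Helper21.BTFAITH
import Cfsg.Agent.Lib.helper15.SL2Card
import Cfsg.Agent.S4705

/-!
# Project BT (S0997), piece CASEM2 : the branch `z = p - 2`, `p > 5`
-/

set_option autoImplicit false
set_option linter.unusedVariables false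
set_option linter.unusedSectionVars false

namespace Cfsg.Agent.Lib.Helper13.BT

open Classical
open scoped ComplexConjugate
open Cfsg.Agent.Lib.Helper25 Cfsg.Agent.Lib.Helper29
open Cfsg.Agent.Lib.helper7.BR

universe u

variable {G : Type u} [Group G] [Fintype G] {p : ℕ} [Fact p.Prime]

/-- the centre of a non-commutative simple group is trivial -/
theorem btcasem2_center [IsSimpleGroup G] (hnc : ¬ ∀ x y : G, x * y = y * x) :
    Subgroup.center G = ⊥ := by
  rcases (Subgroup.center G).normal_of_characteristic.eq_bot_or_eq_top with h | h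
  · exact h
  · exfalso
    apply hnc
    intro x y
    have hy : y ∈ Subgroup.center G := by rw [h]; exact Subgroup.mem_top y
    exact ((Subgroup.mem_center_iff.mp hy) x)

/-- a Sylow subgroup of prime order of a non-commutative simple group is not normal -/
theorem btcasem2_not_normal [IsSimpleGroup G] (hnc : ¬ ∀ x y : G, x * y = y * x) (P : Sylow p G)
    (hP : Nat.card ↥(P : Subgroup G) = p) : ¬ (P : Subgroup G).Normal := by
  have hpp := (Fact.out : p.Prime)
  intro hn
  rcases hn.eq_bot_or_eq_top with h | h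
  · rw [h] at hP
    simp at hP
    exact hpp.one_lt.ne' hP.symm
  · apply hnc
    have hcyc : IsCyclic ↥(P : Subgroup G) := isCyclic_of_prime_card hP
    have hcomm : ∀ a b : ↥(P : Subgroup G), a * b = b * a := by
      intro a b
      haveI := hcyc
      exact (IsCyclic.commGroup).mul_comm a b
    intro x y
    have hx : x ∈ (P : Subgroup G) := by rw [h]; exact Subgroup.mem_top x
    have hy : y ∈ (P : Subgroup G) := by rw [h]; exact Subgroup.mem_top y
    exact congrArg Subtype.val (hcomm ⟨x, hx⟩ ⟨y, hy⟩)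

/-- CASEM2 : the branch `z = p - 2`, `p > 5` (S4705 gives `G ≅ SL(2,2^a) × Z(G)`, `p = 2^a + 1`;
`helper15.card_SL2`) -/
theorem case_two [IsSimpleGroup G] (hnc : ¬ ∀ x y : G, x * y = y * x) (P : Sylow p G)
    (hP : Nat.card ↥(P : Subgroup G) = p) (hp5 : 5 < p) (θ : Cfsg.IrrCharacter G)
    (hθ : leoDeg θ + 2 = p) : Nat.card G < p ^ 3 := by
  have hpp := (Fact.out : p.Prime)
  have hnn := btcasem2_not_normal hnc P hP
  have hθ1 : (θ : G → ℂ) 1 = (leoDeg θ : ℂ) := leoDeg_spec θ
  have hne : θ ≠ trivIrr G := by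
    intro h
    rw [h, trivIrr_apply] at hθ1
    have : leoDeg (trivIrr G) = 1 := by exact_mod_cast hθ1.symm
    rw [h] at hθ
    omega
  have hfaith : ∀ g : G, (θ : G → ℂ) g = (θ : G → ℂ) 1 → g = 1 :=
    fun g hg => faithful_of_simple θ hne g hg
  have hdeg : Cfsg.charDegree (θ : G → ℂ) = p - 2 := by
    unfold Cfsg.charDegree
    rw [hθ1]
    simp only [Complex.natCast_re, Nat.floor_natCast]
    omega
  obtain ⟨a, F, hField, hFin, hpa, hcardF, ⟨eqv⟩⟩ :=
    Cfsg.Agent.S4705.result p hp5 P hP hnn (θ : G → ℂ) θ.2 hfaith hdeg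
  have hcen := btcasem2_center hnc
  have h1 : Nat.card G = Nat.card (Matrix.SpecialLinearGroup (Fin 2) F × ↥(Subgroup.center G)) :=
    Nat.card_congr eqv.toEquiv
  rw [Nat.card_prod, hcen] at h1
  have h2 : Nat.card ↥(⊥ : Subgroup G) = 1 := by simp
  rw [h2, mul_one, Cfsg.Agent.Lib.helper15.card_SL2, hcardF] at h1
  rw [h1]
  have hq : 2 ^ a = p - 1 := by omega
  rw [hq]
  -- `(p-1) ((p-1)^2 - 1) < p^3`
  have hp1 : 1 ≤ p := hpp.one_lt.le
  obtain ⟨m, hm⟩ : ∃ m, p = m + 1 := ⟨p - 1, by omega⟩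
  rw [hm]
  simp only [Nat.add_sub_cancel]
  have h3 : m ^ 2 - 1 ≤ m ^ 2 := Nat.sub_le _ _
  calc m * (m ^ 2 - 1) ≤ m * m ^ 2 := Nat.mul_le_mul_left m h3
    _ < (m + 1) ^ 3 := by nlinarith

end Cfsg.Agent.Lib.Helper13.BT
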