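import Mathlib
import Cfsg.Prelude.Def_Characters
import Cfsg.Prelude.Def_Blocks
import Cfsg.Agent.Lib.Helper25.CharLinear
import Cfsg.Agent.Lib.Helper25.CharBound
import Cfsg.Agent.Lib.Helper29.LeoOrbit
import Cfsg.Agent.Lib.helper7.BR.Defs
import Cfsg.Agent.Lib.Helper13.BT.Defs
import Cfsg.Agent.Lib.helper17.PM2PROJP
import Cfsg.Agent.Lib.helper2.CharNat

/-!
# Project BT (S0997), piece CENT1 : the `p`-regular elements of `C_G(P)` are trivial
-/

set_option autoImplicit false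
set_option linter.unusedVariables false
set_option linter.unusedSectionVars false

namespace Cfsg.Agent.Lib.Helper13.BT

open Classical
open scoped ComplexConjugate
open Cfsg.Agent.Lib.Helper25 Cfsg.Agent.Lib.Helper29
open Cfsg.Agent.Lib.helper7.BR

universe u

variable {G : Type u} [Group G] [Fintype G] {p : ℕ} [Fact p.Prime]

/-- a character of degree `1` has values of absolute value `1` -/
theorem btcent1_linear_norm {H : Type*} [Group H] [Finite H] {φ : H → ℂ}
    (hφ : Cfsg.IsCharacter H φ) (h1 : φ 1 = 1) (g : H) : φ g * conj (φ g) = 1 := by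
  obtain ⟨n, ρ, rfl⟩ := hφ
  have h2 := h1
  rw [Representation.char_one] at h2
  have hfr : Module.finrank ℂ (Fin n → ℂ) = 1 := by exact_mod_cast h2
  have hirr : ρ.IsIrreducible := isIrreducible_of_finrank_eq_one ρ hfr
  exact irr_linear_mul_conj (⟨ρ.character, n, ρ, hirr, rfl⟩ : Cfsg.IrrCharacter H) h1 g

/-- the sum over a subgroup of prime order as a sum over the powers of a generator -/
theorem btcent1_sum_pow (Q : Subgroup G) (hQ : Nat.card ↥Q = p) (x0 : G) (hx0 : x0 ∈ Q)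
    (hord : orderOf x0 = p) (f : G → ℂ) :
    ∑ x : ↥Q, f (x : G) = ∑ m ∈ Finset.range p, f (x0 ^ m) := by
  have hinj : Set.InjOn (fun m : ℕ => (⟨x0 ^ m, Q.pow_mem hx0 m⟩ : ↥Q))
      (Finset.range p : Set ℕ) := by
    intro m hm n hn hmn
    have h1 : x0 ^ m = x0 ^ n := congrArg Subtype.val hmn
    have hm' : m < orderOf x0 := by rw [hord]; exact Finset.mem_range.mp hm
    have hn' : n < orderOf x0 := by rw [hord]; exact Finset.mem_range.mp hn
    exact pow_injOn_Iio_orderOf hm' hn' h1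
  have himg : (Finset.range p).image (fun m : ℕ => (⟨x0 ^ m, Q.pow_mem hx0 m⟩ : ↥Q)) =
      Finset.univ := by
    apply Finset.eq_univ_of_card
    rw [Finset.card_image_of_injOn hinj, Finset.card_range, ← Nat.card_eq_fintype_card, hQ]
  rw [← himg, Finset.sum_image hinj]

/-- a complex number of absolute value `1` whose `p`-fold multiple is within `p - e` of `e` is `1` -/
theorem btcent1_eq_one (w : ℂ) (hw : w * conj w = 1) (P E : ℝ) (hE : 0 < E) (hPE : E ≤ P)
    (h : ‖(P : ℂ) * w - (E : ℂ)‖ ≤ P - E) : w = 1 := by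
  have hP0 : 0 < P := lt_of_lt_of_le hE hPE
  have hns : Complex.normSq w = 1 := by
    have h1 : ((Complex.normSq w : ℝ) : ℂ) = 1 := by rw [Complex.normSq_eq_conj_mul_self, mul_comm]; exact hw
    exact_mod_cast h1
  have hsq : ‖(P : ℂ) * w - (E : ℂ)‖ ^ 2 ≤ (P - E) ^ 2 := by
    apply pow_le_pow_left₀ (norm_nonneg _) h
  have hexp : ‖(P : ℂ) * w - (E : ℂ)‖ ^ 2 = P ^ 2 - 2 * P * E * w.re + E ^ 2 := by
    rw [← Complex.normSq_eq_norm_sq, Complex.normSq_apply]
    simp only [Complex.sub_re, Complex.mul_re, Complex.ofReal_re, Complex.ofReal_im, zero_mul,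
      sub_zero, Complex.sub_im, Complex.mul_im, add_zero]
    rw [Complex.normSq_apply] at hns
    nlinarith
  rw [hexp] at hsq
  have hre : 1 ≤ w.re := by
    have hpe : 0 < P * E := mul_pos hP0 hE
    nlinarith
  rw [Complex.normSq_apply] at hns
  have him : w.im = 0 := by nlinarith
  have hre1 : w.re = 1 := by nlinarith
  apply Complex.ext
  · simpa using hre1
  · simpa using him

/-- CENT1 : the `p`-regular elements of `C_G(P)` are trivial.  (`θ ∈ Y` faithful of degree `z = p - e`;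
`φ(c) = p⁻¹ ∑_{x ∈ P} θ(x c)` is a character of `C_G(P)` (`helper7.PM2.proj_central_pow` with `μ = 1`) of degree
`p⁻¹ ∑_x θ(x) = 1` (`sumP`), so `|φ(c)| = 1`; for `c` `p`-regular and `x ≠ 1`: `θ(x c) = θ(x)` (`ppart`), so
`θ(c) = p φ(c) - (p - z)` and `|θ(c)| ≤ z < p` force `φ(c) = 1`, `θ(c) = θ(1)`, `c = 1`.) -/
theorem pregular_cen_eq_one {P : Sylow p G} (hP : Nat.card ↥(P : Subgroup G) = p) {e : ℕ}
    {X Y : Finset (Cfsg.IrrCharacter G)} {a : Cfsg.IrrCharacter G → ℤ} (hB : PB3 p e P X Y a (-1))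
    (θ : Cfsg.IrrCharacter G) (hθ : θ ∈ Y) (hdeg : leoDeg θ + e = p)
    (hfaith : ∀ g : G, (θ : G → ℂ) g = (θ : G → ℂ) 1 → g = 1) (c : G) (hc : c ∈ cen P)
    (hreg : ¬ p ∣ orderOf c) : c = 1 := by
  have hpp := (Fact.out : p.Prime)
  have hp0 : (p : ℂ) ≠ 0 := by exact_mod_cast hpp.ne_zero
  -- a generator of `P`
  have hex : ∃ x0 ∈ (P : Subgroup G), x0 ≠ 1 := by
    by_contra hcon
    push Not at hcon
    have hbot : (P : Subgroup G) = ⊥ := by
      rw [Subgroup.eq_bot_iff_forall]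
      exact hcon
    rw [hbot] at hP
    simp at hP
    exact hpp.one_lt.ne' hP.symm
  obtain ⟨x0, hx0P, hx01⟩ := hex
  have hord : orderOf x0 = p := by
    have h1 : orderOf x0 ∣ p := by
      have := Subgroup.orderOf_dvd_natCard (P : Subgroup G) hx0P
      rwa [hP] at this
    rcases (Nat.dvd_prime hpp).mp h1 with h | h
    · exact absurd (orderOf_eq_one_iff.mp h) hx01
    · exact h
  -- `P ≤ C_G(P)`
  have hPle : (P : Subgroup G) ≤ cen P := by
    have hcyc : IsCyclic ↥(P : Subgroup G) := isCyclic_of_prime_card hP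
    intro x hx
    rw [Subgroup.mem_centralizer_iff]
    intro y hy
    have hcomm : ∀ a b : ↥(P : Subgroup G), a * b = b * a := by
      intro a b
      haveI := hcyc
      exact (IsCyclic.commGroup).mul_comm a b
    exact congrArg Subtype.val (hcomm ⟨y, hy⟩ ⟨x, hx⟩)
  -- the central element `y` of `C = C_G(P)`
  set C : Subgroup G := cen P with hC
  set y : ↥C := ⟨x0, hPle hx0P⟩ with hy
  have hycen : y ∈ Subgroup.center ↥C := by
    rw [Subgroup.mem_center_iff]
    intro g
    apply Subtype.ext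
    simp only [Subgroup.coe_mul]
    exact (Subgroup.mem_centralizer_iff.mp g.2) x0 hx0P |>.symm
  have hyp : y ^ p = 1 := by
    apply Subtype.ext
    simp only [Subgroup.coe_pow, Subgroup.coe_one]
    rw [← hord, pow_orderOf_eq_one]
  have hθC : Cfsg.IsCharacter ↥C (fun h : ↥C => (θ : G → ℂ) (h : G)) :=
    Cfsg.Agent.Lib.helper2.isCharacter_restrict (Cfsg.Agent.Lib.helper2.isCharacter_of_irr θ) C
  have hφ := Cfsg.Agent.Lib.helper7.PM2.proj_central_pow hθC y hycen p hpp.pos hyp 1 (one_pow p)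
  set φ : ↥C → ℂ := fun g => (p : ℂ)⁻¹ * ∑ m ∈ Finset.range p,
    (1 : ℂ)⁻¹ ^ m * (θ : G → ℂ) ((y ^ m * g : ↥C) : G) with hφdef
  have hφval : ∀ g : ↥C, φ g = (p : ℂ)⁻¹ * ∑ m ∈ Finset.range p, (θ : G → ℂ) (x0 ^ m * (g : G)) := by
    intro g
    rw [hφdef]
    simp only [inv_one, one_pow, one_mul, Subgroup.coe_mul, Subgroup.coe_pow]
    rfl
  -- the degree of `θ` and the sum over `P`
  have hθ1 : (θ : G → ℂ) 1 = (leoDeg θ : ℂ) := leoDeg_spec θ
  have hsumP : ∑ m ∈ Finset.range p, (θ : G → ℂ) (x0 ^ m) = (p : ℂ) := by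
    rw [← btcent1_sum_pow (P : Subgroup G) hP x0 hx0P hord (θ : G → ℂ), hB.sumP θ hθ, hθ1]
    have : ((leoDeg θ + e : ℕ) : ℂ) = (p : ℂ) := by rw [hdeg]
    push_cast at this ⊢
    linear_combination this
  have hφ1 : φ 1 = 1 := by
    rw [hφval]
    simp only [Subgroup.coe_one, mul_one]
    rw [hsumP, inv_mul_cancel₀ hp0]
  -- the value at `c`
  set c' : ↥C := ⟨c, hc⟩ with hc'
  have hnorm := btcent1_linear_norm hφ hφ1 c'
  have hterm : ∀ m ∈ Finset.range p, m ≠ 0 →
      (θ : G → ℂ) (x0 ^ m * c) = (θ : G → ℂ) (x0 ^ m) := by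
    intro m hm hm0
    have hmem : x0 ^ m ∈ (P : Subgroup G) := Subgroup.pow_mem _ hx0P m
    have hne : x0 ^ m ≠ 1 := by
      intro h1
      have h2 : orderOf x0 ∣ m := orderOf_dvd_of_pow_eq_one h1
      rw [hord] at h2
      have := Nat.le_of_dvd (Nat.pos_of_ne_zero hm0) h2
      have := Finset.mem_range.mp hm
      omega
    have hordm : orderOf (x0 ^ m) = p := by
      have h1 : orderOf (x0 ^ m) ∣ p := by
        have := Subgroup.orderOf_dvd_natCard (P : Subgroup G) hmem
        rwa [hP] at this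
      rcases (Nat.dvd_prime hpp).mp h1 with h | h
      · exact absurd (orderOf_eq_one_iff.mp h) hne
      · exact h
    apply hB.ppart θ hθ (x0 ^ m * c) (x0 ^ m) _ hmem hne
    refine ⟨c, rfl, ?_, ⟨1, by rw [hordm, pow_one]⟩, hreg⟩
    exact ((Subgroup.mem_centralizer_iff.mp hc) (x0 ^ m) hmem)
  have hφc : (p : ℂ) * φ c' = (θ : G → ℂ) c + ((p : ℂ) - (leoDeg θ : ℂ)) := by
    rw [hφval, ← mul_assoc, mul_inv_cancel₀ hp0, one_mul]
    have hc'' : ((c' : ↥C) : G) = c := rfl
    rw [hc'']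
    have hpos : 0 < p := hpp.pos
    obtain ⟨k, hk⟩ : ∃ k, p = k + 1 := ⟨p - 1, by omega⟩
    have h1 : ∑ m ∈ Finset.range p, (θ : G → ℂ) (x0 ^ m * c) =
        (θ : G → ℂ) c + ∑ m ∈ Finset.range k, (θ : G → ℂ) (x0 ^ (m + 1)) := by
      rw [hk, Finset.sum_range_succ', pow_zero, one_mul, add_comm]
      congr 1
      apply Finset.sum_congr rfl
      intro m hm
      apply hterm (m + 1) _ (Nat.succ_ne_zero m)
      rw [Finset.mem_range] at hm ⊢
      omega
    have h2 : ∑ m ∈ Finset.range p, (θ : G → ℂ) (x0 ^ m) =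
        (θ : G → ℂ) 1 + ∑ m ∈ Finset.range k, (θ : G → ℂ) (x0 ^ (m + 1)) := by
      rw [hk, Finset.sum_range_succ', pow_zero, add_comm]
    rw [h1]
    rw [hsumP, hθ1] at h2
    linear_combination -h2
  -- conclude `φ c' = 1`
  have hle : ‖(θ : G → ℂ) c‖ ≤ (leoDeg θ : ℝ) := by
    have := irr_norm_le θ c
    rw [hθ1] at this
    simpa using this
  have hz : ((p : ℝ) - (leoDeg θ : ℝ)) = (e : ℝ) := by
    have : ((leoDeg θ + e : ℕ) : ℝ) = (p : ℝ) := by rw [hdeg]
    push_cast at this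
    linarith
  have he0 : 0 < e := by
    rcases Nat.eq_zero_or_pos e with h0 | h0
    · exfalso
      -- `e = 0` contradicts `cardY`
      have := hB.cardY
      rw [h0, mul_zero] at this
      have := hpp.two_le
      omega
    · exact h0
  have hφone : φ c' = 1 := by
    apply btcent1_eq_one (φ c') hnorm (p : ℝ) (e : ℝ) (by exact_mod_cast he0)
    · have : e ≤ p := by omega
      exact_mod_cast this
    · have h1 : ((p : ℝ) : ℂ) * φ c' - ((e : ℝ) : ℂ) = (θ : G → ℂ) c := by
        push_cast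
        rw [hφc]
        have : ((p : ℂ) - (leoDeg θ : ℂ)) = (e : ℂ) := by
          have h3 : ((leoDeg θ + e : ℕ) : ℂ) = (p : ℂ) := by rw [hdeg]
          push_cast at h3
          linear_combination -h3
        rw [this]
        ring
      rw [h1]
      calc ‖(θ : G → ℂ) c‖ ≤ (leoDeg θ : ℝ) := hle
        _ = (p : ℝ) - (e : ℝ) := by linarith
  apply hfaith c
  rw [hφone, mul_one] at hφc
  rw [hθ1]
  linear_combination -hφc

end Cfsg.Agent.Lib.Helper13.BT
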