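import Mathlib
import Cfsg.Prelude.Def_Characters
import Cfsg.Prelude.Def_Blocks
import Cfsg.Agent.Lib.Helper25.CharLinear
import Cfsg.Agent.Lib.Helper29.LeoOrbit
import Cfsg.Agent.Lib.helper7.BR.Defs
import Cfsg.Agent.Lib.Helper13.BT.Defs

/-!
# Project BT (S0997), piece CENT2 : if the `p`-regular elements of `C_G(P)` are trivial then `C_G(P) = P`
-/

set_option autoImplicit false
set_option linter.unusedVariables false
set_option linter.unusedSectionVars false

namespace Cfsg.Agent.Lib.Helper13.BT

open Classical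
open scoped ComplexConjugate
open Cfsg.Agent.Lib.Helper25 Cfsg.Agent.Lib.Helper29
open Cfsg.Agent.Lib.helper7.BR

universe u

variable {G : Type u} [Group G] [Fintype G] {p : ℕ} [Fact p.Prime]

/-- a group of prime order is commutative: `P ≤ C_G(P)` -/
theorem btcent2_le_cen (P : Sylow p G) (hP : Nat.card ↥(P : Subgroup G) = p) :
    (P : Subgroup G) ≤ cen P := by
  have hpp := (Fact.out : p.Prime)
  have hcyc : IsCyclic ↥(P : Subgroup G) := isCyclic_of_prime_card hP
  intro x hx
  rw [Subgroup.mem_centralizer_iff]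
  intro y hy
  have hcomm : ∀ a b : ↥(P : Subgroup G), a * b = b * a := by
    intro a b
    haveI := hcyc
    exact (IsCyclic.commGroup).mul_comm a b
  have := hcomm ⟨y, hy⟩ ⟨x, hx⟩
  exact congrArg Subtype.val this

/-- CENT2 : if the `p`-regular elements of `C_G(P)` are trivial then `C_G(P) = P` -/
theorem cen_eq_of_pregular (P : Sylow p G) (hP : Nat.card ↥(P : Subgroup G) = p)
    (h : ∀ c : G, c ∈ cen P → ¬ p ∣ orderOf c → c = 1) : cen P = (P : Subgroup G) := by
  have hpp := (Fact.out : p.Prime)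
  apply le_antisymm _ (btcent2_le_cen P hP)
  intro c hc
  -- the `p'`-part of `c` is trivial
  have hn0 : orderOf c ≠ 0 := (orderOf_pos c).ne'
  obtain ⟨k, m, hm, hnm⟩ := Nat.exists_eq_pow_mul_and_not_dvd hn0 p hpp.ne_one
  have hck : c ^ (p ^ k) = 1 := by
    apply h (c ^ (p ^ k)) (Subgroup.pow_mem _ hc _)
    have hord : orderOf (c ^ (p ^ k)) = m := by
      rw [orderOf_pow, hnm]
      have hpk : 0 < p ^ k := pow_pos hpp.pos k
      have hg : Nat.gcd (p ^ k * m) (p ^ k) = p ^ k := Nat.gcd_eq_right (dvd_mul_right _ _)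
      rw [hg, Nat.mul_div_cancel_left m hpk]
    rw [hord]
    exact hm
  -- `zpowers c` is a `p`-group
  have hpz : IsPGroup p ↥(Subgroup.zpowers c) := by
    rintro ⟨g, hg⟩
    refine ⟨k, ?_⟩
    obtain ⟨i, rfl⟩ := Subgroup.mem_zpowers_iff.mp hg
    apply Subtype.ext
    simp only [Subgroup.coe_pow, Subgroup.coe_one]
    rw [← zpow_natCast, ← zpow_mul, mul_comm, zpow_mul, zpow_natCast, hck, one_zpow]
  -- `P` normalizes `zpowers c`
  have hnorm : (P : Subgroup G) ≤ Subgroup.normalizer ((Subgroup.zpowers c : Subgroup G) : Set G) := by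
    intro x hx
    rw [Subgroup.mem_normalizer_iff]
    intro g
    have hxc : x * c = c * x := by
      have := (Subgroup.mem_centralizer_iff.mp hc) x hx
      exact this
    have hcomm : Commute x c := hxc
    constructor
    · intro hg
      obtain ⟨i, rfl⟩ := Subgroup.mem_zpowers_iff.mp hg
      have : x * c ^ i * x⁻¹ = c ^ i := by
        have h1 : Commute x (c ^ i) := hcomm.zpow_right i
        rw [h1.eq, mul_assoc, mul_inv_cancel, mul_one]
      rw [this]
      exact Subgroup.zpow_mem_zpowers c i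
    · intro hg
      obtain ⟨i, hi⟩ := Subgroup.mem_zpowers_iff.mp hg
      have h1 : Commute x (c ^ i) := hcomm.zpow_right i
      have : g = c ^ i := by
        have h2 : g = x⁻¹ * (x * g * x⁻¹) * x := by group
        rw [h2, ← hi, mul_assoc, ← h1.eq, ← mul_assoc, inv_mul_cancel, one_mul]
      rw [this]
      exact Subgroup.zpow_mem_zpowers c i
  have hsup : IsPGroup p ↥((P : Subgroup G) ⊔ Subgroup.zpowers c) :=
    IsPGroup.to_sup_of_normal_right' P.isPGroup' hpz hnorm
  have heq := P.is_maximal' hsup le_sup_left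
  have hcmem : c ∈ (P : Subgroup G) ⊔ Subgroup.zpowers c :=
    (le_sup_right : Subgroup.zpowers c ≤ _) (Subgroup.mem_zpowers c)
  rw [heq] at hcmem
  exact hcmem

end Cfsg.Agent.Lib.Helper13.BT
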