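import Mathlib
import Cfsg.Agent.Lib.helper7.BlockResidue
import Cfsg.Agent.Lib.helper7.BlockSing2
import Cfsg.Agent.Lib.helper7.BlockDefect2
import Cfsg.Agent.Lib.helper7.BlockInd2
import Cfsg.Agent.Lib.helper7.BlockCover
import Cfsg.Agent.Lib.helper7.BlockDefGrp
import Cfsg.Agent.Lib.helper7.BlockFirstMain

set_option autoImplicit false
open Cfsg

namespace Cfsg.Agent.Lib.helper7

open Cfsg.Agent.Lib.Helper25 Cfsg.Agent.Lib.helper2
open scoped ComplexConjugate

theorem h7_trace_integral {n : ℕ} (f : Module.End ℂ (Fin n → ℂ)) (m : ℕ) (hm : 0 < m)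
    (hf : f ^ (m + 1) = f) :
    IsIntegral ℤ (LinearMap.trace ℂ (Fin n → ℂ) f) := by
  rw [Module.End.trace_eq_sum_roots_charpoly_of_splits (IsAlgClosed.splits _)]
  apply IsIntegral.multiset_sum
  intro μ hμ
  have hroot : f.charpoly.IsRoot μ := (Polynomial.mem_roots'.mp hμ).2
  have hev := (Module.End.hasEigenvalue_iff_isRoot_charpoly f μ).mpr hroot
  obtain ⟨v, hv⟩ := hev.exists_hasEigenvector
  have hfv : ∀ j : ℕ, (f ^ j) v = μ ^ j • v := by
    intro j
    induction j with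
    | zero => simp
    | succ j ih =>
      rw [pow_succ, Module.End.mul_apply, hv.apply_eq_smul, map_smul, ih, smul_smul, pow_succ,
        mul_comm]
  have h1 := hfv (m + 1)
  rw [hf, hv.apply_eq_smul] at h1
  have h2 : μ ^ (m + 1) = μ := by
    have h3 : (μ - μ ^ (m + 1)) • v = 0 := by rw [sub_smul, ← h1, sub_self]
    rcases smul_eq_zero.mp h3 with h | h
    · exact (sub_eq_zero.mp h).symm
    · exact absurd h hv.2
  refine ⟨Polynomial.X ^ (m + 1) - Polynomial.X, ?_, ?_⟩
  · apply Polynomial.monic_X_pow_sub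
    rw [Polynomial.degree_X]
    exact_mod_cast Nat.succ_lt_succ hm
  · simp [h2]

variable {G : Type*} [Group G]

noncomputable def h7_avg (P : Subgroup G) (χ : G → ℂ) (y : G) : ℂ :=
  (Nat.card P : ℂ)⁻¹ * ∑ᶠ u : P, χ ((u : G) * y)

theorem h7_avg_integral [Finite G] (χ : G → ℂ) (hχ : Cfsg.IsCharacter G χ)
    (P : Subgroup G) (k : G) (hk : ∀ u ∈ P, u * k = k * u) :
    IsIntegral ℤ (h7_avg P χ k) := by
  classical
  unfold h7_avg
  haveI : Fintype P := Fintype.ofFinite P
  obtain ⟨n, ρ, rfl⟩ := hχ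
  rw [finsum_eq_sum_of_fintype]
  set S : Module.End ℂ (Fin n → ℂ) := ∑ u : P, ρ (u : G) with hS
  have hcard : (Nat.card P : ℂ) ≠ 0 := by
    exact_mod_cast Nat.card_pos.ne'
  have hSS : S * S = (Nat.card P : ℂ) • S := by
    rw [hS, Finset.sum_mul]
    have : ∀ u : P, ρ (u : G) * ∑ v : P, ρ (v : G) = ∑ v : P, ρ (v : G) := by
      intro u
      rw [Finset.mul_sum]
      refine Fintype.sum_equiv (Equiv.mulLeft u) _ _ fun v => ?_
      rw [← map_mul]
      rfl
    rw [Finset.sum_congr rfl fun u _ => this u, Finset.sum_const, Finset.card_univ,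
      Nat.card_eq_fintype_card]
    rw [← Nat.cast_smul_eq_nsmul ℂ]
  have hSk : S * ρ k = ρ k * S := by
    rw [hS, Finset.sum_mul, Finset.mul_sum]
    refine Finset.sum_congr rfl fun u _ => ?_
    rw [← map_mul, ← map_mul, hk u u.2]
  set π : Module.End ℂ (Fin n → ℂ) := (Nat.card P : ℂ)⁻¹ • S with hπ
  have hππ : π * π = π := by
    rw [hπ, smul_mul_smul_comm, hSS, smul_smul, mul_assoc, inv_mul_cancel₀ hcard, mul_one]
  have hπk : Commute π (ρ k) := by
    change π * ρ k = ρ k * π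
    rw [hπ, smul_mul_assoc, mul_smul_comm, hSk]
  have hπpow : ∀ j : ℕ, π ^ (j + 1) = π := by
    intro j
    induction j with
    | zero => simp
    | succ j ih => rw [pow_succ, ih, hππ]
  have hm : 0 < orderOf k := orderOf_pos k
  have hN : (π * ρ k) ^ (orderOf k + 1) = π * ρ k := by
    rw [hπk.mul_pow, hπpow, ← map_pow, pow_succ, pow_orderOf_eq_one, one_mul]
  have htr := h7_trace_integral (π * ρ k) (orderOf k) hm hN
  have e : LinearMap.trace ℂ (Fin n → ℂ) (π * ρ k) =
      (Nat.card P : ℂ)⁻¹ * ∑ u : P, ρ.character ((u : G) * k) := by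
    rw [hπ, smul_mul_assoc, map_smul, hS, Finset.sum_mul, map_sum, smul_eq_mul]
    congr 1
    refine Finset.sum_congr rfl fun u _ => ?_
    rw [← map_mul]
    rfl
  rw [← e]
  exact htr

noncomputable def h7_fdE (P : Subgroup G) (χ : G → ℂ) (y : G) : ℂ :=
  ((Cfsg.charDegree χ : ℂ) * (Nat.card P : ℂ) / (Nat.card G : ℂ)) * conj (h7_avg P χ y)

theorem h7_fdE_ratio [Finite G] {p : ℕ} [hp : Fact p.Prime] {M : Ideal Cfsg.AlgInt}
    (hM : Cfsg.IsPModular p M) (P : Sylow p G) :
    Cfsg.MemLocalRing M ((Nat.card (P : Subgroup G) : ℂ) / (Nat.card G : ℂ)) := by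
  have h1 : (Nat.card (P : Subgroup G) : ℂ) / (Nat.card G : ℂ) =
      (((P : Subgroup G).index : ℕ) : ℂ)⁻¹ := by
    have h2 := (P : Subgroup G).card_mul_index
    have h3 : (Nat.card (P : Subgroup G) : ℂ) * ((P : Subgroup G).index : ℂ) = (Nat.card G : ℂ) := by
      exact_mod_cast h2
    have h4 : (Nat.card (P : Subgroup G) : ℂ) ≠ 0 := by exact_mod_cast Nat.card_pos.ne'
    have h5 : ((P : Subgroup G).index : ℂ) ≠ 0 := by
      exact_mod_cast Subgroup.index_ne_zero_of_finite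
    rw [← h3]
    field_simp
  rw [h1]
  apply h7_memLocalRing_inv_natCast hM
  have := P.not_dvd_index
  exact (Nat.Coprime.symm ((Nat.Prime.coprime_iff_not_dvd hp.out).mpr this))

theorem h7_avg_memLocalRing [Finite G] {M : Ideal Cfsg.AlgInt} (hM : M.IsPrime)
    (χ : Cfsg.IrrCharacter G) (P : Subgroup G) (k : G) (hk : ∀ u ∈ P, u * k = k * u) :
    Cfsg.MemLocalRing M (conj (h7_avg P (χ : G → ℂ) k)) := by
  apply h7_memLocalRing_of_isIntegral hM
  apply map_isIntegral_int
  exact h7_avg_integral _ (isCharacter_of_irr χ) P k hk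

theorem h7_fdE_memLocalRing [Finite G] {p : ℕ} [hp : Fact p.Prime] {M : Ideal Cfsg.AlgInt}
    (hM : Cfsg.IsPModular p M) (P : Sylow p G) (χ : Cfsg.IrrCharacter G) (k : G)
    (hk : ∀ u ∈ (P : Subgroup G), u * k = k * u) :
    Cfsg.MemLocalRing M (h7_fdE (P : Subgroup G) (χ : G → ℂ) k) := by
  have hPr := hM.2.1.isPrime
  unfold h7_fdE
  rw [mul_div_assoc]
  exact h7_memLocalRing_mul hPr
    (h7_memLocalRing_mul hPr (h7_memLocalRing_natCast hPr _) (h7_fdE_ratio hM P))
    (h7_avg_memLocalRing hPr χ _ k hk)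

theorem h7_fdE_memLocalIdeal [Finite G] {p : ℕ} [hp : Fact p.Prime] {M : Ideal Cfsg.AlgInt}
    (hM : Cfsg.IsPModular p M) (P : Sylow p G) (χ : Cfsg.IrrCharacter G) (k : G)
    (hk : ∀ u ∈ (P : Subgroup G), u * k = k * u)
    (hdvd : p ∣ Cfsg.charDegree (χ : G → ℂ)) :
    Cfsg.MemLocalIdeal M (h7_fdE (P : Subgroup G) (χ : G → ℂ) k) := by
  have hPr := hM.2.1.isPrime
  unfold h7_fdE
  rw [mul_div_assoc]
  apply h7_memLocalIdeal_mul_right hPr _ (h7_avg_memLocalRing hPr χ _ k hk)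
  exact h7_memLocalIdeal_mul_right hPr ((h7_memLocalIdeal_natCast_iff hM _).mpr hdvd)
    (h7_fdE_ratio hM P)

theorem h7_card_centralizer_isConj [Finite G] {g h : G} (hc : IsConj g h) :
    Nat.card (Subgroup.centralizer ({h} : Set G)) =
      Nat.card (Subgroup.centralizer ({g} : Set G)) := by
  obtain ⟨c, hc⟩ := isConj_iff.mp hc
  rw [← hc]
  exact h7_card_centralizer_conj g c

theorem h7_fdE_orth [Fintype G] [Fintype (Cfsg.IrrCharacter G)] (P : Subgroup G) (x y : G) :
    ∑ χ : Cfsg.IrrCharacter G, Cfsg.centralChar (χ : G → ℂ) x * h7_fdE P (χ : G → ℂ) y =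
      (Nat.card {u : P // IsConj ((u : G) * y) x} : ℂ) := by
  classical
  haveI : Fintype P := Fintype.ofFinite P
  have hG : (Nat.card G : ℂ) ≠ 0 := by exact_mod_cast Nat.card_pos.ne'
  have hPc : (Nat.card P : ℂ) ≠ 0 := by exact_mod_cast Nat.card_pos.ne'
  have hterm : ∀ χ : Cfsg.IrrCharacter G,
      Cfsg.centralChar (χ : G → ℂ) x * h7_fdE P (χ : G → ℂ) y =
      ((Subgroup.centralizer ({x} : Set G)).index : ℂ) / (Nat.card G : ℂ) *
        ∑ u : P, (χ : G → ℂ) x * conj ((χ : G → ℂ) ((u : G) * y)) := by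
    intro χ
    have h1 := irr_one_ne_zero χ
    have hd := (h7_charDegree_props χ).2.2
    unfold Cfsg.centralChar h7_fdE h7_avg
    rw [hd, finsum_eq_sum_of_fintype, map_mul, map_inv₀, map_natCast, map_sum, ← Finset.mul_sum]
    field_simp
  rw [Finset.sum_congr rfl fun χ _ => hterm χ, ← Finset.mul_sum, Finset.sum_comm]
  have hcol : ∀ u : P, ∑ χ : Cfsg.IrrCharacter G,
      (χ : G → ℂ) x * conj ((χ : G → ℂ) ((u : G) * y)) =
      if IsConj ((u : G) * y) x then (Nat.card (Subgroup.centralizer ({x} : Set G)) : ℂ) else 0 := by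
    intro u
    rw [irr_column_orthogonality]
    split_ifs with h
    · rw [h7_card_centralizer_isConj h.symm]
    · rfl
  rw [Finset.sum_congr rfl fun u _ => hcol u, Finset.mul_sum]
  have hidx : ((Subgroup.centralizer ({x} : Set G)).index : ℂ) / (Nat.card G : ℂ) *
      (Nat.card (Subgroup.centralizer ({x} : Set G)) : ℂ) = 1 := by
    have h2 := (Subgroup.centralizer ({x} : Set G)).card_mul_index
    have h3 : (Nat.card (Subgroup.centralizer ({x} : Set G)) : ℂ) *
        ((Subgroup.centralizer ({x} : Set G)).index : ℂ) = (Nat.card G : ℂ) := by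
      exact_mod_cast h2
    rw [← h3]
    have h4 : (Nat.card (Subgroup.centralizer ({x} : Set G)) : ℂ) ≠ 0 := by
      exact_mod_cast Nat.card_pos.ne'
    have h5 : ((Subgroup.centralizer ({x} : Set G)).index : ℂ) ≠ 0 := by
      exact_mod_cast Subgroup.index_ne_zero_of_finite
    field_simp
  have : ∀ u : P, ((Subgroup.centralizer ({x} : Set G)).index : ℂ) / (Nat.card G : ℂ) *
      (if IsConj ((u : G) * y) x then (Nat.card (Subgroup.centralizer ({x} : Set G)) : ℂ) else 0) =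
      if IsConj ((u : G) * y) x then 1 else 0 := by
    intro u
    split_ifs
    · exact hidx
    · rw [mul_zero]
  rw [Finset.sum_congr rfl fun u _ => this u, Finset.sum_boole, Nat.card_eq_fintype_card,
    Fintype.card_subtype]

theorem h7_pelement_mul_pregular {p : ℕ} [hp : Fact p.Prime] (u y : G) (huy : u * y = y * u)
    (hu : ∃ k : ℕ, orderOf u = p ^ k) (hy : ¬ p ∣ orderOf y)
    (hreg : ¬ p ∣ orderOf (u * y)) : u = 1 := by
  obtain ⟨k, hk⟩ := hu
  set m := orderOf (u * y) with hm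
  set n := orderOf y with hn
  have hcomm : Commute u y := huy
  have h1 : u ^ (m * n) = 1 := by
    have h2 : (u * y) ^ (m * n) = 1 := by rw [pow_mul, pow_orderOf_eq_one, one_pow]
    rw [hcomm.mul_pow] at h2
    have h3 : y ^ (m * n) = 1 := by rw [mul_comm, pow_mul, pow_orderOf_eq_one, one_pow]
    rwa [h3, mul_one] at h2
  have h4 : orderOf u ∣ m * n := orderOf_dvd_of_pow_eq_one h1
  rw [hk] at h4
  have hcop : Nat.Coprime (p ^ k) (m * n) := by
    apply Nat.Coprime.pow_left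
    apply Nat.Coprime.mul_right
    · exact (Nat.Prime.coprime_iff_not_dvd hp.out).mpr hreg
    · exact (Nat.Prime.coprime_iff_not_dvd hp.out).mpr hy
  have h5 : p ^ k = 1 := Nat.Coprime.eq_one_of_dvd hcop h4
  rw [h5] at hk
  exact orderOf_eq_one_iff.mp hk

theorem h7_card_conj_count [Finite G] {p : ℕ} [hp : Fact p.Prime] (P : Subgroup G)
    (hP : IsPGroup p P) (x y : G) (hy : ∀ u ∈ P, u * y = y * u) (hyreg : ¬ p ∣ orderOf y)
    (hxreg : ¬ p ∣ orderOf x) [Decidable (IsConj y x)] :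
    Nat.card {u : P // IsConj ((u : G) * y) x} = if IsConj y x then 1 else 0 := by
  have hone : ∀ u : P, IsConj ((u : G) * y) x → u = 1 := by
    intro u hc
    have ho : orderOf ((u : G) * y) = orderOf x := by
      obtain ⟨c, hc⟩ := isConj_iff.mp hc
      rw [← hc]
      have := MulEquiv.orderOf_eq (MulAut.conj c) ((u : G) * y)
      rw [MulAut.conj_apply] at this
      exact this.symm
    have hreg : ¬ p ∣ orderOf ((u : G) * y) := by rw [ho]; exact hxreg
    have hu : ∃ k : ℕ, orderOf (u : G) = p ^ k := by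
      obtain ⟨k, hk⟩ := IsPGroup.iff_orderOf.mp hP u
      exact ⟨k, by rw [Subgroup.orderOf_coe]; exact hk⟩
    have := h7_pelement_mul_pregular (p := p) (u : G) y (hy u u.2) hu hyreg hreg
    exact Subtype.ext this
  split_ifs with h
  · rw [Nat.card_eq_one_iff_unique]
    refine ⟨⟨fun a b => Subtype.ext ((hone a.1 a.2).trans (hone b.1 b.2).symm)⟩,
      ⟨⟨1, by simpa using h⟩⟩⟩
  · rw [Nat.card_eq_zero]
    left
    refine ⟨fun a => h ?_⟩
    have := a.2
    rw [hone a.1 a.2] at this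
    simpa using this

theorem h7_fd_core [Fintype G] [Fintype (Cfsg.IrrCharacter G)] {p : ℕ} [hp : Fact p.Prime]
    {M : Ideal Cfsg.AlgInt} (hM : Cfsg.IsPModular p M) (P : Sylow p G) (x y : G)
    (hy : ∀ u ∈ (P : Subgroup G), u * y = y * u) (hyreg : ¬ p ∣ orderOf y)
    (hxreg : ¬ p ∣ orderOf x)
    (r : Cfsg.IrrCharacter G → Cfsg.IrrCharacter G)
    (hr : ∀ χ : Cfsg.IrrCharacter G, Cfsg.SameBlock M (χ : G → ℂ) (r χ : G → ℂ))
    (full : Cfsg.IrrCharacter G → Prop) [DecidablePred full]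
    (hfull : ∀ χ : Cfsg.IrrCharacter G, ¬ full χ → p ∣ Cfsg.charDegree (χ : G → ℂ))
    [Decidable (IsConj y x)] :
    Cfsg.MemLocalIdeal M ((∑ χ : Cfsg.IrrCharacter G, if full χ then
      Cfsg.centralChar (r χ : G → ℂ) x * h7_fdE (P : Subgroup G) (χ : G → ℂ) y else 0) -
      (if IsConj y x then 1 else 0)) := by
  have hPr := hM.2.1.isPrime
  have hS := h7_fdE_orth (P : Subgroup G) x y
  rw [h7_card_conj_count (P : Subgroup G) P.isPGroup' x y hy hyreg hxreg] at hS
  have hS' : (if IsConj y x then (1 : ℂ) else 0) =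
      ∑ χ : Cfsg.IrrCharacter G, Cfsg.centralChar (χ : G → ℂ) x *
        h7_fdE (P : Subgroup G) (χ : G → ℂ) y := by
    rw [hS]
    split_ifs <;> simp
  rw [hS', ← Finset.sum_sub_distrib]
  apply h7_memLocalIdeal_sum hPr
  intro χ _
  split_ifs with hf
  · rw [← sub_mul]
    apply h7_memLocalIdeal_mul_right hPr _ (h7_fdE_memLocalRing hM P χ y hy)
    have := h7_memLocalIdeal_neg (hr χ x)
    rwa [neg_sub] at this
  · rw [zero_sub]
    apply h7_memLocalIdeal_neg
    exact h7_memLocalIdeal_mul_left hPr (h7_memLocalRing_centralChar hPr χ x)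
      (h7_fdE_memLocalIdeal hM P χ y hy (hfull χ hf))

theorem h7_sylow_conj_of_card [Finite G] {p : ℕ} [hp : Fact p.Prime] (P : Sylow p G)
    (D : Subgroup G) (hD : IsPGroup p D)
    (hcard : p ^ (Nat.card G).factorization p ≤ Nat.card D) :
    ∃ c : G, D.map (MulAut.conj c).toMonoidHom = (P : Subgroup G) := by
  obtain ⟨P', hP'⟩ := hD.exists_le_sylow
  have h1 : Nat.card (P' : Subgroup G) = p ^ (Nat.card G).factorization p :=
    Sylow.card_eq_multiplicity P'
  have h2 : D = (P' : Subgroup G) := by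
    apply Subgroup.eq_of_le_of_card_ge hP'
    rw [h1]
    exact hcard
  obtain ⟨c, hc⟩ := MulAction.exists_smul_eq G P' P
  refine ⟨c, ?_⟩
  rw [h2, ← hc]
  rfl

theorem h7_full_defect_rep [Finite G] {p : ℕ} [hp : Fact p.Prime] (P : Sylow p G) (g : G)
    (hle : (Nat.card G).factorization p ≤
      (Nat.card (Subgroup.centralizer ({g} : Set G))).factorization p) :
    ∃ c : G, ∀ u ∈ (P : Subgroup G), u * (c * g * c⁻¹) = (c * g * c⁻¹) * u := by
  have Q : Sylow p (Subgroup.centralizer ({g} : Set G)) := default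
  have hQc := h7_card_defect_sylow (Subgroup.centralizer ({g} : Set G)) Q
  have hQp : IsPGroup p ((Q : Subgroup (Subgroup.centralizer ({g} : Set G))).map
      (Subgroup.centralizer ({g} : Set G)).subtype) := Q.isPGroup'.map _
  obtain ⟨c, hc⟩ := h7_sylow_conj_of_card P _ hQp (by
    rw [hQc]
    exact Nat.pow_le_pow_right hp.out.pos hle)
  refine ⟨c, ?_⟩
  intro u hu
  rw [← hc] at hu
  obtain ⟨q, ⟨q', _, rfl⟩, rfl⟩ := hu
  have hq := Subgroup.mem_centralizer_singleton_iff.mp q'.2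
  show c * (q' : G) * c⁻¹ * (c * g * c⁻¹) = c * g * c⁻¹ * (c * (q' : G) * c⁻¹)
  have e1 : c * (q' : G) * c⁻¹ * (c * g * c⁻¹) = c * ((q' : G) * g) * c⁻¹ := by group
  have e2 : c * g * c⁻¹ * (c * (q' : G) * c⁻¹) = c * (g * (q' : G)) * c⁻¹ := by group
  rw [e1, e2, hq]

end Cfsg.Agent.Lib.helper7
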