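import Mathlib
import Cfsg.Agent.Lib.helper7.CeB

set_option autoImplicit false

/-!
Central extensions of a group with a Steinberg system: the commutation of lifts of commuting
root elements, by Milnor's trick and by the torus trick.
-/

namespace Cfsg.Agent.Lib.helper7.Ce

open Cfsg.Agent.Lib.helper15.St2 Cfsg.Agent.Lib.helper7.St

section sys

variable {K : Type*} [Field K] {ι : Type*} {Γ G : Type*} [Group Γ] [Group G]
  {S : Sys K ι G} {σ : Γ →* G}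

lemma CL_same_milnor (h : IsCE σ) (h3 : ∀ i j : ι, i ≠ j → ∃ k, k ≠ i ∧ k ≠ j) {i j : ι}
    (hij : i ≠ j) (s t : K) : CL σ (S.x i j s) (S.x i j t) := by
  obtain ⟨k, hki, hkj⟩ := h3 i j hij
  have e : S.x i j s = cm (S.x i k s) (S.x k j 1) := by
    rw [cm_x hki.symm hkj hij, mul_one]
  rw [e]
  exact h.milnor (S.comm i k i j hki.symm hij hij hki _ _) (S.comm k j i j hkj hij hkj hij.symm _ _)

lemma CL_row_milnor (h : IsCE σ) (h4 : ∀ i j l : ι, ∃ k, k ≠ i ∧ k ≠ j ∧ k ≠ l) {i j l : ι}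
    (hij : i ≠ j) (hil : i ≠ l) (_hjl : j ≠ l) (s t : K) : CL σ (S.x i j s) (S.x i l t) := by
  obtain ⟨k, hki, hkj, hkl⟩ := h4 i j l
  have e : S.x i j s = cm (S.x i k s) (S.x k j 1) := by
    rw [cm_x hki.symm hkj hij, mul_one]
  rw [e]
  exact h.milnor (S.comm i k i l hki.symm hil hil hki _ _) (S.comm k j i l hkj hil hkl hij.symm _ _)

lemma CL_col_milnor (h : IsCE σ) (h4 : ∀ i j l : ι, ∃ k, k ≠ i ∧ k ≠ j ∧ k ≠ l) {i j l : ι}
    (hil : i ≠ l) (hjl : j ≠ l) (_hij : i ≠ j) (s t : K) : CL σ (S.x i l s) (S.x j l t) := by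
  obtain ⟨k, hki, hkj, hkl⟩ := h4 i j l
  have e : S.x i l s = cm (S.x i k s) (S.x k l 1) := by
    rw [cm_x hki.symm hkl hil, mul_one]
  rw [e]
  exact h.milnor (S.comm i k j l hki.symm hjl hil hkj _ _) (S.comm k l j l hkl hjl hkl hjl.symm _ _)

lemma H1_milnor (h : IsCE σ) (h4 : ∀ i j l : ι, ∃ k, k ≠ i ∧ k ≠ j ∧ k ≠ l) : H1 S σ where
  same i j hij s t := CL_same_milnor h (fun i j _ => by
    obtain ⟨k, h1, h2, _⟩ := h4 i j j
    exact ⟨k, h1, h2⟩) hij s t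
  row i j l hij hil hjl s t := CL_row_milnor h h4 hij hil hjl s t
  col i j l hil hjl hij s t := CL_col_milnor h h4 hil hjl hij s t

lemma Hdis_milnor (h : IsCE σ) (h5 : ∀ i j k l : ι, ∃ m, m ≠ i ∧ m ≠ j ∧ m ≠ k ∧ m ≠ l) :
    Hdis S σ := by
  intro i j k l hij hik hil hjk hjl hkl s t
  obtain ⟨m, hmi, hmj, hmk, hml⟩ := h5 i j k l
  have e : S.x i j s = cm (S.x i m s) (S.x m j 1) := by
    rw [cm_x hmi.symm hmj hij, mul_one]
  rw [e]
  exact h.milnor (S.comm i m k l hmi.symm hkl hil hmk _ _) (S.comm m j k l hmj hkl hml hjk _ _)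

variable [DecidableEq ι]

/-- A torus element with coefficients `b, b, b⁻²` at `i, j, l`. -/
lemma exists_tor3 (S : Sys K ι G) {i j l : ι} (hij : i ≠ j) (hil : i ≠ l) (hjl : j ≠ l) {b : K}
    (hb : b ≠ 0) : ∃ (g : G) (d : ι → K), S.IsMon g 1 d ∧ d i = b ∧ d j = b ∧
      d l = b⁻¹ * b⁻¹ := by
  refine ⟨S.h i l b * S.h j l b, _, ((S.isMon_h hil b hb).mul (S.isMon_h hjl b hb)).congr
    (one_mul 1) (fun _ => rfl), ?_, ?_, ?_⟩
  · show Sys.dh i l b ((1 : Equiv.Perm ι) i) * Sys.dh j l b i = b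
    rw [Equiv.Perm.one_apply, Sys.dh_left, Sys.dh_of_ne hij hil, mul_one]
  · show Sys.dh i l b ((1 : Equiv.Perm ι) j) * Sys.dh j l b j = b
    rw [Equiv.Perm.one_apply, Sys.dh_left, Sys.dh_of_ne hij.symm hjl, one_mul]
  · show Sys.dh i l b ((1 : Equiv.Perm ι) l) * Sys.dh j l b l = b⁻¹ * b⁻¹
    rw [Equiv.Perm.one_apply, Sys.dh_right hil, Sys.dh_right hjl]

lemma IsMon_one_apply {g : G} {d : ι → K} (hg : S.IsMon g 1 d) {k l : ι} (hkl : k ≠ l) (t : K) :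
    cj g (S.x k l t) = S.x k l (d k * (d l)⁻¹ * t) := by
  have := hg.2 k l hkl t
  rwa [Equiv.Perm.one_apply, Equiv.Perm.one_apply] at this

lemma x_add' (S : Sys K ι G) {i j : ι} (hij : i ≠ j) (s t : K) :
    S.x i j (s + t) = S.x i j s * S.x i j t := (S.add i j hij s t).symm

lemma CL_row_torus (h : IsCE σ) {b : K} (hb : b ≠ 0) (hb3 : b ^ 3 ≠ 1) {i j l : ι}
    (hij : i ≠ j) (hil : i ≠ l) (hjl : j ≠ l) (s t : K) : CL σ (S.x i j s) (S.x i l t) := by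
  obtain ⟨g, d, hg, di, dj, dl⟩ := exists_tor3 S hij hil hjl hb
  refine (h.torus (fun t => S.x i l t) (x_add' S hil) (S.x i j s) g (b ^ 3) hb3 ?_ ?_ ?_ t).symm
  · intro t
    exact S.comm i l i j hil hij hij hil.symm _ _
  · intro t
    rw [IsMon_one_apply hg hil, di, dl]
    congr 1
    field_simp
  · rw [IsMon_one_apply hg hij, di, dj, mul_inv_cancel₀ hb, one_mul]

lemma CL_col_torus (h : IsCE σ) {b : K} (hb : b ≠ 0) (hb3 : b ^ 3 ≠ 1) {i j l : ι}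
    (hil : i ≠ l) (hjl : j ≠ l) (hij : i ≠ j) (s t : K) : CL σ (S.x i l s) (S.x j l t) := by
  obtain ⟨g, d, hg, di, dl, dj⟩ := exists_tor3 S hil hij hjl.symm hb
  have hc : (b⁻¹) ^ 3 ≠ 1 := by
    intro hcon
    apply hb3
    rw [inv_pow] at hcon
    exact inv_eq_one.1 hcon
  refine h.torus (fun t => S.x j l t) (x_add' S hjl) (S.x i l s) g ((b⁻¹) ^ 3) hc ?_ ?_ ?_ t |>.symm
  · intro t
    exact S.comm j l i l hjl hil hjl hil.symm _ _
  · intro t
    rw [IsMon_one_apply hg hjl, dj, dl]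
    congr 1
    field_simp
  · rw [IsMon_one_apply hg hil, di, dl, mul_inv_cancel₀ hb, one_mul]

lemma H1_torus (h : IsCE σ) (h3 : ∀ i j : ι, i ≠ j → ∃ k, k ≠ i ∧ k ≠ j) {b : K} (hb : b ≠ 0)
    (hb3 : b ^ 3 ≠ 1) : H1 S σ where
  same i j hij s t := CL_same_milnor h h3 hij s t
  row i j l hij hil hjl s t := CL_row_torus h hb hb3 hij hil hjl s t
  col i j l hil hjl hij s t := CL_col_torus h hb hb3 hil hjl hij s t

lemma Hdis_torus (h : IsCE σ) {a : K} (ha : a ≠ 0) (ha2 : a * a ≠ 1) : Hdis S σ := by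
  intro i j k l hij hik hil hjk hjl hkl s t
  have hg := S.isMon_h hkl a ha
  refine (h.torus (fun t => S.x k l t) (x_add' S hkl) (S.x i j s) (S.h k l a) (a * a) ha2
    ?_ ?_ ?_ t).symm
  · intro t
    exact S.comm k l i j hkl hij hjk.symm hil.symm _ _
  · intro t
    rw [IsMon_one_apply hg hkl, Sys.dh_left, Sys.dh_right hkl, inv_inv]
  · rw [IsMon_one_apply hg hij, Sys.dh_of_ne hik hil, Sys.dh_of_ne hjk hjl]
    simp

end sys

end Cfsg.Agent.Lib.helper7.Ce
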