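import Mathlib
import Cfsg.Agent.Lib.helper7.CeC

set_option autoImplicit false

/-!
Central extensions of a group with a Steinberg system: the canonical lifts of the root
elements and the Steinberg relations between them.
-/

namespace Cfsg.Agent.Lib.helper7.Ce

open Cfsg.Agent.Lib.helper15.St2 Cfsg.Agent.Lib.helper7.St

section sys

variable {K : Type*} [Field K] {ι : Type*} {Γ G : Type*} [Group Γ] [Group G]
  (S : Sys K ι G) {σ : Γ →* G}

open Classical in
/-- The canonical lifts of the root elements. -/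
noncomputable def zz (h : IsCE σ) (h3 : ∀ i j : ι, i ≠ j → ∃ k, k ≠ i ∧ k ≠ j) (i l : ι)
    (u : K) : Γ :=
  if hil : i ≠ l then Y S h i (Classical.choose (h3 i l hil)) l u 1 else 1

variable {S}

lemma zz_of_ne (h : IsCE σ) (h3 : ∀ i j : ι, i ≠ j → ∃ k, k ≠ i ∧ k ≠ j) {i l : ι} (hil : i ≠ l)
    (u : K) : zz S h h3 i l u = Y S h i (Classical.choose (h3 i l hil)) l u 1 := dif_pos hil

lemma zz_self (h : IsCE σ) (h3 : ∀ i j : ι, i ≠ j → ∃ k, k ≠ i ∧ k ≠ j) (i : ι)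
    (u : K) : zz S h h3 i i u = 1 := dif_neg (not_not.2 rfl)

lemma map_zz (h : IsCE σ) (h3 : ∀ i j : ι, i ≠ j → ∃ k, k ≠ i ∧ k ≠ j) (i l : ι)
    (u : K) : σ (zz S h h3 i l u) = S.x i l u := by
  by_cases hil : i = l
  · subst hil
    rw [zz_self, map_one, S.diag]
  · rw [zz_of_ne h h3 hil]
    obtain ⟨h1, h2⟩ := Classical.choose_spec (h3 i l hil)
    rw [map_Y h h1.symm h2 hil, mul_one]

/-- The key relation, in the presence of a fourth index. -/
lemma B_milnor (h : IsCE σ) (h4 : ∀ i j l : ι, ∃ k, k ≠ i ∧ k ≠ j ∧ k ≠ l)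
    (h3 : ∀ i j : ι, i ≠ j → ∃ k, k ≠ i ∧ k ≠ j) (h1 : H1 S σ) (hd : Hdis S σ) {i j l : ι}
    (hij : i ≠ j) (hjl : j ≠ l) (hil : i ≠ l) (s t : K) :
    Y S h i j l s t = zz S h h3 i l (s * t) := by
  rw [zz_of_ne h h3 hil]
  obtain ⟨hc1, hc2⟩ := Classical.choose_spec (h3 i l hil)
  set m := Classical.choose (h3 i l hil) with hm
  by_cases hjm : j = m
  · obtain ⟨k, hki, hkj, hkl⟩ := h4 i j l
    rw [Y_milnor h h1 hd hij hki.symm hil hkj.symm hjl hkl s t,
      Y_milnor h h1 hd hki.symm hij hil hkj hkl hjl (s * t) 1, mul_one, hjm]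
  · exact Y_milnor h h1 hd hij hc1.symm hil hjm hjl hc2 s t

variable [DecidableEq ι]

/-- The key relation, by the torus trick. -/
lemma B_torus (h : IsCE σ) (h1 : H1 S σ) {b : K} (hb : b ≠ 0) (hb3 : b ^ 3 ≠ 1) {i j l : ι}
    (hij : i ≠ j) (hjl : j ≠ l) (hil : i ≠ l) (s t : K) :
    Y S h i j l s t = Y S h i j l (s * t) 1 := by
  obtain ⟨g, d, hg, dj, dl, di⟩ := exists_tor3 S hjl hij.symm hil.symm hb
  obtain ⟨c, hc⟩ : ∃ c : K, c = b⁻¹ * b⁻¹ * b⁻¹ := ⟨_, rfl⟩
  have hc1 : c ≠ 1 := by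
    intro hcon
    apply hb3
    rw [hc] at hcon
    have : b ^ 3 * (b⁻¹ * b⁻¹ * b⁻¹) = 1 := by field_simp
    rw [hcon, mul_one] at this
    exact this
  have hc' : c - 1 ≠ 0 := sub_ne_zero.2 hc1
  have hgij : ∀ u, cj g (S.x i j u) = S.x i j (c * u) := by
    intro u
    rw [IsMon_one_apply hg hij, di, dj, hc]
  have hgjl : ∀ u, cj g (S.x j l u) = S.x j l u := by
    intro u
    rw [IsMon_one_apply hg hjl, dj, dl, mul_inv_cancel₀ hb, one_mul]
  set e := lf h g with he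
  have key : ∀ s' t', cm e (Y S h i j l s' t') = Y S h i j l ((c - 1) * s') t' := by
    intro s' t'
    have e1 : cm e (Y S h i j l s' t') = cj e (Y S h i j l s' t') * (Y S h i j l s' t')⁻¹ := by
      unfold cm cj; group
    have e2 : cj e (Y S h i j l s' t') = Y S h i j l (c * s') t' := by
      unfold Y
      rw [cj_cm]
      refine Y_eq h ?_ ?_
      · rw [map_cj, map_lf, map_lf, hgij]
      · rw [map_cj, map_lf, map_lf, hgjl]
    have e3 : c * s' = (c - 1) * s' + s' := by ring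
    rw [e1, e2, e3, Y_add_left h h1 hij hjl hil, mul_inv_cancel_right]
  have e4 : cm e (Y S h i j l ((c - 1)⁻¹ * s) t) = cm e (Y S h i j l ((c - 1)⁻¹ * s * t) 1) := by
    refine h.cm_congr rfl ?_
    rw [map_Y h hij hjl hil, map_Y h hij hjl hil, mul_one]
  rw [key, key] at e4
  have e5 : (c - 1) * ((c - 1)⁻¹ * s) = s := by
    rw [← mul_assoc, mul_inv_cancel₀ hc', one_mul]
  have e6 : (c - 1) * ((c - 1)⁻¹ * s * t) = s * t := by
    rw [← mul_assoc, ← mul_assoc, mul_inv_cancel₀ hc', one_mul]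
  rw [e5, e6] at e4
  exact e4

lemma B_torus' (h : IsCE σ) (h3 : ∀ i j : ι, i ≠ j → ∃ k, k ≠ i ∧ k ≠ j)
    (h3u : ∀ i l j j' : ι, i ≠ l → j ≠ i → j ≠ l → j' ≠ i → j' ≠ l → j = j') (h1 : H1 S σ) {b : K}
    (hb : b ≠ 0) (hb3 : b ^ 3 ≠ 1) {i j l : ι}
    (hij : i ≠ j) (hjl : j ≠ l) (hil : i ≠ l) (s t : K) :
    Y S h i j l s t = zz S h h3 i l (s * t) := by
  rw [zz_of_ne h h3 hil]
  obtain ⟨hc1, hc2⟩ := Classical.choose_spec (h3 i l hil)
  rw [← h3u i l j _ hil hij.symm hjl hc1 hc2]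
  exact B_torus h h1 hb hb3 hij hjl hil s t

omit [DecidableEq ι] in
lemma Hdis_of_three (h3u : ∀ i l j j' : ι, i ≠ l → j ≠ i → j ≠ l → j' ≠ i → j' ≠ l → j = j') :
    Hdis S σ := by
  intro i j k l hij hik hil hjk hjl hkl s t
  exact absurd (h3u i l j k hil hij.symm hjl hik.symm hkl) hjk

omit [DecidableEq ι] in
/-- The canonical lifts form a Steinberg system (without the rank one relation). -/
noncomputable def preSysOf (h : IsCE σ) (h3 : ∀ i j : ι, i ≠ j → ∃ k, k ≠ i ∧ k ≠ j)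
    (h1 : H1 S σ) (hd : Hdis S σ)
    (hB : ∀ i j l : ι, i ≠ j → j ≠ l → i ≠ l → ∀ s t : K,
      Y S h i j l s t = zz S h h3 i l (s * t)) : PreSys K ι Γ where
  x := zz S h h3
  diag i t := zz_self h h3 i t
  add i j hij t u := by
    obtain ⟨k, hki, hkj⟩ := h3 i j hij
    have e1 := hB i k j hki.symm hkj hij t 1
    have e2 := hB i k j hki.symm hkj hij u 1
    have e3 := hB i k j hki.symm hkj hij (t + u) 1
    rw [mul_one] at e1 e2 e3
    rw [← e1, ← e2, ← e3, Y_add_left h h1 hki.symm hkj hij]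
  comm i j k l hij hkl hil hjk t u := by
    by_cases hik : i = k
    · subst hik
      by_cases hjl : j = l
      · subst hjl
        exact h1.same i j hij t u _ _ (map_zz h h3 _ _ _) (map_zz h h3 _ _ _)
      · exact h1.row i j l hij hil hjl t u _ _ (map_zz h h3 _ _ _) (map_zz h h3 _ _ _)
    · by_cases hjl : j = l
      · subst hjl
        exact h1.col i k j hij hkl hik t u _ _ (map_zz h h3 _ _ _) (map_zz h h3 _ _ _)
      · exact hd i j k l hij hik hil hjk hjl hkl t u _ _ (map_zz h h3 _ _ _) (map_zz h h3 _ _ _)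
  comm3 i j l hij hjl hil t u := by
    rw [← hB i j l hij hjl hil t u]
    exact Y_eq h (map_zz h h3 _ _ _) (map_zz h h3 _ _ _)

end sys

end Cfsg.Agent.Lib.helper7.Ce
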