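import Mathlib
import Cfsg.Agent.Lib.helper7.CeD

set_option autoImplicit false

/-!
Central extensions of a group with a Steinberg system: lifts of root elements with disjoint
indices commute over the field with three elements.
-/

namespace Cfsg.Agent.Lib.helper7.Ce

open Cfsg.Agent.Lib.helper15.St2 Cfsg.Agent.Lib.helper7.St

section sys

variable {K : Type*} [Field K] {ι : Type*} {Γ G : Type*} [Group Γ] [Group G]
  (S : Sys K ι G) {σ : Γ →* G}

/-- The commutator of lifts of `x_ij(s)` and `x_kl(t)`. -/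
noncomputable def kap (h : IsCE σ) (i j k l : ι) (s t : K) : Γ :=
  cm (lf h (S.x i j s)) (lf h (S.x k l t))

variable {S}

lemma kap_eq (h : IsCE σ) {i j k l : ι} {s t : K} {a b : Γ} (ha : σ a = S.x i j s)
    (hb : σ b = S.x k l t) : cm a b = kap S h i j k l s t := by
  unfold kap
  exact h.cm_congr (by rw [ha, map_lf]) (by rw [hb, map_lf])

/-- Four distinct indices. -/
structure D4 (i j k l : ι) : Prop where
  ij : i ≠ j
  ik : i ≠ k
  il : i ≠ l
  jk : j ≠ k
  jl : j ≠ l
  kl : k ≠ l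

lemma D4.swap12 {i j k l : ι} (d : D4 i j k l) : D4 j i k l :=
  ⟨d.ij.symm, d.jk, d.jl, d.ik, d.il, d.kl⟩

lemma D4.swap23 {i j k l : ι} (d : D4 i j k l) : D4 i k j l :=
  ⟨d.ik, d.ij, d.il, d.jk.symm, d.kl, d.jl⟩

lemma D4.swap34 {i j k l : ι} (d : D4 i j k l) : D4 i j l k :=
  ⟨d.ij, d.il, d.ik, d.jl, d.jk, d.kl.symm⟩

lemma D4.rot {i j k l : ι} (d : D4 i j k l) : D4 k l i j :=
  ⟨d.kl, d.ik.symm, d.jk.symm, d.il.symm, d.jl.symm, d.ij⟩

lemma map_kap (S : Sys K ι G) (h : IsCE σ) {i j k l : ι} (d : D4 i j k l) (s t : K) :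
    σ (kap S h i j k l s t) = 1 := by
  unfold kap
  rw [map_cm, map_lf, map_lf, cm_eq_one_iff]
  exact S.comm i j k l d.ij d.kl d.il d.jk s t

lemma kap_add_left (S : Sys K ι G) (h : IsCE σ) {i j k l : ι} (d : D4 i j k l) (s s' t : K) :
    kap S h i j k l (s + s') t = kap S h i j k l s t * kap S h i j k l s' t := by
  have e1 : σ (lf h (S.x i j s) * lf h (S.x i j s')) = S.x i j (s + s') := by
    rw [map_mul, map_lf, map_lf, S.add i j d.ij]
  rw [← kap_eq h e1 (map_lf h (S.x k l t)), cm_mul_left]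
  have e2 := h.cj_of_map_one (map_kap S h d s' t) (lf h (S.x i j s))
  unfold cj at e2
  unfold kap at e2 ⊢
  rw [e2]
  exact h.comm_of_map_one (map_kap S h d s' t) _

lemma kap_zero_left (S : Sys K ι G) (h : IsCE σ) {i j k l : ι} (d : D4 i j k l) (t : K) :
    kap S h i j k l 0 t = 1 := by
  have := kap_add_left S h d 0 0 t
  rw [add_zero] at this
  exact mul_eq_left.1 this.symm

lemma kap_neg_left (S : Sys K ι G) (h : IsCE σ) {i j k l : ι} (d : D4 i j k l) (s t : K) :
    kap S h i j k l (-s) t = (kap S h i j k l s t)⁻¹ := by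
  have := kap_add_left S h d (-s) s t
  rw [neg_add_cancel, kap_zero_left S h d] at this
  exact eq_inv_of_mul_eq_one_left this.symm

lemma kap_anti (S : Sys K ι G) (h : IsCE σ) {i j k l : ι} (s t : K) :
    kap S h i j k l s t = (kap S h k l i j t s)⁻¹ := by
  unfold kap
  rw [cm_inv_swap]

lemma kap_w (S : Sys K ι G) (h : IsCE σ) {i j k l : ι} (d : D4 i j k l) (s t : K) :
    kap S h i j k l s t = kap S h j i k l (-s) t := by
  have e1 := h.cj_of_map_one (map_kap S h d s t) (lf h (S.w i j 1))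
  rw [← e1]
  unfold kap
  rw [cj_cm]
  refine kap_eq h ?_ ?_
  · rw [map_cj, map_lf, map_lf, S.cj_w_ij d.ij 1 s one_ne_zero]
    congr 1
    simp
  · rw [map_cj, map_lf, map_lf, S.cj_w_disj d.ij d.kl d.ik.symm d.jk.symm d.il.symm d.jl.symm]

lemma kap_w' (S : Sys K ι G) (h : IsCE σ) {i j k l : ι} (d : D4 i j k l) (s t : K) :
    kap S h i j k l s t = kap S h i j l k s (-t) := by
  rw [kap_anti S h, kap_w S h d.rot, ← kap_anti S h]

/-- The relation coming from conjugation by `x_jk(1)`. -/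
lemma kap_R (S : Sys K ι G) (h : IsCE σ) (h1 : H1 S σ) {i j k l : ι} (d : D4 i j k l) (s t : K) :
    Y S h i j l s t * kap S h i k j l (-s) t * Y S h i k l (-s) t = 1 := by
  set a := lf h (S.x i k (-s)) with ha
  set b := lf h (S.x i j s) with hb
  set c := lf h (S.x j l t) with hc
  set e := lf h (S.x k l t) with he
  have sa : σ a = S.x i k (-s) := map_lf h _
  have sb : σ b = S.x i j s := map_lf h _
  have sc : σ c = S.x j l t := map_lf h _
  have se : σ e = S.x k l t := map_lf h _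
  have k1 : σ (cm b e) = 1 := map_kap S h d s t
  have k2 : σ (cm a c) = 1 := map_kap S h d.swap23 (-s) t
  have sE : σ (cm b c) = S.x i l (s * t) := by rw [map_cm, sb, sc, cm_x d.ij d.jl d.il]
  have sE' : σ (cm a e) = S.x i l (-s * t) := by rw [map_cm, sa, se, cm_x d.ik d.kl d.il]
  -- step 1
  have s1 : cm (a * b) (c * e) = cm b e := by
    set g := lf h (S.x j k 1) with hg
    have e1 : σ (a * b) = σ (cj g b) := by
      rw [map_mul, map_cj, sa, sb, map_lf, S.cj3' d.jk d.ij d.ik, mul_one]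
    have e2 : σ (c * e) = σ (cj g e) := by
      rw [map_mul, map_cj, sc, se, map_lf, S.cj3 d.jk d.kl d.jl, one_mul]
    rw [h.cm_congr e1 e2, ← cj_cm, h.cj_of_map_one k1]
  -- step 2
  have c1 : a * cm b c = cm b c * a :=
    h1.row i k l d.ik d.il d.kl (-s) (s * t) _ _ sa sE
  have c2 : cm a e * c = c * cm a e :=
    h1.col i j l d.il d.jl d.ij (-s * t) t _ _ sE' sc
  have s2 : cm (a * b) (c * e) = cm b c * cm b e * (cm a c * cm a e) := by
    rw [cm_mul_left, cm_mul_right b, cm_mul_right a]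
    have e3 := h.cj_of_map_one k1 c
    unfold cj at e3
    rw [e3, ← c2, mul_inv_cancel_right]
    have e4 : a * (cm b c * cm b e) * a⁻¹ = cm b c * cm b e := by
      rw [← mul_assoc, c1, mul_assoc, mul_assoc, h.comm_of_map_one k1 a⁻¹, ← mul_assoc,
        ← mul_assoc, mul_inv_cancel_right]
    rw [e4]
  rw [s1] at s2
  have s3 : cm b c * cm b e * (cm a c * cm a e) = cm b e * (cm b c * cm a c * cm a e) := by
    rw [← h.comm_of_map_one k1 (cm b c)]
    group
  rw [s3] at s2
  have s4 := (mul_eq_left.1 s2.symm)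
  rw [← Y_eq h sb sc, ← Y_eq h sa se, ← kap_eq h sa sc]
  exact s4

variable (hK1 : ∀ t : K, t = 0 ∨ t = 1 ∨ t = -1) (hK3 : (1 : K) + 1 + 1 = 0)

lemma kap_R' (S : Sys K ι G) (h : IsCE σ) (h1 : H1 S σ) {i j k l : ι} (d : D4 i j k l) (s t : K) :
    kap S h i j k l s t = (kap S h i k j l s t)⁻¹ := by
  have r1 := kap_R S h h1 d s t
  have r2 := kap_R S h h1 d.swap23 s t
  rw [kap_neg_left S h d.swap23, Y_neg_left h h1 d.ik d.kl d.il] at r1
  rw [kap_neg_left S h d, Y_neg_left h h1 d.ij d.jl d.il] at r2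
  have e1 : kap S h i k j l s t = (Y S h i k l s t)⁻¹ * Y S h i j l s t := by
    have := mul_inv_eq_iff_eq_mul.1 (mul_inv_eq_one.1 r1)
    rw [this]
    group
  have e2 : kap S h i j k l s t = (Y S h i j l s t)⁻¹ * Y S h i k l s t := by
    have := mul_inv_eq_iff_eq_mul.1 (mul_inv_eq_one.1 r2)
    rw [this]
    group
  rw [e1, e2, mul_inv_rev, inv_inv]

lemma kap_neg_right (S : Sys K ι G) (h : IsCE σ) {i j k l : ι} (d : D4 i j k l) (s t : K) :
    kap S h i j k l s (-t) = (kap S h i j k l s t)⁻¹ := by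
  rw [kap_anti S h, kap_neg_left S h d.rot, inv_inv, kap_anti S h]

lemma kap_symm (S : Sys K ι G) (h : IsCE σ) (h1 : H1 S σ) {i j k l : ι} (d : D4 i j k l) (s t : K) :
    kap S h i j k l s t = kap S h k l i j s t := by
  rw [kap_R' S h h1 d, kap_w S h d.swap23, kap_neg_left S h d.swap23.swap12, inv_inv,
    kap_w' S h d.swap23.swap12, kap_neg_right S h d.swap23.swap12.swap34,
    kap_R' S h h1 d.swap23.swap12.swap34, inv_inv]

include hK3 in
lemma kap_one_one (S : Sys K ι G) (h : IsCE σ) (h1 : H1 S σ) {i j k l : ι} (d : D4 i j k l) :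
    kap S h i j k l 1 1 = 1 := by
  have e1 : kap S h i j k l 1 1 = (kap S h i j k l 1 1)⁻¹ := by
    conv_lhs => rw [kap_symm S h h1 d, kap_anti S h]
  have e2 : kap S h i j k l 1 1 * kap S h i j k l 1 1 = 1 := by
    nth_rewrite 1 [e1]
    rw [inv_mul_cancel]
  have e3 : kap S h i j k l (1 + 1 + 1) 1 = 1 := by
    rw [hK3, kap_zero_left S h d]
  rw [kap_add_left S h d, kap_add_left S h d, e2, one_mul] at e3
  exact e3

include hK1 hK3 in
lemma kap_eq_one (S : Sys K ι G) (h : IsCE σ) (h1 : H1 S σ) {i j k l : ι} (d : D4 i j k l) (s t : K) :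
    kap S h i j k l s t = 1 := by
  have h11 := kap_one_one hK3 S h h1 d
  have hz : ∀ s : K, kap S h i j k l s 0 = 1 := by
    intro s
    rw [kap_anti S h, kap_zero_left S h d.rot, inv_one]
  have h1t : ∀ t : K, kap S h i j k l 1 t = 1 := by
    intro t
    rcases hK1 t with rfl | rfl | rfl
    · exact hz 1
    · exact h11
    · rw [kap_neg_right S h d, h11, inv_one]
  rcases hK1 s with rfl | rfl | rfl
  · exact kap_zero_left S h d t
  · exact h1t t
  · rw [kap_neg_left S h d, h1t, inv_one]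

include hK1 hK3 in
/-- Over the field with three elements, lifts of root elements with disjoint indices commute. -/
lemma Hdis_three (h : IsCE σ) (h1 : H1 S σ) : Hdis S σ := by
  intro i j k l hij hik hil hjk hjl hkl s t
  have d : D4 i j k l := ⟨hij, hik, hil, hjk, hjl, hkl⟩
  have e := kap_eq_one hK1 hK3 S h h1 d s t
  unfold kap at e
  rw [cm_eq_one_iff] at e
  exact h.CL_of_lift' (map_lf h _) (map_lf h _) e

end sys

end Cfsg.Agent.Lib.helper7.Ce
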