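import Mathlib
import Cfsg.Agent.Lib.helper7.CeE

set_option autoImplicit false

/-!
Central extensions of a group with a Steinberg system split over the root elements.
-/

namespace Cfsg.Agent.Lib.helper7.Ce

open Cfsg.Agent.Lib.helper15.St2 Cfsg.Agent.Lib.helper7.St

section sys

variable {K : Type*} [Field K] {ι : Type*} {Γ G : Type*} [Group Γ] [Group G]
  (S : Sys K ι G) {σ : Γ →* G}

/-- The index and field conditions under which central extensions split. -/
inductive Good (K : Type*) [Field K] (ι : Type*) : Prop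
  | five : (∀ i j k l : ι, ∃ m, m ≠ i ∧ m ≠ j ∧ m ≠ k ∧ m ≠ l) → Good K ι
  | four_a : (∀ i j l : ι, ∃ k, k ≠ i ∧ k ≠ j ∧ k ≠ l) → (∃ a : K, a ≠ 0 ∧ a * a ≠ 1) → Good K ι
  | four_b : (∀ i j l : ι, ∃ k, k ≠ i ∧ k ≠ j ∧ k ≠ l) → (∀ t : K, t = 0 ∨ t = 1 ∨ t = -1) →
      ((1 : K) + 1 + 1 = 0) → Good K ι
  | three : (∀ i j : ι, i ≠ j → ∃ k, k ≠ i ∧ k ≠ j) →
      (∀ i l j j' : ι, i ≠ l → j ≠ i → j ≠ l → j' ≠ i → j' ≠ l → j = j') →
      (∃ b : K, b ≠ 0 ∧ b ^ 3 ≠ 1) → Good K ι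

variable [DecidableEq ι]

/-- The root elements of a Steinberg system lift to a central extension, compatibly with the
Steinberg relations. -/
theorem exists_preSys (h : IsCE σ) (hg : Good K ι) :
    ∃ P : PreSys K ι Γ, ∀ i j t, σ (P.x i j t) = S.x i j t := by
  rcases hg with h5 | ⟨h4, a, ha, ha2⟩ | ⟨h4, hK1, hK3⟩ | ⟨h3, h3u, b, hb, hb3⟩
  · have h4 : ∀ i j l : ι, ∃ k, k ≠ i ∧ k ≠ j ∧ k ≠ l := fun i j l => by
      obtain ⟨m, h1, h2, h3, _⟩ := h5 i j l l
      exact ⟨m, h1, h2, h3⟩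
    have h3 : ∀ i j : ι, i ≠ j → ∃ k, k ≠ i ∧ k ≠ j := fun i j _ => by
      obtain ⟨m, h1, h2, _⟩ := h4 i j j
      exact ⟨m, h1, h2⟩
    have h1 : H1 S σ := H1_milnor h h4
    have hd : Hdis S σ := Hdis_milnor h h5
    exact ⟨preSysOf h h3 h1 hd (fun i j l hij hjl hil s t => B_milnor h h4 h3 h1 hd hij hjl hil s t),
      fun i j t => map_zz h h3 i j t⟩
  · have h3 : ∀ i j : ι, i ≠ j → ∃ k, k ≠ i ∧ k ≠ j := fun i j _ => by
      obtain ⟨m, h1, h2, _⟩ := h4 i j j
      exact ⟨m, h1, h2⟩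
    have h1 : H1 S σ := H1_milnor h h4
    have hd : Hdis S σ := Hdis_torus h ha ha2
    exact ⟨preSysOf h h3 h1 hd (fun i j l hij hjl hil s t => B_milnor h h4 h3 h1 hd hij hjl hil s t),
      fun i j t => map_zz h h3 i j t⟩
  · have h3 : ∀ i j : ι, i ≠ j → ∃ k, k ≠ i ∧ k ≠ j := fun i j _ => by
      obtain ⟨m, h1, h2, _⟩ := h4 i j j
      exact ⟨m, h1, h2⟩
    have h1 : H1 S σ := H1_milnor h h4
    have hd : Hdis S σ := Hdis_three hK1 hK3 h h1
    exact ⟨preSysOf h h3 h1 hd (fun i j l hij hjl hil s t => B_milnor h h4 h3 h1 hd hij hjl hil s t),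
      fun i j t => map_zz h h3 i j t⟩
  · have h1 : H1 S σ := H1_torus h h3 hb hb3
    have hd : Hdis S σ := Hdis_of_three h3u
    exact ⟨preSysOf h h3 h1 hd
      (fun i j l hij hjl hil s t => B_torus' h h3 h3u h1 hb hb3 hij hjl hil s t),
      fun i j t => map_zz h h3 i j t⟩

end sys

section map

variable {K : Type*} [Field K] {ι : Type*} {G H : Type*} [Group G] [Group H]

/-- The image of a Steinberg system under a homomorphism. -/
def Sys.map (S : Sys K ι G) (f : G →* H) : Sys K ι H where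
  x i j t := f (S.x i j t)
  diag i t := by rw [S.diag, map_one]
  add i j hij t u := by rw [← map_mul, S.add i j hij]
  comm i j k l hij hkl hil hjk t u := by rw [← map_mul, ← map_mul, S.comm i j k l hij hkl hil hjk]
  comm3 i j l hij hjl hil t u := by
    rw [← S.comm3 i j l hij hjl hil t u, map_mul, map_mul, map_mul, map_inv, map_inv]
  rel i j hij t u ht := by
    rw [← S.rel i j hij t u ht]
    unfold cj
    simp only [map_mul, map_inv]

end map

section pres

variable {K : Type*} [Field K] {n : ℕ} {Γ : Type*} [Group Γ]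

/-- The images of the generators. -/
def pf (P : PreSys K (Fin n) Γ) : {ij : Fin n × Fin n // ij.1 ≠ ij.2} × K → Γ :=
  fun p => P.x p.1.1.1 p.1.1.2 p.2

lemma pf_rels (P : PreSys K (Fin n) Γ) : ∀ r ∈ rels K n, FreeGroup.lift (pf P) r = 1 := by
  rintro r ((⟨a, t, u, rfl⟩ | ⟨a, b, t, u, h1, h2, rfl⟩) | ⟨a, b, h, t, u, h2, rfl⟩)
  · simp only [map_mul, map_inv, FreeGroup.lift_apply_of, pf]
    rw [P.add _ _ a.2, mul_inv_cancel]
  · simp only [map_mul, map_inv, FreeGroup.lift_apply_of, pf]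
    rw [P.comm _ _ _ _ a.2 b.2 h1 h2]
    group
  · obtain ⟨⟨i, j⟩, hij⟩ := a
    obtain ⟨⟨k, l⟩, hkl⟩ := b
    simp only at h h2 hij hkl
    subst h2
    simp only [map_mul, map_inv, FreeGroup.lift_apply_of, pf]
    rw [P.comm3 i j l hij hkl h, mul_inv_cancel]

/-- The homomorphism from the presented group defined by a Steinberg system. -/
def pHom (P : PreSys K (Fin n) Γ) : PresentedGroup (rels K n) →* Γ :=
  PresentedGroup.toGroup (pf_rels P)

lemma pHom_of (P : PreSys K (Fin n) Γ) (a : {ij : Fin n × Fin n // ij.1 ≠ ij.2}) (t : K) :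
    pHom P (PresentedGroup.of (a, t)) = P.x a.1.1 a.1.2 t :=
  PresentedGroup.toGroup.of (pf_rels P)

end pres

end Cfsg.Agent.Lib.helper7.Ce
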