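import Mathlib
import Cfsg.Agent.Lib.helper7.CeF
import Cfsg.Prelude.Def_KGroupFacts

set_option autoImplicit false

/-!
Central extensions of `SL_n(F_q)`, `n ≥ 3`, split, with three exceptions; the Schur multiplier
of `SL_n(F_q)` is trivial.
-/

namespace Cfsg.Agent.Lib.helper7.Ce

open Matrix Cfsg.Agent.Lib.helper15.St2 Cfsg.Agent.Lib.helper7.St
open scoped commutatorElement

universe u

section idx

variable {n : ℕ}

lemma exists_notMem_fin (s : Finset (Fin n)) (hs : s.card < n) : ∃ m, m ∉ s := by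
  by_contra hcon
  push Not at hcon
  have : s = Finset.univ := Finset.eq_univ_iff_forall.2 hcon
  rw [this, Finset.card_univ, Fintype.card_fin] at hs
  omega

lemma fin_h5 (hn : 5 ≤ n) (i j k l : Fin n) : ∃ m, m ≠ i ∧ m ≠ j ∧ m ≠ k ∧ m ≠ l := by
  obtain ⟨m, hm⟩ := exists_notMem_fin ({i, j, k, l} : Finset (Fin n))
    (lt_of_le_of_lt Finset.card_le_four (by omega))
  simp only [Finset.mem_insert, Finset.mem_singleton, not_or] at hm
  exact ⟨m, hm.1, hm.2.1, hm.2.2.1, hm.2.2.2⟩

lemma fin_h4 (hn : 4 ≤ n) (i j l : Fin n) : ∃ m, m ≠ i ∧ m ≠ j ∧ m ≠ l := by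
  obtain ⟨m, hm⟩ := exists_notMem_fin ({i, j, l} : Finset (Fin n))
    (lt_of_le_of_lt Finset.card_le_three (by omega))
  simp only [Finset.mem_insert, Finset.mem_singleton, not_or] at hm
  exact ⟨m, hm.1, hm.2.1, hm.2.2⟩

lemma fin_h3u (i l j j' : Fin 3) : i ≠ l → j ≠ i → j ≠ l → j' ≠ i → j' ≠ l → j = j' := by
  revert i l j j'
  decide

end idx

section field

variable (K : Type*) [Field K] [Fintype K]

lemma exists_sq_ne_one (hq : 4 ≤ Fintype.card K) : ∃ a : K, a ≠ 0 ∧ a * a ≠ 1 := by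
  classical
  by_contra hcon
  push Not at hcon
  have h1 : (Finset.univ : Finset K) ⊆ {0, 1, -1} := by
    intro a _
    by_cases ha : a = 0
    · simp [ha]
    · have h2 := hcon a ha
      have h3 : (a - 1) * (a + 1) = 0 := by
        have : (a - 1) * (a + 1) = a * a - 1 := by ring
        rw [this, h2, sub_self]
      rcases mul_eq_zero.1 h3 with h4 | h4
      · have : a = 1 := sub_eq_zero.1 h4
        simp [this]
      · have : a = -1 := eq_neg_of_add_eq_zero_left h4
        simp [this]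
  have h2 := Finset.card_le_card h1
  have h3 : ({0, 1, -1} : Finset K).card ≤ 3 := Finset.card_le_three
  rw [Finset.card_univ] at h2
  omega

lemma three_elems (hq : Fintype.card K = 3) :
    (∀ t : K, t = 0 ∨ t = 1 ∨ t = -1) ∧ (1 : K) + 1 + 1 = 0 := by
  classical
  have h3 : (1 : K) + 1 + 1 = 0 := by
    have := Nat.cast_card_eq_zero K
    rw [hq] at this
    rw [← this]
    norm_num
  refine ⟨?_, h3⟩
  have h1 : (1 : K) ≠ -1 := by
    intro hcon
    have h2 : (1 : K) + 1 = 0 := by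
      nth_rewrite 2 [hcon]
      rw [add_neg_cancel]
    rw [h2, zero_add] at h3
    exact one_ne_zero h3
  have hcard : ({0, 1, -1} : Finset K).card = 3 := by
    rw [Finset.card_insert_of_notMem, Finset.card_insert_of_notMem, Finset.card_singleton]
    · simpa using h1
    · simp only [Finset.mem_insert, Finset.mem_singleton, not_or]
      exact ⟨zero_ne_one, by
        intro hcon
        have := neg_eq_zero.1 hcon.symm
        exact one_ne_zero this⟩
  have huniv : ({0, 1, -1} : Finset K) = Finset.univ := by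
    apply Finset.eq_univ_of_card
    rw [hcard, hq]
  intro t
  have ht : t ∈ ({0, 1, -1} : Finset K) := by rw [huniv]; exact Finset.mem_univ t
  simpa using ht

lemma exists_cube_ne_one (hq2 : Fintype.card K ≠ 2) (hq4 : Fintype.card K ≠ 4) :
    ∃ b : K, b ≠ 0 ∧ b ^ 3 ≠ 1 := by
  classical
  obtain ⟨g, hg⟩ := IsCyclic.exists_generator (α := Kˣ)
  have hord : orderOf g = Fintype.card K - 1 := by
    rw [orderOf_eq_card_of_forall_mem_zpowers hg, Nat.card_eq_fintype_card, Fintype.card_units]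
  refine ⟨(g : K), g.ne_zero, fun hcon => ?_⟩
  have h1 : g ^ 3 = 1 := by
    apply Units.ext
    rw [Units.val_pow_eq_pow_val, hcon, Units.val_one]
  have h2 := orderOf_dvd_of_pow_eq_one h1
  rw [hord] at h2
  have h3 := Nat.le_of_dvd (by norm_num) h2
  have hpos : 1 < Fintype.card K := Fintype.one_lt_card
  have : Fintype.card K - 1 = 1 ∨ Fintype.card K - 1 = 3 := by
    have h4 : Fintype.card K - 1 ∣ 3 := h2
    have : Fintype.card K - 1 ≤ 3 := h3
    interval_cases (Fintype.card K - 1) <;> simp_all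
  omega

/-- The index and field conditions hold for `SL_n(F_q)`, `n ≥ 3`, outside the exceptions. -/
lemma good_fin (n : ℕ) (hn : 3 ≤ n) (h32 : ¬ (n = 3 ∧ Fintype.card K = 2))
    (h34 : ¬ (n = 3 ∧ Fintype.card K = 4)) (h42 : ¬ (n = 4 ∧ Fintype.card K = 2)) :
    Good K (Fin n) := by
  have hpos : 1 < Fintype.card K := Fintype.one_lt_card
  by_cases h5 : 5 ≤ n
  · exact Good.five (fin_h5 h5)
  · by_cases h4 : n = 4
    · subst h4
      have hq : Fintype.card K ≠ 2 := fun hcon => h42 ⟨rfl, hcon⟩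
      by_cases hq3 : Fintype.card K = 3
      · obtain ⟨hK1, hK3⟩ := three_elems K hq3
        exact Good.four_b (fin_h4 le_rfl) hK1 hK3
      · exact Good.four_a (fin_h4 le_rfl) (exists_sq_ne_one K (by omega))
    · have h3 : n = 3 := by omega
      subst h3
      refine Good.three (exists_third 3 le_rfl) fin_h3u (exists_cube_ne_one K ?_ ?_)
      · exact fun hcon => h32 ⟨rfl, hcon⟩
      · exact fun hcon => h34 ⟨rfl, hcon⟩

end field

section sl

variable (K : Type*) [Field K] (n : ℕ)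

/-- The Steinberg system of `SL_n`. -/
def slSys (hn : 3 ≤ n) : Sys K (Fin n) (SpecialLinearGroup (Fin n) K) :=
  Sys.map (sys K n hn) (toSL K n)

lemma slSys_x (hn : 3 ≤ n) (i j : Fin n) (t : K) :
    (slSys K n hn).x i j t = toSL K n (gx K n i j t) := rfl

variable {K n}

/-- Central extensions of `SL_n(F_q)` split. -/
theorem SL_split [Finite K] (hn : 3 ≤ n) (hg : Good K (Fin n)) {Γ : Type*} [Group Γ]
    {σ : Γ →* SpecialLinearGroup (Fin n) K} (h : IsCE σ) :
    ∃ s : SpecialLinearGroup (Fin n) K →* Γ, ∀ g, σ (s g) = g := by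
  obtain ⟨P, hP⟩ := exists_preSys (slSys K n hn) h hg
  have hcomp : σ.comp (pHom P) = toSL K n := by
    apply PresentedGroup.ext
    rintro ⟨a, t⟩
    rw [MonoidHom.comp_apply, pHom_of, hP, slSys_x, of_eq_gx]
  have hinj : Function.Injective (toSL K n) := (rep K n hn).injective (sys_gen K n hn)
  have hbij : Function.Bijective (toSL K n) := ⟨hinj, toSL_surjective K n hn⟩
  refine ⟨(pHom P).comp (MulEquiv.ofBijective (toSL K n) hbij).symm.toMonoidHom, fun g => ?_⟩
  rw [MonoidHom.comp_apply, ← MonoidHom.comp_apply σ, hcomp]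
  exact (MulEquiv.ofBijective (toSL K n) hbij).apply_symm_apply g

end sl

section stem

variable {Γ G : Type*} [Group Γ] [Group G]

/-- A stem extension with a section is an isomorphism. -/
lemma ker_eq_bot_of_section {σ : Γ →* G} (hσ : Cfsg.IsStemExtension σ) (s : G →* Γ)
    (hs : ∀ g, σ (s g) = g) : ∀ x ∈ σ.ker, x = 1 := by
  have h : IsCE σ := ⟨hσ.1, hσ.2.1⟩
  have hcomm : commutator Γ ≤ s.range := by
    rw [commutator_def, Subgroup.commutator_le]
    intro a _ b _
    have e : ⁅a, b⁆ = cm a b := rfl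
    rw [e, h.cm_congr (a' := s (σ a)) (b' := s (σ b)) (by rw [hs]) (by rw [hs])]
    refine ⟨cm (σ a) (σ b), ?_⟩
    rw [map_cm]
  intro x hx
  obtain ⟨g, rfl⟩ := hcomm (hσ.2.2 hx)
  rw [MonoidHom.mem_ker, hs] at hx
  rw [hx, map_one]

end stem

section mult

/-- A finite group all of whose finite stem extensions are isomorphisms has trivial Schur
multiplier. -/
lemma trivial_mult_of_ker {G : Type u} [Group G] [Finite G]
    (hG : ∀ (Γ : Type u) [Group Γ] [Finite Γ] (σ : Γ →* G), Cfsg.IsStemExtension σ →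
      ∀ x ∈ σ.ker, x = 1) : Cfsg.HasCyclicSchurMultiplier G 1 := by
  refine ⟨⟨G, inferInstance, inferInstance, MonoidHom.id _, ⟨Function.surjective_id, ?_, ?_⟩, ?_⟩, ?_⟩
  · intro x hx
    rw [MonoidHom.mem_ker, MonoidHom.id_apply] at hx
    rw [hx]
    exact Subgroup.one_mem _
  · intro x hx
    rw [MonoidHom.mem_ker, MonoidHom.id_apply] at hx
    rw [hx]
    exact Subgroup.one_mem _
  · haveI : Unique ↥(MonoidHom.id G).ker :=
      ⟨⟨1⟩, fun x => Subtype.ext (by
        have := x.2
        rw [MonoidHom.mem_ker, MonoidHom.id_apply] at this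
        exact this)⟩
    have : Unique (Multiplicative (ZMod 1)) :=
      ⟨⟨1⟩, fun x => Subsingleton.elim (α := ZMod 1) _ _⟩
    exact ⟨MulEquiv.ofUnique⟩
  · intro Γ _ _ σ hσ
    refine ⟨1, ?_⟩
    intro y
    refine ⟨1, ?_⟩
    apply Subtype.ext
    rw [MonoidHom.one_apply]
    exact (hG Γ σ hσ y.1 y.2).symm

/-- The Schur multiplier of `SL_n(F_q)`, `n ≥ 3`, is trivial, with three exceptions. -/
theorem SL_mult_trivial {K : Type u} [Field K] [Fintype K] (n : ℕ) (hn : 3 ≤ n)
    (h32 : ¬ (n = 3 ∧ Fintype.card K = 2))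
    (h34 : ¬ (n = 3 ∧ Fintype.card K = 4)) (h42 : ¬ (n = 4 ∧ Fintype.card K = 2)) :
    Cfsg.HasCyclicSchurMultiplier (SpecialLinearGroup (Fin n) K) 1 := by
  apply trivial_mult_of_ker
  intro Γ _ _ σ hσ
  obtain ⟨s, hs⟩ := SL_split hn (good_fin K n hn h32 h34 h42) (σ := σ) ⟨hσ.1, hσ.2.1⟩
  exact ker_eq_bot_of_section hσ s hs

end mult

end Cfsg.Agent.Lib.helper7.Ce
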