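import Mathlib
import Cfsg.Agent.Lib.helper7.CeG
import Cfsg.Agent.Lib.helper23.SchurCoverD
import Cfsg.Agent.Lib.helper3.SL2Mult
import Cfsg.Agent.Lib.Helper19.SL2Normal
import Cfsg.Agent.Lib.Helper21.SchurCyclic

set_option autoImplicit false

/-!
The Schur multiplier of `PSL_n(F_q)`.
-/

namespace Cfsg.Agent.Lib.helper7.Ce

open Matrix

universe u

section center

variable (F : Type u) [Field F] [Fintype F] (n : ℕ)

lemma center_card (hn : 1 ≤ n) :
    Nat.card (Subgroup.center (SpecialLinearGroup (Fin n) F)) = Nat.gcd n (Fintype.card F - 1) := by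
  classical
  have : NeZero n := ⟨by omega⟩
  rw [Nat.card_congr (SpecialLinearGroup.center_equiv_rootsOfUnity' (n := Fin n) (R := F) 0).toEquiv,
    rootsOfUnity_eq_ker, IsCyclic.card_powMonoidHom_ker, Fintype.card_fin,
    Nat.card_eq_fintype_card, Fintype.card_units, Nat.gcd_comm]

omit [Fintype F] in
lemma center_cyclic (hn : 1 ≤ n) : IsCyclic (Subgroup.center (SpecialLinearGroup (Fin n) F)) := by
  have : NeZero n := ⟨by omega⟩
  have e := SpecialLinearGroup.center_equiv_rootsOfUnity' (n := Fin n) (R := F) 0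
  have : IsCyclic (rootsOfUnity (Fintype.card (Fin n)) F) := inferInstance
  exact isCyclic_of_surjective e.symm.toMonoidHom e.symm.surjective

lemma cyclic_equiv {G : Type*} [Group G] (hc : IsCyclic G) (m : ℕ) (hm : Nat.card G = m) :
    Nonempty (Multiplicative (ZMod m) ≃* G) := by
  subst hm
  exact ⟨zmodCyclicMulEquiv hc⟩

end center

section psl

variable {F : Type u} [Field F] [Fintype F]

/-- From a trivial Schur multiplier of the perfect group `SL_n(F_q)` to the Schur multiplier of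
`PSL_n(F_q)`. -/
theorem psl_mult (n : ℕ) (hn : 1 ≤ n)
    (hSL : Cfsg.HasCyclicSchurMultiplier (SpecialLinearGroup (Fin n) F) 1)
    (hperf : commutator (SpecialLinearGroup (Fin n) F) = ⊤) :
    Cfsg.HasCyclicSchurMultiplier (ProjectiveSpecialLinearGroup (Fin n) F)
      (Nat.gcd n (Fintype.card F - 1)) := by
  classical
  have hfin : Finite (SpecialLinearGroup (Fin n) F) := inferInstance
  set σ : SpecialLinearGroup (Fin n) F →* ProjectiveSpecialLinearGroup (Fin n) F :=
    QuotientGroup.mk' (Subgroup.center (SpecialLinearGroup (Fin n) F)) with hσdef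
  have hker : σ.ker = Subgroup.center (SpecialLinearGroup (Fin n) F) := QuotientGroup.ker_mk' _
  have hσ : Cfsg.IsStemExtension σ := by
    refine ⟨QuotientGroup.mk'_surjective _, ?_, ?_⟩
    · rw [hker]
    · rw [hperf]; exact le_top
  obtain ⟨e0⟩ := cyclic_equiv (center_cyclic F n hn) _ (center_card F n hn)
  have e : Multiplicative (ZMod (Nat.gcd n (Fintype.card F - 1))) ≃* σ.ker :=
    e0.trans (MulEquiv.subgroupCongr hker.symm)
  refine ⟨⟨SpecialLinearGroup (Fin n) F, inferInstance, hfin, σ, hσ, ⟨e.symm⟩⟩, ?_⟩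
  intro Δ _ _ τ hτ
  have hfinQ : Finite (ProjectiveSpecialLinearGroup (Fin n) F) :=
    Finite.of_surjective σ (QuotientGroup.mk'_surjective _)
  obtain ⟨π, hπ⟩ := Cfsg.Agent.Lib.helper23.scv_cover_of_trivial σ hσ hSL Δ τ hτ
  exact ⟨π.comp e.toMonoidHom, hπ.comp e.surjective⟩

/-- The Schur multiplier of `PSL_n(F_q)`. -/
theorem psl_mult_main (n : ℕ) (hn : 2 ≤ n) (h2 : n = 2 → 4 ≤ Fintype.card F)
    (hexc : (n, Fintype.card F) ∉ ({(2, 4), (2, 9), (3, 2), (3, 4), (4, 2)} : Set (ℕ × ℕ))) :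
    Cfsg.HasCyclicSchurMultiplier (ProjectiveSpecialLinearGroup (Fin n) F)
      (Nat.gcd n (Fintype.card F - 1)) := by
  simp only [Set.mem_insert_iff, Set.mem_singleton_iff, Prod.mk.injEq, not_or, not_and] at hexc
  obtain ⟨e24, e29, e32, e34, e42⟩ := hexc
  by_cases hn2 : n = 2
  · subst hn2
    have hq := h2 rfl
    refine psl_mult 2 (by norm_num) ?_ ?_
    · refine ⟨Cfsg.Agent.Lib.Helper21.exists_trivial_stem (SpecialLinearGroup (Fin 2) F), ?_⟩
      intro Γ _ _ σ hσ
      obtain ⟨hsurj, hcen, hder⟩ := hσ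
      have htriv := Cfsg.Agent.Lib.helper3.sl2_stem_ker_trivial σ hsurj hcen hder (e24 rfl) (e29 rfl)
      refine ⟨1, ?_⟩
      intro y
      refine ⟨1, ?_⟩
      apply Subtype.ext
      rw [MonoidHom.one_apply]
      exact (htriv y.1 y.2).symm
    · apply Cfsg.Agent.Lib.Helper19.SL2Normal.commutator_eq_top
      rw [Nat.card_eq_fintype_card]
      exact hq
  · have hn3 : 3 ≤ n := by omega
    refine psl_mult n (by omega) (SL_mult_trivial n hn3 ?_ ?_ ?_) ?_
    · rintro ⟨h1, h2⟩; exact e32 h1 h2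
    · rintro ⟨h1, h2⟩; exact e34 h1 h2
    · rintro ⟨h1, h2⟩; exact e42 h1 h2
    · apply Cfsg.Agent.Lib.Lead.SL_commutator_eq_top
      rw [Fintype.card_fin]
      exact hn3

end psl

end Cfsg.Agent.Lib.helper7.Ce
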