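import Cfsg.Agent.Lib.helper7.U3PF7
import Cfsg.Agent.Lib.Helper18.U3PF6

/-! Project U3P (designer helper19; S2289), row F11 (`al_surj`), by helper7. -/

namespace Cfsg.Agent.Lib.Helper19.U3P

open Cfsg.Agent.Lib.helper17.SLP Cfsg.Agent.Lib.helper14.SU3J Cfsg.Agent.Lib.Helper25.SU3P
open Polynomial Matrix

universe u v

section F

variable {F : Type u} [Field F] [Fintype F] {K : Type u} [Field K] [Fintype K] {q : ℕ}

/-- F11 [M] -/
theorem al_surj (D : Par F K q) (hF : Fintype.card F = q ^ 2) (hK : Fintype.card K = q) (hq : 4 ≤ q)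
    (p : ℕ) [Fact p.Prime] [Algebra (ZMod p) F] :
    Function.Surjective (fun f : (ZMod p)[X] => aeval D.al f) := by
  classical
  apply aeval_surj_of_pow_ne p D.al
  intro s hs0 hsn h
  obtain ⟨-, hal, -, -, -, -, -, hord⟩ := par_basic D hF hK hq
  have hp : p.Prime := Fact.out
  set n := Module.finrank (ZMod p) F with hn
  have hcard : q ^ 2 = p ^ n := by
    rw [← hF, Module.card_eq_pow_finrank (K := ZMod p) (V := F), ZMod.card]
  -- `orderOf al` divides `p^s - 1` and `p^n - 1`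
  have h1 : D.al ^ (p ^ s - 1) = 1 := by
    have hps : 1 ≤ p ^ s := Nat.one_le_pow _ _ hp.pos
    have : D.al ^ (p ^ s - 1) * D.al = D.al := by
      rw [← pow_succ, Nat.sub_add_cancel hps, h]
    exact mul_right_cancel₀ hal (by rw [this, one_mul])
  have h2 : D.al ^ (p ^ n - 1) = 1 := by
    rw [← hcard, ← hF]
    exact FiniteField.pow_card_sub_one_eq_one _ hal
  have hd1 := orderOf_dvd_of_pow_eq_one h1
  have hd2 := orderOf_dvd_of_pow_eq_one h2
  have hd := Nat.dvd_gcd hd1 hd2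
  rw [Nat.pow_sub_one_gcd_pow_sub_one] at hd
  set t := Nat.gcd s n with ht
  have htn : t ∣ n := Nat.gcd_dvd_right s n
  have hts : t ≤ s := Nat.le_of_dvd hs0 (Nat.gcd_dvd_left s n)
  have ht0 : 0 < t := Nat.gcd_pos_of_pos_left n hs0
  obtain ⟨m, hm⟩ := htn
  have hm2 : 2 ≤ m := by
    rcases Nat.lt_or_ge m 2 with h' | h'
    · exfalso
      interval_cases m
      · omega
      · omega
    · exact h'
  have hpt : p ^ t ≤ q := by
    have h3 : (p ^ t) ^ 2 ≤ q ^ 2 := by
      rw [hcard, ← pow_mul]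
      apply Nat.pow_le_pow_right hp.pos
      rw [hm]
      exact Nat.mul_le_mul_left _ hm2
    exact (Nat.pow_le_pow_iff_left (by norm_num)).1 h3
  have hpt1 : 2 ≤ p ^ t := by
    calc 2 ≤ p := hp.two_le
      _ = p ^ 1 := (pow_one p).symm
      _ ≤ p ^ t := Nat.pow_le_pow_right hp.pos ht0
  have hle := Nat.le_of_dvd (by omega) hd
  omega

end F

end Cfsg.Agent.Lib.Helper19.U3P
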