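import Cfsg.Agent.Lib.Helper19.U3P.Defs
import Cfsg.Agent.Lib.Lead.Unitary

/-! Project U3P (designer helper19; S2289), row F7 (`par_basic`), by helper7. -/

namespace Cfsg.Agent.Lib.Helper19.U3P

open Cfsg.Agent.Lib.helper17.SLP Cfsg.Agent.Lib.helper14.SU3J Cfsg.Agent.Lib.Helper25.SU3P
open Polynomial Matrix

universe u v

section F

variable {F : Type u} [Field F] [Fintype F] {K : Type u} [Field K] [Fintype K] {q : ℕ}

/-- the order of the generator -/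
theorem u3pf7_order_zeta (D : Par F K q) (hF : Fintype.card F = q ^ 2) :
    orderOf D.ζ = q ^ 2 - 1 := by
  classical
  rw [orderOf_eq_card_of_forall_mem_zpowers D.hζ, Nat.card_eq_fintype_card, Fintype.card_units, hF]

theorem u3pf7_zeta_pow (D : Par F K q) (hF : Fintype.card F = q ^ 2) : D.ζ ^ (q ^ 2 - 1) = 1 := by
  rw [← u3pf7_order_zeta D hF]; exact pow_orderOf_eq_one _

/-- unit version of `al` -/
theorem u3pf7_al_eq (D : Par F K q) :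
    D.al = ((D.ζ ^ 2 / D.ζ ^ q : Fˣ) : F) := by
  simp [Par.al, D.hσ]

theorem u3pf7_eta_eq (D : Par F K q) :
    D.σ (D.ζ : F) / (D.ζ : F) = ((D.ζ ^ q / D.ζ : Fˣ) : F) := by
  simp [D.hσ]

theorem u3pf7_bl_eq (D : Par F K q) :
    D.bl = ((D.ζ ^ (q + 1) : Fˣ) : F) := by
  simp [Par.bl, D.hσ, pow_succ, mul_comm]

/-- exponent bookkeeping in a group with `z ^ N = 1` -/
theorem u3pf7_zpow_congr {G : Type*} [Group G] (z : G) (N : ℕ) (hz : z ^ N = 1) (a b c : ℤ)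
    (h : a = b + c * N) : z ^ a = z ^ b := by
  rw [h, _root_.zpow_add, mul_comm c, _root_.zpow_mul, zpow_natCast, hz, _root_.one_zpow, mul_one]

theorem u3pf7_alU (D : Par F K q) : (D.ζ ^ 2 / D.ζ ^ q : Fˣ) = D.ζ ^ ((2 : ℤ) - q) := by
  rw [_root_.zpow_sub, zpow_natCast, div_eq_mul_inv]; rfl

theorem u3pf7_etaU (D : Par F K q) : (D.ζ ^ q / D.ζ : Fˣ) = D.ζ ^ ((q : ℤ) - 1) := by
  rw [_root_.zpow_sub, zpow_natCast, zpow_one, div_eq_mul_inv]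

theorem u3pf7_mul (hq : 4 ≤ q) : (q + 1) * (q - 1) = q ^ 2 - 1 := by
  obtain ⟨r, rfl⟩ : ∃ r, q = r + 1 := ⟨q - 1, by omega⟩
  simp only [Nat.add_sub_cancel]
  have : (r + 1) ^ 2 = (r + 1 + 1) * r + 1 := by ring
  omega

theorem u3pf7_N (hq : 4 ≤ q) : ((q ^ 2 - 1 : ℕ) : ℤ) = (q : ℤ) ^ 2 - 1 := by
  have : 1 ≤ q ^ 2 := Nat.one_le_pow _ _ (by omega)
  push_cast [Nat.cast_sub this]; ring

/-- F7 [M] -/
theorem par_basic (D : Par F K q) (hF : Fintype.card F = q ^ 2) (hK : Fintype.card K = q) (hq : 4 ≤ q) :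
    (∀ x, D.σ (D.σ x) = x) ∧ D.al ≠ 0 ∧ D.nu = (D.σ (D.ζ : F) / (D.ζ : F)) ^ 3 ∧
    D.nu * D.σ D.nu = 1 ∧ D.σ D.γ0 = -D.γ0 ∧ D.bl ^ (q - 1) = 1 ∧
    orderOf (D.σ (D.ζ : F) / (D.ζ : F)) = q + 1 ∧ q < orderOf D.al := by
  classical
  have hzN := u3pf7_zeta_pow D hF
  have hN := u3pf7_N hq
  have hmul := u3pf7_mul hq
  have hq1 : ((q - 1 : ℕ) : ℤ) = (q : ℤ) - 1 := by omega
  have hσσ : ∀ x, D.σ (D.σ x) = x := fun x => Cfsg.Agent.Lib.Lead.frob_frob hF D.σ D.hσ x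
  -- unit identities
  have hnuU : (D.ζ ^ 2 / D.ζ ^ q : Fˣ) ^ (q - 1) = (D.ζ ^ q / D.ζ : Fˣ) ^ 3 := by
    rw [u3pf7_alU, u3pf7_etaU, ← zpow_natCast, ← _root_.zpow_mul, ← zpow_natCast (_ ^ _) 3,
      ← _root_.zpow_mul]
    apply u3pf7_zpow_congr _ _ hzN _ _ (-1)
    rw [hN, hq1]; push_cast; ring
  have hnu : D.nu = (D.σ (D.ζ : F) / (D.ζ : F)) ^ 3 := by
    rw [Par.nu, u3pf7_al_eq, u3pf7_eta_eq, ← Units.val_pow_eq_pow_val, ← Units.val_pow_eq_pow_val, hnuU]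
  have hnu1 : D.nu ^ (q + 1) = 1 := by
    rw [hnu, u3pf7_eta_eq, ← Units.val_pow_eq_pow_val, ← Units.val_pow_eq_pow_val, u3pf7_etaU]
    have : ((D.ζ ^ ((q : ℤ) - 1)) ^ 3) ^ (q + 1) = D.ζ ^ (0 : ℤ) := by
      rw [← zpow_natCast (D.ζ ^ ((q : ℤ) - 1)) 3, ← _root_.zpow_mul, ← zpow_natCast _ (q + 1),
        ← _root_.zpow_mul]
      apply u3pf7_zpow_congr _ _ hzN _ _ 3
      rw [hN]; push_cast; ring
    rw [this, zpow_zero, Units.val_one]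
  have hord_eta : orderOf (D.ζ ^ q / D.ζ : Fˣ) = q + 1 := by
    have h1 : (D.ζ ^ q / D.ζ : Fˣ) = D.ζ ^ (q - 1) := by
      rw [div_eq_iff_eq_mul, ← pow_succ]; congr 1; omega
    rw [h1, orderOf_pow_of_dvd (by omega), u3pf7_order_zeta D hF]
    · exact Nat.div_eq_of_eq_mul_left (by omega) hmul.symm
    · rw [u3pf7_order_zeta D hF]
      exact ⟨q + 1, by rw [← hmul, mul_comm]⟩
  have hblU : (D.ζ ^ 2 / D.ζ ^ q : Fˣ) ^ (q + 1) = D.ζ ^ (q + 1) := by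
    rw [u3pf7_alU, ← zpow_natCast, ← _root_.zpow_mul, ← zpow_natCast]
    apply u3pf7_zpow_congr _ _ hzN _ _ (-1)
    rw [hN]; push_cast; ring
  have hord_bl : orderOf (D.ζ ^ (q + 1) : Fˣ) = q - 1 := by
    rw [orderOf_pow_of_dvd (by omega), u3pf7_order_zeta D hF]
    · exact Nat.div_eq_of_eq_mul_left (by omega) (by rw [← hmul, mul_comm])
    · rw [u3pf7_order_zeta D hF]
      exact ⟨q - 1, hmul.symm⟩
  refine ⟨hσσ, ?_, hnu, ?_, ?_, ?_, ?_, ?_⟩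
  · rw [u3pf7_al_eq]; exact Units.ne_zero _
  · rw [D.hσ, ← pow_succ', hnu1]
  · rw [Par.γ0, map_sub, hσσ]; ring
  · rw [u3pf7_bl_eq, ← Units.val_pow_eq_pow_val, ← pow_mul, hmul, hzN, Units.val_one]
  · rw [u3pf7_eta_eq, orderOf_units, hord_eta]
  · rw [u3pf7_al_eq, orderOf_units]
    by_contra hle
    push Not at hle
    set d := orderOf (D.ζ ^ 2 / D.ζ ^ q : Fˣ) with hd
    have hdpos : 0 < d := orderOf_pos _
    have hdvd : (q - 1) ∣ d := by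
      rw [← hord_bl, ← hblU]; exact orderOf_pow_dvd _
    obtain ⟨k, hk⟩ := hdvd
    have hk1 : k = 1 := by
      rcases Nat.lt_or_ge k 2 with h | h
      · rcases Nat.eq_zero_or_pos k with h0 | h0
        · subst h0; omega
        · omega
      · exfalso
        have : (q - 1) * 2 ≤ (q - 1) * k := Nat.mul_le_mul_left _ h
        omega
    rw [hk1, mul_one] at hk
    have h1 : (D.ζ ^ 2 / D.ζ ^ q : Fˣ) ^ (q - 1) = 1 := by
      rw [← hk, hd]; exact pow_orderOf_eq_one _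
    rw [hnuU] at h1
    have := orderOf_dvd_of_pow_eq_one h1
    rw [hord_eta] at this
    have := Nat.le_of_dvd (by norm_num) this
    omega

/-- extra: `bl = al ^ (q + 1)` -/
theorem u3pf7_bl_eq_al_pow (D : Par F K q) (hF : Fintype.card F = q ^ 2) (hq : 4 ≤ q) :
    D.bl = D.al ^ (q + 1) := by
  have hzN := u3pf7_zeta_pow D hF
  have hN := u3pf7_N hq
  have hblU : (D.ζ ^ 2 / D.ζ ^ q : Fˣ) ^ (q + 1) = D.ζ ^ (q + 1) := by
    rw [u3pf7_alU, ← zpow_natCast, ← _root_.zpow_mul, ← zpow_natCast]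
    apply u3pf7_zpow_congr _ _ hzN _ _ (-1)
    rw [hN]; push_cast; ring
  rw [u3pf7_bl_eq, u3pf7_al_eq, ← Units.val_pow_eq_pow_val, hblU]

end F

end Cfsg.Agent.Lib.Helper19.U3P
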