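import Cfsg.Agent.Lib.helper7.U3PF7

/-! Project U3P (designer helper19; S2289), rows F8 (`nu_ne`) and F9 (`exists_k`), by helper7. -/

namespace Cfsg.Agent.Lib.Helper19.U3P

open Cfsg.Agent.Lib.helper17.SLP Cfsg.Agent.Lib.helper14.SU3J Cfsg.Agent.Lib.Helper25.SU3P
open Polynomial Matrix

universe u v

section F

variable {F : Type u} [Field F] [Fintype F] {K : Type u} [Field K] [Fintype K] {q : ℕ}

/-- `ν² ≠ 1` -/
theorem u3pf8_nu_sq (D : Par F K q) (hF : Fintype.card F = q ^ 2) (hK : Fintype.card K = q) (hq : 4 ≤ q)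
    (h5 : q ≠ 5) : D.nu ^ 2 ≠ 1 := by
  obtain ⟨-, -, hnu, -, -, -, hord, -⟩ := par_basic D hF hK hq
  intro h
  rw [hnu, ← pow_mul] at h
  have := orderOf_dvd_of_pow_eq_one h
  rw [hord] at this
  have hle := Nat.le_of_dvd (by norm_num) this
  have h6 : q + 1 = 6 ∨ q + 1 = 5 := by omega
  rcases h6 with h6 | h6
  · omega
  · rw [h6] at this; omega

/-- F8 [M] -/
theorem nu_ne (D : Par F K q) (hF : Fintype.card F = q ^ 2) (hK : Fintype.card K = q) (hq : 4 ≤ q) (h5 : q ≠ 5) :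
    D.nu ≠ 1 ∧ D.nu + 1 ≠ 0 ∧ D.γ0 ≠ 0 := by
  have hsq := u3pf8_nu_sq D hF hK hq h5
  obtain ⟨-, -, -, hnn, -, -, -, -⟩ := par_basic D hF hK hq
  have h1 : D.nu ≠ 1 := fun h => hsq (by rw [h, one_pow])
  have h2 : D.nu + 1 ≠ 0 := by
    intro h
    have : D.nu = -1 := eq_neg_of_add_eq_zero_left h
    exact hsq (by rw [this]; ring)
  refine ⟨h1, h2, ?_⟩
  intro h
  rw [Par.γ0, sub_eq_zero] at h
  rw [← h] at hnn
  exact hsq (by rw [sq]; exact hnn)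

/-- F9 [M] -/
theorem exists_k (D : Par F K q) (hF : Fintype.card F = q ^ 2) (hK : Fintype.card K = q) (hq : 4 ≤ q) (h5 : q ≠ 5) :
    ∃ k : ℤ, D.al ^ k = D.nu + 1 := by
  classical
  obtain ⟨hσσ, hal, hnu, hnn, -, -, -, -⟩ := par_basic D hF hK hq
  obtain ⟨hn1, hn2, -⟩ := nu_ne D hF hK hq h5
  have hnu0 : D.nu ≠ 0 := by
    intro h; rw [h, zero_mul] at hnn; exact zero_ne_one hnn
  -- `x := (ν + 1) * al` is fixed by `σ`
  have hσnu : D.σ D.nu = D.nu⁻¹ := eq_inv_of_mul_eq_one_right hnn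
  have hσal : D.σ D.al = D.al * D.nu := by
    rw [D.hσ, Par.nu, ← pow_succ']
    congr 1; omega
  have hfix : D.σ ((D.nu + 1) * D.al) = (D.nu + 1) * D.al := by
    rw [map_mul, map_add, map_one, hσnu, hσal]
    field_simp
    ring
  obtain ⟨y, hy⟩ := (D.hι _).1 hfix
  have hy0 : y ≠ 0 := by
    intro h
    rw [h, map_zero] at hy
    exact mul_ne_zero hn2 hal hy.symm
  obtain ⟨i, hi⟩ := Subgroup.mem_zpowers_iff.1 (D.hbKgen (Units.mk0 y hy0))
  have hyi : y = ((D.bK ^ i : Kˣ) : K) := by rw [hi]; rfl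
  have hbl : D.ι (D.bK : K) = D.al ^ (q + 1) := by
    rw [D.hbK, ← u3pf7_bl_eq_al_pow D hF hq]; rfl
  have h1 : (D.nu + 1) * D.al = (D.al ^ (q + 1)) ^ i := by
    rw [← hy, hyi, Units.val_zpow_eq_zpow_val, map_zpow₀, hbl]
  refine ⟨((q + 1 : ℕ) : ℤ) * i - 1, ?_⟩
  rw [zpow_sub₀ hal, zpow_one, _root_.zpow_mul, zpow_natCast, ← h1, mul_div_assoc, div_self hal, mul_one]

end F

end Cfsg.Agent.Lib.Helper19.U3P
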