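import Mathlib
import Cfsg.Agent.Lib.helper17.SLP.Defs

/-!
# SLP row P1 (`pres_of_card`), helper7.  Verbatim statement of `helper17/SLP/Skel.lean.txt`.
-/

set_option autoImplicit false

namespace Cfsg.Agent.Lib.helper17.SLP

open Polynomial

universe u v

/-- the evaluation at the three generators of a presented group is the quotient map. -/
theorem slpp1_ev_of (rels : Set (FreeGroup (Fin 3))) (r : FreeGroup (Fin 3)) :
    ev (PresentedGroup.of (rels := rels) 0) (PresentedGroup.of 1) (PresentedGroup.of 2) r =
      PresentedGroup.mk rels r := by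
  have h : ev (PresentedGroup.of (rels := rels) 0) (PresentedGroup.of 1) (PresentedGroup.of 2) =
      PresentedGroup.mk rels := by
    apply FreeGroup.ext_hom
    intro i
    fin_cases i <;> simp [ev, PresentedGroup.of]
  rw [h]

theorem slpp1_closure (rels : Set (FreeGroup (Fin 3))) :
    Subgroup.closure {PresentedGroup.of (rels := rels) 0, PresentedGroup.of 1, PresentedGroup.of 2} = ⊤ := by
  have h := PresentedGroup.closure_range_of rels
  rw [← h]
  congr 1
  ext x
  simp only [Set.mem_insert_iff, Set.mem_singleton_iff, Set.mem_range]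
  constructor
  · rintro (rfl | rfl | rfl)
    · exact ⟨0, rfl⟩
    · exact ⟨1, rfl⟩
    · exact ⟨2, rfl⟩
  · rintro ⟨i, rfl⟩
    fin_cases i
    · left; rfl
    · right; left; rfl
    · right; right; rfl

/-- **P1**. -/
theorem pres_of_card {S : Type u} [Group S] [Finite S] (L : List (FreeGroup (Fin 3))) (a b c : S)
    (hgen : Subgroup.closure {a, b, c} = ⊤) (hrel : ∀ r ∈ L, ev a b c r = 1)
    (hcard : ∀ (G : Type) [Group G] (u h w : G), Subgroup.closure {u, h, w} = ⊤ →
      (∀ r ∈ L, ev u h w r = 1) → Finite G ∧ Nat.card G ≤ Nat.card S) :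
    Nonempty (PresentedGroup (↑L.toFinset : Set (FreeGroup (Fin 3))) ≃* S) := by
  classical
  set rels : Set (FreeGroup (Fin 3)) := (↑L.toFinset : Set (FreeGroup (Fin 3))) with hrels
  have hmem : ∀ r, r ∈ rels ↔ r ∈ L := by
    intro r
    simp [hrels]
  have hr : ∀ r ∈ rels, FreeGroup.lift ![a, b, c] r = 1 := by
    intro r hr
    exact hrel r ((hmem r).1 hr)
  let φ : PresentedGroup rels →* S := PresentedGroup.toGroup hr
  have hφ : ∀ i, φ (PresentedGroup.of i) = ![a, b, c] i := fun i => PresentedGroup.toGroup.of hr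
  have hsurj : Function.Surjective φ := by
    rw [← MonoidHom.range_eq_top, eq_top_iff, ← hgen, Subgroup.closure_le]
    intro x hx
    simp only [Set.mem_insert_iff, Set.mem_singleton_iff] at hx
    rcases hx with rfl | rfl | rfl
    · exact ⟨PresentedGroup.of 0, by rw [hφ]; rfl⟩
    · exact ⟨PresentedGroup.of 1, by rw [hφ]; rfl⟩
    · exact ⟨PresentedGroup.of 2, by rw [hφ]; rfl⟩
  obtain ⟨hfin, hle⟩ := hcard (PresentedGroup rels) (PresentedGroup.of 0) (PresentedGroup.of 1)
    (PresentedGroup.of 2) (slpp1_closure rels) (by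
      intro r hr'
      rw [slpp1_ev_of]
      exact (PresentedGroup.mk_eq_one_iff).2 (Subgroup.subset_normalClosure ((hmem r).2 hr')))
  have hbij : Function.Bijective φ := hsurj.bijective_of_nat_card_le hle
  exact ⟨MulEquiv.ofBijective φ hbij⟩

end Cfsg.Agent.Lib.helper17.SLP
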