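import Cfsg.Agent.Lib.Helper19.U3P.Defs
import Cfsg.Agent.Lib.Helper18.U3PF1
import Cfsg.Agent.Lib.Lead.Unitary

/-! Project U3P (designer helper19; S2289), row F12 (`card_val`), by helper7. -/

namespace Cfsg.Agent.Lib.Helper19.U3P

open Cfsg.Agent.Lib.helper17.SLP Cfsg.Agent.Lib.helper14.SU3J Cfsg.Agent.Lib.Helper25.SU3P
open Polynomial Matrix

universe u v

section F

variable {F : Type u} [Field F] [Fintype F] {K : Type u} [Field K] [Fintype K] {q : ℕ}

/-- the trace map `x ↦ x + σ x` -/
def u3pf12_tr (σ : F →+* F) : F →+ F where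
  toFun x := x + σ x
  map_zero' := by simp
  map_add' x y := by simp only [map_add]; abel

omit [Fintype K] in
/-- the kernel of the trace has `q` elements -/
theorem u3pf12_card_ker (hF : Fintype.card F = q ^ 2) (σ : F →+* F) (hσ : ∀ x, σ x = x ^ q) :
    Nat.card (u3pf12_tr σ).ker = q := by
  classical
  obtain ⟨hsurj, hfix⟩ := trace_surj hF σ hσ
  have hσσ : ∀ x, σ (σ x) = x := fun x => Cfsg.Agent.Lib.Lead.frob_frob hF σ hσ x
  have hq0 : 0 < q := by
    rcases Nat.eq_zero_or_pos q with h | h
    · subst h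
      have : 0 < Fintype.card F := Fintype.card_pos
      rw [hF] at this; simp at this
    · exact h
  have hrange : Nat.card (u3pf12_tr σ).range = q := by
    rw [← hfix]
    apply Nat.card_congr
    refine Equiv.subtypeEquivRight (fun y => ?_)
    constructor
    · rintro ⟨x, rfl⟩
      change σ (x + σ x) = x + σ x
      rw [map_add, hσσ, add_comm]
    · intro hy
      obtain ⟨x, hx⟩ := hsurj y hy
      exact ⟨x, hx⟩
  have h1 := AddSubgroup.card_mul_index (u3pf12_tr σ).ker
  rw [AddSubgroup.index_ker, hrange, Nat.card_eq_fintype_card (α := F), hF, sq] at h1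
  exact Nat.eq_of_mul_eq_mul_right hq0 h1

/-- F12 [M] -/
theorem card_val (D : Par F K q) (hF : Fintype.card F = q ^ 2) :
    Nat.card {v : F × F // v.2 + D.σ v.2 + v.1 * D.σ v.1 = 0} = q ^ 3 := by
  classical
  obtain ⟨hsurj, -⟩ := trace_surj hF D.σ D.hσ
  have hσσ : ∀ x, D.σ (D.σ x) = x := fun x => Cfsg.Agent.Lib.Lead.frob_frob hF D.σ D.hσ x
  have hex : ∀ α : F, ∃ β : F, β + D.σ β = -(α * D.σ α) := by
    intro α
    apply hsurj
    rw [map_neg, map_mul, hσσ, mul_comm]
  choose b hb using hex
  have hker : ∀ x : F, x ∈ (u3pf12_tr D.σ).ker ↔ x + D.σ x = 0 := fun x => Iff.rfl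
  let e : {v : F × F // v.2 + D.σ v.2 + v.1 * D.σ v.1 = 0} ≃ F × (u3pf12_tr D.σ).ker :=
    { toFun := fun v => (v.1.1, ⟨v.1.2 - b v.1.1, by
        rw [hker, map_sub]
        have h1 := v.2
        have h2 := hb v.1.1
        linear_combination h1 - h2⟩)
      invFun := fun w => ⟨(w.1, (w.2 : F) + b w.1), by
        have h1 := (hker _).1 w.2.2
        have h2 := hb w.1
        simp only [map_add]
        linear_combination h1 + h2⟩
      left_inv := fun v => by
        apply Subtype.ext
        simp
      right_inv := fun w => by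
        apply Prod.ext
        · rfl
        · apply Subtype.ext
          simp }
  rw [Nat.card_congr e, Nat.card_prod, u3pf12_card_ker hF D.σ D.hσ, Nat.card_eq_fintype_card, hF]
  ring

end F

end Cfsg.Agent.Lib.Helper19.U3P
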