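import Cfsg.Agent.Lib.helper7.Co1A
import Cfsg.Agent.S1575

set_option autoImplicit false
set_option linter.style.haveILetI false
set_option linter.unusedSectionVars false

/-!
# Normal subgroups of `Co0` containing `-1`

If the stabiliser `H` of a minimal vector `v` is simple, then a normal subgroup `N` of `Co0` containing
the negation map is contained in the centre or is everything.
-/

namespace Cfsg.Agent.Lib.helper7.Co1

open Cfsg MulAction
open Cfsg.Agent.Lib.Lead.CP Cfsg.Agent.S0398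
open Cfsg.Agent.Lib.Lead.R3S Cfsg.Agent.Lib.Lead.R4S

section General

variable {G Y : Type*} [Group G] [Finite G] [MulAction G Y]

/-- the orbit of a normal subgroup is a block -/
theorem orb_block (N : Subgroup G) [hN : N.Normal] (x0 : Y) (k : G) (hk : k • x0 ∈ orb N x0)
    (y : Y) (hy : y ∈ orb N x0) : k • y ∈ orb N x0 := by
  obtain ⟨n, hn, rfl⟩ := hy
  obtain ⟨m, hm, hm'⟩ := hk
  refine ⟨k * n * k⁻¹ * m, N.mul_mem (hN.conj_mem n hn k) hm, ?_⟩
  rw [mul_smul, hm', ← mul_smul, ← mul_smul]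
  congr 1
  group

theorem ncard_fiberwise {Z : Type*} (O : Set Z) (hO : O.Finite) (κ : Z → ℤ) (D : Finset ℤ)
    (h : ∀ y ∈ O, κ y ∈ D) : O.ncard = ∑ d ∈ D, (O ∩ {y | κ y = d}).ncard := by
  classical
  rw [Set.ncard_eq_toFinset_card O hO,
    Finset.card_eq_sum_card_fiberwise (f := κ) (t := D) (by
      intro y hy
      exact h y ((Set.Finite.mem_toFinset hO).1 hy))]
  apply Finset.sum_congr rfl
  intro d _
  rw [Set.ncard_eq_toFinset_card _ (hO.subset Set.inter_subset_left)]
  congr 1
  ext y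
  simp only [Finset.mem_filter, Set.Finite.mem_toFinset, Set.mem_inter_iff, Set.mem_setOf_eq]

end General

/-! ### transitivity on the suborbits, up to sign -/

theorem trans_A (v : ↥leechLattice) (hv : sqNorm v.1 = 32) (d : ℤ)
    (hd : d = -16 ∨ d = 16 ∨ d = -8 ∨ d = 8 ∨ d = 0) (y y' : ↥leechLattice)
    (hy : y ∈ A v d) (hy' : y' ∈ A v d) :
    ∃ k : ↥Co0, (k.1 v = v ∨ k.1 v = -v) ∧ k.1 y = y' := by
  obtain ⟨hy1, hy2⟩ := hy
  obtain ⟨hy1', hy2'⟩ := hy'
  rcases hd with rfl | rfl | rfl | rfl | rfl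
  · obtain ⟨g, hg1, hg2⟩ := Cfsg.Agent.S1574.result v y y' hv hy1 hy1' hy2 hy2'
    exact ⟨g, Or.inl hg1, hg2⟩
  · obtain ⟨g, hg1, hg2⟩ := Cfsg.Agent.S1574.result v (-y) (-y') hv
      (by rw [sqNorm_neg']; exact hy1) (by rw [sqNorm_neg']; exact hy1')
      (by rw [dot_neg_r, hy2]) (by rw [dot_neg_r, hy2'])
    refine ⟨g, Or.inl hg1, ?_⟩
    have : g.1 (-y) = -y' := hg2
    rw [map_neg'] at this
    exact neg_injective this
  · obtain ⟨g, hg1, hg2⟩ := Cfsg.Agent.S1575.result v y y' hv hy1 hy1' hy2 hy2'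
    exact ⟨g, Or.inl hg1, hg2⟩
  · obtain ⟨g, hg1, hg2⟩ := Cfsg.Agent.S1575.result v (-y) (-y') hv
      (by rw [sqNorm_neg']; exact hy1) (by rw [sqNorm_neg']; exact hy1')
      (by rw [dot_neg_r, hy2]) (by rw [dot_neg_r, hy2'])
    refine ⟨g, Or.inl hg1, ?_⟩
    have : g.1 (-y) = -y' := hg2
    rw [map_neg'] at this
    exact neg_injective this
  · obtain ⟨g, hg1, hg2⟩ := Cfsg.Agent.S1576.result v y y' hv hy1 hy1' hy2 hy2'
    rcases hg2 with hg2 | hg2
    · exact ⟨g, Or.inl hg1, hg2⟩
    · refine ⟨negE * g, Or.inr ?_, ?_⟩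
      · show negE.1 (g.1 v) = -v
        have : g.1 v = v := hg1
        rw [this, negE_apply]
      · show negE.1 (g.1 y) = y'
        have : g.1 y = -y' := hg2
        rw [this, negE_apply, neg_neg]

/-! ### the orbit of a normal subgroup containing `-1` -/

section Orbit

variable (v : ↥leechLattice) (hv : sqNorm v.1 = 32) (N : Subgroup ↥Co0) [hN : N.Normal]
  (hneg : negE ∈ N)

include hv hneg

theorem v_mem_orb : v ∈ orb N v := ⟨1, N.one_mem, one_smul _ _⟩

theorem neg_v_mem_orb : -v ∈ orb N v := ⟨negE, hneg, rfl⟩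

theorem orb_subset_Mn : orb N v ⊆ Mn := by
  rw [← orbit_eq_Mn v hv]
  exact orb_sub N

theorem full_A (d : ℤ) (hd : d = -16 ∨ d = 16 ∨ d = -8 ∨ d = 8 ∨ d = 0) :
    (∃ y ∈ A v d, y ∈ orb N v) → A v d ⊆ orb N v := by
  rintro ⟨y, hy, hyO⟩ y' hy'
  obtain ⟨k, hk, rfl⟩ := trans_A v hv d hd y y' hy hy'
  apply orb_block N v k _ y hyO
  rcases hk with hk | hk
  · show k.1 v ∈ orb N v
    rw [hk]
    exact v_mem_orb v hv N hneg
  · show k.1 v ∈ orb N v
    rw [hk]
    exact neg_v_mem_orb v hv N hneg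

theorem ncard_orb_cases : (orb N v).ncard = 2 ∨ (orb N v).ncard = 196560 := by
  classical
  set O := orb N v with hO
  have hOM : O ⊆ Mn := orb_subset_Mn v hv N hneg
  have hOf : O.Finite := Mn_finite.subset hOM
  have hvO : v ∈ O := v_mem_orb v hv N hneg
  have hnvO : -v ∈ O := neg_v_mem_orb v hv N hneg
  obtain ⟨c1, c2, c3, c4, c5⟩ := ncard_A v hv
  have hdvd : O.ncard ∣ 196560 := by
    have := ncard_orb_dvd N v
    rwa [index_stab v hv] at this
  have hself : dotInt v.1 v.1 = 32 := by rw [dot_self, hv]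
  have hfib := ncard_fiberwise O hOf (fun w => dotInt v.1 w.1)
    ({32, -32, -16, 16, -8, 8, 0} : Finset ℤ) (by
      intro y hy
      have hy' : sqNorm y.1 = 32 := hOM hy
      simp only [Finset.mem_insert, Finset.mem_singleton]
      rcases dot_vals v y hv hy' with h | h | h | h | h | h | h
      · left; rw [h]; exact hself
      · right; left; rw [h, dot_neg_r, hself]
      · right; right; left; exact h
      · right; right; right; left; exact h
      · right; right; right; right; left; exact h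
      · right; right; right; right; right; left; exact h
      · right; right; right; right; right; right; exact h)
  have e32 : O ∩ {y | dotInt v.1 y.1 = 32} = {v} := by
    ext y
    simp only [Set.mem_inter_iff, Set.mem_setOf_eq, Set.mem_singleton_iff]
    constructor
    · rintro ⟨h1, h2⟩
      exact eq_of_dot_32 v y hv (hOM h1) h2
    · rintro rfl
      exact ⟨hvO, hself⟩
  have en32 : O ∩ {y | dotInt v.1 y.1 = -32} = {-v} := by
    ext y
    simp only [Set.mem_inter_iff, Set.mem_setOf_eq, Set.mem_singleton_iff]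
    constructor
    · rintro ⟨h1, h2⟩
      exact eq_of_dot_neg32 v y hv (hOM h1) h2
    · rintro rfl
      exact ⟨hnvO, by rw [dot_neg_r, hself]⟩
  have eA : ∀ d : ℤ, O ∩ {y | dotInt v.1 y.1 = d} = A v d ∩ O := by
    intro d
    ext y
    simp only [Set.mem_inter_iff, Set.mem_setOf_eq]
    constructor
    · rintro ⟨h1, h2⟩
      exact ⟨⟨hOM h1, h2⟩, h1⟩
    · rintro ⟨h1, h2⟩
      exact ⟨h2, h1.2⟩
  rw [Finset.sum_insert (by decide), Finset.sum_insert (by decide), Finset.sum_insert (by decide),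
    Finset.sum_insert (by decide), Finset.sum_insert (by decide), Finset.sum_insert (by decide),
    Finset.sum_singleton, e32, en32, Set.ncard_singleton, Set.ncard_singleton,
    eA, eA, eA, eA, eA] at hfib
  rw [hfib] at hdvd ⊢
  rcases inter_cases O (A v (-16)) 4600 c1 (full_A v hv N hneg (-16) (by norm_num)) with a1 | a1 <;>
  rcases inter_cases O (A v 16) 4600 c2 (full_A v hv N hneg 16 (by norm_num)) with a2 | a2 <;>
  rcases inter_cases O (A v (-8)) 47104 c3 (full_A v hv N hneg (-8) (by norm_num)) with a3 | a3 <;>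
  rcases inter_cases O (A v 8) 47104 c4 (full_A v hv N hneg 8 (by norm_num)) with a4 | a4 <;>
  rcases inter_cases O (A v 0) 93150 c5 (full_A v hv N hneg 0 (by norm_num)) with a5 | a5 <;>
  rw [a1, a2, a3, a4, a5] at hdvd ⊢ <;>
  first
    | (left; rfl)
    | (right; rfl)
    | (exfalso; revert hdvd; decide)

end Orbit

end Cfsg.Agent.Lib.helper7.Co1
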