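import Cfsg.Agent.Lib.helper7.U3PF5core
import Cfsg.Agent.Lib.Helper9.U3PF4

/-! Project U3P (designer helper19; S2289), row F5 (`exists_par`), verbatim, by helper7. -/

namespace Cfsg.Agent.Lib.Helper19.U3P

open Cfsg.Agent.Lib.helper17.SLP Cfsg.Agent.Lib.helper14.SU3J Cfsg.Agent.Lib.Helper25.SU3P
open Polynomial Matrix

universe u v

section F0

variable {F : Type u} [Field F] [Fintype F] {q : ℕ}

/-- F5 [S-M] -/
theorem exists_par (hF : Fintype.card F = q ^ 2) :
    ∃ (K : Type u) (_ : Field K) (_ : Fintype K), Fintype.card K = q ∧ Nonempty (Par F K q) :=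
  u3pf5_core hF (fun σ hσ => exists_coords0 hF σ hσ)

end F0

end Cfsg.Agent.Lib.Helper19.U3P
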