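import Mathlib
import Cfsg.Agent.Lib.helper3.S5953.Defs2
import Cfsg.Prelude.Def_LieClassical

/-!
# Project S5953, row R4: the determinant of an involution
-/

set_option autoImplicit false

namespace Cfsg.Agent.Lib.helper3.S5953

open Polynomial Module

/-- the two eigenspaces of an involution are complementary (`2 ≠ 0`). -/
theorem s5953r4_isCompl {F : Type*} [Field F] {V : Type*} [AddCommGroup V] [Module F V]
    (h2 : (2 : F) ≠ 0) (y : Module.End F V) (hy : y ^ 2 = 1) :
    IsCompl (LinearMap.ker (y - 1)) (LinearMap.ker (y + 1)) := by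
  have hyy : ∀ v, y (y v) = v := by
    intro v
    have := congrArg (fun f : Module.End F V => f v) hy
    simpa [pow_two] using this
  constructor
  · rw [Submodule.disjoint_def]
    intro v hv1 hv2
    rw [LinearMap.mem_ker, LinearMap.sub_apply, Module.End.one_apply, sub_eq_zero] at hv1
    rw [LinearMap.mem_ker, LinearMap.add_apply, Module.End.one_apply, hv1] at hv2
    have h3 : (2 : F) • v = 0 := by rw [two_smul]; exact hv2
    rcases smul_eq_zero.mp h3 with h4 | h4
    · exact absurd h4 h2
    · exact h4
  · rw [codisjoint_iff, eq_top_iff]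
    intro v _
    have e : v = (2 : F)⁻¹ • (v + y v) + (2 : F)⁻¹ • (v - y v) := by
      rw [← smul_add, add_add_sub_cancel, ← two_smul F v, smul_smul, inv_mul_cancel₀ h2, one_smul]
    rw [e]
    apply Submodule.add_mem_sup
    · apply Submodule.smul_mem
      rw [LinearMap.mem_ker, LinearMap.sub_apply, Module.End.one_apply, map_add, hyy]
      abel
    · apply Submodule.smul_mem
      rw [LinearMap.mem_ker, LinearMap.add_apply, Module.End.one_apply, map_sub, hyy]
      abel

/-- R4 [M] INVDET: the determinant of an involution. -/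
theorem invol_det {F : Type*} [Field F] {V : Type*} [AddCommGroup V] [Module F V]
    [FiniteDimensional F V] (h2 : (2 : F) ≠ 0) (y : Module.End F V) (hy : y ^ 2 = 1) :
    LinearMap.det y = (-1) ^ (finrank F (LinearMap.ker (y + 1))) := by
  set e := Submodule.prodEquivOfIsCompl (LinearMap.ker (y - 1)) (LinearMap.ker (y + 1))
    (s5953r4_isCompl h2 y hy) with he
  set f : (↥(LinearMap.ker (y - 1)) × ↥(LinearMap.ker (y + 1))) →ₗ[F]
      (↥(LinearMap.ker (y - 1)) × ↥(LinearMap.ker (y + 1))) :=
    LinearMap.prodMap LinearMap.id ((-1 : F) • LinearMap.id) with hf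
  have h1 : y = (e : _ →ₗ[F] V) ∘ₗ f ∘ₗ (e.symm : V →ₗ[F] _) := by
    apply LinearMap.ext
    intro v
    obtain ⟨x, rfl⟩ := e.surjective v
    simp only [LinearMap.coe_comp, LinearEquiv.coe_coe, Function.comp_apply,
      LinearEquiv.symm_apply_apply]
    rw [he, Submodule.coe_prodEquivOfIsCompl', Submodule.coe_prodEquivOfIsCompl', hf,
      LinearMap.prodMap_apply, map_add]
    have e1 : y (x.1 : V) = x.1 := by
      have := x.1.2
      rw [LinearMap.mem_ker, LinearMap.sub_apply, Module.End.one_apply, sub_eq_zero] at this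
      exact this
    have e2 : y (x.2 : V) = -x.2 := by
      have := x.2.2
      rw [LinearMap.mem_ker, LinearMap.add_apply, Module.End.one_apply] at this
      exact eq_neg_of_add_eq_zero_left this
    rw [e1, e2]
    simp
  have h3 : LinearMap.det y = LinearMap.det ((e : _ →ₗ[F] V) ∘ₗ f ∘ₗ (e.symm : V →ₗ[F] _)) :=
    congrArg _ h1
  rw [h3, LinearMap.det_conj, hf, LinearMap.det_prodMap, LinearMap.det_id, LinearMap.det_smul,
    LinearMap.det_id, one_mul, mul_one]

end Cfsg.Agent.Lib.helper3.S5953
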