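import Mathlib
import Cfsg.Agent.Lib.helper3.S5953.Defs2
import Cfsg.Prelude.Def_LieClassical

/-!
# Project S5953, row N6: the determinant of a block sum
-/

set_option autoImplicit false

namespace Cfsg.Agent.Lib.helper3.S5953

open Polynomial Module

/-- the matrix of a block sum. -/
theorem s5953n6_matrix {F : Type*} [Field F] {A : ℕ} {κ ω : Type*} [Fintype κ] [Fintype ω]
    [DecidableEq κ] [DecidableEq ω] (y : Fin A → Module.End F (κ → F)) :
    LinearMap.toMatrix' (bsumX ω y) =
      Matrix.fromBlocks
        (Matrix.reindex (Equiv.prodComm κ (Fin A)) (Equiv.prodComm κ (Fin A))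
          (Matrix.blockDiagonal (fun a => LinearMap.toMatrix' (y a))))
        0 0 (1 : Matrix ω ω F) := by
  ext i j
  rw [LinearMap.toMatrix'_apply]
  rcases i with ⟨a, k⟩ | o
  · rcases j with ⟨a', k'⟩ | o'
    · rw [bsumX_inl, Matrix.fromBlocks_apply₁₁, Matrix.reindex_apply, Matrix.submatrix_apply]
      show _ = Matrix.blockDiagonal (fun a => LinearMap.toMatrix' (y a)) (k, a) (k', a')
      rw [Matrix.blockDiagonal_apply]
      by_cases h : a = a'
      · subst h
        rw [if_pos rfl, LinearMap.toMatrix'_apply]
        have e1 : (fun k'' => (Pi.single (Sum.inl (a, k')) (1 : F) :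
            BIdx A κ ω → F) (Sum.inl (a, k''))) = Pi.single k' 1 := by
          funext k''
          by_cases hk : k'' = k'
          · subst hk
            simp
          · rw [Pi.single_eq_of_ne hk, Pi.single_eq_of_ne]
            intro hh
            apply hk
            have := Sum.inl.inj hh
            exact (Prod.mk.inj this).2
        rw [e1]
      · rw [if_neg h]
        have : (fun k'' => (Pi.single (Sum.inl (a', k')) (1 : F) :
            BIdx A κ ω → F) (Sum.inl (a, k''))) = 0 := by
          funext k''
          rw [Pi.single_eq_of_ne]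
          · rfl
          · intro hh
            apply h
            have := Sum.inl.inj hh
            exact (Prod.mk.inj this).1
        rw [this, map_zero]
        rfl
    · rw [bsumX_inl, Matrix.fromBlocks_apply₁₂]
      have : (fun k'' => (Pi.single (Sum.inr o') (1 : F) :
          BIdx A κ ω → F) (Sum.inl (a, k''))) = 0 := by
        funext k''
        rw [Pi.single_eq_of_ne]
        · rfl
        · intro hh
          exact Sum.inl_ne_inr hh
      rw [this, map_zero]
      rfl
  · rcases j with ⟨a', k'⟩ | o'
    · rw [bsumX_inr, Matrix.fromBlocks_apply₂₁, Pi.single_eq_of_ne]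
      · rfl
      · intro hh
        exact Sum.inr_ne_inl hh
    · rw [bsumX_inr, Matrix.fromBlocks_apply₂₂, Matrix.one_apply]
      by_cases h : o = o'
      · subst h
        simp
      · rw [if_neg h, Pi.single_eq_of_ne]
        intro hh
        exact h (Sum.inr.inj hh)

/-- N6 [M] BSUMDET: the determinant of a block sum. -/
theorem bsum_det {F : Type*} [Field F] {A : ℕ} {κ ω : Type*} [Fintype κ] [Fintype ω]
    [DecidableEq κ] [DecidableEq ω] (y : Fin A → Module.End F (κ → F)) :
    LinearMap.det (bsumX ω y) = ∏ a, LinearMap.det (y a) := by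
  rw [← LinearMap.det_toMatrix', s5953n6_matrix, Matrix.det_fromBlocks_zero₂₁, Matrix.det_one,
    mul_one, Matrix.det_reindex_self, Matrix.det_blockDiagonal]
  apply Finset.prod_congr rfl
  intro a _
  rw [LinearMap.det_toMatrix']

end Cfsg.Agent.Lib.helper3.S5953
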