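import Cfsg.Agent.Lib.Helper28.TOO.Defs
import Cfsg.Agent.Lib.helper6.TSSIEG

/-!
# Project TOO (S5681), row WG1 (helper7).
-/

set_option autoImplicit false
set_option linter.unusedVariables false
set_option linter.unusedSectionVars false

namespace Cfsg.Agent.Lib.Helper28.TOO

open Matrix
open scoped Kronecker
open Cfsg.Agent.Lib.helper7.TP Cfsg.Agent.Lib.Helper21.TS

variable {ι : Type*} [Fintype ι] [DecidableEq ι] {F : Type*} [Field F] {J : Matrix ι ι F}

/-- WG1 [S-M]. -/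
theorem w1_hyp_partner (h2 : (2 : F) ≠ 0) (hJ : Jᵀ = J) (hdet : J.det ≠ 0) (w : ι → F) (hw0 : w ≠ 0)
    (hw : bf J w w = 0) : ∃ w' : ι → F, bf J w' w' = 0 ∧ bf J w w' = 1 := by
  obtain ⟨x, hx⟩ := bf_nondeg hdet hw0
  have hxw : bf J x w = bf J w x := bf_symm hJ x w
  refine ⟨(bf J w x)⁻¹ • (x - (bf J x x / (2 * bf J w x)) • w), ?_, ?_⟩
  · simp only [bf_smul_left, bf_smul_right, bf_sub_left, bf_sub_right, hw, hxw]
    field_simp
    ring
  · simp only [bf_smul_right, bf_sub_right, hw]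
    field_simp
    ring

end Cfsg.Agent.Lib.Helper28.TOO
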