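import Cfsg.Agent.Lib.Helper28.TOO.Defs
import Cfsg.Agent.Lib.helper6.TSSIEG

/-!
# Project TOO (S5681), row WI2a (helper7): `w1_irr_diff`.
-/

set_option autoImplicit false
set_option linter.unusedVariables false
set_option linter.unusedSectionVars false

namespace Cfsg.Agent.Lib.Helper28.TOO

open Matrix
open scoped Kronecker
open Cfsg.Agent.Lib.helper7.TP Cfsg.Agent.Lib.Helper21.TS

variable {ι : Type*} [Fintype ι] [DecidableEq ι] {F : Type*} [Field F] {J : Matrix ι ι F}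

/-- the conjugate `ρ_{u,v} ξ ρ_{u,-v}` applied to a vector. -/
theorem toowi2a_conj_mulVec (h2 : (2 : F) ≠ 0) (hJ : Jᵀ = J) (ξ : Matrix ι ι F) (hξ : SkewAdj J ξ)
    (u v x : ι → F) (hu : bf J u u = 0) (hv : bf J u v = 0) :
    (sieg J u v * ξ * sieg J u (-v)) *ᵥ x =
      ξ *ᵥ x - bf J v x • (ξ *ᵥ u) + bf J u x • (ξ *ᵥ v) - (bf J v v / 2 * bf J u x) • (ξ *ᵥ u)
      + (bf J v (ξ *ᵥ x) - bf J v x * bf J v (ξ *ᵥ u) - (bf J v v / 2 * bf J u x) * bf J v (ξ *ᵥ u)) • u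
      - (bf J u (ξ *ᵥ x) + bf J u x * bf J u (ξ *ᵥ v)) • v
      - (bf J v v / 2 * (bf J u (ξ *ᵥ x) + bf J u x * bf J u (ξ *ᵥ v))) • u := by
  have hsk := (skewAdj_iff_bf J ξ).mp hξ
  have hvv : bf J v (ξ *ᵥ v) = 0 := by
    have h1 := hsk v v
    rw [bf_symm hJ (ξ *ᵥ v) v] at h1
    have h3 : (2 : F) * bf J v (ξ *ᵥ v) = 0 := by linear_combination h1
    exact (mul_eq_zero.mp h3).resolve_left h2
  have huu : bf J u (ξ *ᵥ u) = 0 := by
    have h1 := hsk u u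
    rw [bf_symm hJ (ξ *ᵥ u) u] at h1
    have h3 : (2 : F) * bf J u (ξ *ᵥ u) = 0 := by linear_combination h1
    exact (mul_eq_zero.mp h3).resolve_left h2
  rw [← Matrix.mulVec_mulVec, ← Matrix.mulVec_mulVec, sieg_mulVec J u (-v) x]
  have e1 : x + bf J (-v) x • u - bf J u x • -v - (bf J (-v) (-v) / 2 * bf J u x) • u =
      x - bf J v x • u + bf J u x • v - (bf J v v / 2 * bf J u x) • u := by
    rw [bf_neg_left, bf_neg_left, bf_neg_right, neg_neg]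
    module
  rw [e1]
  rw [Matrix.mulVec_sub ξ, Matrix.mulVec_add ξ, Matrix.mulVec_sub ξ, Matrix.mulVec_smul ξ, Matrix.mulVec_smul ξ,
    Matrix.mulVec_smul ξ]
  rw [sieg_mulVec]
  simp only [bf_add_right, bf_sub_right, bf_smul_right, hvv, huu]
  module

/-- WI2a [M-L]. -/
theorem w1_irr_diff (h2 : (2 : F) ≠ 0) (hJ : Jᵀ = J) (ξ : Matrix ι ι F) (hξ : SkewAdj J ξ) (u y y' : ι → F)
    (hu : bf J u u = 0) (hy : bf J u y = 0) (hy' : bf J u y' = 0) :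
    sieg J u (y + y') * ξ * sieg J u (-(y + y')) - sieg J u y * ξ * sieg J u (-y)
        - sieg J u y' * ξ * sieg J u (-y') + ξ =
      Nw J u (bf J y y' • (ξ *ᵥ u) - bf J y' (ξ *ᵥ u) • y - bf J y (ξ *ᵥ u) • y') := by
  have hsk := (skewAdj_iff_bf J ξ).mp hξ
  have hself : ∀ v : ι → F, bf J v (ξ *ᵥ v) = 0 := by
    intro v
    have h1 := hsk v v
    rw [bf_symm hJ (ξ *ᵥ v) v] at h1
    have h3 : (2 : F) * bf J v (ξ *ᵥ v) = 0 := by linear_combination h1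
    exact (mul_eq_zero.mp h3).resolve_left h2
  have hflip : ∀ a c : ι → F, bf J a (ξ *ᵥ c) = - bf J c (ξ *ᵥ a) := by
    intro a c
    have h1 := hsk c a
    rw [bf_symm hJ (ξ *ᵥ c) a] at h1
    rw [h1]
  have hyy' : bf J u (y + y') = 0 := by rw [bf_add_right, hy, hy', add_zero]
  rw [Matrix.ext_iff_mulVec]
  intro x
  rw [Matrix.add_mulVec, Matrix.sub_mulVec, Matrix.sub_mulVec,
    toowi2a_conj_mulVec h2 hJ ξ hξ u (y + y') x hu hyy', toowi2a_conj_mulVec h2 hJ ξ hξ u y x hu hy,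
    toowi2a_conj_mulVec h2 hJ ξ hξ u y' x hu hy']
  unfold Nw
  rw [Matrix.sub_mulVec, opm_mulVec, opm_mulVec]
  have e1 : bf J u (ξ *ᵥ y) = - bf J y (ξ *ᵥ u) := hflip u y
  have e2 : bf J u (ξ *ᵥ y') = - bf J y' (ξ *ᵥ u) := hflip u y'
  have e3 : bf J y' (ξ *ᵥ y) = - bf J y (ξ *ᵥ y') := hflip y' y
  have e4 : bf J (ξ *ᵥ u) x = - bf J u (ξ *ᵥ x) := hsk u x
  have e5 : bf J y' y = bf J y y' := bf_symm hJ y' y
  rw [Matrix.mulVec_add ξ y y']
  simp only [bf_add_left, bf_add_right, bf_sub_left, bf_smul_left, e1, e2, e4, e5]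
  match_scalars <;> field_simp <;> ring

end Cfsg.Agent.Lib.Helper28.TOO
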