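import Mathlib

/-!
# Project U82 (S5982), row C2 (helper7): `u82_index_arith`.
-/

set_option autoImplicit false

namespace Cfsg.Agent.Lib.Helper16.U82

/-- `x² - 1 = (x - 1)(x + 1)` in `ℕ`. -/
theorem u82c2_sq_sub_one (x : ℕ) (hx : 1 ≤ x) : x ^ 2 - 1 = (x - 1) * (x + 1) := by
  obtain ⟨y, rfl⟩ : ∃ y, x = y + 1 := ⟨x - 1, by omega⟩
  have h1 : (y + 1) ^ 2 = y * (y + 1 + 1) + 1 := by ring
  rw [h1, Nat.add_sub_cancel, Nat.add_sub_cancel]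

theorem u82_index_arith (q₀ n : ℕ) (hq : 2 ≤ q₀) :
    ∏ i : Fin n, ((q₀ ^ 2) ^ n - (q₀ ^ 2) ^ (i : ℕ)) =
      (q₀ ^ (n * (n - 1) / 2) * ∏ i ∈ Finset.range n,
        (if Even i then q₀ ^ (i + 1) + 1 else q₀ ^ (i + 1) - 1)) *
      (q₀ ^ (n * (n - 1) / 2) * ∏ i ∈ Finset.range n,
        (if Even i then q₀ ^ (i + 1) - 1 else q₀ ^ (i + 1) + 1)) := by
  classical
  have hq1 : 1 ≤ q₀ := by omega
  have hpow1 : ∀ m : ℕ, 1 ≤ q₀ ^ m := fun m => Nat.one_le_pow _ _ hq1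
  rw [Fin.prod_univ_eq_prod_range (fun i => (q₀ ^ 2) ^ n - (q₀ ^ 2) ^ i) n]
  -- pull out the powers
  have h1 : ∏ i ∈ Finset.range n, ((q₀ ^ 2) ^ n - (q₀ ^ 2) ^ i) =
      ∏ i ∈ Finset.range n, ((q₀ ^ 2) ^ i * ((q₀ ^ 2) ^ (n - 1 - i + 1) - 1)) := by
    apply Finset.prod_congr rfl
    intro i hi
    rw [Finset.mem_range] at hi
    have e : n - 1 - i + 1 = n - i := by omega
    rw [e, Nat.mul_sub, mul_one, ← pow_add]
    congr 2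
    omega
  rw [h1, Finset.prod_mul_distrib, Finset.prod_pow_eq_pow_sum, Finset.sum_range_id,
    Finset.prod_range_reflect (fun j => (q₀ ^ 2) ^ (j + 1) - 1) n]
  -- split the factors
  have hfac : ∀ i : ℕ, (q₀ ^ 2) ^ (i + 1) - 1 =
      (if Even i then q₀ ^ (i + 1) + 1 else q₀ ^ (i + 1) - 1) *
        (if Even i then q₀ ^ (i + 1) - 1 else q₀ ^ (i + 1) + 1) := by
    intro i
    have e1 : (q₀ ^ 2) ^ (i + 1) = (q₀ ^ (i + 1)) ^ 2 := by rw [← pow_mul, ← pow_mul, mul_comm]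
    rw [e1, u82c2_sq_sub_one _ (hpow1 _)]
    split_ifs
    · ring
    · ring
  have h2 : ∏ j ∈ Finset.range n, ((q₀ ^ 2) ^ (j + 1) - 1) =
      (∏ i ∈ Finset.range n, (if Even i then q₀ ^ (i + 1) + 1 else q₀ ^ (i + 1) - 1)) *
        ∏ i ∈ Finset.range n, (if Even i then q₀ ^ (i + 1) - 1 else q₀ ^ (i + 1) + 1) := by
    rw [← Finset.prod_mul_distrib]
    exact Finset.prod_congr rfl (fun i _ => hfac i)
  rw [h2]
  have h3 : (q₀ ^ 2) ^ (n * (n - 1) / 2) = q₀ ^ (n * (n - 1) / 2) * q₀ ^ (n * (n - 1) / 2) := by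
    rw [← pow_mul, ← pow_add]
    congr 1
    ring
  rw [h3]
  ring

end Cfsg.Agent.Lib.Helper16.U82
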