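import Mathlib

/-!
# Project U82 (S5982), row C4 (helper7): `u82_arith`.
-/

set_option autoImplicit false

namespace Cfsg.Agent.Lib.Helper16.U82

theorem u82c4_dvd_sub_one_iff (q r m : ℕ) (hq : 1 ≤ q) :
    r ∣ q ^ m - 1 ↔ ((q : ZMod r)) ^ m = 1 := by
  have h1 : 1 ≤ q ^ m := Nat.one_le_pow _ _ hq
  rw [← ZMod.natCast_eq_zero_iff, Nat.cast_sub h1, Nat.cast_pow, Nat.cast_one, sub_eq_zero]

theorem u82c4_dvd_add_one_iff (q r m : ℕ) : r ∣ q ^ m + 1 ↔ ((q : ZMod r)) ^ m = -1 := by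
  rw [← ZMod.natCast_eq_zero_iff, Nat.cast_add, Nat.cast_pow, Nat.cast_one,
    add_eq_zero_iff_eq_neg]

theorem u82c4_one_ne_neg_one (r : ℕ) (hr : r.Prime) (hr2 : r ≠ 2) : (1 : ZMod r) ≠ -1 := by
  intro h
  have h2 : ((2 : ℕ) : ZMod r) = 0 := by
    have h3 : (1 : ZMod r) + 1 = 0 := by rw [add_eq_zero_iff_eq_neg]; exact h
    rw [← h3]; norm_num
  rw [ZMod.natCast_eq_zero_iff] at h2
  exact hr2 ((Nat.prime_dvd_prime_iff_eq hr Nat.prime_two).1 h2)

/-- `o ∣ 2k`, `o ∤ k`, `k` even give `4 ∣ o`. -/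
theorem u82c4_four_dvd (o k : ℕ) (hk : Even k) (h2k : o ∣ 2 * k) (hnk : ¬ o ∣ k) : 4 ∣ o := by
  obtain ⟨k', hk'⟩ := hk
  have h4 : o % 4 = 0 ∨ o % 4 = 1 ∨ o % 4 = 2 ∨ o % 4 = 3 := by omega
  rcases h4 with h | h | h | h
  · exact Nat.dvd_of_mod_eq_zero h
  · exfalso
    apply hnk
    have hcop : Nat.Coprime o 2 := by
      rw [Nat.coprime_two_right, Nat.odd_iff]; omega
    exact hcop.dvd_of_dvd_mul_left h2k
  · exfalso
    apply hnk
    obtain ⟨m, hm⟩ : ∃ m, o = 2 * m := ⟨o / 2, by omega⟩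
    have hmodd : m % 2 = 1 := by omega
    have hmk : m ∣ k := by
      rw [hm] at h2k
      exact (Nat.mul_dvd_mul_iff_left (by norm_num)).1 h2k
    have hcop : Nat.Coprime 2 m := by
      rw [Nat.coprime_comm, Nat.coprime_two_right, Nat.odd_iff]; exact hmodd
    rw [hm]
    exact hcop.mul_dvd_of_dvd_of_dvd ⟨k', by omega⟩ hmk
  · exfalso
    apply hnk
    have hcop : Nat.Coprime o 2 := by
      rw [Nat.coprime_two_right, Nat.odd_iff]; omega
    exact hcop.dvd_of_dvd_mul_left h2k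

theorem u82_arith (q₀ n r : ℕ) (hq : 2 ≤ q₀) (hr : r.Prime) (hr2 : r ≠ 2) (hrq : ¬ r ∣ q₀)
    (k : ℕ) (hk1 : 1 ≤ k) (hkn : k ≤ n)
    (h : r ∣ (if Even k then q₀ ^ k + 1 else q₀ ^ k - 1)) :
    r ∣ q₀ - 1 ∨ (¬ r ∣ q₀ ^ 2 - 1 ∧ ∃ i, 2 ≤ i ∧ i ≤ n ∧ r ∣ (q₀ ^ 2) ^ i - 1 ∧
      ∀ k', 1 ≤ k' → k' ≤ i → ¬ r ∣ (if Even k' then q₀ ^ k' - 1 else q₀ ^ k' + 1)) := by
  have hq1 : 1 ≤ q₀ := by omega
  have hne := u82c4_one_ne_neg_one r hr hr2
  have hord : ∀ m, ((q₀ : ZMod r)) ^ m = 1 ↔ orderOf (q₀ : ZMod r) ∣ m :=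
    fun m => (orderOf_dvd_iff_pow_eq_one).symm
  have hsub : ∀ m, r ∣ q₀ ^ m - 1 ↔ orderOf (q₀ : ZMod r) ∣ m :=
    fun m => (u82c4_dvd_sub_one_iff q₀ r m hq1).trans (hord m)
  have hadd : ∀ m, r ∣ q₀ ^ m + 1 →
      orderOf (q₀ : ZMod r) ∣ 2 * m ∧ ¬ orderOf (q₀ : ZMod r) ∣ m := by
    intro m hm
    rw [u82c4_dvd_add_one_iff] at hm
    constructor
    · rw [← hord, mul_comm, pow_mul, hm]; norm_num
    · rw [← hord, hm]; exact fun h => hne h.symm
  have hsq : ∀ i, (q₀ ^ 2) ^ i = q₀ ^ (2 * i) := fun i => (pow_mul _ _ _).symm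
  generalize orderOf (q₀ : ZMod r) = o at hord hsub hadd
  by_cases hk : Even k
  · -- `k` even
    rw [if_pos hk] at h
    obtain ⟨h2k, hnk⟩ := hadd k h
    have h4 : 4 ∣ o := u82c4_four_dvd o k hk h2k hnk
    obtain ⟨t, ht⟩ := h4
    have hopos : 0 < o := Nat.pos_of_dvd_of_pos h2k (by omega)
    have htpos : 1 ≤ t := by
      rcases Nat.eq_zero_or_pos t with h0 | h0
      · rw [h0] at ht; omega
      · exact h0
    have hik : 2 * t ∣ k := by
      have : 2 * (2 * t) ∣ 2 * k := by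
        have e : 2 * (2 * t) = o := by omega
        rw [e]; exact h2k
      exact (Nat.mul_dvd_mul_iff_left (by norm_num)).1 this
    have hile : 2 * t ≤ k := Nat.le_of_dvd (by omega) hik
    right
    refine ⟨?_, 2 * t, by omega, by omega, ?_, ?_⟩
    · intro h2
      have := Nat.le_of_dvd (by norm_num) ((hsub 2).1 h2)
      omega
    · rw [hsq, hsub]
      exact ⟨1, by omega⟩
    · intro k' hk'1 hk'i hdiv
      by_cases hk' : Even k'
      · rw [if_pos hk'] at hdiv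
        have := Nat.le_of_dvd (by omega) ((hsub k').1 hdiv)
        omega
      · rw [if_neg hk'] at hdiv
        obtain ⟨h2k', -⟩ := hadd k' hdiv
        apply hk'
        have h42 : 2 * 2 ∣ 2 * k' := by
          have : (4 : ℕ) ∣ o := ⟨t, ht⟩
          exact this.trans h2k'
        exact even_iff_two_dvd.2 ((Nat.mul_dvd_mul_iff_left (by norm_num)).1 h42)
  · -- `k` odd
    rw [if_neg hk] at h
    have hok : o ∣ k := (hsub k).1 h
    have hole : o ≤ k := Nat.le_of_dvd (by omega) hok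
    have hopos : 0 < o := Nat.pos_of_dvd_of_pos hok (by omega)
    have hoodd : ¬ Even o := fun he => hk (he.trans_dvd hok)
    by_cases ho1 : o = 1
    · left
      have := (hsub 1).2 (by rw [ho1])
      rwa [pow_one] at this
    · have ho3 : 3 ≤ o := by
        rcases Nat.lt_or_ge o 3 with hlt | hge
        · exfalso
          have : o = 2 := by omega
          exact hoodd ⟨1, by omega⟩
        · exact hge
      have hcop : Nat.Coprime o 2 := by
        rw [Nat.coprime_two_right]; exact Nat.not_even_iff_odd.1 hoodd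
      right
      refine ⟨?_, o, by omega, by omega, ?_, ?_⟩
      · intro h2
        have := Nat.le_of_dvd (by norm_num) ((hsub 2).1 h2)
        omega
      · rw [hsq, hsub]
        exact Dvd.intro_left 2 rfl
      · intro k' hk'1 hk'i hdiv
        by_cases hk' : Even k'
        · rw [if_pos hk'] at hdiv
          have h1 := (hsub k').1 hdiv
          have := Nat.le_of_dvd (by omega) h1
          have e : k' = o := by omega
          exact hoodd (e ▸ hk')
        · rw [if_neg hk'] at hdiv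
          obtain ⟨h2k', hnk'⟩ := hadd k' hdiv
          exact hnk' (hcop.dvd_of_dvd_mul_left h2k')

end Cfsg.Agent.Lib.Helper16.U82
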