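import Mathlib
import Cfsg.Agent.Lib.helper7.CED.Defs
import Cfsg.Agent.Lib.Helper24.STCI1

/-!
# Project CED (designer helper7), row S2 (`sso_lift`), VERBATIM vs `helper7/CED/Skel.lean.txt`

The relation `sso` (`x_ab(t)` and `x_{b,-a}(u)` commute: the roots `e_a - e_b` and `e_a + e_b`) for the canonical lifts of a `RootLift`,
from `c3` and `sym` by a Hall–Witt type computation.  No field restriction.
-/

set_option autoImplicit false

namespace Cfsg.Agent.Lib.helper7.CED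

open Cfsg.Agent.Lib.helper15.St2 Cfsg.Agent.Lib.helper7.Ce Cfsg.Agent.Lib.helper3.STC Cfsg.Agent.Lib.Lead.STD
  Cfsg.Agent.Lib.helper7.CEC

/-- the group computation behind `sso_lift` -/
theorem ceds2_group {Γ : Type*} [Group Γ] (A B r P Q : Γ)
    (hβ : ∀ g : Γ, cm B r * g = g * cm B r)
    (h1 : cj (cm A B) r = P * r)
    (h3 : cj A r = Q * r)
    (h3' : cj A⁻¹ r = Q⁻¹ * r)
    (h4 : A * Q = Q * A)
    (h5 : cj B Q⁻¹ = P * Q⁻¹) : cm A P = 1 := by
  set β := cm B r with hβdef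
  have hβi : ∀ g : Γ, β⁻¹ * g = g * β⁻¹ := by
    intro g
    have := hβ g
    calc β⁻¹ * g = β⁻¹ * (g * β) * β⁻¹ := by group
      _ = β⁻¹ * (β * g) * β⁻¹ := by rw [this]
      _ = g * β⁻¹ := by group
  -- step 1
  have e1 : cj B⁻¹ r = β⁻¹ * r := by
    have : cj B r = β * r := by
      rw [hβdef]; unfold cm cj; group
    have h := cj_inv_of this
    -- h : cj B⁻¹ (β * r) = r
    rw [cj_mul] at h
    have hc : cj B⁻¹ β = β := by
      unfold cj
      rw [← hβ, mul_inv_cancel_right]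
    rw [hc] at h
    rw [eq_inv_mul_iff_mul_eq]
    exact h
  have e1' : cj B r = β * r := by
    rw [hβdef]; unfold cm cj; group
  -- step 2
  have e2 : cj A⁻¹ (β⁻¹ * r) = β⁻¹ * (Q⁻¹ * r) := by
    rw [cj_mul, h3']
    congr 1
    unfold cj
    rw [← hβi, mul_inv_cancel_right]
  -- step 3
  have e3 : cj B (β⁻¹ * (Q⁻¹ * r)) = P * Q⁻¹ * r := by
    rw [cj_mul, cj_mul, h5, e1']
    have hc : cj B β⁻¹ = β⁻¹ := by
      unfold cj
      rw [← hβi, mul_inv_cancel_right]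
    rw [hc]
    calc β⁻¹ * (P * Q⁻¹ * (β * r)) = β⁻¹ * ((P * Q⁻¹) * β) * r := by group
      _ = β⁻¹ * (β * (P * Q⁻¹)) * r := by rw [hβ]
      _ = P * Q⁻¹ * r := by group
  -- step 4
  have hQ : cj A Q⁻¹ = Q⁻¹ := by
    unfold cj
    have : A * Q⁻¹ = Q⁻¹ * A := by
      calc A * Q⁻¹ = Q⁻¹ * (Q * A) * Q⁻¹ := by group
        _ = Q⁻¹ * (A * Q) * Q⁻¹ := by rw [h4]
        _ = Q⁻¹ * A := by group
    rw [this, mul_inv_cancel_right]
  have e4 : cj A (P * Q⁻¹ * r) = cj A P * r := by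
    rw [cj_mul, cj_mul, hQ, h3]
    group
  have key : cj (cm A B) r = cj A P * r := by
    have : cm A B = A * (B * (A⁻¹ * B⁻¹)) := by unfold cm; group
    rw [this, ← cj_cj, ← cj_cj, ← cj_cj, e1, e2, e3, e4]
  rw [h1] at key
  have : cj A P = P := (mul_right_cancel key).symm
  unfold cm
  unfold cj at this
  rw [this, mul_inv_cancel]

variable {K : Type*} [Field K] {ι : Type*} {Γ G : Type*} [Group Γ] [Group G] {S : SysD K ι G} {σ : Γ →* G} {h : IsCE σ}

theorem ceds2_X_zero (L : RootLift S h) {a b : ι ⊕ ι} (hab : ab a ≠ ab b) : L.X a b 0 = 1 := by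
  have := L.add a b hab 0 0
  rw [add_zero] at this
  exact (mul_eq_left.mp this.symm)

theorem ceds2_X_neg (L : RootLift S h) {a b : ι ⊕ ι} (hab : ab a ≠ ab b) (t : K) : L.X a b (-t) = (L.X a b t)⁻¹ := by
  apply eq_inv_of_mul_eq_one_left
  rw [← L.add a b hab, neg_add_cancel, ceds2_X_zero L hab]

theorem ceds2_cj3 (L : RootLift S h) {a c b : ι ⊕ ι} (hac : ab a ≠ ab c) (hcb : ab c ≠ ab b) (hab : ab a ≠ ab b) (t u : K) :
    cj (L.X a c t) (L.X c b u) = L.X a b (t * u) * L.X c b u := by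
  rw [← L.c3 a c b hac hcb hab t u]
  unfold cm cj
  group

theorem ceds2_cj3i (L : RootLift S h) {a c b : ι ⊕ ι} (hac : ab a ≠ ab c) (hcb : ab c ≠ ab b) (hab : ab a ≠ ab b) (t u : K) :
    cj (L.X a c t)⁻¹ (L.X c b u) = L.X a b (-(t * u)) * L.X c b u := by
  rw [← ceds2_X_neg L hac, ceds2_cj3 L hac hcb hab, neg_mul]

theorem ceds2_ab_ng (a : ι ⊕ ι) : ab (ng a) = ab a := by
  cases a <;> rfl

theorem ceds2_ng_ng (a : ι ⊕ ι) : ng (ng a) = a := by
  cases a <;> rfl

/-- S2 [M-L]  **the relation `sso` for the canonical lifts** -/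
theorem sso_lift (hC : HC S σ) (h3 : I3 ι) (L : RootLift S h) {a b : ι ⊕ ι} (hab : ab a ≠ ab b) (t v : K) :
    cm (L.X a b t) (L.X b (ng a) v) = 1 := by
  by_cases ht : t = 0
  · subst ht
    rw [ceds2_X_zero L hab]
    unfold cm; group
  obtain ⟨c, hca, hcb⟩ := h3 a b
  have hba : ab b ≠ ab a := fun e => hab e.symm
  have hac : ab a ≠ ab c := fun e => hca e.symm
  have hbc : ab b ≠ ab c := fun e => hcb e.symm
  -- `s` with `v = t * s`
  obtain ⟨s, rfl⟩ : ∃ s, v = t * s := ⟨t⁻¹ * v, by rw [← mul_assoc, mul_inv_cancel₀ ht, one_mul]⟩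
  have hanb : ab a ≠ ab (ng b) := by rw [ceds2_ab_ng]; exact hab
  have hcnb : ab c ≠ ab (ng b) := by rw [ceds2_ab_ng]; exact hcb
  have hanc : ab a ≠ ab (ng c) := by rw [ceds2_ab_ng]; exact hac
  have hbnc : ab b ≠ ab (ng c) := by rw [ceds2_ab_ng]; exact hbc
  have hbna : ab b ≠ ab (ng a) := by rw [ceds2_ab_ng]; exact hba
  have hcna : ab c ≠ ab (ng a) := by rw [ceds2_ab_ng]; exact hca
  -- the names
  have r_eq : L.X b (ng c) s = L.X c (ng b) (-s) := by
    have := L.sym b (ng c) hbnc s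
    rwa [ceds2_ng_ng] at this
  have P_eq : L.X a (ng b) (-(t * s)) = L.X b (ng a) (t * s) := by
    have := L.sym a (ng b) hanb (-(t * s))
    rwa [ceds2_ng_ng, neg_neg] at this
  have Q_eq : ∀ τ, L.X a (ng c) τ = L.X c (ng a) (-τ) := by
    intro τ
    have := L.sym a (ng c) hanc τ
    rwa [ceds2_ng_ng] at this
  apply ceds2_group (L.X a b t) (L.X b c 1) (L.X b (ng c) s) (L.X b (ng a) (t * s)) (L.X a (ng c) (t * s))
  · -- `β` is central
    intro g
    apply h.comm_of_map_one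
    rw [map_cm, L.map b c hbc, L.map b (ng c) hbnc, cm_eq_one_iff]
    have hbc1 : b ≠ c := fun e => hbc (by rw [e])
    have hbc2 : b ≠ ng c := fun e => hbnc (by rw [e])
    have hcnb1 : c ≠ ng b := fun e => hcnb (by rw [e])
    have hbnc' : ng c ≠ b := fun e => hbnc (by rw [e])
    -- `x b (ng c) s = x c (ng b) (-s)`
    have hs := S.sym b (ng c) hbc2 (by rw [ceds2_ng_ng]; exact hbc1) s
    rw [ceds2_ng_ng] at hs
    rw [hs]
    exact S.sso b c hbc1 hbc2 1 (-s)
  · -- (i)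
    have : cm (L.X a b t) (L.X b c 1) = L.X a c t := by
      rw [L.c3 a b c hab hbc hac, mul_one]
    rw [this, r_eq, ceds2_cj3 L hac hcnb hanb, mul_neg, P_eq]
  · -- (iii)
    exact ceds2_cj3 L hab hbnc hanc t s
  · -- (iii')
    rw [ceds2_cj3i L hab hbnc hanc t s, ceds2_X_neg L hanc]
  · -- (iv) commutation
    have ha1 : a ≠ b := fun e => hab (by rw [e])
    have ha2 : a ≠ ng b := fun e => hanb (by rw [e])
    have ha3 : a ≠ ng c := fun e => hanc (by rw [e])
    have ha4 : a ≠ c := fun e => hac (by rw [e])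
    have hb1 : b ≠ c := fun e => hbc (by rw [e])
    have := hC a b a (ng c) ha1 ha2 ha3 (by rw [ceds2_ng_ng]; exact ha4) ha1.symm ha3
      (by rw [ceds2_ng_ng]; exact hb1) (by intro e; cases a <;> simp [ng] at e) t (t * s)
    exact this _ _ (L.map a b hab t) (L.map a (ng c) hanc (t * s))
  · -- (v)
    rw [← ceds2_X_neg L hanc, Q_eq, neg_neg, ceds2_cj3 L hbc hcna hbna, one_mul]

end Cfsg.Agent.Lib.helper7.CED
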