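import Mathlib
import Cfsg.Agent.Lib.helper7.CED.Defs
import Cfsg.Agent.Lib.helper7.CEDS2
import Cfsg.Agent.Lib.Helper24.STCI1
import Cfsg.Agent.Lib.Helper16.STDX2

/-!
# Project CED (designer helper7), rows S3 (`xF_map`), S4 (`xF_rel`), S5 (`exists_sysD`), VERBATIM vs `helper7/CED/Skel.lean.txt`

The lifted Steinberg system of type `D`: the canonical lifts `xF L` of a `RootLift` satisfy all the relations of `SysD`.
-/

set_option autoImplicit false

namespace Cfsg.Agent.Lib.helper7.CED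

open Cfsg.Agent.Lib.helper15.St2 Cfsg.Agent.Lib.helper7.Ce Cfsg.Agent.Lib.helper3.STC Cfsg.Agent.Lib.Lead.STD
  Cfsg.Agent.Lib.helper7.CEC

section S

variable {K : Type*} [Field K] {ι : Type*} {Γ G : Type*} [Group Γ] [Group G] {S : SysD K ι G} {σ : Γ →* G} {h : IsCE σ}

theorem ceds5_ab_ne {a b : ι ⊕ ι} (hab : a ≠ b) (hab' : a ≠ ng b) : ab a ≠ ab b := by
  intro e
  rcases ab_eq_iff.1 e with e | e
  · exact hab e
  · exact hab' e

theorem ceds5_ne {a b : ι ⊕ ι} (hab : ab a ≠ ab b) : a ≠ b := fun e => hab (by rw [e])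

theorem ceds5_ne' {a b : ι ⊕ ι} (hab : ab a ≠ ab b) : a ≠ ng b := fun e => hab (by rw [e, ceds2_ab_ng])

theorem ceds5_ne'' {a b : ι ⊕ ι} (hab : ab a ≠ ab b) : b ≠ ng a := fun e => hab (by rw [e, ceds2_ab_ng])

/-- `xF` on a root is `L.X`. -/
theorem ceds5_xF (L : RootLift S h) {a b : ι ⊕ ι} (hab : ab a ≠ ab b) (t : K) : xF L a b t = L.X a b t := by
  unfold xF
  rw [if_neg (ceds5_ne hab), if_neg (ceds5_ne'' hab)]

/-- S3 [S]  all the lifts are lifts (`S.diag`, `S.opp`, `L.map`). -/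
theorem xF_map (L : RootLift S h) (a b : ι ⊕ ι) (t : K) : σ (xF L a b t) = S.x a b t := by
  unfold xF
  by_cases h1 : a = b
  · subst h1
    rw [if_pos rfl, map_one, S.diag]
  · rw [if_neg h1]
    by_cases h2 : b = ng a
    · subst h2
      rw [if_pos rfl, map_one, S.opp]
    · rw [if_neg h2]
      apply L.map a b
      intro e
      rcases ab_eq_iff.1 e with e | e
      · exact h1 e
      · exact h2 (by rw [e, ceds2_ng_ng])

/-- S4 [M]  the rank one relation for the lifts. -/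
theorem xF_rel [DecidableEq ι] (hW : S.HW) (L : RootLift S h) {a b : ι ⊕ ι} (hab : ab a ≠ ab b) (t u : K) (ht : t ≠ 0) :
    cj (xF L a b t * xF L b a (-t⁻¹) * xF L a b t) (xF L a b u) = xF L b a (-(t⁻¹ ^ 2 * u)) := by
  have h1 : a ≠ b := ceds5_ne hab
  have h1' : a ≠ ng b := ceds5_ne' hab
  have hba : ab b ≠ ab a := fun e => hab e.symm
  rw [ceds5_xF L hab, ceds5_xF L hba, ceds5_xF L hab, ceds5_xF L hba]
  have hmon := hW a b h1 h1' t ht
  have he : σ (L.X a b t * L.X b a (-t⁻¹) * L.X a b t) = S.w a b t := by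
    rw [map_mul, map_mul, L.map a b hab, L.map b a hba]
    rfl
  have key := L.eqv (S.w a b t) (sws a b) (dwd a b t) hmon (fun k => SysD.sws_ng h1 h1' k) _ he a b hab u
  rw [key, SysD.sws_left h1 h1', SysD.sws_right h1 h1']
  congr 1
  have d1 : dwd a b t a = -t⁻¹ := by
    unfold dwd
    rw [if_pos rfl]
  have d2 : dwd a b t b = t := by
    unfold dwd
    rw [if_neg h1.symm, if_pos rfl]
  rw [d1, d2]
  ring

/-- S5 [M]  the lifted system. -/
theorem exists_sysD [DecidableEq ι] (hC : HC S σ) (hW : S.HW) (h3 : I3 ι) (L : RootLift S h) :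
    ∃ P : SysD K ι Γ, ∀ a b t, σ (P.x a b t) = S.x a b t := by
  refine ⟨{ x := xF L, diag := ?_, opp := ?_, sym := ?_, add := ?_, comm := ?_, comm3 := ?_, sso := ?_, rel := ?_ }, ?_⟩
  · intro a t
    unfold xF
    rw [if_pos rfl]
  · intro a t
    unfold xF
    by_cases e : a = ng a
    · rw [if_pos e]
    · rw [if_neg e, if_pos rfl]
  · intro a b hab hab' t
    have h1 := ceds5_ab_ne hab hab'
    have h2 : ab (ng b) ≠ ab (ng a) := by
      rw [ceds2_ab_ng, ceds2_ab_ng]
      exact fun e => h1 e.symm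
    rw [ceds5_xF L h1, ceds5_xF L h2]
    exact L.sym a b h1 t
  · intro a b hab hab' t u
    have h1 := ceds5_ab_ne hab hab'
    rw [ceds5_xF L h1, ceds5_xF L h1, ceds5_xF L h1]
    exact (L.add a b h1 t u).symm
  · intro a b c d hab hab' hcd hcd' hbc had hbd hac t u
    have h1 := ceds5_ab_ne hab hab'
    have h2 := ceds5_ab_ne hcd hcd'
    rw [ceds5_xF L h1, ceds5_xF L h2]
    exact hC a b c d hab hab' hcd hcd' hbc had hbd hac t u _ _ (L.map a b h1 t) (L.map c d h2 u)
  · intro a b c hab hab' hbc hbc' hac hac' t u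
    have h1 := ceds5_ab_ne hab hab'
    have h2 := ceds5_ab_ne hbc hbc'
    have h3' := ceds5_ab_ne hac hac'
    rw [ceds5_xF L h1, ceds5_xF L h2, ceds5_xF L h3']
    have := L.c3 a b c h1 h2 h3' t u
    unfold cm at this
    exact this
  · intro a b hab hab' t u
    have h1 := ceds5_ab_ne hab hab'
    have h2 : ab b ≠ ab (ng a) := by
      rw [ceds2_ab_ng]
      exact fun e => h1 e.symm
    rw [ceds5_xF L h1, ceds5_xF L h2]
    exact cm_eq_one_iff.1 (sso_lift hC h3 L h1 t u)
  · intro a b hab hab' t u ht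
    exact xF_rel hW L (ceds5_ab_ne hab hab') t u ht
  · intro a b t
    exact xF_map L a b t

end S

end Cfsg.Agent.Lib.helper7.CED
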