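import Mathlib
import Cfsg.Agent.Lib.Helper19.G2V.Defs

/-!
# G2V row L2 (`cover2`), helper7.  Verbatim statement of `Helper19/G2V/Skel.lean.txt`.
-/

set_option autoImplicit false

namespace Cfsg.Agent.Lib.Helper19.G2V

open Cfsg.Lie Cfsg.Lie.ChevalleyDatum Matrix
open Cfsg.Agent.Lib.helper8
open Cfsg.Agent.Lib.helper23.P4V

universe u

variable {F : Type u} [Field F]

/-- `cover2` without the (unused) cardinality hypothesis, for explicit entries -/
theorem g2vl2_aux (ν : F) (hν : ν ≠ 0) (a b c d : F) (hA : a * d - b * c ≠ 0) :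
    ∃ t β : F, t ≠ 0 ∧ InSig ν (!![1, β; 0, t] * !![a, b; c, d]) := by
  by_cases hc : c = 0
  · subst hc
    have had : a * d ≠ 0 := by simpa using hA
    have ha : a ≠ 0 := left_ne_zero_of_mul had
    have hd : d ≠ 0 := right_ne_zero_of_mul had
    by_cases haν : a = ν
    · refine ⟨ν / d, -b / d, div_ne_zero hν hd, Or.inl ?_⟩
      rw [Matrix.mul_fin_two, haν]
      ext i j
      fin_cases i <;> fin_cases j <;> simp <;> field_simp <;> ring
    · refine ⟨ν ^ 2 / (a * d), (1 - b) / d, div_ne_zero (pow_ne_zero 2 hν) had, Or.inr ⟨?_, ?_, ?_⟩⟩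
      · rw [Matrix.mul_fin_two, Matrix.det_fin_two_of]
        field_simp
        ring
      · rw [Matrix.mul_fin_two, Matrix.trace_fin_two_of]
        intro h
        have h2 : (a - ν) ^ 2 = 0 := by
          have h3 : 1 * a + (1 - b) / d * 0 + (0 * b + ν ^ 2 / (a * d) * d) = a + ν ^ 2 / a := by
            field_simp
            ring
          rw [h3] at h
          have h4 : a * (a + ν ^ 2 / a) = a * (2 * ν) := by rw [h]
          have h5 : a * (a + ν ^ 2 / a) = a ^ 2 + ν ^ 2 := by field_simp
          rw [h5] at h4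
          linear_combination h4
        exact haν (sub_eq_zero.1 ((pow_eq_zero_iff (two_ne_zero)).1 h2))
      · rintro ⟨c', hc'⟩
        rw [Matrix.mul_fin_two] at hc'
        have h01 := congrFun (congrFun hc' 0) 1
        simp at h01
        field_simp at h01
        apply one_ne_zero (α := F)
        linear_combination h01
  · have hdet : a * d - b * c ≠ 0 := hA
    refine ⟨ν ^ 2 / (a * d - b * c), (2 * ν - a - ν ^ 2 / (a * d - b * c) * d) / c + 1,
      div_ne_zero (pow_ne_zero 2 hν) hdet, Or.inr ⟨?_, ?_, ?_⟩⟩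
    · rw [Matrix.mul_fin_two, Matrix.det_fin_two_of]
      field_simp
      ring
    · rw [Matrix.mul_fin_two, Matrix.trace_fin_two_of]
      intro h
      apply hc
      have h3 : 1 * a + ((2 * ν - a - ν ^ 2 / (a * d - b * c) * d) / c + 1) * c +
          (0 * b + ν ^ 2 / (a * d - b * c) * d) = 2 * ν + c := by
        field_simp
        ring
      rw [h3] at h
      linear_combination h
    · rintro ⟨c', hc'⟩
      rw [Matrix.mul_fin_two] at hc'
      have h10 := congrFun (congrFun hc' 1) 0
      simp at h10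
      rcases h10 with (h | h) | h
      · exact hν h
      · exact hdet h
      · exact hc h

set_option linter.unusedVariables false in
/-- **L2**. -/
theorem cover2 [Fintype F] (h3 : 3 ≤ Fintype.card F) (ν : F) (hν : ν ≠ 0) (A : M2 F) (hA : A.det ≠ 0) :
    ∃ t β : F, t ≠ 0 ∧ InSig ν (!![1, β; 0, t] * A) := by
  have hA' : A 0 0 * A 1 1 - A 0 1 * A 1 0 ≠ 0 := by
    rw [← Matrix.det_fin_two]; exact hA
  obtain ⟨t, β, ht, h⟩ := g2vl2_aux ν hν (A 0 0) (A 0 1) (A 1 0) (A 1 1) hA'
  refine ⟨t, β, ht, ?_⟩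
  rw [← Matrix.eta_fin_two A] at h
  exact h

end Cfsg.Agent.Lib.Helper19.G2V
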