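import Mathlib
import Cfsg.Agent.Lib.Helper24.KleinSylow

/-!
Klein four subgroup `P` and a subgroup `T ≤ N_G(P)` with `|T : C_G(P)| = 3`: `T` is transitive on
the involutions of `P` (h7_kd_transitive).
-/

set_option autoImplicit false
set_option linter.style.haveILetI false
set_option linter.unusedSectionVars false
set_option linter.unusedVariables false
set_option maxHeartbeats 1600000

namespace Cfsg.Agent.Lib.helper7

open Cfsg.Agent.Lib.Helper24

variable {G : Type*} [Group G]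

theorem h7_kd_pow_mem [Finite G] (P T : Subgroup G)
    (hTN : T ≤ Subgroup.normalizer (P : Set G)) (n : ℕ)
    (hn : (Subgroup.centralizer (P : Set G)).relIndex T = n) (t : G) (ht : t ∈ T) :
    t ^ n ∈ Subgroup.centralizer (P : Set G) := by
  set ψ : T →* MulAut P := P.normalizerMonoidHom.comp (Subgroup.inclusion hTN) with hψ
  have hker : ψ.ker = (Subgroup.centralizer (P : Set G)).subgroupOf T := by
    rw [hψ, ← MonoidHom.comap_ker, Subgroup.normalizerMonoidHom_ker,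
      Subgroup.comap_inclusion_subgroupOf]
  have h1 : ψ.ker.index = n := by
    rw [hker]
    exact hn
  have h2 := Subgroup.pow_index_mem ψ.ker (⟨t, ht⟩ : T)
  rw [h1, hker, Subgroup.mem_subgroupOf] at h2
  exact h2

theorem h7_kd_sq_conj (t y : G) : t ^ 2 * y * (t ^ 2)⁻¹ = t * (t * y * t⁻¹) * t⁻¹ := by
  rw [pow_two, mul_inv_rev]
  simp only [mul_assoc]

theorem h7_kd_cube_sq (t : G) : t = t ^ 3 * (t ^ 2)⁻¹ := by
  rw [pow_succ' t 2, mul_assoc, mul_inv_cancel, mul_one]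

theorem h7_kd_comm_of_two (P : Subgroup G) (hV : IsKleinFour P) (y s : G) (hy : y ∈ P)
    (hs : s ∈ P) (hy1 : y ≠ 1) (hs1 : s ≠ 1) (hys : y ≠ s) (t : G)
    (h1 : t * y * t⁻¹ = y) (h2 : t * s * t⁻¹ = s) : t ∈ Subgroup.centralizer (P : Set G) := by
  rw [Subgroup.mem_centralizer_iff]
  intro z hz
  have hty : t * y = y * t := by
    calc t * y = (t * y * t⁻¹) * t := by group
      _ = y * t := by rw [h1]
  have hts : t * s = s * t := by
    calc t * s = (t * s * t⁻¹) * t := by group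
      _ = s * t := by rw [h2]
  rcases ks_elems P hV hy hs hy1 hs1 hys hz with h | h | h | h
  · rw [h, one_mul, mul_one]
  · rw [h, hty]
  · rw [h, hts]
  · rw [h, mul_assoc, ← hts, ← mul_assoc, ← hty, mul_assoc]

theorem h7_kd_free [Finite G] (P T : Subgroup G) (hV : IsKleinFour P)
    (hTN : T ≤ Subgroup.normalizer (P : Set G))
    (h3 : (Subgroup.centralizer (P : Set G)).relIndex T = 3) (t : G) (ht : t ∈ T)
    (y : G) (hy : y ∈ P) (hy1 : y ≠ 1) (hty : t * y * t⁻¹ = y) :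
    t ∈ Subgroup.centralizer (P : Set G) := by
  obtain ⟨a, b, ha, hb, ha1, hb1, hab⟩ := ks_exists P hV
  obtain ⟨s, hs, hs1, hsy⟩ : ∃ s ∈ P, s ≠ 1 ∧ y ≠ s := by
    by_cases hay : a = y
    · exact ⟨b, hb, hb1, fun h => hab (hay.trans h)⟩
    · exact ⟨a, ha, ha1, fun h => hay h.symm⟩
  have hyy : y * y = 1 := ks_sq P hV hy
  have hmem : t * s * t⁻¹ ∈ P := (Subgroup.mem_normalizer_iff.mp (hTN ht) s).mp hs
  have hne1 : t * s * t⁻¹ ≠ 1 := by
    intro h
    apply hs1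
    have : s = t⁻¹ * (t * s * t⁻¹) * t := by group
    rw [this, h]
    group
  have hney : t * s * t⁻¹ ≠ y := by
    intro h
    apply hsy
    have h' : t * s * t⁻¹ = t * y * t⁻¹ := h.trans hty.symm
    have : s = t⁻¹ * (t * s * t⁻¹) * t := by group
    rw [this, h']
    group
  rcases ks_elems P hV hy hs hy1 hs1 hsy hmem with h | h | h | h
  · exact absurd h hne1
  · exact absurd h hney
  · exact h7_kd_comm_of_two P hV y s hy hs hy1 hs1 hsy t hty h
  · -- `t` swaps `s` and `y s`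
    have h2y : t ^ 2 * y * (t ^ 2)⁻¹ = y := by
      calc t ^ 2 * y * (t ^ 2)⁻¹ = t * (t * y * t⁻¹) * t⁻¹ := h7_kd_sq_conj t y
        _ = y := by rw [hty, hty]
    have h2s : t ^ 2 * s * (t ^ 2)⁻¹ = s := by
      calc t ^ 2 * s * (t ^ 2)⁻¹ = t * (t * s * t⁻¹) * t⁻¹ := h7_kd_sq_conj t s
        _ = t * (y * s) * t⁻¹ := by rw [h]
        _ = (t * y * t⁻¹) * (t * s * t⁻¹) := by group
        _ = y * (y * s) := by rw [hty, h]
        _ = s := by rw [← mul_assoc, hyy, one_mul]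
    have hc2 := h7_kd_comm_of_two P hV y s hy hs hy1 hs1 hsy (t ^ 2) h2y h2s
    have hc3 := h7_kd_pow_mem P T hTN 3 h3 t ht
    have : t = t ^ 3 * (t ^ 2)⁻¹ := h7_kd_cube_sq t
    rw [this]
    exact Subgroup.mul_mem _ hc3 (Subgroup.inv_mem _ hc2)

theorem h7_kd_transitive [Finite G] (P T : Subgroup G) (hV : IsKleinFour P)
    (hTN : T ≤ Subgroup.normalizer (P : Set G))
    (h3 : (Subgroup.centralizer (P : Set G)).relIndex T = 3)
    (y : G) (hy : y ∈ P) (hy1 : y ≠ 1) (y' : G) (hy' : y' ∈ P) (hy'1 : y' ≠ 1) :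
    ∃ t ∈ T, t * y * t⁻¹ = y' := by
  have hnot : ¬ T ≤ Subgroup.centralizer (P : Set G) := by
    intro h
    have := Subgroup.relIndex_eq_one.mpr h
    omega
  obtain ⟨t, ht, htC⟩ := SetLike.not_le_iff_exists.mp hnot
  have hfree := h7_kd_free P T hV hTN h3
  set y₁ := t * y * t⁻¹ with hy₁
  have hy₁P : y₁ ∈ P := (Subgroup.mem_normalizer_iff.mp (hTN ht) y).mp hy
  have hy₁1 : y₁ ≠ 1 := by
    intro h
    apply hy1
    have : y = t⁻¹ * y₁ * t := by rw [hy₁]; group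
    rw [this, h]
    group
  have hy₁y : y ≠ y₁ := fun h => htC (hfree t ht y hy hy1 h.symm)
  set y₂ := t * y₁ * t⁻¹ with hy₂
  have hy₂P : y₂ ∈ P := (Subgroup.mem_normalizer_iff.mp (hTN ht) y₁).mp hy₁P
  have hy₂1 : y₂ ≠ 1 := by
    intro h
    apply hy₁1
    have : y₁ = t⁻¹ * y₂ * t := by rw [hy₂]; group
    rw [this, h]
    group
  have hy₂y₁ : y₂ ≠ y₁ := fun h => htC (hfree t ht y₁ hy₁P hy₁1 h)
  have hy₂y : y₂ ≠ y := by
    intro h
    have h2 : t ^ 2 * y * (t ^ 2)⁻¹ = y := by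
      calc t ^ 2 * y * (t ^ 2)⁻¹ = t * (t * y * t⁻¹) * t⁻¹ := h7_kd_sq_conj t y
        _ = y := h
    have hc2 := hfree (t ^ 2) (Subgroup.pow_mem _ ht 2) y hy hy1 h2
    have hc3 := h7_kd_pow_mem P T hTN 3 h3 t ht
    apply htC
    have : t = t ^ 3 * (t ^ 2)⁻¹ := h7_kd_cube_sq t
    rw [this]
    exact Subgroup.mul_mem _ hc3 (Subgroup.inv_mem _ hc2)
  have hy₂eq : y₂ = y * y₁ := by
    rcases ks_elems P hV hy hy₁P hy1 hy₁1 hy₁y hy₂P with h | h | h | h
    · exact absurd h hy₂1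
    · exact absurd h hy₂y
    · exact absurd h hy₂y₁
    · exact h
  rcases ks_elems P hV hy hy₁P hy1 hy₁1 hy₁y hy' with h | h | h | h
  · exact absurd h hy'1
  · exact ⟨1, Subgroup.one_mem _, by rw [h]; group⟩
  · exact ⟨t, ht, by rw [h]⟩
  · refine ⟨t ^ 2, Subgroup.pow_mem _ ht 2, ?_⟩
    rw [h, ← hy₂eq, hy₂, hy₁]
    exact h7_kd_sq_conj t y

end Cfsg.Agent.Lib.helper7
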