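import Mathlib
import Cfsg.Prelude.Def_Blocks
import Cfsg.Prelude.Def_BlockRank
import Cfsg.Prelude.Def_BrauerPairs
import Cfsg.Agent.Lib.helper7.KleinDef5
import Cfsg.Agent.Lib.helper7.KleinDef8

/-!
Klein four defect groups: `l(B) = e` (h7_kd_rank_main).
-/

set_option autoImplicit false
set_option linter.style.haveILetI false
set_option linter.unusedSectionVars false
set_option linter.unusedVariables false
set_option maxHeartbeats 1600000

namespace Cfsg.Agent.Lib.helper7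

open Cfsg.Agent.Lib.helper2 Cfsg.Agent.Lib.Helper25 Cfsg.Agent.Lib.Helper24

variable {G : Type*} [Group G]

theorem h7_kd_conj_ne_one (x g : G) (hx : x ≠ 1) : g * x * g⁻¹ ≠ 1 := by
  intro h
  apply hx
  have : x = g⁻¹ * (g * x * g⁻¹) * g := by group
  rw [this, h]
  group

/-- inertial index three -/
theorem h7_kd_rank_three [Fintype G] [DecidableEq G] (M : Ideal Cfsg.AlgInt)
    (hM : Cfsg.IsPModular 2 M) (B : Set (Cfsg.IrrCharacter G)) (hB : Cfsg.IsPBlock M B)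
    (P : Subgroup G) (hV : IsKleinFour P)
    (c : Set (Cfsg.IrrCharacter (Subgroup.centralizer (P : Set G))))
    (hmax : Cfsg.IsMaximalBrauerPair 2 M B P c)
    (hd : Cfsg.blockDefect 2 B = 2) (hcard : Nat.card B = 4) (T : Subgroup G)
    (hT : ∀ g : G, g ∈ T ↔ (g ∈ Subgroup.normalizer (P : Set G) ∧
      Cfsg.StabilizesBlock (Subgroup.centralizer (P : Set G)) c g))
    (h3 : (Subgroup.centralizer (P : Set G)).relIndex T = 3) : Cfsg.blockRank 2 B = 3 := by
  classical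
  haveI : Fact (Nat.Prime 2) := ⟨Nat.prime_two⟩
  have hPr := hM.2.1.isPrime
  have hTN : T ≤ Subgroup.normalizer (P : Set G) := fun g hg => ((hT g).mp hg).1
  obtain ⟨X, h1X, hXp, hXrep, hform⟩ := h7_kd_brauer 2 M hM B hB
  rw [hcard] at hform
  have htransT := h7_kd_transitive P T hV hTN h3
  have htrans : ∀ y ∈ P, y ≠ 1 → ∀ y' ∈ P, y' ≠ 1 → ∃ t : G,
      t ∈ Subgroup.normalizer (P : Set G) ∧
      Cfsg.StabilizesBlock (Subgroup.centralizer (P : Set G)) c t ∧ t * y * t⁻¹ = y' := by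
    intro y hy hy1 y' hy' hy'1
    obtain ⟨t, ht, hty⟩ := htransT y hy hy1 y' hy' hy'1
    exact ⟨t, ((hT t).mp ht).1, ((hT t).mp ht).2, hty⟩
  obtain ⟨y₀, -, hy₀, -, hy₀1, -, -⟩ := ks_exists P hV
  have hy₀2 : orderOf y₀ = 2 := ks_order_two P hV hy₀ hy₀1
  have hy₀p : ∃ k : ℕ, orderOf y₀ = 2 ^ k := ⟨1, by rw [hy₀2, pow_one]⟩
  -- the count at `y₀` is one
  have hny₀ : h7_kd_n 2 M B y₀ = 1 := by
    rw [h7_kd_n_invol M hM B (le_of_eq hd) y₀ hy₀2]
    obtain ⟨f₀, hf₀, hle₀⟩ := bq_subpair_exists 2 M hM P c hmax.1.1 (Subgroup.zpowers y₀)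
      (Subgroup.zpowers_le.mpr hy₀)
    have hpair₀ := (bq_pairOf_le 2 M hM P _ c f₀ hle₀ B).mp hmax.1
    have : {f : Set (Cfsg.IrrCharacter
        (Subgroup.centralizer (Subgroup.zpowers y₀ : Set G))) |
        Cfsg.IsBrauerPairOf 2 M B (Subgroup.zpowers y₀) f} = {f₀} := by
      ext f
      rw [Set.mem_singleton_iff]
      constructor
      · intro hf
        have hle := h7_kd_pair_le 2 M hM B P c hmax htrans y₀ hy₀ hy₀1 f hf
        exact bq_subpair_unique 2 M hM P c hmax.1.1 _ f f₀ hle hle₀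
      · intro hf
        rw [hf]
        exact hpair₀
    rw [this, Set.ncard_singleton]
  -- the representative of `y₀`
  obtain ⟨x₀, ⟨hx₀X, hx₀c⟩, hx₀u⟩ := hXrep y₀ hy₀p
  have hx₀1 : x₀ ≠ 1 := by
    intro h
    rw [h] at hx₀c
    exact hy₀1 (isConj_one_left.mp hx₀c)
  have hx₀E : x₀ ∈ X.erase 1 := Finset.mem_erase.mpr ⟨hx₀1, hx₀X⟩
  have hnx₀ : h7_kd_n 2 M B x₀ = 1 := by
    rw [← h7_kd_n_conj 2 M hM B hB y₀ x₀ hy₀p hx₀c]
    exact hny₀
  have hsum : ∑ x ∈ X.erase 1, h7_kd_n 2 M B x = 1 := by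
    rw [Finset.sum_eq_single_of_mem x₀ hx₀E]
    · exact hnx₀
    · intro x hx hne
      by_contra hn
      obtain ⟨hx1, hxX⟩ := Finset.mem_erase.mp hx
      obtain ⟨f, hf⟩ := h7_kd_n_ne_zero 2 M hM B x (hXp x hxX) hn
      obtain ⟨g, hg⟩ := h7_kd_conj_into 2 M hM B P c hmax x f hf
      obtain ⟨t, -, hty⟩ := htransT _ hg (h7_kd_conj_ne_one x g hx1) y₀ hy₀ hy₀1
      apply hne
      apply hx₀u
      refine ⟨hxX, ?_⟩
      rw [isConj_iff]
      refine ⟨(t * g)⁻¹, ?_⟩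
      rw [← hty]
      group
  rw [hsum] at hform
  omega

/-- inertial index one -/
theorem h7_kd_rank_one [Fintype G] [DecidableEq G] (M : Ideal Cfsg.AlgInt)
    (hM : Cfsg.IsPModular 2 M) (B : Set (Cfsg.IrrCharacter G)) (hB : Cfsg.IsPBlock M B)
    (P : Subgroup G) (hV : IsKleinFour P)
    (c : Set (Cfsg.IrrCharacter (Subgroup.centralizer (P : Set G))))
    (hmax : Cfsg.IsMaximalBrauerPair 2 M B P c)
    (hcard : Nat.card B = 4) (T : Subgroup G)
    (hT : ∀ g : G, g ∈ T ↔ (g ∈ Subgroup.normalizer (P : Set G) ∧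
      Cfsg.StabilizesBlock (Subgroup.centralizer (P : Set G)) c g))
    (h1 : (Subgroup.centralizer (P : Set G)).relIndex T = 1) : Cfsg.blockRank 2 B = 1 := by
  classical
  haveI : Fact (Nat.Prime 2) := ⟨Nat.prime_two⟩
  haveI : Fintype (Cfsg.IrrCharacter G) := Fintype.ofFinite _
  have hPr := hM.2.1.isPrime
  have hTC : T ≤ Subgroup.centralizer (P : Set G) := Subgroup.relIndex_eq_one.mp h1
  have hstab : ∀ t : G, t ∈ Subgroup.normalizer (P : Set G) →
      Cfsg.StabilizesBlock (Subgroup.centralizer (P : Set G)) c t →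
      t ∈ Subgroup.centralizer (P : Set G) := fun t h1 h2 => hTC ((hT t).mpr ⟨h1, h2⟩)
  have hab : ∀ x ∈ P, ∀ y ∈ P, x * y = y * x := fun x hx y hy => ks_comm P hV hx hy
  obtain ⟨X, h1X, hXp, hXrep, hform⟩ := h7_kd_brauer 2 M hM B hB
  rw [hcard] at hform
  -- positivity of the rank
  have hpos : 0 < Cfsg.blockRank 2 B := by
    obtain ⟨χ₀, rfl⟩ := hB
    exact sd_rank_pos 2 _ χ₀ (h7_sameBlock_refl hPr _)
  -- the nontrivial elements of `P`
  set Ps : Finset G := (Finset.univ.filter (fun y : G => y ∈ P)).erase 1 with hPs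
  have hPs_card : Ps.card = 3 := by
    have h4 : Nat.card P = 4 := IsKleinFour.card_four
    have h5 : (Finset.univ.filter (fun y : G => y ∈ P)).card = 4 := by
      rw [← h4, Nat.card_eq_fintype_card, Fintype.card_subtype]
    rw [hPs, Finset.card_erase_of_mem (Finset.mem_filter.mpr ⟨Finset.mem_univ _, P.one_mem⟩), h5]
  have hPs_mem : ∀ y ∈ Ps, y ∈ P ∧ y ≠ 1 := by
    intro y hy
    rw [hPs, Finset.mem_erase, Finset.mem_filter] at hy
    exact ⟨hy.2.2, hy.1⟩
  have hPs_p : ∀ y ∈ Ps, ∃ k : ℕ, orderOf y = 2 ^ k := by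
    intro y hy
    obtain ⟨h1, h2⟩ := hPs_mem y hy
    exact ⟨1, by rw [ks_order_two P hV h1 h2, pow_one]⟩
  -- representatives
  set r : G → G := fun y => if h : ∃ k : ℕ, orderOf y = 2 ^ k then
    Classical.choose (hXrep y h).exists else 1 with hr
  have hr_spec : ∀ y ∈ Ps, r y ∈ X ∧ IsConj y (r y) := by
    intro y hy
    simp only [hr, dif_pos (hPs_p y hy)]
    exact Classical.choose_spec (hXrep y (hPs_p y hy)).exists
  have hr_mem : ∀ y ∈ Ps, r y ∈ X.erase 1 := by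
    intro y hy
    obtain ⟨h1, h2⟩ := hr_spec y hy
    refine Finset.mem_erase.mpr ⟨?_, h1⟩
    intro h
    rw [h] at h2
    exact (hPs_mem y hy).2 (isConj_one_left.mp h2)
  have hfib := Finset.card_eq_sum_card_fiberwise (s := Ps) (t := X.erase 1) (f := r) hr_mem
  have hle : ∀ x ∈ X.erase 1, (Ps.filter (fun y => r y = x)).card ≤ h7_kd_n 2 M B x := by
    intro x hx
    obtain ⟨hx1, hxX⟩ := Finset.mem_erase.mp hx
    have hA : ∀ y ∈ Ps.filter (fun y => r y = x), y ∈ P ∧ IsConj y x := by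
      intro y hy
      obtain ⟨hyPs, hyx⟩ := Finset.mem_filter.mp hy
      refine ⟨(hPs_mem y hyPs).1, ?_⟩
      rw [← hyx]
      exact (hr_spec y hyPs).2
    exact (h7_kd_count 2 M hM B P c hmax hab hstab x _ hA).trans
      (h7_kd_n_ge 2 M hM B x (hXp x hxX))
  have hsum : 3 ≤ ∑ x ∈ X.erase 1, h7_kd_n 2 M B x := by
    rw [← hPs_card, hfib]
    exact Finset.sum_le_sum hle
  omega

end Cfsg.Agent.Lib.helper7
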