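import Cfsg.Agent.Lib.Helper19.U3P.Defs

/-! Project U3P (designer helper19; S2289), row F3 (`norm_gen`), by helper7. -/

namespace Cfsg.Agent.Lib.Helper19.U3P

open Cfsg.Agent.Lib.helper17.SLP Cfsg.Agent.Lib.helper14.SU3J Cfsg.Agent.Lib.Helper25.SU3P
open Polynomial Matrix

universe u v

section F0

variable {F : Type u} [Field F] [Fintype F] {q : ℕ}

theorem u3pf3_two_le (hF : Fintype.card F = q ^ 2) : 2 ≤ q := by
  have h1 : 1 < Fintype.card F := Fintype.one_lt_card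
  rw [hF] at h1
  rcases Nat.lt_or_ge q 2 with h | h
  · interval_cases q <;> simp at h1
  · exact h

theorem u3pf3_mul (hq : 2 ≤ q) : (q + 1) * (q - 1) = q ^ 2 - 1 := by
  obtain ⟨r, rfl⟩ : ∃ r, q = r + 1 := ⟨q - 1, by omega⟩
  simp only [Nat.add_sub_cancel]
  have : (r + 1) ^ 2 = (r + 1 + 1) * r + 1 := by ring
  omega

/-- F3 [M] -/
theorem norm_gen {K : Type u} [Field K] [Fintype K] (hF : Fintype.card F = q ^ 2) (hK : Fintype.card K = q)
    (σ : F →+* F) (hσ : ∀ x, σ x = x ^ q) (ι : K →+* F) (hι : ∀ x : F, σ x = x ↔ ∃ y : K, ι y = x)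
    (ζ : Fˣ) (hζ : ∀ y : Fˣ, y ∈ Subgroup.zpowers ζ) :
    ∃ bK : Kˣ, ι (bK : K) = (ζ : F) * σ (ζ : F) ∧ ∀ y : Kˣ, y ∈ Subgroup.zpowers bK := by
  classical
  have hq := u3pf3_two_le hF
  have hord : orderOf ζ = q ^ 2 - 1 := by
    rw [orderOf_eq_card_of_forall_mem_zpowers hζ, Nat.card_eq_fintype_card, Fintype.card_units, hF]
  have hN : (ζ : F) * σ (ζ : F) = ((ζ ^ (q + 1) : Fˣ) : F) := by
    rw [hσ, pow_succ, mul_comm]; push_cast; rfl
  have hfix : σ ((ζ : F) * σ (ζ : F)) = (ζ : F) * σ (ζ : F) := by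
    have h1 : σ (σ (ζ : F)) = (ζ : F) := by
      rw [hσ, hσ, ← pow_mul, ← pow_two, ← hF]
      exact FiniteField.pow_card _
    rw [map_mul, h1, mul_comm]
  obtain ⟨y, hy⟩ := (hι _).1 hfix
  have hy0 : y ≠ 0 := by
    rintro rfl
    rw [map_zero, hN] at hy
    exact (Units.ne_zero _) hy.symm
  refine ⟨Units.mk0 y hy0, hy, ?_⟩
  have ho : orderOf (Units.mk0 y hy0) = q - 1 := by
    rw [← orderOf_units, Units.val_mk0, ← orderOf_injective (ι : K →* F) ι.injective y]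
    change orderOf (ι y) = q - 1
    rw [hy, hN, orderOf_units,
      orderOf_pow_of_dvd (by omega) (by rw [hord, ← u3pf3_mul hq]; exact dvd_mul_right _ _), hord,
      ← u3pf3_mul hq, Nat.mul_div_cancel_left _ (by omega)]
  have htop : Subgroup.zpowers (Units.mk0 y hy0) = ⊤ := by
    apply Subgroup.eq_top_of_card_eq
    rw [Nat.card_zpowers, ho, Nat.card_eq_fintype_card, Fintype.card_units, hK]
  intro z
  rw [htop]
  exact Subgroup.mem_top _

end F0

end Cfsg.Agent.Lib.Helper19.U3P
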