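import Cfsg.Agent.Lib.Helper19.U3P.Defs
import Cfsg.Agent.Lib.Helper18.U3PF1

/-! Project U3P (designer helper19; S2289), row F2 (`exists_fix`), by helper7. -/

namespace Cfsg.Agent.Lib.Helper19.U3P

open Cfsg.Agent.Lib.helper17.SLP Cfsg.Agent.Lib.helper14.SU3J Cfsg.Agent.Lib.Helper25.SU3P
open Polynomial Matrix

universe u v

section F0

variable {F : Type u} [Field F] [Fintype F] {q : ℕ}

/-- F2 [S-M] -/
theorem exists_fix (hF : Fintype.card F = q ^ 2) (σ : F →+* F) (hσ : ∀ x, σ x = x ^ q) :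
    ∃ (K : Type u) (_ : Field K) (_ : Fintype K) (ι : K →+* F), Fintype.card K = q ∧
      ∀ x : F, σ x = x ↔ ∃ y : K, ι y = x := by
  classical
  obtain ⟨-, hcard⟩ := trace_surj hF σ hσ
  let S : Subfield F := RingHom.eqLocusField σ (RingHom.id F)
  have hmem : ∀ x : F, x ∈ S ↔ σ x = x := fun x => Iff.rfl
  refine ⟨↥S, inferInstance, Fintype.ofFinite _, S.subtype, ?_, ?_⟩
  · rw [← hcard]
    have h1 : @Fintype.card ↥S (Fintype.ofFinite _) = Nat.card ↥S :=
      (@Nat.card_eq_fintype_card ↥S (Fintype.ofFinite _)).symm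
    rw [h1]
    exact Nat.card_congr (Equiv.subtypeEquivRight hmem)
  · intro x
    constructor
    · intro hx
      exact ⟨⟨x, (hmem x).2 hx⟩, rfl⟩
    · rintro ⟨y, rfl⟩
      exact (hmem _).1 y.2

end F0

end Cfsg.Agent.Lib.Helper19.U3P
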