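import Cfsg.Agent.Lib.helper7.NCVB0

/-! Project NCV, rows B1, B2, B5, B6 (fixed vectors / eigenvalues of the Jordan block `uJ`). -/

set_option autoImplicit false

namespace Cfsg.Agent.Lib.helper7.NCV

open Matrix

universe u

variable {F : Type u} [Field F] {n : ℕ}

theorem uJ_fix (m : ℕ) (w : Fin (m + 3) → F) (h : uJ m *ᵥ w = w) :
    ∃ c : F, w = c • (Pi.single (Fin.last (m + 2)) 1 : Fin (m + 3) → F) := by
  have h0 : ∀ i : Fin (m + 2), w i.castSucc = 0 := by
    intro i
    have h1 := congrFun h i.succ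
    rw [uJ_mulVec_succ] at h1
    exact left_eq_add.mp h1.symm
  refine ⟨w (Fin.last (m + 2)), ?_⟩
  funext j
  by_cases hj : j = Fin.last (m + 2)
  · subst hj
    simp
  · obtain ⟨i, rfl⟩ := Fin.exists_castSucc_eq.2 hj
    rw [h0 i]
    simp [Pi.single_apply, hj]

theorem uJ_eig (m : ℕ) (c : F) (w : Fin (m + 3) → F) (hw : w ≠ 0) (h : uJ m *ᵥ w = c • w) :
    c = 1 := by
  by_contra hc
  apply hw
  have hc' : c - 1 ≠ 0 := sub_ne_zero.2 hc
  funext j
  induction j using Fin.induction with
  | zero =>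
    have h1 := congrFun h 0
    rw [uJ_mulVec_zero] at h1
    simp only [Pi.smul_apply, smul_eq_mul] at h1
    have : (c - 1) * w 0 = 0 := by rw [sub_mul, ← h1]; ring
    rcases mul_eq_zero.1 this with h2 | h2
    · exact absurd h2 hc'
    · simpa using h2
  | succ i ih =>
    have h1 := congrFun h i.succ
    rw [uJ_mulVec_succ] at h1
    simp only [Pi.smul_apply, smul_eq_mul, Pi.zero_apply] at h1 ih ⊢
    rw [ih, add_zero] at h1
    have : (c - 1) * w i.succ = 0 := by rw [sub_mul, ← h1]; ring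
    rcases mul_eq_zero.1 this with h2 | h2
    · exact absurd h2 hc'
    · exact h2

theorem uJ_rowfix (m : ℕ) (w : Fin (m + 3) → F) (h : w ᵥ* uJ m = w) :
    ∃ c : F, w = c • (Pi.single 0 1 : Fin (m + 3) → F) := by
  have h0 : ∀ i : Fin (m + 2), w i.succ = 0 := by
    intro i
    have h1 := congrFun h i.castSucc
    rw [uJ_vecMul_castSucc] at h1
    exact left_eq_add.mp h1.symm
  refine ⟨w 0, ?_⟩
  funext j
  by_cases hj : j = 0
  · subst hj
    simp
  · obtain ⟨i, rfl⟩ := Fin.exists_succ_eq.2 hj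
    rw [h0 i]
    simp [Pi.single_apply, hj]

theorem uJ_roweig (m : ℕ) (c : F) (w : Fin (m + 3) → F) (hw : w ≠ 0) (h : w ᵥ* uJ m = c • w) :
    c = 1 := by
  by_contra hc
  apply hw
  have hc' : c - 1 ≠ 0 := sub_ne_zero.2 hc
  funext j
  induction j using Fin.reverseInduction with
  | last =>
    have h1 := congrFun h (Fin.last (m + 2))
    rw [uJ_vecMul_last] at h1
    simp only [Pi.smul_apply, smul_eq_mul] at h1
    have : (c - 1) * w (Fin.last (m + 2)) = 0 := by rw [sub_mul, ← h1]; ring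
    rcases mul_eq_zero.1 this with h2 | h2
    · exact absurd h2 hc'
    · simpa using h2
  | cast i ih =>
    have h1 := congrFun h i.castSucc
    rw [uJ_vecMul_castSucc] at h1
    simp only [Pi.smul_apply, smul_eq_mul, Pi.zero_apply] at h1 ih ⊢
    rw [ih, add_zero] at h1
    have : (c - 1) * w i.castSucc = 0 := by rw [sub_mul, ← h1]; ring
    rcases mul_eq_zero.1 this with h2 | h2
    · exact absurd h2 hc'
    · exact h2

end Cfsg.Agent.Lib.helper7.NCV
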