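import Mathlib

/-!
# OCG row N1 (`two_part_order`), helper7.
Verbatim statement of `Helper18/OCT/Skel.lean.txt`.
-/

set_option autoImplicit false

namespace Cfsg.Agent.Lib.Helper18.OCT

section N

theorem ocgn1_fact_odd (n : ℕ) (hn : Odd n) : n.factorization 2 = 0 := by
  apply Nat.factorization_eq_zero_of_not_dvd
  intro h
  exact (Nat.not_even_iff_odd.2 hn) (even_iff_two_dvd.2 h)

theorem ocgn1_fact_two_mul_odd (k : ℕ) (hk : Odd k) : (2 * k).factorization 2 = 1 := by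
  have hk0 : k ≠ 0 := by
    rintro rfl
    exact absurd hk (by decide)
  rw [Nat.factorization_mul (by norm_num) hk0, Finsupp.add_apply, Nat.prime_two.factorization_self,
    ocgn1_fact_odd k hk]

/-- **N1**. -/
theorem two_part_order (q : ℕ) (hodd : Odd q) (hq : 2 ≤ q) :
    (q ^ 6 * (q ^ 6 - 1) * (q ^ 2 - 1)).factorization 2 = 2 * (q ^ 2 - 1).factorization 2 := by
  obtain ⟨m, hm⟩ : ∃ m, q ^ 2 = m + 1 := ⟨q ^ 2 - 1, by
    have : 1 ≤ q ^ 2 := Nat.one_le_pow _ _ (by omega)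
    omega⟩
  have hm0 : m ≠ 0 := by
    rintro rfl
    have : 2 ^ 2 ≤ q ^ 2 := Nat.pow_le_pow_left hq 2
    omega
  have h6 : q ^ 6 - 1 = (q ^ 2 - 1) * (q ^ 4 + q ^ 2 + 1) := by
    have e6 : q ^ 6 = (q ^ 2) ^ 3 := by ring
    have e4 : q ^ 4 = (q ^ 2) ^ 2 := by ring
    rw [e6, e4, hm]
    have : (m + 1) ^ 3 = (m + 1 - 1) * ((m + 1) ^ 2 + (m + 1) + 1) + 1 := by
      rw [Nat.add_sub_cancel]; ring
    rw [this, Nat.add_sub_cancel]
  have hq21 : q ^ 2 - 1 = m := by omega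
  have hodd6 : Odd (q ^ 6) := hodd.pow
  have hodd4 : Odd (q ^ 4 + q ^ 2 + 1) := by
    have h4 : Odd (q ^ 4) := hodd.pow
    have h2 : Odd (q ^ 2) := hodd.pow
    exact (h4.add_odd h2).add_one
  have hne6 : q ^ 6 ≠ 0 := by positivity
  have hne4 : q ^ 4 + q ^ 2 + 1 ≠ 0 := by positivity
  rw [h6, hq21]
  rw [Nat.factorization_mul (Nat.mul_ne_zero hne6 (Nat.mul_ne_zero hm0 hne4)) hm0,
    Nat.factorization_mul hne6 (Nat.mul_ne_zero hm0 hne4), Nat.factorization_mul hm0 hne4]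
  simp only [Finsupp.add_apply]
  rw [ocgn1_fact_odd _ hodd6, ocgn1_fact_odd _ hodd4]
  ring

end N

end Cfsg.Agent.Lib.Helper18.OCT
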