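import Mathlib

/-!
# OCG row S1 (`sylow_sq_of_witness`), helper7.  Verbatim statement of `Helper18/OCT/Skel.lean.txt`.
-/

set_option autoImplicit false

namespace Cfsg.Agent.Lib.Helper18.OCT

/-- **S1**. -/
theorem sylow_sq_of_witness {G : Type*} [Group G] [Finite G] (p : ℕ) [Fact p.Prime] (P0 : Subgroup G)
    (hcard : Nat.card P0 = p ^ (Nat.card G).factorization p) (h0 : ∀ x ∈ P0, x ^ 2 ∈ ⁅P0, P0⁆)
    (P : Sylow p G) : ∀ x : ↥(P : Subgroup G), x ^ 2 ∈ commutator ↥(P : Subgroup G) := by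
  intro x
  set Q : Sylow p G := Sylow.ofCard P0 hcard with hQ
  obtain ⟨g, hg⟩ := MulAction.exists_smul_eq G Q P
  have hP : (P : Subgroup G) = P0.map (MulAut.conj g).toMonoidHom := by
    rw [← hg, Sylow.coe_subgroup_smul, Subgroup.pointwise_smul_def]
    rfl
  have hx : (x : G) ∈ P0.map (MulAut.conj g).toMonoidHom := by
    rw [← hP]; exact x.2
  obtain ⟨y, hy, hyx⟩ := hx
  have h1 : (x : G) ^ 2 ∈ ⁅(P : Subgroup G), (P : Subgroup G)⁆ := by
    have h2 : (MulAut.conj g).toMonoidHom (y ^ 2) ∈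
        (⁅P0, P0⁆).map (MulAut.conj g).toMonoidHom := ⟨y ^ 2, h0 y hy, rfl⟩
    rw [Subgroup.map_commutator, ← hP] at h2
    rw [← hyx, ← map_pow]
    exact h2
  rw [← Subgroup.map_subtype_commutator] at h1
  obtain ⟨z, hz, hzx⟩ := h1
  have : z = x ^ 2 := by
    apply Subtype.ext
    rw [Subgroup.coe_pow]
    exact hzx
  rw [← this]
  exact hz

end Cfsg.Agent.Lib.Helper18.OCT
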