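import Mathlib

/-!
# OCG row S2 (`subgroupOf_sq`), helper7.  Verbatim statement of `Helper18/OCT/Skel.lean.txt`.
-/

set_option autoImplicit false

namespace Cfsg.Agent.Lib.Helper18.OCT

section N

/-- **S2**. -/
theorem subgroupOf_sq {G : Type*} [Group G] (H K : Subgroup G) (hHK : H ≤ K)
    (h0 : ∀ x ∈ H, x ^ 2 ∈ ⁅H, H⁆) :
    Nat.card (H.subgroupOf K) = Nat.card H ∧
      ∀ x ∈ H.subgroupOf K, x ^ 2 ∈ ⁅H.subgroupOf K, H.subgroupOf K⁆ := by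
  refine ⟨Nat.card_congr (Subgroup.subgroupOfEquivOfLe hHK).toEquiv, ?_⟩
  intro x hx
  have hxH : (x : G) ∈ H := Subgroup.mem_subgroupOf.1 hx
  have h1 : (x : G) ^ 2 ∈ ⁅H, H⁆ := h0 _ hxH
  have hmap : (⁅H.subgroupOf K, H.subgroupOf K⁆).map K.subtype = ⁅H, H⁆ := by
    rw [Subgroup.map_commutator, Subgroup.map_subgroupOf_eq_of_le hHK]
  rw [← hmap] at h1
  obtain ⟨z, hz, hzx⟩ := h1
  have : z = x ^ 2 := by
    apply Subtype.ext
    rw [Subgroup.coe_pow]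
    exact hzx
  rw [← this]
  exact hz

end N

end Cfsg.Agent.Lib.Helper18.OCT
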