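import Mathlib

/-!
# OCG row D7 (`card_two_part`), helper7.  Verbatim statement of `Helper18/OCT/Skel.lean.txt`.
-/

set_option autoImplicit false

namespace Cfsg.Agent.Lib.Helper18.OCT

/-- in a finite commutative group the elements of `p`-power order are the elements of any Sylow `p`-subgroup -/
theorem ocgd7_mem_sylow {T : Type*} [CommGroup T] [Finite T] (p : ℕ) [Fact p.Prime] (S : Sylow p T) (g : T) :
    g ∈ S ↔ ∃ k : ℕ, g ^ (p ^ k) = 1 := by
  constructor
  · intro hg
    obtain ⟨k, hk⟩ := S.2 ⟨g, hg⟩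
    refine ⟨k, ?_⟩
    have := congrArg Subtype.val hk
    simpa using this
  · rintro ⟨k, hk⟩
    have hpg : IsPGroup p (Subgroup.zpowers g) := by
      rintro ⟨x, hx⟩
      obtain ⟨i, rfl⟩ := Subgroup.mem_zpowers_iff.1 hx
      refine ⟨k, ?_⟩
      apply Subtype.ext
      show (g ^ i) ^ (p ^ k) = 1
      rw [← zpow_natCast, ← zpow_mul, mul_comm, zpow_mul, zpow_natCast, hk, one_zpow]
    obtain ⟨Q, hQ⟩ := hpg.exists_le_sylow
    obtain ⟨h, hh⟩ := MulAction.exists_smul_eq T S Q
    have hn : (S : Subgroup T).Normal := inferInstance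
    have : Q = S := by rw [← hh]; exact Sylow.smul_eq_of_normal
    rw [← this]
    exact hQ (Subgroup.mem_zpowers g)

/-- **D7**. -/
theorem card_two_part {G : Type*} [Group G] (T : Subgroup G) [Finite T] (hT : ∀ g ∈ T, ∀ h ∈ T, g * h = h * g) :
    Nat.card {g : G // g ∈ T ∧ ∃ k : ℕ, g ^ (2 ^ k) = 1} = 2 ^ (Nat.card T).factorization 2 := by
  let _ : CommGroup T := { (inferInstance : Group T) with
    mul_comm := fun a b => Subtype.ext (hT a a.2 b b.2) }
  have : Fact (Nat.Prime 2) := ⟨Nat.prime_two⟩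
  let S : Sylow 2 T := default
  rw [← Sylow.card_eq_multiplicity S]
  apply Nat.card_congr
  refine
    { toFun := fun g => ⟨⟨g.1, g.2.1⟩, ?_⟩
      invFun := fun s => ⟨(s.1 : G), (s.1).2, ?_⟩
      left_inv := fun g => rfl
      right_inv := fun s => rfl }
  · refine (ocgd7_mem_sylow 2 S _).2 ?_
    obtain ⟨k, hk⟩ := g.2.2
    exact ⟨k, Subtype.ext (by simpa using hk)⟩
  · obtain ⟨k, hk⟩ := (ocgd7_mem_sylow 2 S s.1).1 s.2
    refine ⟨k, ?_⟩
    have := congrArg Subtype.val hk
    simpa using this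

end Cfsg.Agent.Lib.Helper18.OCT
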