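import Mathlib
import Cfsg.Agent.Lib.helper7.OCGN1

/-!
# OCG row N2 (`two_part_sq`), helper7.  Verbatim statement of `Helper18/OCT/Skel.lean.txt`.
-/

set_option autoImplicit false

namespace Cfsg.Agent.Lib.Helper18.OCT

section N

/-- **N2**. -/
theorem two_part_sq (q : ℕ) (hq : 2 ≤ q) :
    (q % 4 = 1 → (q ^ 2 - 1).factorization 2 = (q - 1).factorization 2 + 1) ∧
      (q % 4 = 3 → (q - 1).factorization 2 = 1) := by
  constructor
  · intro h1
    have hsq : q ^ 2 - 1 = (q - 1) * (q + 1) := by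
      obtain ⟨m, rfl⟩ : ∃ m, q = m + 1 := ⟨q - 1, by omega⟩
      rw [Nat.add_sub_cancel]
      have : (m + 1) ^ 2 = m * (m + 1 + 1) + 1 := by ring
      rw [this, Nat.add_sub_cancel]
    have hq1 : q - 1 ≠ 0 := by omega
    obtain ⟨k, hk⟩ : ∃ k, q + 1 = 2 * k := ⟨(q + 1) / 2, by omega⟩
    have hkodd : Odd k := by
      rw [Nat.odd_iff]; omega
    rw [hsq, Nat.factorization_mul hq1 (by omega), Finsupp.add_apply, hk,
      ocgn1_fact_two_mul_odd k hkodd]
  · intro h3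
    obtain ⟨k, hk⟩ : ∃ k, q - 1 = 2 * k := ⟨(q - 1) / 2, by omega⟩
    have hkodd : Odd k := by
      rw [Nat.odd_iff]; omega
    rw [hk, ocgn1_fact_two_mul_odd k hkodd]

end N

end Cfsg.Agent.Lib.Helper18.OCT
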