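import Mathlib
import Cfsg.Agent.Lib.Helper18.OCT.Defs

/-!
# OCG row Z6 (`card_dot3_fiber`), helper7.  Verbatim statement of `Helper18/OCT/Skel.lean.txt`.
-/

set_option autoImplicit false

namespace Cfsg.Agent.Lib.Helper18.OCT

open Cfsg.Lie Matrix
open scoped MatrixGroups

section Z

variable {F : Type*} [Field F]

theorem ocgz6_dot3_eq (a b : Fin 3 → F) (i : Fin 3) :
    dot3 a b = a i * b i + ∑ j : {j : Fin 3 // j ≠ i}, a j * b j := by
  rw [← Fintype.sum_eq_add_sum_subtype_ne (fun j => a j * b j) i, Fin.sum_univ_three]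
  rfl

/-- the fibre of `dot3 a` over `s` is in bijection with the functions on the other two coordinates -/
noncomputable def ocgz6_equiv (a : Fin 3 → F) (i : Fin 3) (hi : a i ≠ 0) (s : F) :
    {b : Fin 3 → F // dot3 a b = s} ≃ ({j : Fin 3 // j ≠ i} → F) where
  toFun b := fun j => b.1 j
  invFun r := ⟨fun k => if h : k = i then (s - ∑ j : {j : Fin 3 // j ≠ i}, a j * r j) / a i else r ⟨k, h⟩, by
    rw [ocgz6_dot3_eq a _ i]
    simp only [dif_pos]
    have : ∀ j : {j : Fin 3 // j ≠ i}, (if h : (j : Fin 3) = i then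
        (s - ∑ j : {j : Fin 3 // j ≠ i}, a j * r j) / a i else r ⟨j, h⟩) = r j := by
      intro j
      rw [dif_neg j.2]
    simp only [this]
    field_simp
    ring⟩
  left_inv b := by
    apply Subtype.ext
    funext k
    simp only
    by_cases h : k = i
    · rw [dif_pos h]
      subst h
      have hb := b.2
      rw [ocgz6_dot3_eq a _ k] at hb
      have hs : s - ∑ x : {j : Fin 3 // j ≠ k}, a x * b.1 x = a k * b.1 k := by
        linear_combination -hb
      rw [hs]
      field_simp
    · rw [dif_neg h]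
  right_inv r := by
    funext j
    simp only
    rw [dif_neg j.2]

/-- **Z6**. -/
theorem card_dot3_fiber [Fintype F] {q : ℕ} (hq : Fintype.card F = q) (a : Fin 3 → F) (ha : a ≠ 0) (s : F) :
    Nat.card {b : Fin 3 → F // dot3 a b = s} = q ^ 2 := by
  classical
  obtain ⟨i, hi⟩ : ∃ i, a i ≠ 0 := by
    by_contra h
    push Not at h
    exact ha (funext h)
  rw [Nat.card_congr (ocgz6_equiv a i hi s), Nat.card_eq_fintype_card, Fintype.card_fun, hq]
  congr 1
  rw [Fintype.card_subtype_compl, Fintype.card_fin]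
  simp

end Z

end Cfsg.Agent.Lib.Helper18.OCT
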