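import Mathlib
import Cfsg.Agent.Lib.Helper18.OCT.Defs
import Cfsg.Agent.Lib.helper7.OCGZ6

/-!
# OCG row Z7 (`card_Idem`), helper7: core on the statement of row Z4 (`mem_Idem_iff`).
-/

set_option autoImplicit false

namespace Cfsg.Agent.Lib.Helper18.OCT

open Cfsg.Lie Matrix
open scoped MatrixGroups

section Z

variable {F : Type*} [Field F]

/-- the defining relation of a nontrivial idempotent in the coordinates `((α, a), b)` -/
def ocgz7_P (x : F × (Fin 3 → F)) (b : Fin 3 → F) : Prop := dot3 x.2 b = x.1 * (1 - x.1)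

/-- the octonion with coordinates `((α, a), b)` and `β = 1 - α` -/
def ocgz7_mk (y : (F × (Fin 3 → F)) × (Fin 3 → F)) : Oct F :=
  ![y.1.1, y.1.2 0, y.1.2 1, y.1.2 2, y.2 0, y.2 1, y.2 2, 1 - y.1.1]

omit [Field F] in
theorem ocgz7_eta (a : Fin 3 → F) : ![a 0, a 1, a 2] = a := by
  funext i
  fin_cases i <;> rfl

/-- `Idem F` in coordinates -/
def ocgz7_equiv (hZ4 : ∀ e : Oct F, e ∈ Idem F ↔ e 0 + e 7 = 1 ∧ dot3 (zA F e) (zB F e) = e 0 * e 7) :
    Idem F ≃ {y : (F × (Fin 3 → F)) × (Fin 3 → F) // ocgz7_P y.1 y.2} where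
  toFun e := ⟨((e.1 0, zA F e.1), zB F e.1), by
    obtain ⟨h1, h2⟩ := (hZ4 e.1).1 e.2
    show dot3 (zA F e.1) (zB F e.1) = e.1 0 * (1 - e.1 0)
    rw [h2, ← h1]
    ring⟩
  invFun y := ⟨ocgz7_mk y.1, by
    rw [hZ4]
    have h := y.2
    unfold ocgz7_P at h
    refine ⟨?_, ?_⟩
    · show y.1.1.1 + (1 - y.1.1.1) = 1
      ring
    · show dot3 ![y.1.1.2 0, y.1.1.2 1, y.1.1.2 2] ![y.1.2 0, y.1.2 1, y.1.2 2] = y.1.1.1 * (1 - y.1.1.1)
      rw [ocgz7_eta, ocgz7_eta]
      exact h⟩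
  left_inv e := by
    obtain ⟨h1, _⟩ := (hZ4 e.1).1 e.2
    apply Subtype.ext
    funext i
    have h7 : e.1 7 = 1 - e.1 0 := by rw [← h1]; ring
    fin_cases i
    · rfl
    · rfl
    · rfl
    · rfl
    · rfl
    · rfl
    · rfl
    · exact h7.symm
  right_inv y := by
    apply Subtype.ext
    show ((y.1.1.1, ![y.1.1.2 0, y.1.1.2 1, y.1.1.2 2]), ![y.1.2 0, y.1.2 1, y.1.2 2]) = y.1
    rw [ocgz7_eta, ocgz7_eta]

theorem ocgz7_card_fiber [Fintype F] [DecidableEq F] {q : ℕ} (hq : Fintype.card F = q) (α : F) (a : Fin 3 → F) :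
    Nat.card {b : Fin 3 → F // ocgz7_P (α, a) b} =
      if a = 0 then (if α * (1 - α) = 0 then q ^ 3 else 0) else q ^ 2 := by
  by_cases ha : a = 0
  · rw [if_pos ha]
    subst ha
    have hP : ∀ b : Fin 3 → F, ocgz7_P (α, (0 : Fin 3 → F)) b ↔ α * (1 - α) = 0 := by
      intro b
      unfold ocgz7_P dot3
      simp only [Pi.zero_apply, zero_mul, add_zero]
      exact eq_comm
    by_cases h0 : α * (1 - α) = 0
    · rw [if_pos h0]
      have e : {b : Fin 3 → F // ocgz7_P (α, (0 : Fin 3 → F)) b} ≃ (Fin 3 → F) :=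
        Equiv.subtypeUnivEquiv (fun b => (hP b).2 h0)
      rw [Nat.card_congr e, Nat.card_eq_fintype_card, Fintype.card_fun, hq, Fintype.card_fin]
    · rw [if_neg h0]
      have : IsEmpty {b : Fin 3 → F // ocgz7_P (α, (0 : Fin 3 → F)) b} :=
        ⟨fun b => h0 ((hP b.1).1 b.2)⟩
      exact Nat.card_of_isEmpty
  · rw [if_neg ha]
    exact card_dot3_fiber hq a ha (α * (1 - α))

theorem ocgz7_sum [Fintype F] [DecidableEq F] {q : ℕ} (hq : Fintype.card F = q) :
    (∑ x : F × (Fin 3 → F), if x.2 = 0 then (if x.1 * (1 - x.1) = 0 then q ^ 3 else 0) else q ^ 2) =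
      q ^ 6 + q ^ 3 := by
  have hq2 : 2 ≤ q := by rw [← hq]; exact Fintype.one_lt_card
  have hcardV : Fintype.card (Fin 3 → F) = q ^ 3 := by
    rw [Fintype.card_fun, hq, Fintype.card_fin]
  rw [Fintype.sum_prod_type]
  have hin : ∀ α : F, (∑ a : Fin 3 → F, if a = 0 then (if α * (1 - α) = 0 then q ^ 3 else 0) else q ^ 2) =
      (if α * (1 - α) = 0 then q ^ 3 else 0) + (q ^ 3 - 1) * q ^ 2 := by
    intro α
    rw [Finset.sum_ite, Finset.sum_const, Finset.sum_const, Finset.filter_eq' Finset.univ (0 : Fin 3 → F),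
      if_pos (Finset.mem_univ _), Finset.card_singleton, one_smul, smul_eq_mul]
    congr 2
    rw [Finset.filter_ne' Finset.univ (0 : Fin 3 → F), Finset.card_erase_of_mem (Finset.mem_univ _),
      Finset.card_univ, hcardV]
  simp only [hin]
  rw [Finset.sum_add_distrib, Finset.sum_const, Finset.card_univ, hq, smul_eq_mul, Finset.sum_ite,
    Finset.sum_const, Finset.sum_const_zero, add_zero, smul_eq_mul]
  have h2 : (Finset.univ.filter fun α : F => α * (1 - α) = 0).card = 2 := by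
    have : (Finset.univ.filter fun α : F => α * (1 - α) = 0) = {0, 1} := by
      ext α
      simp only [Finset.mem_filter, Finset.mem_univ, true_and, Finset.mem_insert, Finset.mem_singleton,
        mul_eq_zero, sub_eq_zero]
      constructor
      · rintro (h | h)
        · left; exact h
        · right; exact h.symm
      · rintro (h | h)
        · left; exact h
        · right; exact h.symm
    rw [this, Finset.card_pair zero_ne_one]
  rw [h2]
  obtain ⟨m, hm⟩ : ∃ m, q ^ 3 = m + 1 := ⟨q ^ 3 - 1, by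
    have : 1 ≤ q ^ 3 := Nat.one_le_pow _ _ (by omega)
    omega⟩
  have h6 : q ^ 6 = (m + 1) * (m + 1) := by rw [← hm]; ring
  have h3 : q * (q ^ 3 - 1) * q ^ 2 = (m + 1) * m := by
    have : q * (q ^ 3 - 1) * q ^ 2 = q ^ 3 * (q ^ 3 - 1) := by ring
    rw [this, hm]
    simp
  rw [h6, ← mul_assoc q, h3, hm]
  ring

/-- **Z7**, core: `Z4` as a hypothesis. -/
theorem ocgz7_core [Fintype F] {q : ℕ} (hq : Fintype.card F = q)
    (hZ4 : ∀ e : Oct F, e ∈ Idem F ↔ e 0 + e 7 = 1 ∧ dot3 (zA F e) (zB F e) = e 0 * e 7) :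
    Nat.card (Idem F) = q ^ 6 + q ^ 3 := by
  classical
  rw [Nat.card_congr (ocgz7_equiv hZ4),
    Nat.card_congr (Equiv.subtypeProdEquivSigmaSubtype (fun x b => ocgz7_P (F := F) x b)),
    Nat.card_sigma]
  rw [← ocgz7_sum hq]
  apply Finset.sum_congr rfl
  rintro ⟨α, a⟩ _
  exact ocgz7_card_fiber hq α a

end Z

end Cfsg.Agent.Lib.Helper18.OCT
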