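import Mathlib
import Cfsg.Agent.Lib.Helper18.OCT.Defs
import Cfsg.Agent.Lib.Helper27.OCGZ4
import Cfsg.Agent.Lib.helper7.OCGZ7core

/-!
# OCG row Z7 (`card_Idem`), helper7.  Verbatim statement of `Helper18/OCT/Skel.lean.txt`.
-/

set_option autoImplicit false

namespace Cfsg.Agent.Lib.Helper18.OCT

open Cfsg.Lie Matrix
open scoped MatrixGroups

section Z

variable {F : Type*} [Field F]

/-- **Z7**. -/
theorem card_Idem [Fintype F] {q : ℕ} (hq : Fintype.card F = q) : Nat.card (Idem F) = q ^ 6 + q ^ 3 :=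
  ocgz7_core hq mem_Idem_iff

end Z

end Cfsg.Agent.Lib.Helper18.OCT
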