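import Mathlib
import Cfsg.Agent.Lib.Lead.BCS.Defs
import Cfsg.Agent.Lib.helper7.BCSA3
import Cfsg.Agent.Lib.Helper24.S5972SPLIT
import Cfsg.Agent.Lib.helper23.ONECYCLADDER

/-!
# Project BCS (S2362), row A9 (`bcs_invol_cyc`), verbatim from `Lead/BCS/Skel.lean.txt`.  (helper7)
-/

set_option autoImplicit false
set_option linter.unusedVariables false

namespace Cfsg.Agent.Lib.Lead.BCS

open Polynomial Module Matrix Cfsg.Agent.Lib.Helper13.S5955 Cfsg.Agent.Lib.helper15.S5972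
  Cfsg.Agent.Lib.Helper18.ONE

/-- A9 [M] -/
theorem bcs_invol_cyc {F : Type*} [Field F] [Fintype F] {p : ℕ} [Fact p.Prime] [CharP F p]
    (h2 : (2 : F) ≠ 0) {V : Type*} [AddCommGroup V] [Module F V] [FiniteDimensional F V]
    {ℓ : ℕ} [Fact ℓ.Prime] (hℓp : ℓ ≠ p) (hℓ2 : ℓ ≠ 2) {B : LinearMap.BilinForm F V}
    {y z : Module.End F V} (h : OCtx ℓ B y) (hz : OCtx 2 B z) (hc : Commute z y) (m : ℕ)
    (hm : 1 ≤ m) (hi : OrdC (Fintype.card F) m ℓ) (hdim : finrank F (cycS ℓ y) = 2 * m) :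
    (∀ w ∈ cycS ℓ y, z w = w) ∨ (∀ w ∈ cycS ℓ y, z w = -w) := by
  classical
  obtain ⟨-, -, -, hWnd⟩ := o_split hℓp h
  set W := cycS ℓ y with hW
  have hzz : ∀ v, z (z v) = v := by
    intro v
    have := congrArg (fun t : Module.End F V => t v) hz.pow
    simpa [pow_two, Module.End.mul_apply] using this
  have hWz : SInv z W := (bcs_comm_inv z y hc ℓ).2
  have hWy : SInv y W := Cfsg.Agent.Lib.Helper24.el_inv_ker y _
  have hy_fix : SInv y (fixS z) := (bcs_comm_inv y z hc.symm 2).1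
  have hy_cyc : SInv y (cycS 2 z) := (bcs_comm_inv y z hc.symm 2).2
  set Ep := W ⊓ fixS z with hEp
  set Em := W ⊓ cycS 2 z with hEm
  have hEp_mem : ∀ v, v ∈ Ep ↔ v ∈ W ∧ z v = v := by
    intro v; rw [hEp, Submodule.mem_inf, bcs_mem_fixS]
  have hEm_mem : ∀ v, v ∈ Em ↔ v ∈ W ∧ z v = -v := by
    intro v; rw [hEm, Submodule.mem_inf, bcs_mem_cyc_two]
  have hEp_inv : SInv y Ep := fun v hv => ⟨hWy v hv.1, hy_fix v hv.2⟩
  have hEm_inv : SInv y Em := fun v hv => ⟨hWy v hv.1, hy_cyc v hv.2⟩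
  -- orthogonality
  have horth : ∀ v ∈ Ep, ∀ w ∈ Em, B v w = 0 := by
    intro v hv w hw
    have hv' := ((hEp_mem v).mp hv).2
    have hw' := ((hEm_mem w).mp hw).2
    have h1 := hz.pres v w
    rw [hv', hw', map_neg] at h1
    have h3 : (2 : F) * B v w = 0 := by
      have : B v w + B v w = 0 := by
        nth_rewrite 1 [← h1]
        exact neg_add_cancel _
      rw [two_mul]; exact this
    exact (mul_eq_zero.mp h3).resolve_left h2
  -- decomposition
  have hdec : ∀ w ∈ W, ∃ a ∈ Ep, ∃ b ∈ Em, w = a + b := by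
    intro w hw
    refine ⟨(2 : F)⁻¹ • (w + z w), ?_, (2 : F)⁻¹ • (w - z w), ?_, ?_⟩
    · rw [hEp_mem]
      refine ⟨W.smul_mem _ (W.add_mem hw (hWz w hw)), ?_⟩
      rw [map_smul, map_add, hzz, add_comm]
    · rw [hEm_mem]
      refine ⟨W.smul_mem _ (W.sub_mem hw (hWz w hw)), ?_⟩
      rw [map_smul, map_sub, hzz, ← smul_neg, neg_sub]
    · rw [← smul_add, add_add_sub_cancel, ← two_smul F w, smul_smul, inv_mul_cancel₀ h2, one_smul]
  -- nondegeneracy of the two pieces
  have hEp_nd : SND B Ep := by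
    intro u hu hu0
    apply hWnd u hu.1
    intro w hw
    obtain ⟨a, ha, b, hb, rfl⟩ := hdec w hw
    rw [map_add, hu0 a ha, horth u hu b hb, add_zero]
  have hEm_nd : SND B Em := by
    intro u hu hu0
    apply hWnd u hu.1
    intro w hw
    obtain ⟨a, ha, b, hb, rfl⟩ := hdec w hw
    rw [map_add, hu0 b hb, h.symm u a, horth a ha u hu, add_zero]
  -- divisibility
  have hcc := ordc_c hi
  have hdp : 2 * m ∣ finrank F Ep :=
    o_cyc_nd_dvd hℓp hℓ2 h _ (2 * m) rfl hcc Ep hEp_inv inf_le_left hEp_nd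
  have hdm : 2 * m ∣ finrank F Em :=
    o_cyc_nd_dvd hℓp hℓ2 h _ (2 * m) rfl hcc Em hEm_inv inf_le_left hEm_nd
  -- dimension count
  have hdisj : Ep ⊓ Em = ⊥ := by
    rw [eq_bot_iff]
    intro v hv
    rw [Submodule.mem_inf] at hv
    have h1 := ((hEp_mem v).mp hv.1).2
    have h3 := ((hEm_mem v).mp hv.2).2
    rw [h1] at h3
    have h4 : (2 : F) • v = 0 := by
      rw [two_smul]
      nth_rewrite 1 [h3]
      exact neg_add_cancel _
    rcases smul_eq_zero.mp h4 with h5 | h5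
    · exact absurd h5 h2
    · rw [Submodule.mem_bot]; exact h5
  have hle : finrank F Ep + finrank F Em ≤ 2 * m := by
    have h1 := Submodule.finrank_sup_add_finrank_inf_eq Ep Em
    rw [hdisj, finrank_bot, add_zero] at h1
    rw [← h1, ← hdim]
    exact Submodule.finrank_mono (sup_le inf_le_left inf_le_left)
  have hcase : finrank F Em = 0 ∨ finrank F Ep = 0 := by
    obtain ⟨a, ha⟩ := hdp
    obtain ⟨b, hb⟩ := hdm
    rw [ha, hb] at hle
    rcases Nat.eq_zero_or_pos a with h0 | h0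
    · right; rw [ha, h0, mul_zero]
    · left
      rcases Nat.eq_zero_or_pos b with hb0 | hb0
      · rw [hb, hb0, mul_zero]
      · exfalso
        have : 2 * m * 1 + 2 * m * 1 ≤ 2 * m * a + 2 * m * b :=
          Nat.add_le_add (Nat.mul_le_mul_left _ h0) (Nat.mul_le_mul_left _ hb0)
        omega
  rcases hcase with h0 | h0
  · left
    intro w hw
    have hbot : Em = ⊥ := Submodule.finrank_eq_zero.mp h0
    have hmem : w - z w ∈ Em := by
      rw [hEm_mem]
      refine ⟨W.sub_mem hw (hWz w hw), ?_⟩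
      rw [map_sub, hzz, neg_sub]
    rw [hbot, Submodule.mem_bot, sub_eq_zero] at hmem
    exact hmem.symm
  · right
    intro w hw
    have hbot : Ep = ⊥ := Submodule.finrank_eq_zero.mp h0
    have hmem : w + z w ∈ Ep := by
      rw [hEp_mem]
      refine ⟨W.add_mem hw (hWz w hw), ?_⟩
      rw [map_add, hzz, add_comm]
    rw [hbot, Submodule.mem_bot] at hmem
    exact (eq_neg_of_add_eq_zero_right hmem)

end Cfsg.Agent.Lib.Lead.BCS
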