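import Mathlib
import Cfsg.Agent.Lib.helper7.CED.Defs
import Cfsg.Agent.Lib.helper7.CEDS5
import Cfsg.Agent.Lib.helper7.CeG
import Cfsg.Agent.Lib.Helper24.CECM3
import Cfsg.Agent.Lib.Helper29.CECZ7
import Cfsg.Agent.Lib.helper6.CEDT7
import Cfsg.Agent.Lib.helper6.CEDT8
import Cfsg.Agent.Lib.helper14.CEDY4
import Cfsg.Agent.Lib.Helper5.CEDY10
import Cfsg.Agent.Lib.Helper25.CEDM7
import Cfsg.Agent.Lib.Helper18.CEDM6
import Cfsg.Agent.Lib.helper6.STDW14
import Cfsg.Agent.Lib.Helper16.STDH3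

/-!
# Project CED (designer helper7; SPN, S2096 + S2097), rows M8 (`exists_lift_sysD`) and M9 (`ced_split`, the main theorem), VERBATIM vs `helper7/CED/Skel`
-/

set_option autoImplicit false

namespace Cfsg.Agent.Lib.helper7.CED

open Cfsg.Agent.Lib.helper15.St2 Cfsg.Agent.Lib.helper7.Ce Cfsg.Agent.Lib.helper3.STC Cfsg.Agent.Lib.Lead.STD
  Cfsg.Agent.Lib.helper7.CEC

section M'

universe v w w'

variable {K : Type*} [Field K] [Finite K]

/-- M8 [M]  the regimes.  `hW_all`, `hH_all`.  `l ≥ 5`: `HT_five` (`I5_fin`).  `l = 4`, `|K| ≥ 4`: `HT_four` with `v` from `Ce.exists_sq_ne_one` (or CEC M4).  `l = 4`, `|K| = 3`: `HT_four_three` with CEC Z8 `field_three`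
(`Helper29.CECZ7`).  Then `HC_of_HT`, `Ys_BI_four` (`I4_fin`), `rootLift_four` (`I3_fin`), `exists_sysD`. -/
theorem exists_lift_sysD [Fintype K] {l : ℕ} (hl : 4 ≤ l) (hexc : ¬ (l = 4 ∧ Fintype.card K = 2)) {Γ : Type*} {G : Type*} [Group Γ] [Group G]
    (S : SysD K (Fin l) G) {σ : Γ →* G} (h : IsCE σ) :
    ∃ P : SysD K (Fin l) Γ, ∀ a b t, σ (P.x a b t) = S.x a b t := by
  classical
  have h3 : I3 (Fin l) := I3_fin (by omega)
  have h4 : I4 (Fin l) := I4_fin hl
  have hW : S.HW := S.hW_all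
  have hH : S.HH := S.hH_all
  have hT : HT S σ := by
    by_cases h5 : 5 ≤ l
    · exact HT_five h (I5_fin h5)
    · have hl4 : l = 4 := by omega
      have hq2 : Fintype.card K ≠ 2 := fun e => hexc ⟨hl4, e⟩
      have hq1 : 1 < Fintype.card K := Fintype.one_lt_card
      by_cases hq4 : 4 ≤ Fintype.card K
      · obtain ⟨v, hv0, hv2⟩ := exists_sq_ne_one K hq4
        exact HT_four h h4 hH v hv0 (by rwa [pow_two])
      · have hq3 : Fintype.card K = 3 := by omega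
        obtain ⟨h3', hK⟩ := field_three hq3
        exact HT_four_three h h4 hW h3' hK
  have hC := HC_of_HT hT
  obtain ⟨hB, hI⟩ := Ys_BI_four h hC h4
  obtain ⟨L, -⟩ := rootLift_four h hC h3 hB hI
  exact exists_sysD hC hW h3 L

/-- M9 [S]  **the main theorem of CED** (the interface for the lead's SPN): `exists_lift_sysD`, `split_of_sysD` (`I3_fin`; `ab_eq_iff` for `hab`, `hab'`; `zz` unfolds to the element in `hspin`). -/
theorem ced_split [Fintype K] {l : ℕ} (hl : 4 ≤ l) (hexc : ¬ (l = 4 ∧ Fintype.card K = 2)) {Γ : Type w} {G : Type w'} [Group Γ] [Group G]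
    (S : SysD K (Fin l) G) (R : S.Rep (Fin l)) (hgen : S.XQ (fun _ _ => True) = ⊤)
    {a b : Fin l ⊕ Fin l} (hab : a ≠ b) (hab' : a ≠ ng b)
    (hspin : S.h a b (-1) * S.h a (ng b) (-1) = 1 → (2 : K) = 0) {σ : Γ →* G} (h : IsCE σ) :
    ∃ s : G →* Γ, ∀ g, σ (s g) = g := by
  obtain ⟨P, hP⟩ := exists_lift_sysD hl hexc S h
  exact split_of_sysD S R hgen (I3_fin (by omega)) (ceds5_ab_ne hab hab') hspin P hP

end M'

end Cfsg.Agent.Lib.helper7.CED
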