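import Mathlib
import Cfsg.Agent.Lib.Helper13.OTS.Defs

/-!
# Project OTS (S5973 + S5987), row COUNTDVD: core (the count of row COUNT is a hypothesis)
-/

set_option autoImplicit false
set_option linter.unusedVariables false

namespace Cfsg.Agent.Lib.Helper13.OTS

open Polynomial Module Cfsg.Agent.Lib.Helper13.S5955 Cfsg.Agent.Lib.helper15.S5972

/-- `p` divides `|F|`. -/
theorem otscountdvd_p_dvd {F : Type*} [Field F] [Fintype F] {p : ℕ} [Fact p.Prime] [CharP F p] :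
    (p : ℤ) ∣ (Fintype.card F : ℤ) := by
  obtain ⟨n, _, hn⟩ := FiniteField.card F p
  rw [hn]
  push_cast
  exact dvd_pow_self _ n.ne_zero

/-- COUNTDVD core: the count formula as a hypothesis. -/
theorem otscountdvd_core {F : Type*} [Field F] [Fintype F] {p : ℕ} [Fact p.Prime] [CharP F p]
    (N d m : ℕ) (ε : ℤ) (hε : ε = 1 ∨ ε = -1) (hm : m + 1 ≤ d)
    (hcount : (N : ℤ) * ∏ j ∈ Finset.range m, ((Fintype.card F : ℤ) ^ (j + 1) - 1) =
      ∏ j ∈ Finset.range m, (((Fintype.card F : ℤ) ^ (d - j) - ε) *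
        ((Fintype.card F : ℤ) ^ (d - 1 - j) + ε)))
    (r : ℕ) [Fact r.Prime] (hr : r ∣ N) : r ≠ p ∧ HJ (Fintype.card F) r d m ε := by
  have hrp : Prime (r : ℤ) := Nat.prime_iff_prime_int.mp (Fact.out : r.Prime)
  have hdvd : (r : ℤ) ∣ ∏ j ∈ Finset.range m, (((Fintype.card F : ℤ) ^ (d - j) - ε) *
      ((Fintype.card F : ℤ) ^ (d - 1 - j) + ε)) := by
    rw [← hcount]
    exact Dvd.dvd.mul_right (Int.natCast_dvd_natCast.mpr hr) _
  obtain ⟨j, hj, hjd⟩ := (Prime.dvd_finsetProd_iff hrp _).mp hdvd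
  rw [Finset.mem_range] at hj
  refine ⟨?_, ⟨j, hj, hjd⟩⟩
  rintro rfl
  have hpq : (r : ℤ) ∣ (Fintype.card F : ℤ) := otscountdvd_p_dvd
  have hunit : ¬ (r : ℤ) ∣ ε := by
    intro h
    have h1 : (r : ℤ) ∣ 1 := by
      rcases hε with rfl | rfl
      · exact h
      · simpa using h
    exact hrp.not_dvd_one h1
  rcases hrp.dvd_or_dvd hjd with h1 | h1
  · apply hunit
    have h2 : (r : ℤ) ∣ (Fintype.card F : ℤ) ^ (d - j) := dvd_pow hpq (by omega)
    have := dvd_sub h2 h1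
    simpa using this
  · apply hunit
    have h2 : (r : ℤ) ∣ (Fintype.card F : ℤ) ^ (d - 1 - j) := dvd_pow hpq (by omega)
    have := dvd_sub h1 h2
    simpa using this

end Cfsg.Agent.Lib.Helper13.OTS
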