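import Mathlib
import Cfsg.Agent.Lib.Helper13.OTS.Defs
import Cfsg.Agent.Lib.helper7.OTSCOUNTDVDcore
import Cfsg.Agent.Lib.Helper13.OTSCOUNT

/-!
# Project OTS (S5973 + S5987), row COUNTDVD (verbatim): core + row COUNT
-/

set_option autoImplicit false

namespace Cfsg.Agent.Lib.Helper13.OTS

open Polynomial Module Cfsg.Agent.Lib.Helper13.S5955 Cfsg.Agent.Lib.helper15.S5972

/-- COUNTDVD [M] -/
theorem q_count_dvd {F : Type*} [Field F] [Fintype F] {p : ℕ} [Fact p.Prime] [CharP F p]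
    {ι : Type} [Fintype ι] [DecidableEq ι] (Qs : QuadraticForm F (ι → F)) (d : ℕ) (ε : ℤ)
    (hs : QStd Qs d ε) (m : ℕ) (hm : m + 1 ≤ d) (r : ℕ) [Fact r.Prime]
    (hr : r ∣ Nat.card (TSq Qs m)) : r ≠ p ∧ HJ (Fintype.card F) r d m ε :=
  otscountdvd_core (Nat.card (TSq Qs m)) d m ε hs.eps hm (q_ts_count Qs d ε hs m hm) r hr

end Cfsg.Agent.Lib.Helper13.OTS
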