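import Mathlib
import Cfsg.Prelude.Def_GeometricClasses
import Cfsg.Agent.Lib.Helper27.ASC.Defs
import Cfsg.Agent.Lib.Helper1.Nilp

/-!
# Project LX, piece SYC1 : an `r`-group of symplectic type whose centre has order equal to the exponent has class
at most two
-/

set_option autoImplicit false
set_option linter.unusedVariables false
set_option linter.unusedSectionVars false

namespace Cfsg.Agent.Lib.helper7.LX

open Cfsg Cfsg.Geo Cfsg.Agent.Lib.Helper27.ASC
open scoped MatrixGroups Matrix commutatorElement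

/-- SYC1 (pure group theory) : an `r`-group all of whose characteristic abelian subgroups are cyclic and whose
centre has order equal to the exponent has class at most two. -/
theorem symplType_class_two {G : Type*} [Group G] [Finite G] {r : ℕ} (hr : r.Prime) (hG : IsPGroup r G)
    (hchar : ∀ A : Subgroup G, A.Characteristic → IsMulCommutative A → IsCyclic A)
    (hZ : Nat.card (Subgroup.center G) = Monoid.exponent G) :
    ∀ x y : G, x * y * x⁻¹ * y⁻¹ ∈ Subgroup.center G := by
  classical
  haveI : Fact r.Prime := ⟨hr⟩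
  -- the second centre
  have hmemZ2 : ∀ x, x ∈ Subgroup.upperCentralSeries G 2 ↔ ∀ y : G, x * y * x⁻¹ * y⁻¹ ∈ Subgroup.center G := by
    intro x
    rw [show (2 : ℕ) = 1 + 1 from rfl, Subgroup.mem_upperCentralSeries_succ_iff,
      Subgroup.upperCentralSeries_one]
    rfl
  set Z₂ : Subgroup G := Subgroup.upperCentralSeries G 2 with hZ2
  have hZle : Subgroup.center G ≤ Z₂ := by
    intro x hx
    rw [hmemZ2]
    intro y
    have : x * y * x⁻¹ * y⁻¹ = 1 := by
      rw [Subgroup.mem_center_iff] at hx
      rw [← hx y]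
      group
    rw [this]
    exact one_mem _
  -- `A = Z(Z₂)`
  set A : Subgroup G := Z₂ ⊓ Subgroup.centralizer (Z₂ : Set G) with hA
  have hAchar : A.Characteristic := by
    rw [hA, hZ2]
    infer_instance
  have hAcomm : IsMulCommutative A := by
    refine ⟨⟨fun a b => ?_⟩⟩
    apply Subtype.ext
    show (a : G) * b = b * a
    have ha : (a : G) ∈ Z₂ ⊓ Subgroup.centralizer (Z₂ : Set G) := a.2
    have hb : (b : G) ∈ Z₂ ⊓ Subgroup.centralizer (Z₂ : Set G) := b.2
    rw [Subgroup.mem_inf] at ha hb
    exact (Subgroup.mem_centralizer_iff.mp hb.2 a ha.1)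
  have hAcyc : IsCyclic A := hchar A hAchar hAcomm
  have hZA : Subgroup.center G ≤ A := by
    rw [hA]
    exact le_inf hZle (Subgroup.center_le_centralizer _)
  have hAZ : A = Subgroup.center G := by
    obtain ⟨g, hg⟩ := hAcyc.exists_generator
    have h1 : Nat.card A = orderOf g := (orderOf_eq_card_of_forall_mem_zpowers hg).symm
    have h2 : orderOf g ∣ Monoid.exponent G := by
      rw [← Subgroup.orderOf_coe]
      exact Monoid.order_dvd_exponent _
    have h3 : Nat.card A ∣ Nat.card (Subgroup.center G) := by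
      rw [h1, hZ]
      exact h2
    have h4 : Nat.card A ≤ Nat.card (Subgroup.center G) := Nat.le_of_dvd Nat.card_pos h3
    exact (Subgroup.eq_of_le_of_card_ge hZA h4).symm
  -- the centraliser of `Z₂` is the centre
  have hC : Subgroup.centralizer (Z₂ : Set G) ≤ Subgroup.center G := by
    by_contra hnot
    obtain ⟨c, hc, hcZ⟩ := SetLike.not_le_iff_exists.mp hnot
    haveI : Group.IsNilpotent (G ⧸ Subgroup.center G) := by
      haveI : Group.IsNilpotent G := hG.isNilpotent
      infer_instance
    haveI hZ2n : Z₂.Normal := by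
      rw [hZ2]
      infer_instance
    haveI hCn : (Subgroup.centralizer (Z₂ : Set G)).Normal := inferInstance
    set Cb : Subgroup (G ⧸ Subgroup.center G) :=
      (Subgroup.centralizer (Z₂ : Set G)).map (QuotientGroup.mk' (Subgroup.center G)) with hCb
    haveI : Cb.Normal := Subgroup.Normal.map hCn _ (QuotientGroup.mk'_surjective _)
    have hCbne : Cb ≠ ⊥ := by
      intro hbot
      have : (QuotientGroup.mk' (Subgroup.center G)) c ∈ Cb := Subgroup.mem_map_of_mem _ hc
      rw [hbot, Subgroup.mem_bot] at this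
      have h5 : c ∈ (QuotientGroup.mk' (Subgroup.center G)).ker := this
      rw [QuotientGroup.ker_mk'] at h5
      exact hcZ h5
    have hmeet := Cfsg.Agent.Lib.Helper1.normal_inf_center_ne_bot Cb hCbne
    obtain ⟨q, hq, hq1⟩ := (Subgroup.ne_bot_iff_exists_ne_one (H := Cb ⊓ Subgroup.center (G ⧸ Subgroup.center G))).mp hmeet |>
      fun ⟨q, hq⟩ => (⟨(q : G ⧸ Subgroup.center G), q.2, fun h => hq (Subtype.ext h)⟩ :
        ∃ q : G ⧸ Subgroup.center G, q ∈ Cb ⊓ Subgroup.center (G ⧸ Subgroup.center G) ∧ q ≠ 1)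
    rw [Subgroup.mem_inf] at hq
    obtain ⟨d, hd, rfl⟩ := hq.1
    -- `d ∈ C`, its image is central in `G/Z`: `d ∈ Z₂`
    have hdZ2 : d ∈ Z₂ := by
      rw [hmemZ2]
      intro y
      have h6 := Subgroup.mem_center_iff.mp hq.2 ((QuotientGroup.mk' (Subgroup.center G)) y)
      have h7 : (QuotientGroup.mk' (Subgroup.center G)) (d * y * d⁻¹ * y⁻¹) = 1 := by
        rw [map_mul, map_mul, map_mul, map_inv, map_inv, ← h6]
        group
      have h8 : d * y * d⁻¹ * y⁻¹ ∈ (QuotientGroup.mk' (Subgroup.center G)).ker := h7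
      rwa [QuotientGroup.ker_mk'] at h8
    have hdA : d ∈ A := by
      rw [hA]
      exact ⟨hdZ2, hd⟩
    rw [hAZ] at hdA
    apply hq1
    have : d ∈ (QuotientGroup.mk' (Subgroup.center G)).ker := by
      rw [QuotientGroup.ker_mk']
      exact hdA
    exact this
  -- three subgroups lemma
  have h1 : ⁅⁅Z₂, (⊤ : Subgroup G)⁆, (⊤ : Subgroup G)⁆ = ⊥ := by
    rw [Subgroup.commutator_eq_bot_iff_le_centralizer]
    rw [Subgroup.commutator_le]
    intro a ha b _
    have h := (hmemZ2 a).mp ha b
    rw [commutatorElement_def]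
    rw [Subgroup.coe_top, Subgroup.centralizer_univ]
    exact h
  have h2 : ⁅⁅(⊤ : Subgroup G), Z₂⁆, (⊤ : Subgroup G)⁆ = ⊥ := by
    rw [Subgroup.commutator_comm (⊤ : Subgroup G) Z₂]
    exact h1
  have h3 : ⁅⁅(⊤ : Subgroup G), (⊤ : Subgroup G)⁆, Z₂⁆ = ⊥ :=
    Subgroup.commutator_commutator_eq_bot_of_rotate h2 h1
  rw [Subgroup.commutator_eq_bot_iff_le_centralizer] at h3
  intro x y
  apply hC
  apply h3
  have := Subgroup.commutator_mem_commutator (Subgroup.mem_top x) (Subgroup.mem_top y)
  rwa [commutatorElement_def] at this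

end Cfsg.Agent.Lib.helper7.LX
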