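import Mathlib
import Cfsg.Prelude.Def_Blocks
import Cfsg.Prelude.Def_BlockRank
import Cfsg.Agent.Lib.helper7.KleinDef9

/-!
Perfect isometries for Klein four defect groups, part 1: general integrality lemmas.
`h7_ki_val_bound`: `p^d χ(g) / |C_G(g)|` is a local integer for `χ` in a block of defect `d`.
-/

set_option autoImplicit false
set_option linter.style.haveILetI false
set_option linter.unusedSectionVars false
set_option linter.unusedVariables false
set_option maxHeartbeats 1600000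

namespace Cfsg.Agent.Lib.helper7

open scoped ComplexConjugate
open Cfsg.Agent.Lib.helper2 Cfsg.Agent.Lib.Helper25 Cfsg.Agent.Lib.Helper24

variable {G : Type*} [Group G]

/-- `p^d χ(1) / |G|` is a local integer for `χ` in a block of defect `d` -/
theorem h7_ki_degree_bound [Finite G] (p : ℕ) [hp : Fact p.Prime] (M : Ideal Cfsg.AlgInt)
    (hM : Cfsg.IsPModular p M) (B : Set (Cfsg.IrrCharacter G)) (χ : Cfsg.IrrCharacter G)
    (hχ : χ ∈ B) :
    Cfsg.MemLocalRing M ((p : ℂ) ^ Cfsg.blockDefect p B * (χ : G → ℂ) 1 / (Nat.card G : ℂ)) := by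
  have hPr := hM.2.1.isPrime
  obtain ⟨hd1, hd2, hd3⟩ := h7_charDegree_props χ
  set deg := Cfsg.charDegree (χ : G → ℂ) with hdeg
  set a := (Nat.card G).factorization p with ha
  set fG : Cfsg.IrrCharacter G → ℕ := fun ψ => (Cfsg.charDegree (ψ : G → ℂ)).factorization p
    with hfG
  have hinf : sInf (fG '' B) ≤ fG χ := Nat.sInf_le ⟨χ, hχ, rfl⟩
  have hdef : Cfsg.blockDefect p B = a - sInf (fG '' B) := rfl
  have hle : a ≤ Cfsg.blockDefect p B + deg.factorization p := by
    rw [hdef]
    have : sInf (fG '' B) ≤ deg.factorization p := hinf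
    omega
  have hGpos : 0 < Nat.card G := Nat.card_pos
  set m := Nat.card G / p ^ (Nat.card G).factorization p with hm
  have hm1 : Nat.card G = p ^ a * m := (Nat.ordProj_mul_ordCompl_eq_self (Nat.card G) p).symm
  have hm2 : ¬ p ∣ m := Nat.not_dvd_ordCompl hp.out hGpos.ne'
  have hdvd : p ^ a ∣ p ^ Cfsg.blockDefect p B * deg := by
    have h1 : p ^ deg.factorization p ∣ deg := Nat.ordProj_dvd deg p
    calc p ^ a ∣ p ^ (Cfsg.blockDefect p B + deg.factorization p) := pow_dvd_pow p hle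
      _ = p ^ Cfsg.blockDefect p B * p ^ deg.factorization p := pow_add _ _ _
      _ ∣ p ^ Cfsg.blockDefect p B * deg := Nat.mul_dvd_mul_left _ h1
  obtain ⟨q, hq⟩ := hdvd
  have hm0 : (m : ℂ) ≠ 0 := by
    have : m ≠ 0 := by
      intro h0
      rw [h0, mul_zero] at hm1
      omega
    exact_mod_cast this
  have hp0 : ((p : ℂ) ^ a) ≠ 0 := pow_ne_zero _ (by exact_mod_cast hp.out.ne_zero)
  have e1 : (p : ℂ) ^ Cfsg.blockDefect p B * (χ : G → ℂ) 1 / (Nat.card G : ℂ) =
      (q : ℂ) * (m : ℂ)⁻¹ := by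
    rw [← hd3]
    have h2 : ((p : ℂ) ^ Cfsg.blockDefect p B * (deg : ℂ)) = (p : ℂ) ^ a * (q : ℂ) := by
      exact_mod_cast hq
    rw [h2, hm1]
    push_cast
    field_simp
  rw [e1]
  have hcop : m.Coprime p := by
    apply Nat.Coprime.symm
    exact (Nat.Prime.coprime_iff_not_dvd hp.out).mpr hm2
  exact h7_memLocalRing_mul hPr (h7_memLocalRing_natCast hPr q)
    (h7_memLocalRing_inv_natCast hM m hcop)

/-- `p^d χ(g) / |C_G(g)|` is a local integer for `χ` in a block of defect `d` -/
theorem h7_ki_val_bound [Finite G] (p : ℕ) [hp : Fact p.Prime] (M : Ideal Cfsg.AlgInt)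
    (hM : Cfsg.IsPModular p M) (B : Set (Cfsg.IrrCharacter G)) (χ : Cfsg.IrrCharacter G)
    (hχ : χ ∈ B) (g : G) :
    Cfsg.MemLocalRing M ((p : ℂ) ^ Cfsg.blockDefect p B * (χ : G → ℂ) g /
      (Nat.card (Subgroup.centralizer ({g} : Set G)) : ℂ)) := by
  have hPr := hM.2.1.isPrime
  have h1 := h7_memLocalRing_centralChar hPr χ g
  have h2 := h7_ki_degree_bound p M hM B χ hχ
  have h3 := h7_memLocalRing_mul hPr h1 h2
  have hχ1 := irr_one_ne_zero χ
  have hcard : (Nat.card G : ℂ) = ((Subgroup.centralizer ({g} : Set G)).index : ℂ) *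
      (Nat.card (Subgroup.centralizer ({g} : Set G)) : ℂ) := by
    rw [← Nat.cast_mul, Subgroup.index_mul_card]
  have hidx : ((Subgroup.centralizer ({g} : Set G)).index : ℂ) ≠ 0 := by
    have : (Subgroup.centralizer ({g} : Set G)).index ≠ 0 := Subgroup.index_ne_zero_of_finite
    exact_mod_cast this
  have hC : (Nat.card (Subgroup.centralizer ({g} : Set G)) : ℂ) ≠ 0 := by
    exact_mod_cast Nat.card_pos.ne'
  convert h3 using 1
  unfold Cfsg.centralChar
  rw [hcard]
  field_simp

end Cfsg.Agent.Lib.helper7
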