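import Mathlib
import Cfsg.Prelude.Def_Blocks
import Cfsg.Prelude.Def_BlockRank
import Cfsg.Agent.Lib.helper7.KleinIso1
import Cfsg.Agent.Lib.helper7.CharCentral

/-!
Perfect isometries for Klein four defect groups, part 2:
`h7_ki_proj_integral`: a local-integral combination of irreducible characters vanishing on the
`p`-singular elements takes values divisible by the centralizer orders.
-/

set_option autoImplicit false
set_option linter.style.haveILetI false
set_option linter.unusedSectionVars false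
set_option linter.unusedVariables false
set_option maxHeartbeats 1600000

namespace Cfsg.Agent.Lib.helper7

open scoped ComplexConjugate
open Cfsg.Agent.Lib.helper2 Cfsg.Agent.Lib.Helper25 Cfsg.Agent.Lib.Helper24

variable {G : Type*} [Group G]

/-- the scalar by which a central element acts is a root of unity, hence integral -/
theorem h7_ki_central_scalar_integral [Finite G] (θ : Cfsg.IrrCharacter G) (z : G) (c : ℂ)
    (hc : ∀ y : G, (θ : G → ℂ) (z * y) = c * (θ : G → ℂ) y) : IsIntegral ℤ c := by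
  have hn : 0 < orderOf z := orderOf_pos z
  have h1 := su_shift_pow θ z c hc (orderOf z) 1
  rw [pow_orderOf_eq_one, one_mul] at h1
  have h2 : c ^ orderOf z = 1 := by
    have h3 := irr_one_ne_zero θ
    have h4 : (c ^ orderOf z - 1) * (θ : G → ℂ) 1 = 0 := by
      rw [sub_mul, one_mul, ← h1, sub_self]
    rcases mul_eq_zero.mp h4 with h | h
    · exact sub_eq_zero.mp h
    · exact absurd h h3
  apply IsIntegral.of_pow hn
  rw [h2]
  exact isIntegral_one

/-- the sum of an irreducible character over a subgroup is the order times a natural number -/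
theorem h7_ki_sum_subgroup [Finite G] (θ : Cfsg.IrrCharacter G) (S : Subgroup G) [Fintype S] :
    ∃ k : ℕ, ∑ t : S, (θ : G → ℂ) (t : G) = (Nat.card S : ℂ) * (k : ℂ) := by
  classical
  have h1 : Cfsg.IsCharacter S (fun t : S => (θ : G → ℂ) (t : G)) :=
    isCharacter_restrict (isCharacter_of_irr θ) S
  have h2 : Cfsg.IsCharacter S ((trivIrr S : Cfsg.IrrCharacter S) : S → ℂ) :=
    isCharacter_of_irr (trivIrr S)
  obtain ⟨k, hk⟩ := classInner_character_nat h1 h2
  refine ⟨k, ?_⟩
  unfold Cfsg.classInner at hk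
  have hS : (Nat.card S : ℂ) ≠ 0 := by exact_mod_cast Nat.card_pos.ne'
  have h3 : ∑ t : S, (θ : G → ℂ) (t : G) * conj ((trivIrr S : S → ℂ) t) =
      ∑ t : S, (θ : G → ℂ) (t : G) := by
    refine Finset.sum_congr rfl fun t _ => ?_
    rw [trivIrr_apply, map_one, mul_one]
  rw [h3] at hk
  rw [← hk]
  field_simp

/-- averaging an irreducible character over `x S`, `S` a subgroup of a subgroup `C` in which `x`
is central -/
theorem h7_ki_avg_integral [Finite G] (χ : Cfsg.IrrCharacter G) (x : G) (C : Subgroup G)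
    (hxmem : x ∈ C) (hcomm : ∀ g ∈ C, g * x = x * g)
    (S : Subgroup C) [Fintype S] :
    ∃ m : ℂ, IsIntegral ℤ m ∧
      ∑ t : S, (χ : G → ℂ) (x * ((t : C) : G)) = (Nat.card S : ℂ) * m := by
  classical
  haveI : Fintype C := Fintype.ofFinite _
  haveI : Fintype (Cfsg.IrrCharacter C) := Fintype.ofFinite _
  have hψ : Cfsg.IsCharacter C (fun c : C => (χ : G → ℂ) (c : G)) :=
    isCharacter_restrict (isCharacter_of_irr χ) C
  obtain ⟨n, hn1, hn2⟩ := isCharacter_expansion hψ
  set xC : C := ⟨x, hxmem⟩ with hxC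
  have hcen : xC ∈ Subgroup.center C := by
    rw [Subgroup.mem_center_iff]
    intro g
    apply Subtype.ext
    rw [Subgroup.coe_mul, Subgroup.coe_mul]
    exact hcomm g g.2
  have hex : ∀ θ : Cfsg.IrrCharacter C, ∃ c : ℂ, ∀ y : C,
      (θ : C → ℂ) (xC * y) = c * (θ : C → ℂ) y := fun θ => h7_central_char θ.2 xC hcen
  choose c hc using hex
  have hcint : ∀ θ, IsIntegral ℤ (c θ) := fun θ =>
    h7_ki_central_scalar_integral θ xC (c θ) (hc θ)
  have hsum : ∀ θ : Cfsg.IrrCharacter C, ∃ k : ℕ,
      ∑ t : S, (θ : C → ℂ) (t : C) = (Nat.card S : ℂ) * (k : ℂ) := fun θ =>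
    h7_ki_sum_subgroup θ S
  choose k hk using hsum
  refine ⟨∑ θ : Cfsg.IrrCharacter C, (n θ : ℂ) * c θ * (k θ : ℂ), ?_, ?_⟩
  · apply IsIntegral.sum
    intro θ _
    exact ((isIntegral_natCast (n θ)).mul (hcint θ)).mul (isIntegral_natCast (k θ))
  · have h1 : ∀ t : S, (χ : G → ℂ) (x * ((t : C) : G)) =
        ∑ θ : Cfsg.IrrCharacter C, (n θ : ℂ) * c θ * (θ : C → ℂ) (t : C) := by
      intro t
      have h2 := congrFun hn2 (xC * (t : C))
      simp only [Finset.sum_apply, Pi.smul_apply, smul_eq_mul] at h2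
      have h3 : ((xC * (t : C) : C) : G) = x * ((t : C) : G) := rfl
      rw [h3] at h2
      rw [h2]
      refine Finset.sum_congr rfl fun θ _ => ?_
      rw [hc θ]
      ring
    rw [Finset.sum_congr rfl (fun t _ => h1 t), Finset.sum_comm, Finset.mul_sum]
    refine Finset.sum_congr rfl fun θ _ => ?_
    rw [← Finset.mul_sum, hk θ]
    ring

/-- a local-integral combination of irreducible characters vanishing on the `p`-singular
elements takes values divisible by the centralizer orders -/
theorem h7_ki_proj_integral [Finite G] [Fintype (Cfsg.IrrCharacter G)] (p : ℕ)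
    [hp : Fact p.Prime] (M : Ideal Cfsg.AlgInt) (hM : Cfsg.IsPModular p M)
    (a : Cfsg.IrrCharacter G → ℂ) (ha : ∀ χ, Cfsg.MemLocalRing M (a χ))
    (hvan : ∀ g : G, p ∣ orderOf g → ∑ χ : Cfsg.IrrCharacter G, a χ * (χ : G → ℂ) g = 0)
    (x : G) :
    Cfsg.MemLocalRing M ((∑ χ : Cfsg.IrrCharacter G, a χ * (χ : G → ℂ) x) /
      (Nat.card (Subgroup.centralizer ({x} : Set G)) : ℂ)) := by
  classical
  have hPr := hM.2.1.isPrime
  by_cases hx : p ∣ orderOf x
  · rw [hvan x hx, zero_div]
    exact h7_memLocalRing_zero hPr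
  set C := Subgroup.centralizer ({x} : Set G) with hC
  haveI : Fintype C := Fintype.ofFinite _
  obtain ⟨S⟩ := (inferInstance : Nonempty (Sylow p C))
  set Sg : Subgroup C := (S : Subgroup C) with hSg
  haveI : Fintype Sg := Fintype.ofFinite _
  have hxmem : x ∈ C := Subgroup.mem_centralizer_singleton_iff.mpr rfl
  have hcomm : ∀ g ∈ C, g * x = x * g := fun g hg =>
    Subgroup.mem_centralizer_singleton_iff.mp hg
  set F : G → ℂ := fun g => ∑ χ : Cfsg.IrrCharacter G, a χ * (χ : G → ℂ) g with hF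
  -- only the identity contributes
  have hsing : ∀ t : Sg, t ≠ 1 → F (x * ((t : C) : G)) = 0 := by
    intro t ht
    apply hvan
    obtain ⟨k, hk⟩ := (IsPGroup.iff_orderOf.mp S.isPGroup') t
    have hk0 : k ≠ 0 := by
      rintro rfl
      rw [pow_zero, orderOf_eq_one_iff] at hk
      exact ht hk
    have hot : orderOf ((t : C) : G) = p ^ k := by
      rw [Subgroup.orderOf_coe, Subgroup.orderOf_coe, hk]
    have hcm : Commute x ((t : C) : G) := (hcomm _ (t : C).2).symm
    have hcop : (orderOf x).Coprime (orderOf ((t : C) : G)) := by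
      rw [hot]
      apply Nat.Coprime.pow_right
      apply Nat.Coprime.symm
      exact (Nat.Prime.coprime_iff_not_dvd hp.out).mpr hx
    rw [hcm.orderOf_mul_eq_mul_orderOf_of_coprime hcop, hot]
    exact Dvd.dvd.mul_left (dvd_pow_self p hk0) _
  have hsum1 : ∑ t : Sg, F (x * ((t : C) : G)) = F x := by
    rw [Finset.sum_eq_single (1 : Sg)]
    · simp
    · intro t _ ht
      exact hsing t ht
    · intro h
      exact absurd (Finset.mem_univ _) h
  have hex : ∀ χ : Cfsg.IrrCharacter G, ∃ m : ℂ, IsIntegral ℤ m ∧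
      ∑ t : Sg, (χ : G → ℂ) (x * ((t : C) : G)) = (Nat.card Sg : ℂ) * m := fun χ =>
    h7_ki_avg_integral χ x C hxmem hcomm Sg
  choose m hm1 hm2 using hex
  have hsum2 : ∑ t : Sg, F (x * ((t : C) : G)) =
      (Nat.card Sg : ℂ) * ∑ χ : Cfsg.IrrCharacter G, a χ * m χ := by
    simp only [hF]
    rw [Finset.sum_comm, Finset.mul_sum]
    refine Finset.sum_congr rfl fun χ _ => ?_
    rw [← Finset.mul_sum, hm2 χ]
    ring
  have hidx : ¬ p ∣ Sg.index := S.not_dvd_index
  have hcard : (Nat.card C : ℂ) = (Nat.card Sg : ℂ) * (Sg.index : ℂ) := by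
    rw [← Nat.cast_mul, Subgroup.card_mul_index]
  have hSne : (Nat.card Sg : ℂ) ≠ 0 := by exact_mod_cast Nat.card_pos.ne'
  have hine : (Sg.index : ℂ) ≠ 0 := by
    have : Sg.index ≠ 0 := Subgroup.index_ne_zero_of_finite
    exact_mod_cast this
  have hFx : F x / (Nat.card C : ℂ) =
      (∑ χ : Cfsg.IrrCharacter G, a χ * m χ) * ((Sg.index : ℂ))⁻¹ := by
    rw [← hsum1, hsum2, hcard]
    field_simp
  show Cfsg.MemLocalRing M (F x / (Nat.card C : ℂ))
  rw [hFx]
  apply h7_memLocalRing_mul hPr
  · apply h7_memLocalRing_sum hPr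
    intro χ _
    exact h7_memLocalRing_mul hPr (ha χ) (h7_memLocalRing_of_isIntegral hPr (hm1 χ))
  · apply h7_memLocalRing_inv_natCast hM
    apply Nat.Coprime.symm
    exact (Nat.Prime.coprime_iff_not_dvd hp.out).mpr hidx

end Cfsg.Agent.Lib.helper7
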