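import Mathlib
import Cfsg.Prelude.Def_Blocks
import Cfsg.Prelude.Def_BlockRank
import Cfsg.Agent.Lib.helper7.KleinIso2
import Cfsg.Agent.Lib.Helper25.BrauerFeit3

/-!
Perfect isometries for Klein four defect groups, part 3:
`h7_ki_rank_one_reg`: in a `2`-block of defect two with one irreducible Brauer character all
irreducible characters agree on the `2`-regular elements, and `[θ°, θ'] = 1/4`.
-/

set_option autoImplicit false
set_option linter.style.haveILetI false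
set_option linter.unusedSectionVars false
set_option linter.unusedVariables false
set_option maxHeartbeats 1600000

namespace Cfsg.Agent.Lib.helper7

open scoped ComplexConjugate
open Cfsg.Agent.Lib.helper2 Cfsg.Agent.Lib.Helper25 Cfsg.Agent.Lib.Helper24

/-- four integers, each at least one, with sum four are all one -/
theorem h7_ki_four_ones {ι : Type*} (s : Finset ι) (hs : s.card = 4) (f : ι → ℤ)
    (hf : ∀ i ∈ s, 1 ≤ f i) (hsum : ∑ i ∈ s, f i = 4) : ∀ i ∈ s, f i = 1 := by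
  have h1 : ∑ i ∈ s, (f i - 1) = 0 := by
    rw [Finset.sum_sub_distrib, hsum]
    simp [hs]
  have h2 := (Finset.sum_eq_zero_iff_of_nonneg (fun i hi => by have := hf i hi; omega)).mp h1
  intro i hi
  have := h2 i hi
  omega

theorem h7_ki_rank_one_reg {H : Type*} [Group H] [Fintype H] (M : Ideal Cfsg.AlgInt)
    (hM : Cfsg.IsPModular 2 M) (b : Set (Cfsg.IrrCharacter H)) (hb : Cfsg.IsPBlock M b)
    (hd : Cfsg.blockDefect 2 b = 2) (hl : Cfsg.blockRank 2 b = 1) :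
    (∀ θ ∈ b, ∀ θ' ∈ b, ∀ s : H, ¬ 2 ∣ orderOf s → (θ : H → ℂ) s = (θ' : H → ℂ) s) ∧
    (∀ θ ∈ b, ∀ θ' ∈ b,
      Cfsg.classInner (Cfsg.pRegularPart 2 (θ : H → ℂ)) (θ' : H → ℂ) = 1 / 4) := by
  classical
  haveI : Fact (Nat.Prime 2) := ⟨Nat.prime_two⟩
  haveI : Fintype (Cfsg.IrrCharacter H) := Fintype.ofFinite _
  have hPr := hM.2.1.isPrime
  have hcard := h7_kd_card_four M hM b hb hd
  have hheights : ∀ θ ∈ b, Cfsg.blockHeight 2 b (θ : H → ℂ) = 0 := by
    intro θ hθ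
    have := h7_kd_heights M hM b hb hd θ hθ
    unfold Cfsg.blockHeight
    rw [this, Nat.sub_self]
  obtain ⟨θ₀, rfl⟩ := hb
  set B := Cfsg.blockOf M (θ₀ : H → ℂ) with hB
  set z := bf_z 2 B with hz
  set Bf := Finset.univ.filter (· ∈ B) with hBf
  have hBfcard : Bf.card = 4 := by
    rw [← hcard, Nat.card_eq_fintype_card, Fintype.card_subtype]
  have hmemBf : ∀ θ, θ ∈ Bf ↔ θ ∈ B := fun θ => by simp [hBf]
  have hspec : ∀ θ ∈ B, ∀ θ' ∈ B,
      (4 : ℂ) * Cfsg.classInner (Cfsg.pRegularPart 2 (θ : H → ℂ)) (θ' : H → ℂ) =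
        (z θ θ' : ℂ) := by
    intro θ hθ θ' hθ'
    have := bf_z_spec 2 M hM θ₀ θ θ' hθ hθ'
    rw [← hB, hd] at this
    rw [← this]
    norm_num
  -- the trace
  have htrace : ∑ θ ∈ Bf, z θ θ = 4 := by
    have h1 := br_rank_eq hM θ₀
    rw [← hB, hl] at h1
    have h2 : ((∑ θ ∈ Bf, z θ θ : ℤ) : ℂ) = ((4 : ℤ) : ℂ) := by
      push_cast
      rw [Finset.sum_filter]
      have h3 : (4 : ℂ) = 4 * ((1 : ℕ) : ℂ) := by norm_num
      rw [h3, h1, Finset.mul_sum]
      refine Finset.sum_congr rfl fun θ _ => ?_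
      split_ifs with h
      · exact (hspec θ h θ h).symm
      · rw [mul_zero]
    exact_mod_cast h2
  have hdiag : ∀ θ ∈ B, z θ θ = 1 := by
    intro θ hθ
    refine h7_ki_four_ones Bf hBfcard (fun θ => z θ θ) ?_ htrace θ ((hmemBf θ).mpr hθ)
    intro θ' hθ'
    have := bf_z_self_pos 2 M hM θ₀ θ' ((hmemBf θ').mp hθ')
    rw [← hB, ← hz] at this
    omega
  have hsq : ∀ θ ∈ B, ∀ θ' ∈ B, (z θ θ') ^ 2 = 1 := by
    intro θ hθ θ' hθ'
    have h1 := bf_z_sum 2 M hM θ₀ θ hθ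
    rw [← hB, ← hz, hd, hdiag θ hθ] at h1
    have h2 : ∑ ξ ∈ Bf, (z θ ξ) ^ 2 = 4 := by
      rw [hBf]
      rw [h1]
      norm_num
    refine h7_ki_four_ones Bf hBfcard (fun ξ => (z θ ξ) ^ 2) ?_ h2 θ' ((hmemBf θ').mpr hθ')
    intro ξ hξ
    have h3 := bf_z_ne_zero 2 M hM θ₀ θ ξ hθ ((hmemBf ξ).mp hξ) (hheights θ hθ)
    rw [← hB, ← hz] at h3
    have : 0 < (z θ ξ) ^ 2 := by positivity
    omega
  have hHne : (Nat.card H : ℂ) ≠ 0 := by exact_mod_cast Nat.card_pos.ne'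
  -- the sums R
  have hR : ∀ θ ∈ B, ∀ θ' ∈ B,
      ∑ s : H, Cfsg.pRegularPart 2 (θ : H → ℂ) s * conj ((θ' : H → ℂ) s) =
        (Nat.card H : ℂ) * (z θ θ' : ℂ) / 4 := by
    intro θ hθ θ' hθ'
    have h1 := hspec θ hθ θ' hθ'
    unfold Cfsg.classInner at h1
    rw [← h1]
    field_simp
  have hkey : ∀ θ ∈ B, ∀ θ' ∈ B, ∀ s : H, ¬ 2 ∣ orderOf s →
      (θ : H → ℂ) s = (z θ θ' : ℂ) * (θ' : H → ℂ) s := by
    intro θ hθ θ' hθ'
    set ε : ℂ := (z θ θ' : ℂ) with hε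
    have hε2 : ε ^ 2 = 1 := by
      have := hsq θ hθ θ' hθ'
      rw [hε]
      exact_mod_cast this
    have hεconj : conj ε = ε := by rw [hε]; exact map_intCast _ _
    have hsymm : z θ' θ = z θ θ' := by
      have := bf_z_symm 2 M hM θ₀ θ' θ hθ' hθ
      rw [← hB, ← hz] at this
      exact this
    have hterm : ∀ s : H, (if ¬ 2 ∣ orderOf s then
        (((Complex.normSq ((θ : H → ℂ) s - ε * (θ' : H → ℂ) s) : ℝ)) : ℂ) else 0) =
        Cfsg.pRegularPart 2 (θ : H → ℂ) s * conj ((θ : H → ℂ) s) -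
        ε * (Cfsg.pRegularPart 2 (θ : H → ℂ) s * conj ((θ' : H → ℂ) s)) -
        ε * (Cfsg.pRegularPart 2 (θ' : H → ℂ) s * conj ((θ : H → ℂ) s)) +
        ε ^ 2 * (Cfsg.pRegularPart 2 (θ' : H → ℂ) s * conj ((θ' : H → ℂ) s)) := by
      intro s
      by_cases hs : 2 ∣ orderOf s
      · rw [if_neg (not_not.mpr hs), br_pRegularPart_sing 2 _ s hs, br_pRegularPart_sing 2 _ s hs]
        ring
      · rw [if_pos hs, br_pRegularPart_reg 2 _ s hs, br_pRegularPart_reg 2 _ s hs,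
          Complex.normSq_eq_conj_mul_self, map_sub, map_mul, hεconj]
        ring
    have hsum0 : ∑ s : H, (if ¬ 2 ∣ orderOf s then
        (((Complex.normSq ((θ : H → ℂ) s - ε * (θ' : H → ℂ) s) : ℝ)) : ℂ) else 0) = 0 := by
      rw [Finset.sum_congr rfl (fun s _ => hterm s)]
      rw [Finset.sum_add_distrib, Finset.sum_sub_distrib, Finset.sum_sub_distrib,
        ← Finset.mul_sum, ← Finset.mul_sum, ← Finset.mul_sum,
        hR θ hθ θ hθ, hR θ hθ θ' hθ', hR θ' hθ' θ hθ, hR θ' hθ' θ' hθ',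
        hdiag θ hθ, hdiag θ' hθ', hsymm, ← hε]
      have : ε ^ 2 = 1 := hε2
      push_cast
      linear_combination (-(Nat.card H : ℂ) / 4) * this
    have hsumR : ∑ s : H, (if ¬ 2 ∣ orderOf s then
        Complex.normSq ((θ : H → ℂ) s - ε * (θ' : H → ℂ) s) else 0) = 0 := by
      have h1 : ((∑ s : H, (if ¬ 2 ∣ orderOf s then
          Complex.normSq ((θ : H → ℂ) s - ε * (θ' : H → ℂ) s) else 0) : ℝ) : ℂ) = 0 := by
        rw [← hsum0]
        push_cast
        refine Finset.sum_congr rfl fun s _ => ?_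
        split_ifs <;> simp
      exact_mod_cast h1
    have hall := (Finset.sum_eq_zero_iff_of_nonneg (fun s _ => by
      split_ifs
      · exact le_refl _
      · exact Complex.normSq_nonneg _)).mp hsumR
    intro s hs
    have h1 := hall s (Finset.mem_univ _)
    rw [if_pos hs] at h1
    have h2 := Complex.normSq_eq_zero.mp h1
    exact sub_eq_zero.mp h2
  have hz1 : ∀ θ ∈ B, ∀ θ' ∈ B, z θ θ' = 1 := by
    intro θ hθ θ' hθ'
    have h1 := hkey θ hθ θ' hθ' 1 (by rw [orderOf_one]; norm_num)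
    obtain ⟨-, hp1, hc1⟩ := h7_charDegree_props θ
    obtain ⟨-, hp2, hc2⟩ := h7_charDegree_props θ'
    rw [← hc1, ← hc2] at h1
    have h2 := hsq θ hθ θ' hθ'
    have h3 : z θ θ' = 1 ∨ z θ θ' = -1 := by
      have : (z θ θ' - 1) * (z θ θ' + 1) = 0 := by ring_nf; rw [h2]; ring
      rcases mul_eq_zero.mp this with h | h
      · left; omega
      · right; omega
    rcases h3 with h | h
    · exact h
    · exfalso
      rw [h] at h1
      have h4 : ((Cfsg.charDegree (θ : H → ℂ) : ℤ) : ℂ) =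
          ((-(Cfsg.charDegree (θ' : H → ℂ) : ℤ) : ℤ) : ℂ) := by
        push_cast
        rw [h1]
        push_cast
        ring
      have h5 : (Cfsg.charDegree (θ : H → ℂ) : ℤ) = -(Cfsg.charDegree (θ' : H → ℂ) : ℤ) := by
        exact_mod_cast h4
      omega
  refine ⟨?_, ?_⟩
  · intro θ hθ θ' hθ' s hs
    rw [hkey θ hθ θ' hθ' s hs, hz1 θ hθ θ' hθ']
    simp
  · intro θ hθ θ' hθ'
    have h1 := hspec θ hθ θ' hθ'
    rw [hz1 θ hθ θ' hθ'] at h1
    have : Cfsg.classInner (Cfsg.pRegularPart 2 (θ : H → ℂ)) (θ' : H → ℂ) =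
        (4 : ℂ)⁻¹ * ((1 : ℤ) : ℂ) := by
      rw [← h1]
      field_simp
    rw [this]
    norm_num

end Cfsg.Agent.Lib.helper7
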