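import Mathlib
import Cfsg.Prelude.Def_Blocks
import Cfsg.Prelude.Def_BlockRank
import Cfsg.Agent.Lib.helper7.KleinIso3
import Cfsg.Agent.Lib.Helper25.SubsectionBound
import Cfsg.Agent.S0923
import Cfsg.Agent.S0925

/-!
Perfect isometries for Klein four defect groups, part 4: subsections of a `2`-block of defect two
at an involution: `h7_ki_sub_basic` (`l(b) = 1`, `d(b) = 2`), `h7_ki_card_centralizer`,
`h7_ki_sum_blocks`, `h7_ki_expansion` (second main theorem as an expansion).
-/

set_option autoImplicit false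
set_option linter.style.haveILetI false
set_option linter.unusedSectionVars false
set_option linter.unusedVariables false
set_option maxHeartbeats 1600000

namespace Cfsg.Agent.Lib.helper7

open scoped ComplexConjugate
open Cfsg.Agent.Lib.helper2 Cfsg.Agent.Lib.Helper25 Cfsg.Agent.Lib.Helper24

variable {G : Type*} [Group G]

/-- heights are zero in a `2`-block of defect two -/
theorem h7_ki_heights_zero [Finite G] (M : Ideal Cfsg.AlgInt) (hM : Cfsg.IsPModular 2 M)
    (B : Set (Cfsg.IrrCharacter G)) (hB : Cfsg.IsPBlock M B) (hd : Cfsg.blockDefect 2 B = 2)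
    (χ : Cfsg.IrrCharacter G) (hχ : χ ∈ B) : Cfsg.blockHeight 2 B (χ : G → ℂ) = 0 := by
  have := h7_kd_heights M hM B hB hd χ hχ
  unfold Cfsg.blockHeight
  rw [this, Nat.sub_self]

/-- a subsection at an involution of a `2`-block of defect two: one Brauer character, defect two -/
theorem h7_ki_sub_basic [Fintype G] (M : Ideal Cfsg.AlgInt) (hM : Cfsg.IsPModular 2 M)
    (B : Set (Cfsg.IrrCharacter G)) (hB : Cfsg.IsPBlock M B) (hd : Cfsg.blockDefect 2 B = 2)
    (y : G) (hy : orderOf y = 2) (H : Subgroup G) (hH : H = Subgroup.centralizer ({y} : Set G))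
    (b : Set (Cfsg.IrrCharacter H)) (hind : Cfsg.IsInducedBlock M H b B) :
    Cfsg.blockRank 2 b = 1 ∧ Cfsg.blockDefect 2 b = 2 := by
  classical
  haveI : Fact (Nat.Prime 2) := ⟨Nat.prime_two⟩
  have hle : Cfsg.blockDefect 2 b ≤ 2 := (h7_kd_defect_le 2 M hM H b B hind).trans_eq hd
  have hyH : y ∈ H := by
    rw [hH]
    exact Subgroup.mem_centralizer_singleton_iff.mpr rfl
  have hyc : (⟨y, hyH⟩ : H) ∈ Subgroup.center H := by
    rw [Subgroup.mem_center_iff]
    intro g
    apply Subtype.ext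
    rw [Subgroup.coe_mul, Subgroup.coe_mul]
    have hg : (g : G) ∈ Subgroup.centralizer ({y} : Set G) := hH ▸ g.2
    exact Subgroup.mem_centralizer_singleton_iff.mp hg
  have hyo : orderOf (⟨y, hyH⟩ : H) = 2 := by
    rw [← Subgroup.orderOf_coe]
    exact hy
  have hrank := h7_kd_local_rank M hM (⟨y, hyH⟩ : H) hyo hyc b hind.1 hle
  refine ⟨hrank, ?_⟩
  have hcard := h7_kd_card_four M hM B hB hd
  have hmain := su_main 2 M hM B (Cfsg.blockDefect 2 b)
    (fun χ hχ => h7_ki_heights_zero M hM B hB hd χ hχ) y ⟨1, by rw [hy, pow_one]⟩ H hH b hind rfl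
  rw [hcard, hrank, mul_one] at hmain
  by_contra hne
  have h1 : Cfsg.blockDefect 2 b ≤ 1 := by omega
  have h2 : 2 ^ (2 * Cfsg.blockDefect 2 b) ≤ 2 ^ 2 :=
    Nat.pow_le_pow_right (by norm_num) (by omega)
  omega

/-- the centralizer of a `2`-regular element `s` of `C_G(y)` inside `C_G(y)` is `C_G(y s)` -/
theorem h7_ki_card_centralizer [Finite G] (y : G) (hy : ∃ k : ℕ, orderOf y = 2 ^ k)
    (H : Subgroup G) (hH : H = Subgroup.centralizer ({y} : Set G))
    (s : H) (hs : ¬ 2 ∣ orderOf s) :
    Nat.card (Subgroup.centralizer ({s} : Set H)) =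
      Nat.card (Subgroup.centralizer ({y * (s : G)} : Set G)) := by
  haveI : Fact (Nat.Prime 2) := ⟨Nat.prime_two⟩
  have hs' : ¬ 2 ∣ orderOf (s : G) := by rwa [Subgroup.orderOf_coe]
  have hmemH : ∀ g : G, g ∈ H ↔ g * y = y * g := by
    intro g
    rw [hH, Subgroup.mem_centralizer_singleton_iff]
  have hys : Commute y (s : G) := ((hmemH _).mp s.2).symm
  have hmap : (Subgroup.centralizer ({s} : Set H)).map H.subtype =
      Subgroup.centralizer ({y * (s : G)} : Set G) := by
    ext g
    rw [Subgroup.mem_map, Subgroup.mem_centralizer_singleton_iff]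
    constructor
    · rintro ⟨c, hc, rfl⟩
      have h1 : (c : G) * y = y * (c : G) := (hmemH _).mp c.2
      have h2 : c * s = s * c := Subgroup.mem_centralizer_singleton_iff.mp hc
      have h3 : (c : G) * (s : G) = (s : G) * (c : G) := by
        have := congrArg (Subtype.val : H → G) h2
        simpa using this
      show (c : G) * (y * (s : G)) = y * (s : G) * (c : G)
      rw [← mul_assoc, h1, mul_assoc, h3, mul_assoc]
    · intro hg
      have h1 : g * (y * (s : G)) * g⁻¹ = y * (s : G) := by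
        rw [hg, mul_inv_cancel_right]
      obtain ⟨h2, h3⟩ := (st_conj_split 2 y (s : G) (s : G) g hy hs' hs' hys hys).mp h1
      have hgH : g ∈ H := by
        rw [hmemH]
        calc g * y = g * y * g⁻¹ * g := by group
          _ = y * g := by rw [h2]
      refine ⟨⟨g, hgH⟩, ?_, rfl⟩
      rw [Subgroup.mem_centralizer_singleton_iff]
      apply Subtype.ext
      show g * (s : G) = (s : G) * g
      calc g * (s : G) = g * (s : G) * g⁻¹ * g := by group
        _ = (s : G) * g := by rw [h3]
  rw [← hmap]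
  exact Nat.card_congr
    (Subgroup.equivMapOfInjective _ H.subtype H.subtype_injective).toEquiv

/-- a sum over the irreducible characters, decomposed into blocks -/
theorem h7_ki_sum_blocks {K : Type*} [Group K] [Fintype K] [Fintype (Cfsg.IrrCharacter K)]
    [DecidableEq (Set (Cfsg.IrrCharacter K))]
    {M : Ideal Cfsg.AlgInt} (hPr : M.IsPrime) (g : Cfsg.IrrCharacter K → ℂ) :
    ∑ ψ, g ψ = ∑ b ∈ Finset.univ.image (fun θ : Cfsg.IrrCharacter K => Cfsg.blockOf M (θ : K → ℂ)),
      ∑ᶠ ψ ∈ b, g ψ := by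
  classical
  set blocks : Finset (Set (Cfsg.IrrCharacter K)) :=
    Finset.univ.image (fun χ : Cfsg.IrrCharacter K => Cfsg.blockOf M (χ : K → ℂ)) with hblocks
  have key : ∀ ψ : Cfsg.IrrCharacter K, g ψ = ∑ B ∈ blocks, if ψ ∈ B then g ψ else 0 := by
    intro χ
    rw [Finset.sum_eq_single (Cfsg.blockOf M (χ : K → ℂ))]
    · have hχ : χ ∈ Cfsg.blockOf M (χ : K → ℂ) := h7_sameBlock_refl hPr _
      rw [if_pos hχ]
    · intro B hB hne
      obtain ⟨χ', _, rfl⟩ := Finset.mem_image.mp hB
      rw [if_neg]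
      intro hmem
      exact hne (h7_blockOf_eq_of_mem hPr χ' χ hmem)
    · intro h
      exact absurd (Finset.mem_image.mpr ⟨χ, Finset.mem_univ _, rfl⟩) h
  rw [Finset.sum_congr rfl (fun ψ _ => key ψ), Finset.sum_comm]
  refine Finset.sum_congr rfl fun B _ => ?_
  rw [h7_finsum_mem_fintype]

/-- the second main theorem as an expansion: `χ(y s)` is the sum of the `b`-parts over the blocks
`b` of `C_G(y)` inducing `B` -/
theorem h7_ki_expansion [Fintype G] (p : ℕ) [hp : Fact p.Prime] (M : Ideal Cfsg.AlgInt)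
    (hM : Cfsg.IsPModular p M)
    (B : Set (Cfsg.IrrCharacter G)) (hB : Cfsg.IsPBlock M B) (y : G)
    (hy : ∃ k : ℕ, orderOf y = p ^ k) (H : Subgroup G)
    (hH : H = Subgroup.centralizer ({y} : Set G)) (χ : Cfsg.IrrCharacter G) (hχ : χ ∈ B)
    (s : H) (hs : ¬ p ∣ orderOf s) :
    (χ : G → ℂ) (y * (s : G)) =
      ∑ᶠ b ∈ {b : Set (Cfsg.IrrCharacter H) | Cfsg.IsInducedBlock M H b B},
        Cfsg.blockPart b (fun c : H => (χ : G → ℂ) (y * (c : G))) s := by
  classical
  subst hH
  have hPr := hM.2.1.isPrime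
  haveI : Fintype (Subgroup.centralizer ({y} : Set G)) := Fintype.ofFinite _
  haveI : Fintype (Cfsg.IrrCharacter (Subgroup.centralizer ({y} : Set G))) := Fintype.ofFinite _
  haveI : Fintype (Set (Cfsg.IrrCharacter (Subgroup.centralizer ({y} : Set G)))) :=
    Fintype.ofFinite _
  have hcent : ∀ h ∈ Subgroup.centralizer ({y} : Set G), h * y = y * h := fun h hh =>
    Subgroup.mem_centralizer_singleton_iff.mp hh
  have hFcl : ∀ g h : Subgroup.centralizer ({y} : Set G),
      (fun c : Subgroup.centralizer ({y} : Set G) => (χ : G → ℂ) (y * (c : G))) (h * g * h⁻¹) =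
      (fun c : Subgroup.centralizer ({y} : Set G) => (χ : G → ℂ) (y * (c : G))) g :=
    fun g h => st_theta_class _ y hcent χ g h
  have hexp := classFunction_expansion
    (fun c : Subgroup.centralizer ({y} : Set G) => (χ : G → ℂ) (y * (c : G))) hFcl
  have h1 : (χ : G → ℂ) (y * (s : G)) =
      ∑ ψ : Cfsg.IrrCharacter (Subgroup.centralizer ({y} : Set G)),
        Cfsg.classInner (fun c : Subgroup.centralizer ({y} : Set G) => (χ : G → ℂ) (y * (c : G)))
          (ψ : Subgroup.centralizer ({y} : Set G) → ℂ) *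
          (ψ : Subgroup.centralizer ({y} : Set G) → ℂ) s := by
    have h2 := congrFun hexp s
    rw [Finset.sum_apply] at h2
    refine h2.trans ?_
    refine Finset.sum_congr rfl fun ψ _ => ?_
    rw [Pi.smul_apply, smul_eq_mul]
  rw [h1, h7_ki_sum_blocks hPr]
  rw [h7_finsum_mem_fintype]
  rw [← Finset.sum_subset (Finset.subset_univ _)]
  · refine Finset.sum_congr rfl fun b hb => ?_
    obtain ⟨θ, _, rfl⟩ := Finset.mem_image.mp hb
    rw [← ib_blockPart_apply]
    split_ifs with h
    · rfl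
    · exact Cfsg.Agent.S0923.result p M hM y hy B hB χ hχ _ ⟨θ, rfl⟩ h s hs
  · intro b _ hb
    rw [if_neg]
    intro h
    apply hb
    obtain ⟨θ, hθ⟩ := h.1
    exact Finset.mem_image.mpr ⟨θ, Finset.mem_univ _, hθ.symm⟩

end Cfsg.Agent.Lib.helper7
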