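import Mathlib

/-!
Elementary lemmas for the Héthelyi–Külshammer–Sambale bound on height zero characters of a 2-block:
sums of powers of a 2-power root of unity over the exponents prime to its order, parity of
symmetric double sums, and the final arithmetic.
-/

set_option autoImplicit false
set_option linter.unusedVariables false

namespace Cfsg.Agent.Lib.helper7
open scoped ComplexConjugate

/-- the normalized trace of a `2`-power root of unity: `1` at `1`, `-1` at `-1`, `0` otherwise -/
noncomputable def h7_hk_r (μ : ℂ) : ℤ := if μ = 1 then 1 else if μ = -1 then -1 else 0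

theorem h7_hk_r_conj (μ : ℂ) : h7_hk_r (conj μ) = h7_hk_r μ := by
  have e1 : conj μ = 1 ↔ μ = 1 := by
    constructor
    · intro h
      have := congrArg conj h
      simpa using this
    · intro h
      simp [h]
  have e2 : conj μ = -1 ↔ μ = -1 := by
    constructor
    · intro h
      have := congrArg conj h
      simpa using this
    · intro h
      simp [h]
  unfold h7_hk_r
  simp only [e1, e2]

theorem h7_hk_r_one : h7_hk_r 1 = 1 := by
  unfold h7_hk_r
  simp

theorem h7_hk_odd_sum (μ : ℂ) (m : ℕ) :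
    ∑ j ∈ (Finset.range (2 * m)).filter (fun j => Odd j), μ ^ j =
      ∑ i ∈ Finset.range m, μ ^ (2 * i + 1) := by
  induction m with
  | zero => simp
  | succ m ih =>
    have h1 : 2 * (m + 1) = 2 * m + 1 + 1 := by ring
    have hodd : Odd (2 * m + 1) := ⟨m, rfl⟩
    have heven : ¬ Odd (2 * m) := by
      rw [Nat.not_odd_iff_even]
      exact ⟨m, by ring⟩
    rw [h1, Finset.range_add_one, Finset.filter_insert, if_pos hodd, Finset.sum_insert (by simp),
      Finset.range_add_one, Finset.filter_insert, if_neg heven, ih, Finset.sum_range_succ]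
    ring

/-- the sum of `μ^j` over the `j < 2^k` prime to `2^k`, for a `2^k`-th root of unity `μ` -/
theorem h7_hk_root_sum (k : ℕ) (μ : ℂ) (hμ : μ ^ (2 ^ k) = 1) :
    ∑ j ∈ (Finset.range (2 ^ k)).filter (Nat.Coprime (2 ^ k)), μ ^ j =
      (((Finset.range (2 ^ k)).filter (Nat.Coprime (2 ^ k))).card : ℂ) * (h7_hk_r μ : ℂ) := by
  cases k with
  | zero =>
    have h1 : μ = 1 := by simpa using hμ
    have hJ : (Finset.range (2 ^ 0)).filter (Nat.Coprime (2 ^ 0)) = {0} := by
      ext j
      simp
    rw [hJ, h1, h7_hk_r_one]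
    simp
  | succ k =>
    have hJ : (Finset.range (2 ^ (k + 1))).filter (Nat.Coprime (2 ^ (k + 1))) =
        (Finset.range (2 * 2 ^ k)).filter (fun j => Odd j) := by
      rw [show 2 ^ (k + 1) = 2 * 2 ^ k by ring]
      apply Finset.filter_congr
      intro j _
      rw [show 2 * 2 ^ k = 2 ^ (k + 1) by ring, Nat.coprime_pow_left_iff (Nat.succ_pos k),
        Nat.coprime_two_left]
    have hcard : ((Finset.range (2 * 2 ^ k)).filter (fun j => Odd j)).card = 2 ^ k := by
      have h := h7_hk_odd_sum 1 (2 ^ k)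
      simp only [one_pow, Finset.sum_const, nsmul_eq_mul, mul_one, Finset.card_range] at h
      exact_mod_cast h
    rw [hJ, hcard, h7_hk_odd_sum]
    have hsplit : ∀ i : ℕ, μ ^ (2 * i + 1) = μ * (μ ^ 2) ^ i := by
      intro i
      rw [pow_succ, pow_mul]
      ring
    rw [Finset.sum_congr rfl fun i _ => hsplit i, ← Finset.mul_sum]
    by_cases h2 : μ ^ 2 = 1
    · rw [h2]
      simp only [one_pow, Finset.sum_const, Finset.card_range, nsmul_eq_mul, mul_one]
      have h3 : μ = 1 ∨ μ = -1 := mul_self_eq_one_iff.mp (by rw [← pow_two]; exact h2)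
      rcases h3 with h3 | h3
      · rw [h3, h7_hk_r_one]
        push_cast
        ring
      · have h4 : h7_hk_r (-1) = -1 := by
          unfold h7_hk_r
          rw [if_neg (by norm_num), if_pos rfl]
        rw [h3, h4]
        push_cast
        ring
    · rw [geom_sum_eq h2, ← pow_mul, show 2 * 2 ^ k = 2 ^ (k + 1) by ring, hμ, sub_self, zero_div,
        mul_zero]
      have h3 : μ ≠ 1 := fun h => h2 (by rw [h]; ring)
      have h4 : μ ≠ -1 := fun h => h2 (by rw [h]; ring)
      unfold h7_hk_r
      rw [if_neg h3, if_neg h4]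
      simp

/-- a symmetric integer matrix with zero diagonal has even total sum -/
theorem h7_hk_even_symm {ι : Type*} [Fintype ι] [DecidableEq ι] (g : ι → ι → ℤ)
    (hs : ∀ i i', g i i' = g i' i) (hd : ∀ i, g i i = 0) : Even (∑ i, ∑ i', g i i') := by
  rw [← Finset.sum_product', even_iff_two_dvd]
  have h2 : ((2 : ℕ) : ℤ) ∣ ∑ x ∈ (Finset.univ : Finset ι) ×ˢ (Finset.univ : Finset ι), g x.1 x.2 := by
    rw [← ZMod.intCast_zmod_eq_zero_iff_dvd]
    push_cast
    apply Finset.sum_involution (fun x _ => (x.2, x.1))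
    · intro x _
      show ((g x.1 x.2 : ℤ) : ZMod 2) + ((g x.2 x.1 : ℤ) : ZMod 2) = 0
      rw [hs x.2 x.1]
      exact CharTwo.add_self_eq_zero _
    · intro x _ hne heq
      apply hne
      have h1 : x.2 = x.1 := congrArg Prod.fst heq
      rw [h1, hd]
      simp
    · intro x _
      simp
    · intro x _
      rfl
  exact_mod_cast h2

/-- the arithmetic at the end of the Héthelyi–Külshammer–Sambale argument -/
theorem h7_hk_arith {ι : Type*} (s : Finset ι) (N : ι → ℤ) (D l : ℕ)
    (hodd : ∀ i ∈ s, Odd (N i)) (hk : ∀ i ∈ s, (s.card : ℤ) ≤ (D : ℤ) * N i)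
    (hsum : ∑ i ∈ s, N i ≤ (D : ℤ) * (l : ℤ)) :
    (Odd (Nat.sqrt l) → s.card ≤ Nat.sqrt l * D) ∧
    (¬ Odd (Nat.sqrt l) → (Nat.sqrt l + 1) * s.card ≤ l * D) ∧
    (l ≤ 3 → s.card ≤ D) := by
  set t := Nat.sqrt l with ht
  have ht1 : t * t ≤ l := Nat.sqrt_le l
  have ht2 : l < (t + 1) * (t + 1) := Nat.lt_succ_sqrt l
  have ht1' : (t : ℤ) * t ≤ l := by exact_mod_cast ht1
  have ht2' : (l : ℤ) < ((t : ℤ) + 1) * (t + 1) := by exact_mod_cast ht2
  have hD0 : (0 : ℤ) ≤ D := Int.natCast_nonneg D
  have hc0 : (0 : ℤ) ≤ s.card := Int.natCast_nonneg _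
  have ht0 : (0 : ℤ) ≤ t := Int.natCast_nonneg _
  -- lower bound for the sum
  have hlow : ∀ c : ℤ, (∀ i ∈ s, c ≤ N i) → (s.card : ℤ) * c ≤ (D : ℤ) * l := by
    intro c hc
    have h1 := Finset.card_nsmul_le_sum s N c hc
    rw [nsmul_eq_mul] at h1
    exact h1.trans hsum
  have hA : Odd t → s.card ≤ t * D := by
    intro hto
    by_cases hex : ∃ i ∈ s, N i ≤ t
    · obtain ⟨i, hi, hle⟩ := hex
      have h1 := hk i hi
      have h2 : (D : ℤ) * N i ≤ D * t := mul_le_mul_of_nonneg_left hle hD0
      have h3 : (s.card : ℤ) ≤ (t : ℤ) * D := by linarith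
      exact_mod_cast h3
    · push Not at hex
      have hge : ∀ i ∈ s, (t : ℤ) + 2 ≤ N i := by
        intro i hi
        have h1 := hex i hi
        have h2 := hodd i hi
        have h3 : Odd (t : ℤ) := by exact_mod_cast hto
        obtain ⟨a, ha⟩ := h2
        obtain ⟨c, hc⟩ := h3
        omega
      have h1 := hlow _ hge
      have h2 : (s.card : ℤ) * (t + 2) ≤ (D : ℤ) * t * (t + 2) := by nlinarith
      have h3 : (s.card : ℤ) ≤ (D : ℤ) * t := le_of_mul_le_mul_right h2 (by linarith)
      have h4 : (s.card : ℤ) ≤ (t : ℤ) * D := by linarith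
      exact_mod_cast h4
  have hB : ¬ Odd t → (t + 1) * s.card ≤ l * D := by
    intro hto
    by_cases hex : ∃ i ∈ s, N i ≤ t
    · obtain ⟨i, hi, hle⟩ := hex
      have h1 := hk i hi
      have h2 := hodd i hi
      have h3 : Even (t : ℤ) := by
        have := Nat.not_odd_iff_even.mp hto
        exact_mod_cast this
      have h4 : N i ≤ (t : ℤ) - 1 := by
        obtain ⟨a, ha⟩ := h2
        obtain ⟨c, hc⟩ := h3
        omega
      have h5 : (D : ℤ) * N i ≤ D * (t - 1) := mul_le_mul_of_nonneg_left h4 hD0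
      have h6 : ((t : ℤ) + 1) * s.card ≤ (l : ℤ) * D := by nlinarith
      exact_mod_cast h6
    · push Not at hex
      have hge : ∀ i ∈ s, (t : ℤ) + 1 ≤ N i := by
        intro i hi
        have h1 := hex i hi
        omega
      have h1 := hlow _ hge
      have h6 : ((t : ℤ) + 1) * s.card ≤ (l : ℤ) * D := by linarith
      exact_mod_cast h6
  refine ⟨hA, hB, ?_⟩
  intro hl
  have ht3 : t ≤ 1 := by
    by_contra h
    push Not at h
    have : 2 * 2 ≤ t * t := Nat.mul_le_mul h h
    omega
  interval_cases t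
  · have h1 := hB (by decide)
    have hl0 : l = 0 := by omega
    rw [hl0] at h1
    omega
  · have h1 := hA (by decide)
    omega

end Cfsg.Agent.Lib.helper7
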