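import Mathlib
import Cfsg.Agent.Lib.Helper25.SubsectionBound
import Cfsg.Agent.Lib.helper7.HKS1

/-!
Divisibility by powers of two in `ℤ[ζ]`, `ζ` a primitive `2^k`-th root of unity, relative to the
local ring at a maximal ideal over `2`: if `f(ζ) / 2^h` is a local integer then `f(ζ^j) = 2^h g(ζ^j)`
for an integer polynomial `g` and all `j` prime to `2^k`.
-/

set_option autoImplicit false
set_option linter.style.haveILetI false
set_option linter.unusedVariables false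
set_option warn.classDefReducibility false
set_option maxHeartbeats 1600000

namespace Cfsg.Agent.Lib.helper7
open scoped ComplexConjugate
open Polynomial
open Cfsg.Agent.Lib.helper2
open Cfsg.Agent.Lib.Helper25
open Cfsg.Agent.Lib.Helper24

/-- values of integer polynomials at integral elements are integral -/
theorem h7_hk_aeval_integral (x : ℂ) (hx : IsIntegral ℤ x) (f : ℤ[X]) :
    IsIntegral ℤ (aeval x f) := by
  rw [aeval_eq_sum_range]
  apply IsIntegral.sum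
  intro i _
  rw [zsmul_eq_mul]
  exact IsIntegral.mul isIntegral_algebraMap (hx.pow i)

/-- one half is not a local integer -/
theorem h7_hk_half {M : Ideal Cfsg.AlgInt} (hM : Cfsg.IsPModular 2 M) :
    ¬ Cfsg.MemLocalRing M ((1 : ℂ) / 2) := by
  haveI : Fact (Nat.Prime 2) := ⟨Nat.prime_two⟩
  have hMp := hM.2.1.isPrime
  intro h
  have h2 : Cfsg.MemLocalIdeal M ((2 : ℕ) : ℂ) := h7_memLocalIdeal_p hM
  have h3 := h7_memLocalIdeal_mul_right hMp h2 h
  have h4 : (((2 : ℕ) : ℂ)) * ((1 : ℂ) / 2) = ((1 : ℕ) : ℂ) := by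
    push_cast
    norm_num
  rw [h4, h7_memLocalIdeal_natCast_iff hM] at h3
  omega

/-- an integer not in the local ideal -/
theorem h7_hk_int_not_mem {M : Ideal Cfsg.AlgInt} (hM : Cfsg.IsPModular 2 M) (a : ℤ)
    (ha : ¬ (2 : ℤ) ∣ a) : ¬ Cfsg.MemLocalIdeal M (a : ℂ) := by
  haveI : Fact (Nat.Prime 2) := ⟨Nat.prime_two⟩
  have hMp := hM.2.1.isPrime
  intro h
  have h1 := h7_intCast_not_mem hM a (by exact_mod_cast ha)
  apply h1
  rw [← h7_memLocalIdeal_algInt_iff hMp]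
  simpa using h

/-- an integer in the local ideal is even -/
theorem h7_hk_int_mem {M : Ideal Cfsg.AlgInt} (hM : Cfsg.IsPModular 2 M) (a : ℤ)
    (ha : Cfsg.MemLocalIdeal M (a : ℂ)) : (2 : ℤ) ∣ a := by
  by_contra h
  exact h7_hk_int_not_mem hM a h ha

/-- an integer divisible by `2^h` in the local ring is divisible by `2^h` in `ℤ` -/
theorem h7_hk_int_div {M : Ideal Cfsg.AlgInt} (hM : Cfsg.IsPModular 2 M) (h : ℕ) :
    ∀ a : ℤ, Cfsg.MemLocalRing M ((a : ℂ) / 2 ^ h) → (2 : ℤ) ^ h ∣ a := by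
  haveI : Fact (Nat.Prime 2) := ⟨Nat.prime_two⟩
  have hMp := hM.2.1.isPrime
  induction h with
  | zero => intro a _; simp
  | succ h ih =>
    intro a ha
    have h2R : Cfsg.MemLocalRing M ((2 : ℂ) ^ h) := by
      have := h7_memLocalRing_natCast hMp (2 ^ h)
      push_cast at this
      exact this
    have h1 : Cfsg.MemLocalRing M ((a : ℂ) / 2) := by
      have := h7_memLocalRing_mul hMp h2R ha
      have e : (2 : ℂ) ^ h * ((a : ℂ) / 2 ^ (h + 1)) = (a : ℂ) / 2 := by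
        rw [pow_succ]
        field_simp
      rwa [e] at this
    have heven : (2 : ℤ) ∣ a := by
      by_contra hodd
      have hodd' : a % 2 = 1 := by omega
      obtain ⟨c, hc⟩ : ∃ c : ℤ, a = 2 * c + 1 := ⟨a / 2, by omega⟩
      apply h7_hk_half hM
      have hcR : Cfsg.MemLocalRing M (c : ℂ) := by
        have := h7_memLocalRing_of_algInt hMp (c : Cfsg.AlgInt)
        simpa using this
      have := h7_memLocalRing_sub hMp h1 hcR
      have e : (a : ℂ) / 2 - (c : ℂ) = (1 : ℂ) / 2 := by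
        rw [hc]
        push_cast
        ring
      rwa [e] at this
    obtain ⟨a', rfl⟩ := heven
    have h3 : Cfsg.MemLocalRing M ((a' : ℂ) / 2 ^ h) := by
      have e : (((2 * a' : ℤ)) : ℂ) / 2 ^ (h + 1) = (a' : ℂ) / 2 ^ h := by
        push_cast
        rw [pow_succ]
        field_simp
      rwa [e] at ha
    obtain ⟨q, rfl⟩ := ih a' h3
    exact ⟨q, by ring⟩

/-- an integer polynomial vanishing mod 2 is twice a polynomial -/
theorem h7_hk_map_zero (P : ℤ[X]) (h : P.map (Int.castRingHom (ZMod 2)) = 0) :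
    ∃ Q : ℤ[X], P = C 2 * Q := by
  have h1 : C (2 : ℤ) ∣ P := by
    rw [C_dvd_iff_dvd_coeff]
    intro i
    have h2 := congrArg (fun q : (ZMod 2)[X] => q.coeff i) h
    simp only [coeff_map, coeff_zero] at h2
    exact (ZMod.intCast_zmod_eq_zero_iff_dvd _ 2).mp h2
  exact h1

/-- values of integer polynomials at a 2-power root of unity are congruent to the value at 1 -/
theorem h7_hk_eval_congr {M : Ideal Cfsg.AlgInt} (hM : Cfsg.IsPModular 2 M) (ζ : ℂ) (k : ℕ)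
    (hζ : ζ ^ (2 ^ k) = 1) (T : ℤ[X]) :
    Cfsg.MemLocalIdeal M (aeval ζ T - ((T.eval 1 : ℤ) : ℂ)) := by
  haveI : Fact (Nat.Prime 2) := ⟨Nat.prime_two⟩
  have hMp := hM.2.1.isPrime
  have hπ : Cfsg.MemLocalIdeal M (ζ - 1) := bp_root_sub_one hM ζ k hζ
  have hint : IsIntegral ℤ ζ := by
    apply IsIntegral.of_pow (pow_pos (by norm_num : 0 < 2) k)
    rw [hζ]
    exact isIntegral_one
  obtain ⟨T', hT'⟩ := X_sub_C_dvd_sub_C_eval (a := (1 : ℤ)) (p := T)
  have h1 := congrArg (aeval ζ) hT'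
  rw [map_sub, map_mul, map_sub, aeval_X, aeval_C, aeval_C] at h1
  have e : aeval ζ T - ((T.eval 1 : ℤ) : ℂ) = (ζ - 1) * aeval ζ T' := by
    simpa using h1
  rw [e]
  exact h7_memLocalIdeal_mul_right hMp hπ
    (h7_memLocalRing_of_isIntegral hMp (h7_hk_aeval_integral ζ hint T'))

/-- `ζ^(2^k) = -1` for a primitive `2^(k+1)`-th root of unity -/
theorem h7_hk_pow_half (k : ℕ) (ζ : ℂ) (hζ : IsPrimitiveRoot ζ (2 ^ (k + 1))) :
    ζ ^ (2 ^ k) = -1 := by
  have h1 : ζ ^ (2 ^ k) * ζ ^ (2 ^ k) = 1 := by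
    rw [← pow_add, ← two_mul, ← pow_succ']
    exact hζ.pow_eq_one
  have h2 : ζ ^ (2 ^ k) ≠ 1 :=
    hζ.pow_ne_one_of_pos_of_lt (pow_pos (by norm_num) k).ne'
      (Nat.pow_lt_pow_right (by norm_num) (Nat.lt_succ_self k))
  rcases mul_self_eq_one_iff.mp h1 with h | h
  · exact absurd h h2
  · exact h

/-- the decomposition `X^m + 1 = (X - 1)^m + 2 T` for `m = 2^k`, with `T(1) = 1` -/
theorem h7_hk_decomp (k : ℕ) :
    ∃ T : ℤ[X], (X : ℤ[X]) ^ (2 ^ k) + 1 = (X - 1) ^ (2 ^ k) + C 2 * T ∧ T.eval 1 = 1 := by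
  haveI : Fact (Nat.Prime 2) := ⟨Nat.prime_two⟩
  have h0 : ((X : ℤ[X]) ^ (2 ^ k) + 1 - (X - 1) ^ (2 ^ k)).map (Int.castRingHom (ZMod 2)) = 0 := by
    rw [Polynomial.map_sub, Polynomial.map_add, Polynomial.map_pow, Polynomial.map_pow,
      Polynomial.map_sub, Polynomial.map_X, Polynomial.map_one, sub_pow_char_pow, one_pow]
    rw [CharTwo.sub_eq_add, CharTwo.sub_eq_add, CharTwo.add_self_eq_zero]
  obtain ⟨T, hT⟩ := h7_hk_map_zero _ h0
  refine ⟨T, ?_, ?_⟩
  · rw [← hT]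
    ring
  · have h1 := congrArg (eval 1) hT
    have hm : (2 : ℕ) ^ k ≠ 0 := (pow_pos (by norm_num) k).ne'
    simp only [eval_sub, eval_add, eval_pow, eval_X, eval_one, one_pow, sub_self, eval_mul,
      eval_C, zero_pow hm] at h1
    linarith

/-- Claim A: an element `P(ζ)`, `deg P < 2^k`, of `2 R` has even coefficients -/
theorem h7_hk_claimA {M : Ideal Cfsg.AlgInt} (hM : Cfsg.IsPModular 2 M) (k : ℕ) (ζ : ℂ)
    (hζ : IsPrimitiveRoot ζ (2 ^ (k + 1))) (P : ℤ[X]) (hdeg : P.natDegree < 2 ^ k)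
    (hP : Cfsg.MemLocalRing M (aeval ζ P / 2)) : ∃ Q : ℤ[X], P = C 2 * Q := by
  haveI : Fact (Nat.Prime 2) := ⟨Nat.prime_two⟩
  have hMp := hM.2.1.isPrime
  set m := 2 ^ k with hm
  have hζ1 : ζ ^ (2 ^ (k + 1)) = 1 := hζ.pow_eq_one
  have hint : IsIntegral ℤ ζ := by
    apply IsIntegral.of_pow (pow_pos (by norm_num : 0 < 2) (k + 1))
    rw [hζ1]
    exact isIntegral_one
  have hR : ∀ T : ℤ[X], Cfsg.MemLocalRing M (aeval ζ T) := fun T =>
    h7_memLocalRing_of_isIntegral hMp (h7_hk_aeval_integral ζ hint T)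
  have hπ : Cfsg.MemLocalIdeal M (ζ - 1) := bp_root_sub_one hM ζ (k + 1) hζ1
  by_cases hP0 : P.map (Int.castRingHom (ZMod 2)) = 0
  · exact h7_hk_map_zero P hP0
  exfalso
  obtain ⟨Qb, hQb, hnd⟩ := exists_eq_pow_rootMultiplicity_mul_and_not_dvd _ hP0 (1 : ZMod 2)
  set t := rootMultiplicity (1 : ZMod 2) (P.map (Int.castRingHom (ZMod 2))) with ht
  have hQb0 : Qb ≠ 0 := by
    rintro rfl
    rw [mul_zero] at hQb
    exact hP0 hQb
  have htm : t < m := by
    have h1 : (P.map (Int.castRingHom (ZMod 2))).natDegree = t + Qb.natDegree := by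
      conv_lhs => rw [hQb]
      rw [natDegree_mul (pow_ne_zero _ (X_sub_C_ne_zero 1)) hQb0, natDegree_pow,
        natDegree_X_sub_C, mul_one]
    have h2 : (P.map (Int.castRingHom (ZMod 2))).natDegree ≤ P.natDegree := natDegree_map_le
    omega
  obtain ⟨Q, hQ⟩ := map_surjective (Int.castRingHom (ZMod 2)) ZMod.intCast_surjective Qb
  have h0 : (P - (X - 1) ^ t * Q).map (Int.castRingHom (ZMod 2)) = 0 := by
    rw [Polynomial.map_sub, Polynomial.map_mul, Polynomial.map_pow, Polynomial.map_sub,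
      Polynomial.map_X, Polynomial.map_one, hQ]
    have : (C (1 : ZMod 2) : (ZMod 2)[X]) = 1 := map_one C
    rw [this] at hQb
    rw [← hQb, sub_self]
  obtain ⟨S, hS⟩ := h7_hk_map_zero _ h0
  -- `Q(1)` is odd
  have hQ1 : ¬ (2 : ℤ) ∣ Q.eval 1 := by
    intro hd
    apply hnd
    rw [dvd_iff_isRoot, IsRoot, ← hQ, eval_one_map]
    exact (ZMod.intCast_zmod_eq_zero_iff_dvd _ 2).mpr hd
  have hQζ : ¬ Cfsg.MemLocalIdeal M (aeval ζ Q) := by
    intro h
    apply h7_hk_int_not_mem hM _ hQ1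
    have := h7_memLocalIdeal_sub hMp h (h7_hk_eval_congr hM ζ (k + 1) hζ1 Q)
    rwa [sub_sub_cancel] at this
  -- the uniformizer relation
  obtain ⟨T, hT, hT1⟩ := h7_hk_decomp k
  have hTζ : ¬ Cfsg.MemLocalIdeal M (aeval ζ T) := by
    intro h
    apply h7_hk_int_not_mem hM (T.eval 1) (by rw [hT1]; norm_num)
    have := h7_memLocalIdeal_sub hMp h (h7_hk_eval_congr hM ζ (k + 1) hζ1 T)
    rwa [sub_sub_cancel] at this
  have hrel : (ζ - 1) ^ m = - (2 * aeval ζ T) := by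
    have h1 := congrArg (aeval ζ) hT
    simp only [map_add, map_pow, aeval_X, map_one, map_sub, map_mul, aeval_C] at h1
    rw [h7_hk_pow_half k ζ hζ] at h1
    have h2 : (algebraMap ℤ ℂ) 2 = 2 := by simp
    rw [h2] at h1
    linear_combination -h1
  -- evaluate
  have hev : aeval ζ P = (ζ - 1) ^ t * aeval ζ Q + 2 * aeval ζ S := by
    have h1 : P = (X - 1) ^ t * Q + C 2 * S := by rw [← hS]; ring
    have h2 := congrArg (aeval ζ) h1
    simp only [map_add, map_pow, aeval_X, map_one, map_sub, map_mul, aeval_C] at h2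
    have h3 : (algebraMap ℤ ℂ) 2 = 2 := by simp
    rw [h3] at h2
    exact h2
  set r' := aeval ζ P / 2 - aeval ζ S with hr'
  have hr'R : Cfsg.MemLocalRing M r' := h7_memLocalRing_sub hMp hP (hR S)
  have h1 : (ζ - 1) ^ t * aeval ζ Q = 2 * r' := by
    rw [hr', hev]
    ring
  have h2 : aeval ζ T * aeval ζ Q = - (r' * (ζ - 1) ^ (m - t)) := by
    have h3 : (ζ - 1) ^ m = (ζ - 1) ^ (m - t) * (ζ - 1) ^ t := by
      rw [← pow_add]
      congr 1
      omega
    have h4 : (ζ - 1) ^ m * aeval ζ Q = (ζ - 1) ^ (m - t) * (2 * r') := by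
      rw [h3, mul_assoc, h1]
    rw [hrel] at h4
    have h5 : (2 : ℂ) ≠ 0 := two_ne_zero
    apply mul_left_cancel₀ h5
    linear_combination -h4
  have h3 : Cfsg.MemLocalIdeal M (aeval ζ T * aeval ζ Q) := by
    rw [h2]
    apply h7_memLocalIdeal_neg
    apply h7_memLocalIdeal_mul_left hMp hr'R
    have h4 : (ζ - 1) ^ (m - t) = (ζ - 1) * (ζ - 1) ^ (m - t - 1) := by
      rw [← pow_succ']
      congr 1
      omega
    rw [h4]
    apply h7_memLocalIdeal_mul_right hMp hπ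
    have h5 : ζ - 1 = aeval ζ (X - 1 : ℤ[X]) := by simp
    rw [h5, ← map_pow]
    exact hR _
  rcases h7_memLocalIdeal_mul_cases hMp (hR T) (hR Q) h3 with h | h
  · exact hTζ h
  · exact hQζ h

/-- L-div, the case of a nontrivial root of unity -/
theorem h7_hk_div_succ {M : Ideal Cfsg.AlgInt} (hM : Cfsg.IsPModular 2 M) (k : ℕ) (ζ : ℂ)
    (hζ : IsPrimitiveRoot ζ (2 ^ (k + 1))) (h : ℕ) :
    ∀ f : ℤ[X], Cfsg.MemLocalRing M (aeval ζ f / 2 ^ h) →
      ∃ g : ℤ[X], ∀ j : ℕ, (2 ^ (k + 1)).Coprime j → aeval (ζ ^ j) f = 2 ^ h * aeval (ζ ^ j) g := by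
  haveI : Fact (Nat.Prime 2) := ⟨Nat.prime_two⟩
  have hMp := hM.2.1.isPrime
  have hm0 : (2 : ℕ) ^ k ≠ 0 := (pow_pos (by norm_num) k).ne'
  have hodd : ∀ j : ℕ, (2 ^ (k + 1)).Coprime j → (ζ ^ j) ^ (2 ^ k) = -1 := by
    intro j hj
    have hj2 : Nat.Coprime 2 j := by
      have := Nat.Coprime.coprime_dvd_left (dvd_pow_self 2 (Nat.succ_ne_zero k)) hj
      exact this
    have hjodd : Odd j := Nat.coprime_two_left.mp hj2
    rw [← pow_mul, mul_comm, pow_mul, h7_hk_pow_half k ζ hζ]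
    exact hjodd.neg_one_pow
  induction h with
  | zero =>
    intro f _
    exact ⟨f, fun j _ => by simp⟩
  | succ h ih =>
    intro f hf
    have h2R : Cfsg.MemLocalRing M ((2 : ℂ) ^ h) := by
      have := h7_memLocalRing_natCast hMp (2 ^ h)
      push_cast at this
      exact this
    have hmonic : ((X : ℤ[X]) ^ (2 ^ k) + C 1).Monic := monic_X_pow_add_C 1 hm0
    have hne1 : ((X : ℤ[X]) ^ (2 ^ k) + C 1) ≠ 1 := by
      intro h1
      have h2 := congrArg natDegree h1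
      rw [natDegree_X_pow_add_C, natDegree_one] at h2
      exact hm0 h2
    set r := f %ₘ ((X : ℤ[X]) ^ (2 ^ k) + C 1) with hr
    have hrdeg : r.natDegree < 2 ^ k := by
      have := natDegree_modByMonic_lt f hmonic hne1
      rwa [natDegree_X_pow_add_C] at this
    have hfr : ∀ x : ℂ, x ^ (2 ^ k) = -1 → aeval x f = aeval x r := by
      intro x hx
      have h0 : r + ((X : ℤ[X]) ^ (2 ^ k) + C 1) * (f /ₘ ((X : ℤ[X]) ^ (2 ^ k) + C 1)) = f :=
        modByMonic_add_div f ((X : ℤ[X]) ^ (2 ^ k) + C 1)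
      generalize (f /ₘ ((X : ℤ[X]) ^ (2 ^ k) + C 1)) = q at h0
      have h1 := congrArg (aeval x) h0
      rw [map_add, map_mul, map_add, map_pow, aeval_X, aeval_C, hx] at h1
      rw [← h1]
      simp
    have hζm : ζ ^ (2 ^ k) = -1 := h7_hk_pow_half k ζ hζ
    have hr2 : Cfsg.MemLocalRing M (aeval ζ r / 2) := by
      rw [← hfr ζ hζm]
      have := h7_memLocalRing_mul hMp h2R hf
      have e : (2 : ℂ) ^ h * (aeval ζ f / 2 ^ (h + 1)) = aeval ζ f / 2 := by
        rw [pow_succ]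
        field_simp
      rwa [e] at this
    obtain ⟨r₁, hr₁⟩ := h7_hk_claimA hM k ζ hζ r hrdeg hr2
    have hr₁' : ∀ x : ℂ, aeval x r = 2 * aeval x r₁ := by
      intro x
      rw [hr₁, map_mul, aeval_C]
      simp
    have h3 : Cfsg.MemLocalRing M (aeval ζ r₁ / 2 ^ h) := by
      have e : aeval ζ r₁ / 2 ^ h = aeval ζ f / 2 ^ (h + 1) := by
        rw [hfr ζ hζm, hr₁' ζ, pow_succ]
        field_simp
      rw [e]
      exact hf
    obtain ⟨g, hg⟩ := ih r₁ h3
    refine ⟨g, fun j hj => ?_⟩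
    rw [hfr _ (hodd j hj), hr₁', hg j hj, pow_succ]
    ring

/-- L-div: if `f(ζ) / 2^h` is a local integer (`ζ` a primitive `2^k`-th root of unity) then
`f(ζ^j) = 2^h g(ζ^j)` for some integer polynomial `g` and all `j` prime to `2^k` -/
theorem h7_hk_div {M : Ideal Cfsg.AlgInt} (hM : Cfsg.IsPModular 2 M) (k : ℕ) (ζ : ℂ)
    (hζ : IsPrimitiveRoot ζ (2 ^ k)) (h : ℕ) (f : ℤ[X])
    (hf : Cfsg.MemLocalRing M (aeval ζ f / 2 ^ h)) :
    ∃ g : ℤ[X], ∀ j : ℕ, (2 ^ k).Coprime j → aeval (ζ ^ j) f = 2 ^ h * aeval (ζ ^ j) g := by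
  rcases k with _ | k
  · have hζ1 : ζ = 1 := by
      have := hζ.pow_eq_one
      simpa using this
    subst hζ1
    have hev : ∀ q : ℤ[X], aeval (1 : ℂ) q = ((q.eval 1 : ℤ) : ℂ) := by
      intro q
      rw [aeval_def, eval₂_at_one]
      simp
    rw [hev] at hf
    obtain ⟨c, hc⟩ := h7_hk_int_div hM h _ hf
    refine ⟨C c, fun j _ => ?_⟩
    rw [one_pow, hev, hc, aeval_C]
    push_cast
    simp
  · exact h7_hk_div_succ hM k ζ hζ h f hf

/-- positive reals with product at least `2` have sum exceeding their number -/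
theorem h7_hk_amgm (J : Finset ℕ) (x : ℕ → ℝ) (hx : ∀ j ∈ J, 0 < x j)
    (hP : 2 ≤ ∏ j ∈ J, x j) : (J.card : ℝ) < ∑ j ∈ J, x j := by
  have h1 : ∑ j ∈ J, Real.log (x j) ≤ ∑ j ∈ J, (x j - 1) :=
    Finset.sum_le_sum fun j hj => Real.log_le_sub_one_of_pos (hx j hj)
  have h2 : Real.log (∏ j ∈ J, x j) = ∑ j ∈ J, Real.log (x j) :=
    Real.log_prod fun j hj => (hx j hj).ne'
  have h3 : 0 < Real.log (∏ j ∈ J, x j) := Real.log_pos (by linarith)
  have h4 : ∑ j ∈ J, (x j - 1) = ∑ j ∈ J, x j - J.card := by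
    rw [Finset.sum_sub_distrib, Finset.sum_const, nsmul_eq_mul, mul_one]
  linarith

end Cfsg.Agent.Lib.helper7
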