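import Mathlib
import Cfsg.Agent.Lib.Helper25.SubsectionBound
import Cfsg.Agent.Lib.helper7.HKS1
import Cfsg.Agent.Lib.helper7.HKS3

/-!
Auxiliary lemmas for the major subsection bound: Galois traces of values of integer polynomials at
`2^k`-th roots of unity, the step for characters of positive height, and the final arithmetic.
-/

set_option autoImplicit false
set_option linter.style.haveILetI false
set_option linter.unusedVariables false
set_option warn.classDefReducibility false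
set_option maxHeartbeats 1600000

namespace Cfsg.Agent.Lib.helper7
open scoped ComplexConjugate
open Polynomial
open Cfsg.Agent.Lib.helper2
open Cfsg.Agent.Lib.Helper25
open Cfsg.Agent.Lib.Helper24

/-- complex conjugation commutes with evaluation of integer polynomials -/
theorem h7_hk_conj_aeval (x : ℂ) (g : ℤ[X]) : conj (aeval x g) = aeval (conj x) g := by
  rw [aeval_eq_sum_range, aeval_eq_sum_range, map_sum]
  refine Finset.sum_congr rfl fun i _ => ?_
  rw [zsmul_eq_mul, zsmul_eq_mul, map_mul, map_pow, map_intCast]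

/-- `(2^k - 1) j` is prime to `2^k` when `j` is -/
theorem h7_hk_coprime_neg (k j : ℕ) (hj : (2 ^ k).Coprime j) :
    (2 ^ k).Coprime ((2 ^ k - 1) * j) := by
  rcases k with _ | k
  · simp
  · apply Nat.Coprime.mul_right _ hj
    apply Nat.Coprime.pow_left
    rw [Nat.coprime_two_left]
    have h1 : 2 ^ (k + 1) = 2 * 2 ^ k := pow_succ' 2 k
    have h2 : 0 < 2 ^ k := pow_pos (by norm_num) k
    exact ⟨2 ^ k - 1, by omega⟩

/-- the conjugate of a value at `ζ^j` is the value at `ζ^((n-1) j)` -/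
theorem h7_hk_conj_pow (k : ℕ) (ζ : ℂ) (hζ : ζ ^ (2 ^ k) = 1) (g : ℤ[X]) (j : ℕ) :
    conj (aeval (ζ ^ j) g) = aeval (ζ ^ ((2 ^ k - 1) * j)) g := by
  rw [h7_hk_conj_aeval, map_pow, su_conj_root ζ (2 ^ k) (pow_pos (by norm_num) k).ne' hζ, ← pow_mul]

/-- the Galois trace of `g(ζ)` is `|J|` times an integer -/
theorem h7_hk_trace_int (k : ℕ) (ζ : ℂ) (hζ : ζ ^ (2 ^ k) = 1) (g : ℤ[X]) :
    ∃ t : ℤ, ∑ j ∈ (Finset.range (2 ^ k)).filter (Nat.Coprime (2 ^ k)), aeval (ζ ^ j) g =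
      (((Finset.range (2 ^ k)).filter (Nat.Coprime (2 ^ k))).card : ℂ) * (t : ℂ) := by
  refine ⟨∑ i ∈ Finset.range (g.natDegree + 1), g.coeff i * h7_hk_r (ζ ^ i), ?_⟩
  have h1 : ∀ j : ℕ, aeval (ζ ^ j) g =
      ∑ i ∈ Finset.range (g.natDegree + 1), (g.coeff i : ℂ) * (ζ ^ i) ^ j := by
    intro j
    rw [aeval_eq_sum_range]
    refine Finset.sum_congr rfl fun i _ => ?_
    rw [zsmul_eq_mul, ← pow_mul, ← pow_mul, mul_comm j i]
  rw [Finset.sum_congr rfl fun j _ => h1 j, Finset.sum_comm]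
  push_cast
  rw [Finset.mul_sum]
  refine Finset.sum_congr rfl fun i _ => ?_
  have h2 : (ζ ^ i) ^ (2 ^ k) = 1 := by rw [← pow_mul, mul_comm, pow_mul, hζ, one_pow]
  rw [← Finset.mul_sum, h7_hk_root_sum k (ζ ^ i) h2]
  ring

/-- the step for characters of positive height: positive real Galois conjugates in the maximal
ideal have trace at least `2 |J|` -/
theorem h7_hk_pos_step {M : Ideal Cfsg.AlgInt} (hM : Cfsg.IsPModular 2 M) (k : ℕ) (ζ : ℂ)
    (hζ : IsPrimitiveRoot ζ (2 ^ k)) (g : ℤ[X])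
    (hpos : ∀ j ∈ (Finset.range (2 ^ k)).filter (Nat.Coprime (2 ^ k)),
      ∃ x : ℝ, 0 < x ∧ aeval (ζ ^ j) g = (x : ℂ))
    (hmem : ∀ j ∈ (Finset.range (2 ^ k)).filter (Nat.Coprime (2 ^ k)),
      Cfsg.MemLocalIdeal M (aeval (ζ ^ j) g)) :
    ∃ t : ℤ, 2 ≤ t ∧
      ∑ j ∈ (Finset.range (2 ^ k)).filter (Nat.Coprime (2 ^ k)), aeval (ζ ^ j) g =
        (((Finset.range (2 ^ k)).filter (Nat.Coprime (2 ^ k))).card : ℂ) * (t : ℂ) := by
  haveI : Fact (Nat.Prime 2) := ⟨Nat.prime_two⟩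
  have hMp := hM.2.1.isPrime
  set n := 2 ^ k with hn
  have hn0 : 0 < n := pow_pos (by norm_num) k
  set J := (Finset.range n).filter (Nat.Coprime n) with hJ
  have hJpos : 0 < J.card := by
    have : J.card = Nat.totient n := (Nat.totient_eq_card_coprime n).symm
    rw [this]
    exact Nat.totient_pos.mpr hn0
  obtain ⟨j₀, hj₀⟩ : J.Nonempty := Finset.card_pos.mp hJpos
  obtain ⟨t, ht⟩ := h7_hk_trace_int k ζ hζ.pow_eq_one g
  refine ⟨t, ?_, ht⟩
  choose! x hx0 hx using hpos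
  have hζint : IsIntegral ℤ ζ := hζ.isIntegral hn0
  -- the value at `ζ` is nonzero
  have hne : aeval ζ g ≠ 0 := by
    intro h0
    -- all conjugates vanish, in particular the one at `j₀`
    have h1 : aeval (ζ ^ j₀) g ≠ 0 := by
      rw [hx j₀ hj₀]
      exact_mod_cast (hx0 j₀ hj₀).ne'
    apply h1
    have hj₀' : n.Coprime j₀ := (Finset.mem_filter.mp hj₀).2
    have hprim : IsPrimitiveRoot (ζ ^ j₀) n := hζ.pow_of_coprime j₀ hj₀'.symm
    -- `g` is divisible by the minimal polynomial of `ζ`, which is that of `ζ ^ j₀`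
    have hmin : minpoly ℤ ζ ∣ g := minpoly.isIntegrallyClosed_dvd hζint h0
    have hmin2 : minpoly ℤ ζ = minpoly ℤ (ζ ^ j₀) := by
      rw [← Polynomial.cyclotomic_eq_minpoly hζ hn0, ← Polynomial.cyclotomic_eq_minpoly hprim hn0]
    obtain ⟨q, hq⟩ := hmin
    rw [hq, hmin2, map_mul, minpoly.aeval, zero_mul]
  obtain ⟨P, hP0, hP⟩ := gn_prod_range n hn0 g ζ hζ hne
  -- the product as a real number
  have hPx : ((∏ j ∈ J, x j : ℝ) : ℂ) = (P : ℂ) := by
    rw [← hP, Complex.ofReal_prod]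
    exact Finset.prod_congr rfl fun j hj => (hx j hj).symm
  have hPx' : ∏ j ∈ J, x j = (P : ℝ) := by exact_mod_cast hPx
  have hPpos : (0 : ℝ) < (P : ℝ) := by
    rw [← hPx']
    exact Finset.prod_pos fun j hj => hx0 j hj
  have hPpos' : 0 < P := by exact_mod_cast hPpos
  -- the product lies in the ideal
  have hPmem : Cfsg.MemLocalIdeal M (P : ℂ) := by
    rw [← hP, ← Finset.mul_prod_erase J _ hj₀]
    apply h7_memLocalIdeal_mul_right hMp (hmem j₀ hj₀)
    apply h7_memLocalRing_of_isIntegral hMp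
    apply IsIntegral.prod
    intro j _
    exact h7_hk_aeval_integral _ (hζint.pow j) g
  have hPeven : (2 : ℤ) ∣ P := h7_hk_int_mem hM P hPmem
  have hP2 : (2 : ℝ) ≤ ∏ j ∈ J, x j := by
    rw [hPx']
    have : 2 ≤ P := by
      obtain ⟨c, hc⟩ := hPeven
      omega
    exact_mod_cast this
  have hsum := h7_hk_amgm J x (fun j hj => hx0 j hj) hP2
  -- compare with the trace
  have hsumx : ((∑ j ∈ J, x j : ℝ) : ℂ) = (J.card : ℂ) * (t : ℂ) := by
    rw [← ht, Complex.ofReal_sum]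
    exact Finset.sum_congr rfl fun j hj => (hx j hj).symm
  have hsumx' : ∑ j ∈ J, x j = (J.card : ℝ) * (t : ℝ) := by exact_mod_cast hsumx
  rw [hsumx'] at hsum
  have hJpos' : (0 : ℝ) < J.card := by exact_mod_cast hJpos
  have h1 : (1 : ℝ) < (t : ℝ) := by
    by_contra hle
    rw [not_lt] at hle
    have : (J.card : ℝ) * (t : ℝ) ≤ (J.card : ℝ) * 1 :=
      mul_le_mul_of_nonneg_left hle hJpos'.le
    linarith
  have h2 : (1 : ℤ) < t := by exact_mod_cast h1
  omega

/-- the final arithmetic -/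
theorem h7_hk_arith2 {ι : Type*} (Bf : Finset ι) (ht : ι → ℕ) (N : ι → ℤ) (d l : ℕ)
    (hsum : ∑ i ∈ Bf, N i = (2 : ℤ) ^ d * (l : ℤ)) (hl : l ≤ 3)
    (hodd : ∀ i ∈ Bf, ht i = 0 → Odd (N i))
    (h0 : ∀ i ∈ Bf, ht i = 0 → ∑ j ∈ Bf, (4 : ℤ) ^ ht j ≤ (2 : ℤ) ^ d * N i)
    (hpos : ∀ i ∈ Bf, 1 ≤ ht i → (2 : ℤ) ^ (ht i + 1) ≤ N i) :
    3 * (Bf.filter (fun i => ht i = 0)).card +
      2 * ∑ i ∈ Bf.filter (fun i => 1 ≤ ht i), 2 ^ ht i ≤ 3 * 2 ^ d := by
  classical
  set A := Bf.filter (fun i => ht i = 0) with hA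
  set C := Bf.filter (fun i => 1 ≤ ht i) with hC
  have hsplit : ∀ F : ι → ℤ, ∑ i ∈ Bf, F i = ∑ i ∈ A, F i + ∑ i ∈ C, F i := by
    intro F
    rw [← Finset.sum_filter_add_sum_filter_not Bf (fun i => ht i = 0) F]
    congr 1
    apply Finset.sum_congr _ (fun _ _ => rfl)
    apply Finset.filter_congr
    intro i _
    omega
  have h2d : (0 : ℤ) < (2 : ℤ) ^ d := by positivity
  have goalZ : (3 : ℤ) * (A.card : ℤ) + 2 * ∑ i ∈ C, (2 : ℤ) ^ ht i ≤ 3 * (2 : ℤ) ^ d := by
    by_cases hcase : ∃ i ∈ Bf, ht i = 0 ∧ N i = 1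
    · obtain ⟨i, hi, hi0, hi1⟩ := hcase
      have h1 := h0 i hi hi0
      rw [hi1, mul_one, hsplit] at h1
      have hA1 : ∑ j ∈ A, (4 : ℤ) ^ ht j = (A.card : ℤ) := by
        rw [Finset.sum_congr rfl (g := fun _ => (1 : ℤ))]
        · simp
        · intro j hj
          have : ht j = 0 := (Finset.mem_filter.mp hj).2
          rw [this, pow_zero]
      have hC1 : 2 * ∑ j ∈ C, (2 : ℤ) ^ ht j ≤ 3 * ∑ j ∈ C, (4 : ℤ) ^ ht j := by
        rw [Finset.mul_sum, Finset.mul_sum]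
        apply Finset.sum_le_sum
        intro j _
        have e : (4 : ℤ) ^ ht j = (2 : ℤ) ^ ht j * (2 : ℤ) ^ ht j := by
          rw [← mul_pow]; norm_num
        have h2 : (1 : ℤ) ≤ (2 : ℤ) ^ ht j := one_le_pow₀ (by norm_num)
        rw [e]
        nlinarith
      rw [hA1] at h1
      linarith
    · push Not at hcase
      have hA3 : ∀ i ∈ A, (3 : ℤ) ≤ N i := by
        intro i hi
        obtain ⟨hiB, hi0⟩ := Finset.mem_filter.mp hi
        have h1 := h0 i hiB hi0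
        have h2 : (1 : ℤ) ≤ ∑ j ∈ Bf, (4 : ℤ) ^ ht j := by
          have h3 : (4 : ℤ) ^ ht i ≤ ∑ j ∈ Bf, (4 : ℤ) ^ ht j :=
            Finset.single_le_sum (f := fun j => (4 : ℤ) ^ ht j) (fun j _ => by positivity) hiB
          rw [hi0, pow_zero] at h3
          exact h3
        have h4 : 0 < N i := by
          by_contra hle
          rw [not_lt] at hle
          have : (2 : ℤ) ^ d * N i ≤ 0 := mul_nonpos_of_nonneg_of_nonpos h2d.le hle
          linarith
        have h5 := hcase i hiB hi0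
        obtain ⟨c, hc⟩ := hodd i hiB hi0
        omega
      have h1 : (3 : ℤ) * (A.card : ℤ) ≤ ∑ i ∈ A, N i := by
        have : ∑ i ∈ A, (3 : ℤ) ≤ ∑ i ∈ A, N i := Finset.sum_le_sum hA3
        rw [Finset.sum_const, nsmul_eq_mul] at this
        linarith
      have h2 : 2 * ∑ i ∈ C, (2 : ℤ) ^ ht i ≤ ∑ i ∈ C, N i := by
        rw [Finset.mul_sum]
        apply Finset.sum_le_sum
        intro i hi
        obtain ⟨hiB, hi1⟩ := Finset.mem_filter.mp hi
        have := hpos i hiB hi1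
        rw [pow_succ] at this
        linarith
      have h3 := hsplit N
      rw [hsum] at h3
      have h4 : (2 : ℤ) ^ d * (l : ℤ) ≤ (2 : ℤ) ^ d * 3 := by
        apply mul_le_mul_of_nonneg_left _ h2d.le
        exact_mod_cast hl
      linarith
  exact_mod_cast goalZ

end Cfsg.Agent.Lib.helper7
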