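import Mathlib
import Cfsg.Agent.Lib.Helper25.SubsectionBound
import Cfsg.Agent.Lib.helper7.HKS5
import Cfsg.Agent.Lib.helper7.HKS6

/-!
The bound `3 k₀(B) + 2 Σ_{h(χ) > 0} 2^{h(χ)} ≤ 3 · 2^d` for a 2-block `B` with a major subsection
`(y, b)` such that `l(b) ≤ 3`.
-/

set_option autoImplicit false
set_option linter.style.haveILetI false
set_option linter.unusedVariables false
set_option warn.classDefReducibility false
set_option maxHeartbeats 3200000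

namespace Cfsg.Agent.Lib.helper7
open scoped ComplexConjugate
open Polynomial
open Cfsg.Agent.Lib.helper2
open Cfsg.Agent.Lib.Helper25
open Cfsg.Agent.Lib.Helper24

theorem h7_hk_major {G : Type*} [Group G] [Fintype G]
    (M : Ideal Cfsg.AlgInt) (hM : Cfsg.IsPModular 2 M) (B : Set (Cfsg.IrrCharacter G))
    (y : G) (k : ℕ) (hk : orderOf y = 2 ^ k)
    (H : Subgroup G) [Fintype H] (hH : H = Subgroup.centralizer ({y} : Set G))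
    (b : Set (Cfsg.IrrCharacter H))
    (hind : Cfsg.IsInducedBlock M H b B)
    (hdef : Cfsg.blockDefect 2 b = Cfsg.blockDefect 2 B)
    (hl : Cfsg.blockRank 2 b ≤ 3)
    (Bf : Finset (Cfsg.IrrCharacter G)) (hBf : ∀ χ, χ ∈ Bf ↔ χ ∈ B) :
    3 * (Bf.filter (fun χ : Cfsg.IrrCharacter G =>
        Cfsg.blockHeight 2 B (χ : G → ℂ) = 0)).card +
      2 * ∑ χ ∈ Bf.filter (fun χ : Cfsg.IrrCharacter G =>
        1 ≤ Cfsg.blockHeight 2 B (χ : G → ℂ)),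
        2 ^ Cfsg.blockHeight 2 B (χ : G → ℂ) ≤ 3 * 2 ^ Cfsg.blockDefect 2 B := by
  classical
  haveI hp : Fact (Nat.Prime 2) := ⟨Nat.prime_two⟩
  have hMp := hM.2.1.isPrime
  haveI : Fintype (Cfsg.IrrCharacter H) := Fintype.ofFinite _
  haveI : Fintype (Cfsg.IrrCharacter G) := Fintype.ofFinite _
  obtain ⟨ζ, f, N, hζ, hf, hN, hodd, hsymm⟩ := h7_hk_data M hM B y k hk H hH b hind
  set n := 2 ^ k with hn
  have hn0 : 0 < n := pow_pos (by norm_num) k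
  set J := (Finset.range n).filter (Nat.Coprime n) with hJ
  have hJpos : 0 < J.card := by
    have : J.card = Nat.totient n := (Nat.totient_eq_card_coprime n).symm
    rw [this]
    exact Nat.totient_pos.mpr hn0
  have hJpos' : (0 : ℝ) < J.card := by exact_mod_cast hJpos
  have hJne : (J.card : ℂ) ≠ 0 := by exact_mod_cast hJpos.ne'
  have hJcop : ∀ j ∈ J, n.Coprime j := fun j hj => (Finset.mem_filter.mp hj).2
  have h1cop : n.Coprime 1 := Nat.coprime_one_right n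
  set d := Cfsg.blockDefect 2 b with hd
  set l := Cfsg.blockRank 2 b with hldef
  set ht : Cfsg.IrrCharacter G → ℕ := fun χ => Cfsg.blockHeight 2 B (χ : G → ℂ) with hht
  have hyH : y ∈ H := by
    rw [hH]
    exact Subgroup.mem_centralizer_singleton_iff.mpr rfl
  have hcent : ∀ h ∈ H, h * y = y * h := fun h hh =>
    Subgroup.mem_centralizer_singleton_iff.mp (hH ▸ hh)
  have hyk : y ^ n = 1 := by rw [← hk]; exact pow_orderOf_eq_one y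
  have hpow : ∀ j : ℕ, n.Coprime j → y ^ j ∈ H ∧ (∀ h ∈ H, h * y ^ j = y ^ j * h) ∧
      (∀ g : G, g * y ^ j = y ^ j * g → g ∈ H) ∧ (∃ k' : ℕ, orderOf (y ^ j) = 2 ^ k') := by
    intro j hj
    have h0 := su_pow_hyp 2 y k hk j (by rw [hk]; exact hj)
    rw [← hH] at h0
    exact h0
  have hBfeq : Bf = Finset.univ.filter (· ∈ B) := by
    ext χ
    simp [hBf]
  have hfs : ∀ g : Cfsg.IrrCharacter G → ℂ, ∑ᶠ χ ∈ B, g χ = ∑ χ ∈ Bf, g χ := by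
    intro g
    rw [h7_finsum_mem_fintype B, hBfeq, Finset.sum_filter]
  have hDconj : conj ((2 : ℂ) ^ d) = (2 : ℂ) ^ d := by rw [map_pow, Complex.conj_ofNat]
  have h2d0 : (2 : ℂ) ^ d ≠ 0 := pow_ne_zero _ two_ne_zero
  -- (F1)
  have hF1 : ∀ j : ℕ, n.Coprime j → ∀ χ : Cfsg.IrrCharacter G,
      ((∑ ψ ∈ Bf, ‖aeval (ζ ^ j) (f χ ψ)‖ ^ 2 : ℝ) : ℂ) =
        (2 : ℂ) ^ d * aeval (ζ ^ j) (f χ χ) := by
    intro j hj χ
    obtain ⟨h1, h2, h3, h4⟩ := hpow j hj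
    have h6 := su_idem 2 M hM H (y ^ j) h1 h2 h3 h4 b B hind χ χ
    rw [hfs] at h6
    have h6' : ∑ ψ ∈ Bf, h7_hk_W H b (y ^ j) χ ψ * conj (h7_hk_W H b (y ^ j) χ ψ) =
        h7_hk_W H b (y ^ j) χ χ := h6
    rw [hf χ χ j, ← h6', Finset.mul_sum, Finset.mul_sum, Complex.ofReal_sum]
    refine Finset.sum_congr rfl fun ψ _ => ?_
    rw [hf χ ψ j]
    have e : (((‖(2 : ℂ) ^ d * h7_hk_W H b (y ^ j) χ ψ‖ ^ 2 : ℝ)) : ℂ) =
        ((2 : ℂ) ^ d * h7_hk_W H b (y ^ j) χ ψ) * conj ((2 : ℂ) ^ d * h7_hk_W H b (y ^ j) χ ψ) := by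
      rw [Complex.mul_conj, Complex.normSq_eq_norm_sq]
    rw [e, map_mul, hDconj]
    ring
  -- (F2)
  have hF2 : ∀ j : ℕ, n.Coprime j →
      ∑ χ ∈ Bf, aeval (ζ ^ j) (f χ χ) = (2 : ℂ) ^ d * (l : ℂ) := by
    intro j hj
    obtain ⟨h1, h2, h3, h4⟩ := hpow j hj
    have h5 := st_trace 2 M hM H (y ^ j) h1 h2 h3 h4 b B hind
    rw [hfs] at h5
    have h5' : ∑ χ ∈ Bf, h7_hk_W H b (y ^ j) χ χ = (l : ℂ) := h5
    rw [← h5', Finset.mul_sum]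
    exact Finset.sum_congr rfl fun χ _ => hf χ χ j
  -- congruences
  have hcong : ∀ j : ℕ, n.Coprime j → ∀ χ ψ ψ' : Cfsg.IrrCharacter G, ψ ∈ B → ψ' ∈ B →
      Cfsg.MemLocalRing M (aeval (ζ ^ j) (f χ ψ) / (2 : ℂ) ^ ht ψ) ∧
      (Cfsg.MemLocalIdeal M (aeval (ζ ^ j) (f χ ψ) / (2 : ℂ) ^ ht ψ) →
        Cfsg.MemLocalIdeal M (aeval (ζ ^ j) (f χ ψ') / (2 : ℂ) ^ ht ψ')) := by
    intro j hj χ ψ ψ' hψ hψ'
    obtain ⟨h1, h2, h3, h4⟩ := hpow j hj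
    rw [hf χ ψ j, hf χ ψ' j]
    exact h7_hk_cong M hM H (y ^ j) h1 h2 h3 h4 b B hind hdef χ ψ ψ' hψ hψ'
  -- units
  have hunit : ∀ χ ψ : Cfsg.IrrCharacter G, χ ∈ B → ψ ∈ B → ht χ = 0 → ht ψ = 0 → ∀ j : ℕ,
      ¬ Cfsg.MemLocalIdeal M (aeval (ζ ^ j) (f χ ψ)) := by
    intro χ ψ hχ hψ hχ0 hψ0 j
    have h1 := su_unit 2 M hM H y hyH hcent k hyk b B hind χ ψ hχ hψ hχ0 hψ0 j
    rw [hf χ ψ j]
    have e : (2 : ℂ) ^ d * h7_hk_W H b (y ^ j) χ ψ =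
        ((2 : ℕ) : ℂ) ^ Cfsg.blockDefect 2 b * Cfsg.classInner
      (Cfsg.pRegularPart 2 (Cfsg.blockPart b (fun c : H => (χ : G → ℂ) (y ^ j * (c : G)))))
      (Cfsg.blockPart b (fun c : H => (ψ : G → ℂ) (y ^ j * (c : G)))) := by
      push_cast
      rfl
    rw [e]
    exact h1
  have hG1 : ∀ j : ℕ, n.Coprime j → ∀ χ ∈ B, ht χ = 0 → ∀ ψ ∈ B,
      ¬ Cfsg.MemLocalIdeal M (aeval (ζ ^ j) (f χ ψ) / (2 : ℂ) ^ ht ψ) := by
    intro j hj χ hχ hχ0 ψ hψ hmem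
    have h1 := (hcong j hj χ ψ χ hψ hχ).2 hmem
    rw [hχ0, pow_zero, div_one] at h1
    exact hunit χ χ hχ hχ hχ0 hχ0 j h1
  have hswap : ∀ (χ ψ : Cfsg.IrrCharacter G) (j : ℕ),
      aeval (ζ ^ j) (f ψ χ) = aeval (ζ ^ ((n - 1) * j)) (f χ ψ) := by
    intro χ ψ j
    rw [hsymm χ ψ j, h7_hk_conj_pow k ζ hζ.pow_eq_one]
  -- a height zero character
  obtain ⟨χ₁, hB₁⟩ := hind.2.1
  have hχ₁ : χ₁ ∈ B := by
    rw [hB₁]
    exact h7_sameBlock_refl hMp _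
  obtain ⟨χ₀, hχ₀B, hχ₀0⟩ := bf_exists_height_zero 2 B ⟨χ₁, hχ₁⟩
  have hχ₀0' : ht χ₀ = 0 := hχ₀0
  have hχ₀f : χ₀ ∈ Bf := (hBf χ₀).mpr hχ₀B
  have h2mem : ∀ h : ℕ, 1 ≤ h → Cfsg.MemLocalIdeal M ((2 : ℂ) ^ h) := by
    intro h hh
    have h1 : Cfsg.MemLocalIdeal M ((2 : ℕ) : ℂ) := h7_memLocalIdeal_p hM
    have h2 : (2 : ℂ) ^ h = ((2 : ℕ) : ℂ) * ((2 ^ (h - 1) : ℕ) : ℂ) := by
      push_cast
      rw [← pow_succ']
      congr 1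
      omega
    rw [h2]
    exact h7_memLocalIdeal_mul_right hMp h1 (h7_memLocalRing_natCast hMp _)
  have hG2 : ∀ j : ℕ, n.Coprime j → ∀ ψ ∈ B, 1 ≤ ht ψ →
      Cfsg.MemLocalIdeal M (aeval (ζ ^ j) (f ψ ψ) / (2 : ℂ) ^ ht ψ) := by
    intro j hj ψ hψ hψ1
    have hj' : n.Coprime ((n - 1) * j) := h7_hk_coprime_neg k j hj
    have h1 := (hcong _ hj' χ₀ ψ ψ hψ hψ).1
    have h2 : Cfsg.MemLocalIdeal M (aeval (ζ ^ j) (f ψ χ₀)) := by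
      rw [hswap χ₀ ψ j]
      have h2h : (2 : ℂ) ^ ht ψ ≠ 0 := pow_ne_zero _ two_ne_zero
      have e : aeval (ζ ^ ((n - 1) * j)) (f χ₀ ψ) =
          (2 : ℂ) ^ ht ψ * (aeval (ζ ^ ((n - 1) * j)) (f χ₀ ψ) / (2 : ℂ) ^ ht ψ) := by
        field_simp
      rw [e]
      exact h7_memLocalIdeal_mul_right hMp (h2mem _ hψ1) h1
    have h3 : Cfsg.MemLocalIdeal M (aeval (ζ ^ j) (f ψ χ₀) / (2 : ℂ) ^ ht χ₀) := by
      rw [hχ₀0', pow_zero, div_one]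
      exact h2
    exact (hcong j hj ψ χ₀ ψ hχ₀B hψ).2 h3
  -- positivity
  have hG3 : ∀ j : ℕ, n.Coprime j → ∀ ψ ∈ B,
      ∃ x : ℝ, 0 < x ∧ aeval (ζ ^ j) (f ψ ψ) = (x : ℂ) := by
    intro j hj ψ hψ
    have h1 := hF1 j hj ψ
    refine ⟨(∑ φ ∈ Bf, ‖aeval (ζ ^ j) (f ψ φ)‖ ^ 2) / (2 : ℝ) ^ d, ?_, ?_⟩
    · apply div_pos _ (by positivity)
      have hne : aeval (ζ ^ j) (f ψ χ₀) ≠ 0 := by
        rw [hswap χ₀ ψ j]
        intro h0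
        apply hG1 _ (h7_hk_coprime_neg k j hj) χ₀ hχ₀B hχ₀0' ψ hψ
        rw [h0, zero_div]
        exact h7_memLocalIdeal_zero hMp
      calc (0 : ℝ) < ‖aeval (ζ ^ j) (f ψ χ₀)‖ ^ 2 := by positivity
        _ ≤ ∑ φ ∈ Bf, ‖aeval (ζ ^ j) (f ψ φ)‖ ^ 2 :=
            Finset.single_le_sum (f := fun φ => ‖aeval (ζ ^ j) (f ψ φ)‖ ^ 2)
              (fun _ _ => by positivity) hχ₀f
    · rw [Complex.ofReal_div, h1]
      push_cast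
      field_simp
  -- the double sums
  have hE : ∀ χ : Cfsg.IrrCharacter G, ∑ j ∈ J, ∑ ψ ∈ Bf, ‖aeval (ζ ^ j) (f χ ψ)‖ ^ 2 =
      (2 : ℝ) ^ d * ((J.card : ℝ) * (N χ : ℝ)) := by
    intro χ
    have h1 : ((∑ j ∈ J, ∑ ψ ∈ Bf, ‖aeval (ζ ^ j) (f χ ψ)‖ ^ 2 : ℝ) : ℂ) =
        (((2 : ℝ) ^ d * ((J.card : ℝ) * (N χ : ℝ)) : ℝ) : ℂ) := by
      rw [Complex.ofReal_sum, Finset.sum_congr rfl (fun j hj => hF1 j (hJcop j hj) χ),
        ← Finset.mul_sum, hN χ]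
      push_cast
      ring
    exact_mod_cast h1
  -- height zero characters
  have hP3 : ∀ χ ∈ Bf, ht χ = 0 → ∑ ψ ∈ Bf, (4 : ℤ) ^ ht ψ ≤ (2 : ℤ) ^ d * N χ := by
    intro χ hχf hχ0
    have hχ := (hBf χ).mp hχf
    have hterm : ∀ ψ ∈ Bf, (4 : ℝ) ^ ht ψ * (J.card : ℝ) ≤
        ∑ j ∈ J, ‖aeval (ζ ^ j) (f χ ψ)‖ ^ 2 := by
      intro ψ hψf
      have hψ := (hBf ψ).mp hψf
      have h1 := (hcong 1 h1cop χ ψ ψ hψ hψ).1
      rw [pow_one] at h1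
      obtain ⟨g, hg⟩ := h7_hk_div hM k ζ hζ (ht ψ) (f χ ψ) h1
      have hgne : aeval ζ g ≠ 0 := by
        intro h0
        apply hG1 1 h1cop χ hχ hχ0 ψ hψ
        have h2 := hg 1 h1cop
        rw [pow_one] at h2 ⊢
        rw [h2, h0, mul_zero, zero_div]
        exact h7_memLocalIdeal_zero hMp
      have h2 := gn_sum_sq n hn0 g ζ hζ hgne
      calc (4 : ℝ) ^ ht ψ * (J.card : ℝ) ≤ (4 : ℝ) ^ ht ψ * ∑ j ∈ J, ‖aeval (ζ ^ j) g‖ ^ 2 :=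
            mul_le_mul_of_nonneg_left h2 (by positivity)
        _ = ∑ j ∈ J, ‖aeval (ζ ^ j) (f χ ψ)‖ ^ 2 := by
            rw [Finset.mul_sum]
            refine Finset.sum_congr rfl fun j hj => ?_
            rw [hg j (hJcop j hj), norm_mul, mul_pow, norm_pow, Complex.norm_ofNat, ← pow_mul,
              mul_comm (ht ψ) 2, pow_mul]
            norm_num
    have key : (∑ ψ ∈ Bf, (4 : ℝ) ^ ht ψ) * (J.card : ℝ) ≤
        ((2 : ℝ) ^ d * (N χ : ℝ)) * (J.card : ℝ) := by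
      calc (∑ ψ ∈ Bf, (4 : ℝ) ^ ht ψ) * (J.card : ℝ)
          = ∑ ψ ∈ Bf, (4 : ℝ) ^ ht ψ * (J.card : ℝ) := Finset.sum_mul _ _ _
        _ ≤ ∑ ψ ∈ Bf, ∑ j ∈ J, ‖aeval (ζ ^ j) (f χ ψ)‖ ^ 2 := Finset.sum_le_sum hterm
        _ = ∑ j ∈ J, ∑ ψ ∈ Bf, ‖aeval (ζ ^ j) (f χ ψ)‖ ^ 2 := Finset.sum_comm
        _ = (2 : ℝ) ^ d * ((J.card : ℝ) * (N χ : ℝ)) := hE χ
        _ = _ := by ring
    have key2 := le_of_mul_le_mul_right key hJpos'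
    have key3 : ((∑ ψ ∈ Bf, (4 : ℤ) ^ ht ψ : ℤ) : ℝ) ≤ (((2 : ℤ) ^ d * N χ : ℤ) : ℝ) := by
      push_cast
      exact key2
    exact_mod_cast key3
  -- positive height characters
  have hP5 : ∀ ψ ∈ Bf, 1 ≤ ht ψ → (2 : ℤ) ^ (ht ψ + 1) ≤ N ψ := by
    intro ψ hψf hψ1
    have hψ := (hBf ψ).mp hψf
    have h1 := (hcong 1 h1cop ψ ψ ψ hψ hψ).1
    rw [pow_one] at h1
    obtain ⟨g, hg⟩ := h7_hk_div hM k ζ hζ (ht ψ) (f ψ ψ) h1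
    have h2h : (2 : ℂ) ^ ht ψ ≠ 0 := pow_ne_zero _ two_ne_zero
    have hgval : ∀ j : ℕ, n.Coprime j →
        aeval (ζ ^ j) g = aeval (ζ ^ j) (f ψ ψ) / (2 : ℂ) ^ ht ψ := by
      intro j hj
      rw [hg j hj]
      field_simp
    have hposg : ∀ j ∈ J, ∃ x : ℝ, 0 < x ∧ aeval (ζ ^ j) g = (x : ℂ) := by
      intro j hj
      obtain ⟨x, hx0, hx⟩ := hG3 j (hJcop j hj) ψ hψ
      refine ⟨x / (2 : ℝ) ^ ht ψ, by positivity, ?_⟩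
      rw [hgval j (hJcop j hj), hx]
      push_cast
      rfl
    have hmemg : ∀ j ∈ J, Cfsg.MemLocalIdeal M (aeval (ζ ^ j) g) := by
      intro j hj
      rw [hgval j (hJcop j hj)]
      exact hG2 j (hJcop j hj) ψ hψ hψ1
    obtain ⟨t, ht2, htsum⟩ := h7_hk_pos_step hM k ζ hζ g hposg hmemg
    have h3 : (J.card : ℂ) * (N ψ : ℂ) = (J.card : ℂ) * ((2 : ℂ) ^ ht ψ * (t : ℂ)) := by
      rw [← hN ψ, Finset.sum_congr rfl (fun j hj => hg j (hJcop j hj)), ← Finset.mul_sum]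
      have htsum' : ∑ j ∈ J, aeval (ζ ^ j) g = (J.card : ℂ) * (t : ℂ) := htsum
      rw [htsum']
      ring
    have h4 : (N ψ : ℂ) = (2 : ℂ) ^ ht ψ * (t : ℂ) := mul_left_cancel₀ hJne h3
    have h5 : N ψ = (2 : ℤ) ^ ht ψ * t := by exact_mod_cast h4
    rw [h5, pow_succ]
    exact mul_le_mul_of_nonneg_left ht2 (by positivity)
  -- the sum of the `N χ`
  have hsumN : ∑ χ ∈ Bf, N χ = (2 : ℤ) ^ d * (l : ℤ) := by
    have h1 : (J.card : ℂ) * ((∑ χ ∈ Bf, N χ : ℤ) : ℂ) =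
        (J.card : ℂ) * (((2 : ℤ) ^ d * (l : ℤ) : ℤ) : ℂ) := by
      push_cast
      rw [Finset.mul_sum, Finset.sum_congr rfl (fun χ _ => (hN χ).symm), Finset.sum_comm,
        Finset.sum_congr rfl (fun j hj => hF2 j (hJcop j hj)), Finset.sum_const, nsmul_eq_mul]
    have h2 := mul_left_cancel₀ hJne h1
    exact_mod_cast h2
  have hfinal := h7_hk_arith2 Bf ht N d l hsumN hl
    (fun χ hχ h0 => hodd χ ((hBf χ).mp hχ) h0) hP3 hP5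
  rw [← hdef]
  exact hfinal

end Cfsg.Agent.Lib.helper7
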