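import Mathlib
import Cfsg.Agent.S0908
import Cfsg.Agent.Lib.helper7.HKS7

/-!
The major subsection bound in the form of the statement: a 2-block `B` with defect group `D`,
`z ∈ Z(D)`, and a block `b` of `C_G(z)` with defect group `D` inducing `B`, `l(b) ≤ 3`.
-/

set_option autoImplicit false
set_option linter.style.haveILetI false
set_option linter.unusedVariables false
set_option warn.classDefReducibility false
set_option maxHeartbeats 1600000

namespace Cfsg.Agent.Lib.helper7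
open scoped ComplexConjugate
open Cfsg.Agent.Lib.helper2
open Cfsg.Agent.Lib.Helper25
open Cfsg.Agent.Lib.Helper24

/-- the order of a defect group -/
theorem h7_hk_defect_card {G : Type*} [Group G] [Finite G] (p : ℕ) [hp : Fact p.Prime]
    (M : Ideal Cfsg.AlgInt) (hM : Cfsg.IsPModular p M) (B : Set (Cfsg.IrrCharacter G))
    (hB : Cfsg.IsPBlock M B) (D : Subgroup G) (hD : Cfsg.IsDefectGroup p M B D) :
    Nat.card D = p ^ Cfsg.blockDefect p B := by
  classical
  haveI : Fintype G := Fintype.ofFinite _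
  haveI : Fintype (Cfsg.IrrCharacter G) := Fintype.ofFinite _
  obtain ⟨χ₀, rfl⟩ := hB
  obtain ⟨g, hg, Q, rfl⟩ := hD
  exact Cfsg.Agent.S0908.defect_card p M hM χ₀ g hg Q

theorem h7_hk_major_final {G : Type*} [Group G] [Finite G] (M : Ideal Cfsg.AlgInt)
    (hM : Cfsg.IsPModular 2 M) (B : Set (Cfsg.IrrCharacter G)) (hB : Cfsg.IsPBlock M B)
    (D : Subgroup G) (hD : Cfsg.IsDefectGroup 2 M B D) (z : G) (hzD : z ∈ D)
    (hzc : ∀ d ∈ D, d * z = z * d)
    (b : Set (Cfsg.IrrCharacter ↥(Subgroup.centralizer ({z} : Set G))))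
    (hb : Cfsg.IsInducedBlock M (Subgroup.centralizer ({z} : Set G)) b B)
    (hbD : Cfsg.IsDefectGroup 2 M b (D.subgroupOf (Subgroup.centralizer ({z} : Set G))))
    (hl : Cfsg.blockRank 2 b ≤ 3)
    (Bf : Finset (Cfsg.IrrCharacter G)) (hBf : ∀ χ, χ ∈ Bf ↔ χ ∈ B) :
    3 * (Bf.filter (fun χ : Cfsg.IrrCharacter G =>
        Cfsg.blockHeight 2 B (χ : G → ℂ) = 0)).card +
      2 * ∑ χ ∈ Bf.filter (fun χ : Cfsg.IrrCharacter G =>
        1 ≤ Cfsg.blockHeight 2 B (χ : G → ℂ)),
        2 ^ Cfsg.blockHeight 2 B (χ : G → ℂ) ≤ 3 * 2 ^ Cfsg.blockDefect 2 B := by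
  classical
  haveI hp : Fact (Nat.Prime 2) := ⟨Nat.prime_two⟩
  haveI : Fintype G := Fintype.ofFinite _
  haveI : Fintype ↥(Subgroup.centralizer ({z} : Set G)) := Fintype.ofFinite _
  have hcD := h7_hk_defect_card 2 M hM B hB D hD
  have hcb := h7_hk_defect_card 2 M hM b hb.1 _ hbD
  have hDle : D ≤ Subgroup.centralizer ({z} : Set G) := by
    intro d hd
    exact Subgroup.mem_centralizer_singleton_iff.mpr (hzc d hd)
  have hcard : Nat.card (D.subgroupOf (Subgroup.centralizer ({z} : Set G))) = Nat.card D :=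
    Nat.card_congr (Subgroup.subgroupOfEquivOfLe hDle).toEquiv
  have hdef : Cfsg.blockDefect 2 b = Cfsg.blockDefect 2 B := by
    rw [hcard, hcD] at hcb
    exact (Nat.pow_right_injective (le_refl 2) hcb).symm
  -- the order of `z`
  have hzord : orderOf z ∣ 2 ^ Cfsg.blockDefect 2 B := by
    rw [← hcD]
    have h1 : orderOf (⟨z, hzD⟩ : D) ∣ Nat.card D := orderOf_dvd_natCard _
    rwa [← Subgroup.orderOf_coe] at h1
  obtain ⟨k, -, hk⟩ := (Nat.dvd_prime_pow Nat.prime_two).mp hzord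
  exact h7_hk_major M hM B z k hk (Subgroup.centralizer ({z} : Set G)) rfl b hb hdef hl Bf hBf

end Cfsg.Agent.Lib.helper7
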