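import Mathlib
import Cfsg.Agent.Lib.helper7.CEU.Defs
import Cfsg.Agent.Lib.Helper24.STUM0
import Cfsg.Agent.Lib.helper8.STULA1
import Cfsg.Agent.Lib.Helper24.STCI1

/-!
# Project CEU (designer helper7; S2089), row W11 (`ls_tr`: the lifted relation `ls` in the even case), VERBATIM vs `helper7/CEU/Skel1.lean.txt`.
Extras: `ceuw11_cm_left`, `ceuw11_cm_right` (additivity of commutators with central defects), `ceuw11_act_bar_tr` (own-name copy of G6 `act_bar_tr`), `ceuw11_unpack`.
-/

set_option autoImplicit false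

namespace Cfsg.Agent.Lib.helper7.CEU

open Cfsg.Agent.Lib.helper15.St2 Cfsg.Agent.Lib.helper7.Ce Cfsg.Agent.Lib.helper3.STC Cfsg.Agent.Lib.Helper27.STU

open Cfsg.Agent.Lib.helper7.CEC (I2 I3 I4 U2 U3)

section W

variable {F : Type*} [Field F] [StarRing F] {od : Prop} {ι : Type*} {Γ G : Type*} [Group Γ] [Group G] {S : SysU F od ι G} {σ : Γ →* G} {h : IsCE σ}

/-- abstract: left additivity of a commutator with central defects -/
theorem ceuw11_cm_left {A A' B e e' r r' : Γ} (h1 : cm A B = e * r) (h2 : cm A' B = e' * r')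
    (he : ∀ g : Γ, e * g = g * e) (he' : ∀ g : Γ, e' * g = g * e') (hA : A * r' = r' * A) :
    cm (A * A') B = e * e' * (r' * r) := by
  rw [cm_mul_left, h1, h2]
  have hc : Commute A (e' * r') := Commute.mul_right (he' A).symm hA
  have h3 : A * (e' * r') * A⁻¹ = e' * r' := hc.mul_inv_cancel
  rw [h3]
  calc e' * r' * (e * r) = e' * (r' * e) * r := by group
    _ = e' * (e * r') * r := by rw [he r']
    _ = (e' * e) * (r' * r) := by group
    _ = e * e' * (r' * r) := by rw [he' e]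

/-- abstract: right additivity of a commutator with central defects -/
theorem ceuw11_cm_right {A B B' e e' r r' : Γ} (h1 : cm A B = e * r) (h2 : cm A B' = e' * r')
    (he' : ∀ g : Γ, e' * g = g * e') :
    cm A (B * B') = e * e' * (r * (B * r' * B⁻¹)) := by
  rw [cm_mul_right, h1, h2]
  calc e * r * (B * (e' * r') * B⁻¹) = e * r * ((B * e') * r' * B⁻¹) := by group
    _ = e * r * ((e' * B) * r' * B⁻¹) := by rw [he' B]
    _ = e * (r * e') * (B * r' * B⁻¹) := by group
    _ = e * (e' * r) * (B * r' * B⁻¹) := by rw [he' r]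
    _ = e * e' * (r * (B * r' * B⁻¹)) := by group

theorem ceuw11_act_bar_tr (x u : F) : Lam.act (star u) (Lam.bar (Lam.tr x : Lam F od)) = Lam.tr (-(u * star u * x)) := by
  ext
  · simp
  · simp only [Lam.act_c, Lam.bar_c, Lam.tr_c, star_star, star_sub, star_neg, star_mul']
    ring

/-- unpacking `ab a ≠ ab b` -/
theorem ceuw11_unpack {a b : ι ⊕ ι} (hab : ab a ≠ ab b) : a ≠ b ∧ a ≠ ng b ∧ b ≠ a ∧ b ≠ ng a := by
  refine ⟨fun e => hab (by rw [e]), fun e => hab (by rw [e, ab_ng]), fun e => hab (by rw [e]), fun e => hab (by rw [e, ab_ng])⟩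

/-- W11 [L]  the lifted relation `ls` (even case): the defect `ε x u` is central, bi-additive and invariant under one torus element which scales `u`. -/
theorem ls_tr (hCs : HCs S σ) (hCl : HCl S σ) (hCe : HCe S σ) (L : ShortLift S h) (T : TrLift S L)
    (htor : ∀ a b : ι ⊕ ι, ab a ≠ ab b → ∃ (g : G) (d : ι ⊕ ι → F) (d0 : F), S.IsMon g 1 d d0 ∧ d a * star (d a) = 1 ∧ d (ng a) * (d b)⁻¹ ≠ 1)
    {a b : ι ⊕ ι} (hab : ab a ≠ ab b) (x u : F) :
    cm (T.Z a x) (L.X (ng a) b u) = L.X a b ((x - star x) * u) * T.Z (ng b) (-(u * star u * x)) := by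
  obtain ⟨hab1, hab2, hba1, hba2⟩ := ceuw11_unpack hab
  have hnab : ab (ng a) ≠ ab b := by rw [ab_ng]; exact hab
  have hanb : ab a ≠ ab (ng b) := by rw [ab_ng]; exact hab
  have hnba : ab (ng b) ≠ ab a := by rw [ab_ng]; exact hab.symm
  obtain ⟨hnab1, hnab2, -, -⟩ := ceuw11_unpack hnab
  -- maps
  have mA : ∀ x, σ (T.Z a x) = S.xl a (Lam.tr x) := T.map a
  have mB : ∀ u, σ (L.X (ng a) b u) = S.xs (ng a) b u := L.map (ng a) b hnab
  have mX : ∀ y, σ (L.X a b y) = S.xs a b y := L.map a b hab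
  have mZ : ∀ z, σ (T.Z (ng b) z) = S.xl (ng b) (Lam.tr z) := T.map (ng b)
  -- commutations
  have cAX : ∀ x y, T.Z a x * L.X a b y = L.X a b y * T.Z a x := fun x y =>
    hCl a a b hab1 hab2 (ne_ng a) hba1 _ _ _ _ (mA x) (mX y)
  have cAZ : ∀ x z, T.Z a x * T.Z (ng b) z = T.Z (ng b) z * T.Z a x := fun x z =>
    hCe.2 a (ng b) hanb _ _ _ _ (mA x) (mZ z)
  have cZX : ∀ z y, T.Z (ng b) z * L.X a b y = L.X a b y * T.Z (ng b) z := fun z y =>
    hCl (ng b) a b hab1 hab2 (by rw [ng_ng]; exact hab1) (ne_ng b) _ _ _ _ (mZ z) (mX y)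
  have cXX : ∀ y y', L.X a b y * L.X a b y' = L.X a b y' * L.X a b y := fun y y' =>
    hCs a b a b hab1 hab2 hab1 hab2 hba1 hab1 (ne_ng b) (ne_ng a) _ _ _ _ (mX y) (mX y')
  have cZZ : ∀ z z', T.Z (ng b) z * T.Z (ng b) z' = T.Z (ng b) z' * T.Z (ng b) z := fun z z' =>
    hCe.1 (ng b) _ _ _ _ (mZ z) (mZ z')
  have cZB : ∀ z u, T.Z (ng b) z * L.X (ng a) b u = L.X (ng a) b u * T.Z (ng b) z := fun z u =>
    hCl (ng b) (ng a) b hnab1 hnab2 (by rw [ng_ng]; exact hnab1) (ne_ng b) _ _ _ _ (mZ z) (mB u)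
  -- the abelian group generated by the `X a b y` and the `Z (ng b) z`
  have hφ : ∀ y z y' z', (L.X a b y * T.Z (ng b) z) * (L.X a b y' * T.Z (ng b) z') = L.X a b (y + y') * T.Z (ng b) (z + z') := by
    intro y z y' z'
    rw [L.add a b hab, T.add]
    calc L.X a b y * T.Z (ng b) z * (L.X a b y' * T.Z (ng b) z')
        = L.X a b y * (T.Z (ng b) z * L.X a b y') * T.Z (ng b) z' := by group
      _ = L.X a b y * (L.X a b y' * T.Z (ng b) z) * T.Z (ng b) z' := by rw [cZX]
      _ = L.X a b y * L.X a b y' * (T.Z (ng b) z * T.Z (ng b) z') := by group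
  have hZk : ∀ z z', star (z - z') = z - z' → T.Z (ng b) z = T.Z (ng b) z' := by
    intro z z' hz
    have e : z = (z - z') + z' := by ring
    rw [e, T.add, T.ker _ _ hz, one_mul]
  -- conjugation by `B u`
  have hBX : ∀ u y, L.X (ng a) b u * L.X a b y * (L.X (ng a) b u)⁻¹ = L.X a b y * T.Z (ng b) (-(star u) * y) := by
    intro u y
    have e1 : L.X (ng a) b u = L.X (ng b) a (-(star u)) := by
      have := L.sym (ng a) b hnab u
      rwa [ng_ng] at this
    have e2 := T.ssl (ng b) a hnba (-(star u)) y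
    rw [ng_ng, ← e1] at e2
    have e3 : L.X (ng a) b u * L.X a b y * (L.X (ng a) b u)⁻¹ = cm (L.X (ng a) b u) (L.X a b y) * L.X a b y := by
      unfold cm; group
    rw [e3, e2, cZX]
  have hBZ : ∀ u z, L.X (ng a) b u * T.Z (ng b) z * (L.X (ng a) b u)⁻¹ = T.Z (ng b) z := by
    intro u z
    rw [← cZB, mul_inv_cancel_right]
  -- the defect
  have hσ : ∀ x u, σ (cm (T.Z a x) (L.X (ng a) b u)) =
      σ (L.X a b ((x - star x) * u) * T.Z (ng b) (-(u * star u * x))) := by
    intro x u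
    rw [map_cm, mA, mB, map_mul, mX, mZ, ← ceuw11_act_bar_tr (od := od) x u]
    have := S.ls a b hab1 hab2 (Lam.tr x) u
    rw [Lam.tr_c] at this
    exact this
  obtain ⟨ε, hε, hε1⟩ : ∃ ε : F → F → Γ, (∀ x u, cm (T.Z a x) (L.X (ng a) b u) =
      ε x u * (L.X a b ((x - star x) * u) * T.Z (ng b) (-(u * star u * x)))) ∧ ∀ x u, σ (ε x u) = 1 := by
    refine ⟨fun x u => cm (T.Z a x) (L.X (ng a) b u) * (L.X a b ((x - star x) * u) * T.Z (ng b) (-(u * star u * x)))⁻¹, ?_, ?_⟩
    · intro x u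
      rw [inv_mul_cancel_right]
    · intro x u
      rw [map_mul, map_inv, hσ, mul_inv_cancel]
  have hεc : ∀ x u (g : Γ), ε x u * g = g * ε x u := fun x u g => h.comm_of_map_one (hε1 x u) g
  -- additivity in `x`
  have hx : ∀ x x' u, ε (x + x') u = ε x u * ε x' u := by
    intro x x' u
    have hA : T.Z a x * (L.X a b ((x' - star x') * u) * T.Z (ng b) (-(u * star u * x'))) =
        (L.X a b ((x' - star x') * u) * T.Z (ng b) (-(u * star u * x'))) * T.Z a x :=
      Commute.mul_right (cAX x _) (cAZ x _)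
    have h3 := ceuw11_cm_left (hε x u) (hε x' u) (hεc x u) (hεc x' u) hA
    rw [← T.add, hφ, hε (x + x') u] at h3
    have e1 : (x + x' - star (x + x')) * u = (x' - star x') * u + (x - star x) * u := by
      rw [star_add]; ring
    have e2 : -(u * star u * (x + x')) = -(u * star u * x') + -(u * star u * x) := by ring
    rw [e1, e2] at h3
    exact mul_right_cancel h3
  -- additivity in `u`
  have hu : ∀ x u u', ε x (u + u') = ε x u * ε x u' := by
    intro x u u'
    have h3 := ceuw11_cm_right (hε x u) (hε x u') (hεc x u')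
    have e0 : L.X (ng a) b u * (L.X a b ((x - star x) * u') * T.Z (ng b) (-(u' * star u' * x))) * (L.X (ng a) b u)⁻¹ =
        L.X a b ((x - star x) * u') * T.Z (ng b) (-(star u) * ((x - star x) * u') + -(u' * star u' * x)) := by
      calc L.X (ng a) b u * (L.X a b ((x - star x) * u') * T.Z (ng b) (-(u' * star u' * x))) * (L.X (ng a) b u)⁻¹
          = (L.X (ng a) b u * L.X a b ((x - star x) * u') * (L.X (ng a) b u)⁻¹) *
              (L.X (ng a) b u * T.Z (ng b) (-(u' * star u' * x)) * (L.X (ng a) b u)⁻¹) := by group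
        _ = L.X a b ((x - star x) * u') * T.Z (ng b) (-(star u) * ((x - star x) * u')) * T.Z (ng b) (-(u' * star u' * x)) := by
            rw [hBX, hBZ]
        _ = _ := by rw [mul_assoc, ← T.add]
    rw [e0, ← L.add (ng a) b hnab, hφ, hε x (u + u')] at h3
    have e1 : (x - star x) * (u + u') = (x - star x) * u + (x - star x) * u' := by ring
    have e2 : T.Z (ng b) (-((u + u') * star (u + u') * x)) =
        T.Z (ng b) (-(u * star u * x) + (-(star u) * ((x - star x) * u') + -(u' * star u' * x))) := by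
      apply hZk
      simp only [star_sub, star_neg, star_mul', star_add, star_star]
      ring
    rw [e1, e2] at h3
    exact mul_right_cancel h3
  -- the torus element
  obtain ⟨g, d, d0, hg, hNa, hl⟩ := htor a b hab
  obtain ⟨e, he⟩ := h.surj g
  have hsa : star (d a) ≠ 0 := by
    intro h0
    rw [h0, mul_zero] at hNa
    exact zero_ne_one hNa
  have hda : d (ng a) = d a := by
    have h1 := hg.1.d_ng a
    exact mul_right_cancel₀ hsa (h1.trans hNa.symm)
  have hdb : d b ≠ 0 := by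
    intro h0
    have h1 := hg.1.d_ng b
    rw [h0, star_zero, mul_zero] at h1
    exact zero_ne_one h1
  have hsb : star (d b) ≠ 0 := fun h0 => hdb (by simpa using congrArg star h0)
  have hnb : d (ng b) = (star (d b))⁻¹ := eq_inv_of_mul_eq_one_left (hg.1.d_ng b)
  have ht : ∀ x u, ε x (d (ng a) * (d b)⁻¹ * u) = ε x u := by
    intro x u
    have h1 : cj e (cm (T.Z a x) (L.X (ng a) b u)) = cm (T.Z a x) (L.X (ng a) b (d (ng a) * (d b)⁻¹ * u)) := by
      rw [cj_cm, T.eqv g 1 d d0 hg e he, L.eqv g 1 d d0 hg e he (ng a) b hnab, hNa, one_mul]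
      rfl
    rw [hε x u, hε x (d (ng a) * (d b)⁻¹ * u), cj_mul, cj_mul, h.cj_of_map_one (z := ε x u), T.eqv g 1 d d0 hg e he,
      L.eqv g 1 d d0 hg e he a b hab] at h1
    · have e1 : d a * (d b)⁻¹ * ((x - star x) * u) = (x - star x) * (d (ng a) * (d b)⁻¹ * u) := by
        rw [hda]; ring
      have e2 : d (ng b) * star (d (ng b)) * -(u * star u * x) =
          -(d (ng a) * (d b)⁻¹ * u * star (d (ng a) * (d b)⁻¹ * u) * x) := by
        rw [hnb, hda]
        simp only [star_mul', star_inv₀, star_star]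
        have : d a * (d b)⁻¹ * u * (star (d a) * (star (d b))⁻¹ * star u) * x =
            (d a * star (d a)) * ((d b)⁻¹ * (star (d b))⁻¹ * (u * star u * x)) := by ring
        rw [this, hNa]
        ring
      rw [e1, e2] at h1
      exact (mul_right_cancel h1).symm
    · exact hε1 x u
  -- conclusion
  have h0 : ∀ x, ε x 0 = 1 := by
    intro x
    have := hu x 0 0
    rw [add_zero] at this
    exact (mul_eq_left.1 this.symm)
  have hneg : ∀ x u, ε x (-u) = (ε x u)⁻¹ := by
    intro x u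
    have := hu x u (-u)
    rw [add_neg_cancel, h0] at this
    exact (inv_eq_of_mul_eq_one_right this.symm).symm
  have hone : ∀ x u, ε x ((d (ng a) * (d b)⁻¹ - 1) * u) = 1 := by
    intro x u
    have e1 : (d (ng a) * (d b)⁻¹ - 1) * u = d (ng a) * (d b)⁻¹ * u + -u := by ring
    rw [e1, hu, ht, hneg, mul_inv_cancel]
  have hl' : d (ng a) * (d b)⁻¹ - 1 ≠ 0 := sub_ne_zero.2 hl
  have e3 : u = (d (ng a) * (d b)⁻¹ - 1) * ((d (ng a) * (d b)⁻¹ - 1)⁻¹ * u) := by
    rw [← mul_assoc, mul_inv_cancel₀ hl', one_mul]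
  have h4 := hε x u
  rw [e3, hone, one_mul, ← e3] at h4
  exact h4

end W

end Cfsg.Agent.Lib.helper7.CEU
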