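import Mathlib
import Cfsg.Agent.Lib.helper7.CEU.Defs
import Cfsg.Agent.Lib.helper7.CEUW11
import Cfsg.Agent.Lib.helper4.CEUG2
import Cfsg.Agent.Lib.Helper22.CECG1
import Cfsg.Agent.Lib.Helper24.STCI1
import Cfsg.Agent.Lib.Helper24.STUM0

/-!
# Project CEU (designer helper7; S2089), rows W1 (`Wl_map Wl_eq Wl_cj`), W2 (bi-additivity of `Wl`), W3 (`Wl_bal`), W4 (`Wl_move Wl_indep`), W5 (`Wl_star`),
VERBATIM vs `helper7/CEU/Skel1.lean.txt`.
-/

set_option autoImplicit false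

namespace Cfsg.Agent.Lib.helper7.CEU

open Cfsg.Agent.Lib.helper15.St2 Cfsg.Agent.Lib.helper7.Ce Cfsg.Agent.Lib.helper3.STC Cfsg.Agent.Lib.Helper27.STU

open Cfsg.Agent.Lib.helper7.CEC (I2 I3 I4 U2 U3)

section W

variable {F : Type*} [Field F] [StarRing F] {od : Prop} {ι : Type*} {Γ G : Type*} [Group Γ] [Group G] {S : SysU F od ι G} {σ : Γ →* G} {h : IsCE σ}

/-- W1 [S]  `map_cm`, `L.map` (for the pairs `(a, b)` and `(b, ng a)`: `ab b ≠ ab (ng a)` by `ab_ng`), `S.ssl`. -/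
theorem Wl_map (L : ShortLift S h) {a b : ι ⊕ ι} (hab : ab a ≠ ab b) (t u : F) :
    σ (Wl L a b t u) = S.xl a (Lam.tr (t * u)) := by
  obtain ⟨hab1, hab2, -, -⟩ := ceuw11_unpack hab
  have hbna : ab b ≠ ab (ng a) := by rw [ab_ng]; exact hab.symm
  unfold Wl
  rw [map_cm, L.map a b hab, L.map b (ng a) hbna]
  exact S.ssl a b hab1 hab2 t u

/-- W1 [S]  `IsCE.cm_congr`, `L.map`. -/
theorem Wl_eq (L : ShortLift S h) {a b : ι ⊕ ι} (hab : ab a ≠ ab b) {t u : F} {p q : Γ} (hp : σ p = S.xs a b t) (hq : σ q = S.xs b (ng a) u) :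
    cm p q = Wl L a b t u := by
  have hbna : ab b ≠ ab (ng a) := by rw [ab_ng]; exact hab.symm
  unfold Wl
  exact h.cm_congr (by rw [hp, L.map a b hab]) (by rw [hq, L.map b (ng a) hbna])

/-- W1 [S]  `cj_cm`, `L.eqv` twice, `hg.1.pi_ng`. -/
theorem Wl_cj (L : ShortLift S h) {g : G} {π : Equiv.Perm (ι ⊕ ι)} {d : ι ⊕ ι → F} {d0 : F} (hg : S.IsMon g π d d0) {e : Γ} (he : σ e = g)
    {a b : ι ⊕ ι} (hab : ab a ≠ ab b) (t u : F) :
    cj e (Wl L a b t u) = Wl L (π a) (π b) (d a * (d b)⁻¹ * t) (d b * (d (ng a))⁻¹ * u) := by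
  have hbna : ab b ≠ ab (ng a) := by rw [ab_ng]; exact hab.symm
  unfold Wl
  rw [cj_cm, L.eqv g π d d0 hg e he a b hab, L.eqv g π d d0 hg e he b (ng a) hbna, hg.1.pi_ng]

/-- W2 [M] -/
theorem Wl_add_left (hCl : HCl S σ) (hCe : HCe S σ) (L : ShortLift S h) {a b : ι ⊕ ι} (hab : ab a ≠ ab b) (t t' u : F) :
    Wl L a b (t + t') u = Wl L a b t u * Wl L a b t' u := by
  obtain ⟨hab1, hab2, hba1, -⟩ := ceuw11_unpack hab
  have h1 : L.X a b t * Wl L a b t' u * (L.X a b t)⁻¹ = Wl L a b t' u := by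
    have hc : Wl L a b t' u * L.X a b t = L.X a b t * Wl L a b t' u :=
      hCl a a b hab1 hab2 (ne_ng a) hba1 _ _ _ _ (Wl_map L hab t' u) (L.map a b hab t)
    rw [← hc, mul_inv_cancel_right]
  have h2 : Wl L a b t' u * Wl L a b t u = Wl L a b t u * Wl L a b t' u :=
    hCe.1 a _ _ _ _ (Wl_map L hab t' u) (Wl_map L hab t u)
  have h3 : Wl L a b (t + t') u = L.X a b t * Wl L a b t' u * (L.X a b t)⁻¹ * Wl L a b t u := by
    show cm (L.X a b (t + t')) (L.X b (ng a) u) = _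
    rw [L.add a b hab, cm_mul_left]
    rfl
  rw [h3, h1, h2]

theorem Wl_add_right (hCl : HCl S σ) (hCe : HCe S σ) (L : ShortLift S h) {a b : ι ⊕ ι} (hab : ab a ≠ ab b) (t u u' : F) :
    Wl L a b t (u + u') = Wl L a b t u * Wl L a b t u' := by
  obtain ⟨hab1, hab2, hba1, hba2⟩ := ceuw11_unpack hab
  have hbna : ab b ≠ ab (ng a) := by rw [ab_ng]; exact hab.symm
  have h1 : L.X b (ng a) u * Wl L a b t u' * (L.X b (ng a) u)⁻¹ = Wl L a b t u' := by
    have hc : Wl L a b t u' * L.X b (ng a) u = L.X b (ng a) u * Wl L a b t u' :=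
      hCl a b (ng a) hba2 (by rw [ng_ng]; exact hba1) hba2 (ng_ne a) _ _ _ _ (Wl_map L hab t u') (L.map b (ng a) hbna u)
    rw [← hc, mul_inv_cancel_right]
  have h3 : Wl L a b t (u + u') = Wl L a b t u * (L.X b (ng a) u * Wl L a b t u' * (L.X b (ng a) u)⁻¹) := by
    show cm (L.X a b t) (L.X b (ng a) (u + u')) = _
    rw [L.add b (ng a) hbna, cm_mul_right]
    rfl
  rw [h3, h1]

/-- W2 [S] -/
theorem Wl_zero_left (hCl : HCl S σ) (hCe : HCe S σ) (L : ShortLift S h) {a b : ι ⊕ ι} (hab : ab a ≠ ab b) (u : F) : Wl L a b 0 u = 1 := by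
  have := Wl_add_left hCl hCe L hab 0 0 u
  rw [add_zero] at this
  exact (mul_eq_left.1 this.symm)

theorem Wl_zero_right (hCl : HCl S σ) (hCe : HCe S σ) (L : ShortLift S h) {a b : ι ⊕ ι} (hab : ab a ≠ ab b) (t : F) : Wl L a b t 0 = 1 := by
  have := Wl_add_right hCl hCe L hab t 0 0
  rw [add_zero] at this
  exact (mul_eq_left.1 this.symm)

theorem Wl_neg_left (hCl : HCl S σ) (hCe : HCe S σ) (L : ShortLift S h) {a b : ι ⊕ ι} (hab : ab a ≠ ab b) (t u : F) :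
    Wl L a b (-t) u = (Wl L a b t u)⁻¹ := by
  have := Wl_add_left hCl hCe L hab t (-t) u
  rw [add_neg_cancel, Wl_zero_left hCl hCe L hab] at this
  exact (inv_eq_of_mul_eq_one_right this.symm).symm

theorem Wl_neg_right (hCl : HCl S σ) (hCe : HCe S σ) (L : ShortLift S h) {a b : ι ⊕ ι} (hab : ab a ≠ ab b) (t u : F) :
    Wl L a b t (-u) = (Wl L a b t u)⁻¹ := by
  have := Wl_add_right hCl hCe L hab t u (-u)
  rw [add_neg_cancel, Wl_zero_right hCl hCe L hab] at this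
  exact (inv_eq_of_mul_eq_one_right this.symm).symm

/-- W3 [M]  balanced. -/
theorem Wl_bal [DecidableEq ι] (hCl : HCl S σ) (hCe : HCe S σ) (hH : S.HH) (h3 : I3 ι) (L : ShortLift S h) {a b : ι ⊕ ι} (hab : ab a ≠ ab b) (t s u : F) :
    Wl L a b (t * s) u = Wl L a b t (s * u) := by
  by_cases hs : s = 0
  · rw [hs, mul_zero, zero_mul, Wl_zero_left hCl hCe L hab, Wl_zero_right hCl hCe L hab]
  obtain ⟨hab1, hab2, hba1, hba2⟩ := ceuw11_unpack hab
  obtain ⟨c, hca, hcb⟩ := h3 a b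
  obtain ⟨hca1, hca2, hac1, hac2⟩ := ceuw11_unpack hca
  obtain ⟨hcb1, hcb2, hbc1, hbc2⟩ := ceuw11_unpack hcb
  have hg := hH.1 b c hbc1 hbc2 s hs
  obtain ⟨e, he⟩ := h.surj (S.hs b c s)
  have hna_b : ng a ≠ b := fun e => hab2 (by rw [← e, ng_ng])
  have hna_c : ng a ≠ c := fun e => hac2 (by rw [← e, ng_ng])
  have hna_nb : ng a ≠ ng b := fun e => hab1 (ng_inj.1 e)
  have hna_nc : ng a ≠ ng c := fun e => hac1 (ng_inj.1 e)
  have da : Cfsg.Agent.Lib.Helper27.STU.dhs b c s a = 1 := by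
    simp only [Cfsg.Agent.Lib.Helper27.STU.dhs]
    rw [if_neg hab1, if_neg hac1, if_neg hab2, if_neg hac2]
  have dna : Cfsg.Agent.Lib.Helper27.STU.dhs b c s (ng a) = 1 := by
    simp only [Cfsg.Agent.Lib.Helper27.STU.dhs]
    rw [if_neg hna_b, if_neg hna_c, if_neg hna_nb, if_neg hna_nc]
  have db : Cfsg.Agent.Lib.Helper27.STU.dhs b c s b = s := by
    simp [Cfsg.Agent.Lib.Helper27.STU.dhs]
  have hCLg : ∀ ζ : Lam F od, CL σ (S.hs b c s) (S.xl a ζ) := fun ζ =>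
    CL_hs h (fun t => (hCl a b c hbc1 hbc2 hba2 hca1 ζ t).symm) (fun t => (hCl a c b hcb1 hcb2 hca2 hba1 ζ t).symm) s
  have h1 : cj e (Wl L a b (t * s) u) = Wl L a b (t * s) u :=
    Cfsg.Agent.Lib.helper7.CEC.cj_eq_of_CL (hCLg _) he (Wl_map L hab (t * s) u)
  rw [Wl_cj L hg he hab, da, db, dna] at h1
  rw [← h1]
  simp only [Equiv.Perm.one_apply]
  congr 1
  · field_simp
  · rw [inv_one, mul_one]

/-- W4 [M]  independence of the auxiliary index, `ab b ≠ ab c`. -/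
theorem Wl_move [DecidableEq ι] (hCl : HCl S σ) (hW : S.HW) (L : ShortLift S h) {a b c : ι ⊕ ι} (hab : ab a ≠ ab b) (hac : ab a ≠ ab c) (hbc : ab b ≠ ab c)
    (t u : F) : Wl L a b t u = Wl L a c t u := by
  obtain ⟨hab1, hab2, hba1, hba2⟩ := ceuw11_unpack hab
  obtain ⟨hac1, hac2, hca1, hca2⟩ := ceuw11_unpack hac
  obtain ⟨hbc1, hbc2, hcb1, hcb2⟩ := ceuw11_unpack hbc
  have hg := hW.1 c b hcb1 hcb2 1 one_ne_zero
  obtain ⟨e, he⟩ := h.surj (S.ws c b 1)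
  have hna_b : ng a ≠ b := fun e => hab2 (by rw [← e, ng_ng])
  have hna_c : ng a ≠ c := fun e => hac2 (by rw [← e, ng_ng])
  have hna_nb : ng a ≠ ng b := fun e => hab1 (ng_inj.1 e)
  have hna_nc : ng a ≠ ng c := fun e => hac1 (ng_inj.1 e)
  have da : Cfsg.Agent.Lib.Helper27.STU.dws c b (1 : F) a = 1 := by
    simp only [Cfsg.Agent.Lib.Helper27.STU.dws]
    rw [if_neg hac1, if_neg hab1, if_neg hab2, if_neg hac2]
  have dna : Cfsg.Agent.Lib.Helper27.STU.dws c b (1 : F) (ng a) = 1 := by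
    simp only [Cfsg.Agent.Lib.Helper27.STU.dws]
    rw [if_neg hna_c, if_neg hna_b, if_neg hna_nb, if_neg hna_nc]
  have db : Cfsg.Agent.Lib.Helper27.STU.dws c b (1 : F) b = 1 := by
    simp only [Cfsg.Agent.Lib.Helper27.STU.dws]
    rw [if_neg hbc1]
    simp
  have pa : sws c b a = a := by
    unfold sws
    rw [Equiv.Perm.mul_apply, Equiv.swap_apply_of_ne_of_ne hac2 hab2, Equiv.swap_apply_of_ne_of_ne hac1 hab1]
  have pb : sws c b b = c := by
    unfold sws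
    rw [Equiv.Perm.mul_apply, Equiv.swap_apply_of_ne_of_ne hbc2 (ne_ng b), Equiv.swap_apply_right]
  have hCLg : ∀ ζ : Lam F od, CL σ (S.ws c b 1) (S.xl a ζ) := fun ζ =>
    CL_ws h (fun t => (hCl a c b hcb1 hcb2 hca2 hba1 ζ t).symm) (fun t => (hCl a b c hbc1 hbc2 hba2 hca1 ζ t).symm) 1
  have h1 : cj e (Wl L a b t u) = Wl L a b t u :=
    Cfsg.Agent.Lib.helper7.CEC.cj_eq_of_CL (hCLg _) he (Wl_map L hab t u)
  rw [Wl_cj L hg he hab, da, db, dna, pa, pb] at h1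
  rw [← h1]
  congr 1
  · rw [inv_one, mul_one, one_mul]
  · rw [inv_one, mul_one, one_mul]

/-- W4 [S]  `ab b ≠ ab b'`: `Wl_move`; otherwise through a third index `c` from `h3 a b` (`Wl_move` twice). -/
theorem Wl_indep [DecidableEq ι] (hCl : HCl S σ) (hW : S.HW) (h3 : I3 ι) (L : ShortLift S h) {a b b' : ι ⊕ ι} (hab : ab a ≠ ab b) (hab' : ab a ≠ ab b')
    (t u : F) : Wl L a b t u = Wl L a b' t u := by
  by_cases hbb : ab b = ab b'
  · obtain ⟨c, hca, hcb⟩ := h3 a b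
    rw [Wl_move hCl hW L hab hca.symm hcb.symm, Wl_move hCl hW L hab' hca.symm (by rw [← hbb]; exact hcb.symm)]
  · exact Wl_move hCl hW L hab hab' hbb t u

/-- W5 [S-M]  `L.sym a b`: `X a b t = X (ng b) (ng a) (-(star t))`; `L.sym b (ng a)`: `X b (ng a) u = X a (ng b) (-(star u))` (`ng_ng`); `cm_inv_swap`. -/
theorem Wl_star (L : ShortLift S h) {a b : ι ⊕ ι} (hab : ab a ≠ ab b) (t u : F) :
    Wl L a b t u * Wl L a (ng b) (-(star u)) (-(star t)) = 1 := by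
  have hbna : ab b ≠ ab (ng a) := by rw [ab_ng]; exact hab.symm
  have e1 := L.sym a b hab t
  have e2 := L.sym b (ng a) hbna u
  rw [ng_ng] at e2
  have e3 : Wl L a (ng b) (-(star u)) (-(star t)) = (Wl L a b t u)⁻¹ := by
    unfold Wl
    rw [cm_inv_swap, e1, e2]
  rw [e3, mul_inv_cancel]

end W

end Cfsg.Agent.Lib.helper7.CEU
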