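import Mathlib
import Cfsg.Agent.Lib.helper7.CEU.Defs
import Cfsg.Agent.Lib.helper7.CEUW1
import Cfsg.Agent.Lib.Helper24.STCI1
import Cfsg.Agent.Lib.Helper24.STUM0

/-!
# Project CEU (designer helper7; S2089), rows W6 (`Wl_ker`), W7 (`trLift_three`), VERBATIM vs `helper7/CEU/Skel1.lean.txt`.
-/

set_option autoImplicit false

namespace Cfsg.Agent.Lib.helper7.CEU

open Cfsg.Agent.Lib.helper15.St2 Cfsg.Agent.Lib.helper7.Ce Cfsg.Agent.Lib.helper3.STC Cfsg.Agent.Lib.Helper27.STU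

open Cfsg.Agent.Lib.helper7.CEC (I2 I3 I4 U2 U3)

section W

variable {F : Type*} [Field F] [StarRing F] {od : Prop} {ι : Type*} {Γ G : Type*} [Group Γ] [Group G] {S : SysU F od ι G} {σ : Γ →* G} {h : IsCE σ}

theorem Wl_ker [DecidableEq ι] (hF : Hyp F) (hCl : HCl S σ) (hCe : HCe S σ) (hW : S.HW) (hH : S.HH) (h3 : I3 ι) (L : ShortLift S h) {a b : ι ⊕ ι}
    (hab : ab a ≠ ab b) {x : F} (hx : star x = x) : Wl L a b x 1 = 1 := by
  have hanb : ab a ≠ ab (ng b) := by rw [ab_ng]; exact hab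
  have hω : ∀ s : F, Wl L a b s 1 * Wl L a b (star s) 1 = 1 := by
    intro s
    have h1 := Wl_star L hab 1 s
    rw [star_one, Wl_neg_left hCl hCe L hanb, Wl_neg_right hCl hCe L hanb, inv_inv, ← Wl_indep hCl hW h3 L hab hanb] at h1
    have h2 := Wl_bal hCl hCe hH h3 L hab 1 s 1
    rw [one_mul, mul_one] at h2
    rw [h2]
    exact h1
  obtain ⟨y, hy⟩ := hF.trace_surj x hx
  rw [← hy, Wl_add_left hCl hCe L hab]
  exact hω y

/-- a monomial permutation preserves `ab a ≠ ab b` -/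
theorem ceuw7_ab_perm {π : Equiv.Perm (ι ⊕ ι)} (hπ : ∀ k, π (ng k) = ng (π k)) {a b : ι ⊕ ι} (hab : ab a ≠ ab b) : ab (π a) ≠ ab (π b) := by
  intro e
  rcases ab_eq_iff.1 e with e1 | e1
  · exact hab (by rw [π.injective e1])
  · rw [← hπ] at e1
    exact hab (by rw [π.injective e1, ab_ng])

open Classical in
theorem trLift_three [DecidableEq ι] (hF : Hyp F) (hCl : HCl S σ) (hCe : HCe S σ) (hW : S.HW) (hH : S.HH) (h2 : I2 ι) (h3 : I3 ι) (L : ShortLift S h) :
    ∃ T : TrLift S L, ∀ a x, T.Z a x = Zw L h2 a x := by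
  have hb : ∀ a : ι ⊕ ι, ab a ≠ ab (Classical.choose (h2 a)) := fun a => (Classical.choose_spec (h2 a)).symm
  have hbal : ∀ {a b : ι ⊕ ι}, ab a ≠ ab b → ∀ t u : F, Wl L a b t u = Wl L a b (t * u) 1 := by
    intro a b hab t u
    have := Wl_bal hCl hCe hH h3 L hab t u 1
    rw [mul_one] at this
    exact this.symm
  refine ⟨⟨Zw L h2, ?_, ?_, ?_, ?_, ?_⟩, fun a x => rfl⟩
  · intro a x
    have := Wl_map L (hb a) x 1
    rw [mul_one] at this
    exact this
  · intro a x y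
    exact Wl_add_left hCl hCe L (hb a) x y 1
  · intro a x hx
    exact Wl_ker hF hCl hCe hW hH h3 L (hb a) hx
  · intro g π d d0 hg e he a x
    show cj e (Wl L a (Classical.choose (h2 a)) x 1) = Wl L (π a) (Classical.choose (h2 (π a))) (d a * star (d a) * x) 1
    have hπab := ceuw7_ab_perm hg.1.pi_ng (hb a)
    rw [Wl_cj L hg he (hb a), hbal hπab, Wl_indep hCl hW h3 L hπab (hb (π a))]
    have hd1 : (d (ng a))⁻¹ = star (d a) := by
      have := hg.1.d_ng a
      exact inv_eq_of_mul_eq_one_right this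
    have hd2 : d (Classical.choose (h2 a)) ≠ 0 := Cfsg.Agent.Lib.Helper27.STU.SysU.MonData.d_ne hg.1 _
    congr 1
    rw [hd1, mul_one]
    field_simp
  · intro a b hab t u
    show Wl L a b t u = Wl L a (Classical.choose (h2 a)) (t * u) 1
    rw [hbal hab, Wl_indep hCl hW h3 L hab (hb a)]

end W

end Cfsg.Agent.Lib.helper7.CEU
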