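import Mathlib
import Cfsg.Agent.Lib.helper7.CEU.Defs
import Cfsg.Agent.Lib.helper7.CEUW1
import Cfsg.Agent.Lib.Helper25.CEUW8a
import Cfsg.Agent.Lib.Helper25.CEUW8c
import Cfsg.Agent.Lib.Helper24.STCI1
import Cfsg.Agent.Lib.Helper24.STUM0

/-!
# CEU (designer helper7), row W9 (helper7), verbatim: `Zh_ssl`, `trLift_two` (the lifted relation `ssl` for the torus lifts of the long
root elements, two indices).  `ceuw9_Zh_add` is a local copy of row W8b (`Zh_add`), so that this file does not wait for it.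
-/

set_option autoImplicit false

namespace Cfsg.Agent.Lib.helper7.CEU

open Cfsg.Agent.Lib.helper15.St2 Cfsg.Agent.Lib.helper7.Ce Cfsg.Agent.Lib.helper3.STC Cfsg.Agent.Lib.Helper27.STU

open Cfsg.Agent.Lib.helper7.CEC (I2 I3 I4 U2 U3)

section W

variable {F : Type*} [Field F] [StarRing F] {od : Prop} {ι : Type*} {Γ G : Type*} [Group Γ] [Group G] {S : SysU F od ι G} {σ : Γ →* G} {h : IsCE σ}

/-- local copy of W8b `Zh_add` -/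
theorem ceuw9_Zh_add [DecidableEq ι] (h : IsCE σ) (hCe : HCe S σ) (hH : S.HH) {ξ₁ ξ₂ : Lam F od} (h1 : ξ₁.c ≠ 0) (h2 : ξ₂.c ≠ 0)
    (hN : (ξ₁.c / ξ₂.c) * star (ξ₁.c / ξ₂.c) ≠ 1) (a : ι ⊕ ι) (x y : F) :
    Zh S h ξ₁ ξ₂ a (x + y) = Zh S h ξ₁ ξ₂ a x * Zh S h ξ₁ ξ₂ a y := by
  set s : F := ((ξ₁.c / ξ₂.c) * star (ξ₁.c / ξ₂.c) - 1)⁻¹ with hs
  set p : Γ := lf h (S.xl a (Lam.tr (s * x))) with hp
  set q : Γ := lf h (S.xl a (Lam.tr (s * y))) with hq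
  have e1 : σ (lf h (S.xl a (Lam.tr (s * (x + y))))) = σ (p * q) := by
    rw [map_mul, map_lf, hp, hq, map_lf, map_lf, S.addl, ← Lam.tr_add, mul_add]
  have e2 : Zh S h ξ₁ ξ₂ a (x + y) = cm (lf h (S.hl a ξ₁ ξ₂)) (p * q) := by
    unfold Zh
    exact h.cm_congr rfl e1
  have e3 : cm (lf h (S.hl a ξ₁ ξ₂)) q = Zh S h ξ₁ ξ₂ a y := rfl
  have e4 : cm (lf h (S.hl a ξ₁ ξ₂)) p = Zh S h ξ₁ ξ₂ a x := rfl
  rw [e2, cm_mul_right, e3, e4]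
  have hcl : CL σ (S.xl a (Lam.tr (s * x))) (S.xl a (Lam.tr y)) := hCe.1 a _ _
  have hcomm : p * Zh S h ξ₁ ξ₂ a y = Zh S h ξ₁ ξ₂ a y * p :=
    hcl p (Zh S h ξ₁ ξ₂ a y) (map_lf h _) (Zh_map h hH h1 h2 hN a y)
  rw [hcomm, mul_inv_cancel_right]

/-- W9 [M] -/
theorem Zh_ssl [DecidableEq ι] (hCl : HCl S σ) (hCe : HCe S σ) (hH : S.HH) (L : ShortLift S h) {ξ₁ ξ₂ : Lam F od} (h1 : ξ₁.c ≠ 0) (h2 : ξ₂.c ≠ 0)
    (hN : (ξ₁.c / ξ₂.c) * star (ξ₁.c / ξ₂.c) ≠ 1) {r' : F} (hr0 : r' ≠ 0) (hrs : star r' = r') (hr2 : r' ^ 2 ≠ 1)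
    {a b : ι ⊕ ι} (hab : ab a ≠ ab b) (t u : F) :
    Wl L a b t u = Zh S h ξ₁ ξ₂ a (t * u) := by
  have hab1 : a ≠ b := fun e => hab (by rw [e])
  have hab2 : a ≠ ng b := fun e => hab (by rw [e, ab_ng])
  have hnab : ng a ≠ ng b := fun e => hab1 (ng_inj.1 e)
  -- the defect
  obtain ⟨δ, hδ, hδ1⟩ : ∃ δ : F → F → Γ, (∀ t u, Wl L a b t u = δ t u * Zh S h ξ₁ ξ₂ a (t * u)) ∧ ∀ t u, σ (δ t u) = 1 := by
    refine ⟨fun t u => Wl L a b t u * (Zh S h ξ₁ ξ₂ a (t * u))⁻¹, fun t u => by rw [inv_mul_cancel_right], fun t u => ?_⟩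
    rw [map_mul, map_inv, Wl_map L hab, Zh_map h hH h1 h2 hN, mul_inv_cancel]
  have hδc : ∀ t u (g : Γ), δ t u * g = g * δ t u := fun t u g => h.comm_of_map_one (hδ1 t u) g
  have hu : ∀ t u u', δ t (u + u') = δ t u * δ t u' := by
    intro t u u'
    have h3 := Wl_add_right hCl hCe L hab t u u'
    rw [hδ, hδ t u, hδ t u', mul_add, ceuw9_Zh_add h hCe hH h1 h2 hN] at h3
    have h4 : δ t u * Zh S h ξ₁ ξ₂ a (t * u) * (δ t u' * Zh S h ξ₁ ξ₂ a (t * u')) =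
        δ t u * δ t u' * (Zh S h ξ₁ ξ₂ a (t * u) * Zh S h ξ₁ ξ₂ a (t * u')) := by
      calc δ t u * Zh S h ξ₁ ξ₂ a (t * u) * (δ t u' * Zh S h ξ₁ ξ₂ a (t * u'))
          = δ t u * (Zh S h ξ₁ ξ₂ a (t * u) * δ t u') * Zh S h ξ₁ ξ₂ a (t * u') := by group
        _ = δ t u * (δ t u' * Zh S h ξ₁ ξ₂ a (t * u)) * Zh S h ξ₁ ξ₂ a (t * u') := by rw [hδc t u']
        _ = _ := by group
    rw [h4] at h3
    exact mul_right_cancel h3
  -- the torus element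
  have hg := hH.1 a (ng b) hab2 (by rw [ng_ng]; exact hab1) r' hr0
  obtain ⟨e, he⟩ := h.surj (S.hs a (ng b) r')
  have da : Cfsg.Agent.Lib.Helper27.STU.dhs a (ng b) r' a = r' := by simp [Cfsg.Agent.Lib.Helper27.STU.dhs]
  have db : Cfsg.Agent.Lib.Helper27.STU.dhs a (ng b) r' b = r' := by
    simp only [Cfsg.Agent.Lib.Helper27.STU.dhs]
    rw [if_neg hab1.symm, if_neg (ne_ng b), if_neg (fun e => hab2 (by rw [e, ng_ng])), ng_ng, if_pos rfl, hrs]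
  have dna : Cfsg.Agent.Lib.Helper27.STU.dhs a (ng b) r' (ng a) = r'⁻¹ := by
    simp only [Cfsg.Agent.Lib.Helper27.STU.dhs]
    rw [if_neg (ng_ne a), if_neg hnab]
    simp [hrs]
  have ht : ∀ t u, δ t (r' ^ 2 * u) = δ t u := by
    intro t u
    have h3 : cj e (Wl L a b t u) = Wl L a b t (r' ^ 2 * u) := by
      rw [Wl_cj L hg he hab, da, db, dna, inv_inv]
      congr 1
      · field_simp
      · ring
    rw [hδ t u, hδ t (r' ^ 2 * u), cj_mul, h.cj_of_map_one (hδ1 t u), Zh_eqv h h1 h2 hg he, da, hrs] at h3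
    have e1 : r' * r' * (t * u) = t * (r' ^ 2 * u) := by ring
    rw [e1] at h3
    exact (mul_right_cancel h3).symm
  have h0 : ∀ t, δ t 0 = 1 := by
    intro t
    have := hu t 0 0
    rw [add_zero] at this
    exact (mul_eq_left.1 this.symm)
  have hneg : ∀ t u, δ t (-u) = (δ t u)⁻¹ := by
    intro t u
    have := hu t u (-u)
    rw [add_neg_cancel, h0] at this
    exact (inv_eq_of_mul_eq_one_right this.symm).symm
  have hone : ∀ t u, δ t ((r' ^ 2 - 1) * u) = 1 := by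
    intro t u
    have e1 : (r' ^ 2 - 1) * u = r' ^ 2 * u + -u := by ring
    rw [e1, hu, ht, hneg, mul_inv_cancel]
  have hl' : r' ^ 2 - 1 ≠ 0 := sub_ne_zero.2 hr2
  have e3 : u = (r' ^ 2 - 1) * ((r' ^ 2 - 1)⁻¹ * u) := by
    rw [← mul_assoc, mul_inv_cancel₀ hl', one_mul]
  have h4 := hδ t u
  rw [e3, hone, one_mul, ← e3] at h4
  exact h4

/-- W9 [S] -/
theorem trLift_two [DecidableEq ι] (hCl : HCl S σ) (hCe : HCe S σ) (hH : S.HH) (L : ShortLift S h) {ξ₁ ξ₂ : Lam F od} (h1 : ξ₁.c ≠ 0) (h2 : ξ₂.c ≠ 0)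
    (hN : (ξ₁.c / ξ₂.c) * star (ξ₁.c / ξ₂.c) ≠ 1) {r' : F} (hr0 : r' ≠ 0) (hrs : star r' = r') (hr2 : r' ^ 2 ≠ 1) :
    ∃ T : TrLift S L, ∀ a x, T.Z a x = Zh S h ξ₁ ξ₂ a x :=
  ⟨⟨Zh S h ξ₁ ξ₂, fun a x => Zh_map h hH h1 h2 hN a x, fun a x y => ceuw9_Zh_add h hCe hH h1 h2 hN a x y,
    fun a _ hx => Zh_ker h ξ₁ ξ₂ a hx, fun _ _ _ _ hg _ he a x => Zh_eqv h h1 h2 hg he a x,
    fun a b hab t u => Zh_ssl hCl hCe hH L h1 h2 hN hr0 hrs hr2 hab t u⟩, fun a x => rfl⟩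

end W

end Cfsg.Agent.Lib.helper7.CEU
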