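import Mathlib
import Cfsg.Agent.Lib.helper7.CEU.Defs
import Cfsg.Agent.Lib.Helper24.STUM3
import Cfsg.Agent.Lib.Helper16.STUH4
import Cfsg.Agent.Lib.Helper18.CEUG6
import Cfsg.Agent.Lib.Helper19.CEUT1
import Cfsg.Agent.Lib.helper15.CEUT5b
import Cfsg.Agent.Lib.Helper25.CEUT6a
import Cfsg.Agent.Lib.Helper13.CEUT6b
import Cfsg.Agent.Lib.Helper13.CEUT7a
import Cfsg.Agent.Lib.Helper18.CEUT7b
import Cfsg.Agent.Lib.Helper18.CEUT8
import Cfsg.Agent.Lib.helper7.CEUT4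
import Cfsg.Agent.Lib.helper23.CEUT9a
import Cfsg.Agent.Lib.Helper29.CEUT9b
import Cfsg.Agent.Lib.Helper29.CEUT10core
import Cfsg.Agent.Lib.helper14.CEUY3
import Cfsg.Agent.Lib.helper14.CEUY5
import Cfsg.Agent.Lib.helper14.CEUY6
import Cfsg.Agent.Lib.helper14.CEUY10
import Cfsg.Agent.Lib.Helper19.CEUX1
import Cfsg.Agent.Lib.helper7.CEUW6
import Cfsg.Agent.Lib.helper7.CEUW9
import Cfsg.Agent.Lib.Helper29.CEUW10
import Cfsg.Agent.Lib.helper7.CEUW11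
import Cfsg.Agent.Lib.Helper13.CEUW12
import Cfsg.Agent.Lib.helper23.CEUE1
import Cfsg.Agent.Lib.helper23.CEUE3
import Cfsg.Agent.Lib.Helper29.CEUE5core
import Cfsg.Agent.Lib.Helper18.CEUE6core
import Cfsg.Agent.Lib.Helper18.CEUM1

/-!
# CEU (designer helper7), rows M3, M4 (helper7), verbatim: `exists_lift_even_three`, `exists_lift_even_two` (the assembly in the even case).
The wrappers `ceum3_HT_four`, `ceum3_HT_three`, `ceum3_HCe_three`, `ceum3_HT_two_even`, `ceum3_lift_even`, `ceum3_r1_even` are local copies of the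
rows T10a, T10b, E5, E6 (from their cores), so that this file does not wait for them.
-/

set_option autoImplicit false

namespace Cfsg.Agent.Lib.helper7.CEU

open Cfsg.Agent.Lib.helper15.St2 Cfsg.Agent.Lib.helper7.Ce Cfsg.Agent.Lib.helper3.STC Cfsg.Agent.Lib.Helper27.STU

open Cfsg.Agent.Lib.helper7.CEC (I2 I3 I4 U2 U3)

section T

variable {F : Type*} [Field F] [StarRing F] {od : Prop} {ι : Type*} {Γ G : Type*} [Group Γ] [Group G] {S : SysU F od ι G} {σ : Γ →* G}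

/-- local copy of T10a `HT_four` -/
theorem ceum3_HT_four (h : IsCE σ) (h4 : I4 ι) {ξ₀ : Lam F od} (hξ₀ : ξ₀.c ≠ 0) : HTs S σ ∧ HTl S σ :=
  ceut10_four_core (t1_milnor h (ceut10_I3_of_I4 h4)) (t3r_milnor h h4) (t3c_milnor h h4) (t5_milnor h (ceut10_I3_of_I4 h4))
    (t6_milnor h h4) (t4_of_t6 h hξ₀)

/-- local copy of T10a `HT_three` -/
theorem ceum3_HT_three [DecidableEq ι] (h : IsCE σ) (h3 : I3 ι) (u3 : U3 ι) (hH : S.HH) {ξ₁ ξ₂ : Lam F od} (h1 : ξ₁.c ≠ 0) (h2 : ξ₂.c ≠ 0)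
    (hr : ξ₁.c ≠ ξ₂.c) {s : F} (hs0 : s ≠ 0) (hs2 : s ^ 2 ≠ 1) : HTs S σ ∧ HTl S σ :=
  ceut10_three_core u3 (t1_milnor h h3) (t3r_torus h hH h1 h2 hr) (t3c_torus h hH h1 h2 hr) (t5_milnor h h3) (t6_torus h hH hs0 hs2)

/-- local copy of T10a `HCe_three` -/
theorem ceum3_HCe_three (h : IsCE σ) (h3 : I3 ι) (hex : ∀ ζ : Lam F od, ∃ x : F, ζ = Lam.tr x) : HCe S σ :=
  ceut10_HCe_core (t2_ssl h (ceut10_I2_of_I3 h3) hex) (t7_ssl h h3 hex)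

/-- local copy of T10b `HT_two_even` -/
theorem ceum3_HT_two_even [DecidableEq ι] (h : IsCE σ) (h2 : I2 ι) (u2 : U2 ι) (hH : S.HH) (hev : ¬ od)
    (hex : ∀ ζ : Lam F od, ∃ x : F, ζ = Lam.tr x) {ξ₁ ξ₂ : Lam F od} (h1 : ξ₁.c ≠ 0) (h2' : ξ₂.c ≠ 0)
    (hN : (ξ₁.c / ξ₂.c) * star (ξ₁.c / ξ₂.c) ≠ 1) : HTs S σ ∧ HTl S σ ∧ HCe S σ :=
  ceut10_two_even_core u2 (t5_torus h hH h1 h2' (ceut10_ratio hev h2' hN).1 (ceut10_ratio hev h2' hN).2) (t2_ssl h h2 hex)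
    (t7_torus h hH hev hex h1 h2' hN) (t1_of_t7 h h2')

end T

section E

variable {F : Type*} [Field F] [StarRing F] {od : Prop}

/-- local copy of E5 `lift_even` -/
theorem ceum3_lift_even [Finite F] (hF : Hyp F) (hev : ¬ od) {Δ : Type*} [Group Δ] (X Y : Lam F od → Δ)
    (hX : ∀ ξ η, X (ξ * η) = X ξ * X η) (hY : ∀ ξ η, Y (ξ * η) = Y ξ * Y η)
    (hWX : ∀ ξ η : Lam F od, ξ.c ≠ 0 → cj (X ξ * Y (Lam.mu ξ) * X (Lam.nu ξ)) (X η) = Y (Lam.act (star ξ.c)⁻¹ η))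
    (hWY : ∀ ξ η : Lam F od, ξ.c ≠ 0 → cj (Y ξ * X (Lam.mu ξ) * Y (Lam.nu ξ)) (Y η) = X (Lam.act (star ξ.c)⁻¹ η)) :
    ∃ ρ : ↥(SUm F od) →* Δ, ∀ ξ, ρ (XpU ξ) = X ξ ∧ ρ (XmU ξ) = Y ξ :=
  ceue5_core hF hev (fun T => lift_sl2_of_st T) (fun hγ hγs => exists_psi hev hγ hγs) X Y hX hY hWX hWY

variable {ι : Type*} {Γ G : Type*} [Group Γ] [Group G] {S : SysU F od ι G} {σ : Γ →* G} {h : IsCE σ}

/-- local copy of E6 `r1_even` -/
theorem ceum3_r1_even [Finite F] [DecidableEq ι] (hF : Hyp F) (hev : ¬ od) (hW : S.HW) (Z : LongLift S h) :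
    ∀ a, ∃ ρ : ↥(SUm F od) →* Γ, ∀ ξ, ρ (XpU ξ) = Z.Z a ξ ∧ ρ (XmU ξ) = Z.Z (ng a) ξ :=
  ceue6_core hev hW Z (fun X Y hX hY hWX hWY => ceum3_lift_even hF hev X Y hX hY hWX hWY)

end E

section M

universe u v w w₀

variable {F : Type u} [Field F] [StarRing F] {od : Prop} {ι : Type v} {Γ : Type w} {G : Type w₀} [Group Γ] [Group G] {σ : Γ →* G}

theorem ceum3_X_zero {S : SysU F od ι G} {h : IsCE σ} (L : ShortLift S h) {a b : ι ⊕ ι} (hab : ab a ≠ ab b) : L.X a b 0 = 1 := by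
  have := L.add a b hab 0 0
  rw [add_zero] at this
  exact (mul_eq_left.1 this.symm)

theorem ceum3_hhh {S : SysU F od ι G} {h : IsCE σ} (hev : ¬ od) (hCe : HCe S σ) (L : ShortLift S h) (Z : LongLift S h)
    (a b : ι ⊕ ι) (hab : ab a ≠ ab b) (ξ η : Lam F od) : cm (Z.Z a ξ) (Z.Z b η) = L.X a (ng b) (-(ξ.v * star η.v)) := by
  have hv : ξ.v = 0 := ξ.hv hev
  have hab' : ab a ≠ ab (ng b) := by
    rw [Cfsg.Agent.Lib.helper3.STC.ab_ng]; exact hab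
  rw [hv, zero_mul, neg_zero, ceum3_X_zero L hab', cm_eq_one_iff]
  exact hCe.2 a b hab ξ η _ _ (Z.map a ξ) (Z.map b η)

/-- M3 [M] -/
theorem exists_lift_even_three [Finite F] [DecidableEq ι] (hF : Hyp F) (hev : ¬ od) (h : IsCE σ) (h3 : I3 ι)
    (hcase : I4 ι ∨ (U3 ι ∧ ∃ r : F, star r = r ∧ r ≠ 0 ∧ r ≠ 1)) {s : F} (hs0 : s ≠ 0) (hs2 : s ^ 2 ≠ 1) (S : SysU F od ι G) :
    ∃ P : SysU F od ι Γ, (∀ a b : ι ⊕ ι, ab a ≠ ab b → ∀ t, σ (P.xs a b t) = S.xs a b t) ∧ ∀ a ξ, σ (P.xl a ξ) = S.xl a ξ := by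
  have hex : ∀ ζ : Lam F od, ∃ x : F, ζ = Lam.tr x := exists_tr hF hev
  obtain ⟨γ, hγ0, hγs⟩ := hF.ex_skew
  have hW : S.HW := S.hW_all
  have hH : S.HH := S.hH_all hW
  have h2 : I2 ι := fun b => (h3 b b).imp fun e he => he.1
  have hs1 : s ≠ 1 := fun e => hs2 (by rw [e]; simp)
  have hξ₀ : (Lam.sk γ hγs : Lam F od).c ≠ 0 := hγ0
  obtain ⟨hTs, hTl, hB, hI⟩ : HTs S σ ∧ HTl S σ ∧ PB S h ∧ PI S h := by
    rcases hcase with h4 | ⟨u3, r, hrs, hr0, hr1⟩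
    · obtain ⟨hTs, hTl⟩ := ceum3_HT_four (S := S) h h4 hξ₀
      obtain ⟨hB, hI⟩ := Ys_BI_four h (HCs_of_HTs hTs) h4
      exact ⟨hTs, hTl, hB, hI⟩
    · have hrγ : star (r * γ) = -(r * γ) := by rw [star_mul', hrs, hγs]; ring
      have h1 : (Lam.sk (r * γ) hrγ : Lam F od).c ≠ 0 := mul_ne_zero hr0 hγ0
      have hne : (Lam.sk (r * γ) hrγ : Lam F od).c ≠ (Lam.sk γ hγs : Lam F od).c := by
        show r * γ ≠ γ
        intro e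
        exact hr1 (mul_right_cancel₀ hγ0 (by rw [e, one_mul]))
      obtain ⟨hTs, hTl⟩ := ceum3_HT_three (S := S) h h3 u3 hH h1 hξ₀ hne hs0 hs2
      have hC := HCs_of_HTs hTs
      have hB := Ys_B_torus h hC hH h1 hξ₀ hne
      exact ⟨hTs, hTl, hB, Ys_I_three h hC (HCl_of_HTl hTl) hW u3 hB hξ₀⟩
  have hCs := HCs_of_HTs hTs
  have hCl := HCl_of_HTl hTl
  have hCe : HCe S σ := ceum3_HCe_three h h3 hex
  obtain ⟨L, -⟩ := shortLift_A2 h hCs h3 hB hI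
  obtain ⟨T, -⟩ := trLift_three hF hCl hCe hW hH h2 h3 L
  obtain ⟨Z, hZ⟩ := longLift_of_tr hex L T
  refine sysU_of_lifts hCs hCl hW L Z ?_ ?_ (ceum3_hhh hev hCe L Z) (ceum3_r1_even hF hev hW Z)
  · intro a b hab t u
    rw [hZ]
    exact T.ssl a b hab t u
  · intro a b hab ξ u
    obtain ⟨x, rfl⟩ := hex ξ
    rw [hZ, act_bar_tr, hZ]
    exact ls_tr hCs hCl hCe L T (tor_three S hH h3 hs0 hs1) hab x u

/-- M4 [M] -/
theorem exists_lift_even_two [Finite F] [DecidableEq ι] (hF : Hyp F) (hev : ¬ od) (h : IsCE σ) (h2 : I2 ι) (u2 : U2 ι)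
    {r : F} (hrs : star r = r) (hr0 : r ≠ 0) (hr2 : r ^ 2 ≠ 1) (S : SysU F od ι G) :
    ∃ P : SysU F od ι Γ, (∀ a b : ι ⊕ ι, ab a ≠ ab b → ∀ t, σ (P.xs a b t) = S.xs a b t) ∧ ∀ a ξ, σ (P.xl a ξ) = S.xl a ξ := by
  have hex : ∀ ζ : Lam F od, ∃ x : F, ζ = Lam.tr x := exists_tr hF hev
  obtain ⟨γ, hγ0, hγs⟩ := hF.ex_skew
  have hW : S.HW := S.hW_all
  have hH : S.HH := S.hH_all hW
  have hξ₀ : (Lam.sk γ hγs : Lam F od).c ≠ 0 := hγ0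
  have hrγ : star (r * γ) = -(r * γ) := by rw [star_mul', hrs, hγs]; ring
  have h1 : (Lam.sk (r * γ) hrγ : Lam F od).c ≠ 0 := mul_ne_zero hr0 hγ0
  have hratio : (Lam.sk (r * γ) hrγ : Lam F od).c / (Lam.sk γ hγs : Lam F od).c = r := by
    show r * γ / γ = r
    field_simp
  have hN : (Lam.sk (r * γ) hrγ : Lam F od).c / (Lam.sk γ hγs : Lam F od).c *
      star ((Lam.sk (r * γ) hrγ : Lam F od).c / (Lam.sk γ hγs : Lam F od).c) ≠ 1 := by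
    rw [hratio, hrs, ← pow_two]
    exact hr2
  have hr1 : r ≠ 1 := fun e => hr2 (by rw [e]; simp)
  have hne : (Lam.sk (r * γ) hrγ : Lam F od).c ≠ (Lam.sk γ hγs : Lam F od).c := by
    show r * γ ≠ γ
    intro e
    exact hr1 (mul_right_cancel₀ hγ0 (by rw [e, one_mul]))
  obtain ⟨hTs, hTl, hCe⟩ := ceum3_HT_two_even (S := S) h h2 u2 hH hev hex h1 hξ₀ hN
  have hCs := HCs_of_HTs hTs
  have hCl := HCl_of_HTl hTl
  obtain ⟨L, -⟩ := shortLift_tor h hCs hH u2 hr0 hr2 hrs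
  obtain ⟨T, -⟩ := trLift_two hCl hCe hH L h1 hξ₀ hN hr0 hrs hr2
  obtain ⟨Z, hZ⟩ := longLift_of_tr hex L T
  refine sysU_of_lifts hCs hCl hW L Z ?_ ?_ (ceum3_hhh hev hCe L Z) (ceum3_r1_even hF hev hW Z)
  · intro a b hab t u
    rw [hZ]
    exact T.ssl a b hab t u
  · intro a b hab ξ u
    obtain ⟨x, rfl⟩ := hex ξ
    rw [hZ, act_bar_tr, hZ]
    exact ls_tr hCs hCl hCe L T (tor_two S hH h1 hξ₀ hne) hab x u

end M

end Cfsg.Agent.Lib.helper7.CEU
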