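import Mathlib
import Cfsg.Agent.Lib.helper7.CEUM3
import Cfsg.Agent.Lib.helper23.CEUM2
import Cfsg.Agent.Lib.helper23.CEUN1
import Cfsg.Agent.Lib.Helper24.CECM3
import Cfsg.Agent.Lib.Helper19.MODMain
import Cfsg.Agent.Lib.Helper18.SU3MA2
import Cfsg.Agent.Lib.Helper22.SU3MA1
import Cfsg.Agent.Lib.helper7.CeG

/-!
# CEU (designer helper7), rows N2, N3, N4 (helper7), verbatim: `SU_split_even`, `SU_mult_trivial_even`, `psu_mult_even`
(the central extensions of `SU_{2m}(q)` split; the Schur multiplier of `PSU_n(q)`, `n ≥ 4` even, is cyclic of order `gcd (n, q + 1)`).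
-/

set_option autoImplicit false

namespace Cfsg.Agent.Lib.helper7.CEU

open Cfsg.Agent.Lib.helper15.St2 Cfsg.Agent.Lib.helper7.Ce Cfsg.Agent.Lib.helper3.STC Cfsg.Agent.Lib.Helper27.STU

open Cfsg.Agent.Lib.helper7.CEC (I2 I3 I4 U2 U3 I2_fin I3_fin I4_fin U2_fin U3_fin)

section N

universe u

variable {F : Type u} [Field F] [Fintype F] {q : ℕ}

/-- N2 [M] -/
theorem SU_split_even (hF : Fintype.card F = q ^ 2) (m : ℕ) (hcase : 4 ≤ m ∨ (m = 3 ∧ 3 ≤ q) ∨ (m = 2 ∧ 4 ≤ q))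
    {Γ : Type*} [Group Γ] {σ : Γ →* ↥(Cfsg.SU (2 * m) F q)} (h : IsCE σ) :
    ∃ s : ↥(Cfsg.SU (2 * m) F q) →* Γ, ∀ g, σ (s g) = g := by
  classical
  letI := frobStar hF
  have hHyp : Hyp F := frobStar_hyp hF
  have hm2 : 2 ≤ m := by omega
  obtain ⟨S₀, R₀, -, hgen⟩ := mod_main hF (2 * m) m False (Or.inl ⟨not_false, rfl⟩) (by omega)
  obtain ⟨s, hs0, hs2⟩ := exists_sq_ne_one_frob hF
  have hP : ∃ P : SysU F False (Fin m) Γ, (∀ a b : Fin m ⊕ Fin m, ab a ≠ ab b → ∀ t, σ (P.xs a b t) = S₀.xs a b t) ∧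
      ∀ a ξ, σ (P.xl a ξ) = S₀.xl a ξ := by
    rcases hcase with h4 | ⟨rfl, hq⟩ | ⟨rfl, hq⟩
    · exact exists_lift_even_three hHyp not_false h (I3_fin (by omega)) (Or.inl (I4_fin h4)) hs0 hs2 S₀
    · obtain ⟨r, hr, hr0, hr1⟩ := exists_fixed_ne_one hF hq
      exact exists_lift_even_three hHyp not_false h (I3_fin le_rfl) (Or.inr ⟨U3_fin, r, hr, hr0, hr1⟩) hs0 hs2 S₀
    · obtain ⟨r, hr, hr0, hr2⟩ := exists_fixed_sq_ne_one hF hq
      exact exists_lift_even_two hHyp not_false h (I2_fin le_rfl) U2_fin hr hr0 hr2 S₀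
  obtain ⟨P, hPs, hPl⟩ := hP
  exact split_of_sysU hHyp S₀ R₀ hgen P hPs hPl

/-- N3 [S] -/
theorem SU_mult_trivial_even (hF : Fintype.card F = q ^ 2) (m : ℕ) (hcase : 4 ≤ m ∨ (m = 3 ∧ 3 ≤ q) ∨ (m = 2 ∧ 4 ≤ q)) :
    Cfsg.HasCyclicSchurMultiplier ↥(Cfsg.SU (2 * m) F q) 1 := by
  haveI : Finite ↥(Cfsg.SU (2 * m) F q) := Subtype.finite
  apply trivial_mult_of_ker
  intro Γ _ _ σ hσ
  obtain ⟨s, hs⟩ := SU_split_even hF m hcase (σ := σ) ⟨hσ.1, hσ.2.1⟩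
  exact ker_eq_bot_of_section hσ s hs

/-- N4 [S-M] -/
theorem psu_mult_even (hF : Fintype.card F = q ^ 2) (n : ℕ) (hn : 4 ≤ n) (hev : Even n)
    (hexc : (n, q) ∉ ({(4, 2), (4, 3), (6, 2)} : Set (ℕ × ℕ))) :
    Cfsg.HasCyclicSchurMultiplier (Cfsg.PSU n F q) (Nat.gcd n (q + 1)) := by
  obtain ⟨m, rfl⟩ := hev
  have hq2 : 2 ≤ q := Cfsg.Agent.Lib.Helper28.UHerm.two_le_q hF
  have e : m + m = 2 * m := by ring
  rw [e] at hexc hn ⊢
  have hcase : 4 ≤ m ∨ (m = 3 ∧ 3 ≤ q) ∨ (m = 2 ∧ 4 ≤ q) := by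
    by_cases h4 : 4 ≤ m
    · exact Or.inl h4
    · have hm : m = 2 ∨ m = 3 := by omega
      rcases hm with rfl | rfl
      · refine Or.inr (Or.inr ⟨rfl, ?_⟩)
        by_contra hq
        have : q = 2 ∨ q = 3 := by omega
        rcases this with rfl | rfl
        · exact hexc (by simp)
        · exact hexc (by simp)
      · refine Or.inr (Or.inl ⟨rfl, ?_⟩)
        by_contra hq
        have : q = 2 := by omega
        subst this
        exact hexc (by simp)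
  exact Cfsg.Agent.Lib.Helper24.SU3M.psu_mult hF (2 * m) (by omega) (SU_mult_trivial_even hF m hcase)
    (Cfsg.Agent.Lib.Helper24.SU3M.su_perfect hF (2 * m) (by omega) (by omega))

end N

end Cfsg.Agent.Lib.helper7.CEU
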