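import Mathlib
import Cfsg.Agent.Lib.helper7.SPC.Defs
import Cfsg.Agent.Lib.Helper29.SPCE2A
import Cfsg.Agent.Lib.Helper25.SPCE2B

set_option autoImplicit false

/-!
# Project SPC (designer helper7), row E2C (`odd_gen`): core on the conclusions of E2A (`odd_iso_chain`) and E2B (`dual_vec`).  (helper7)
-/

namespace Cfsg.Agent.Lib.helper7.SPC

universe u

open Module

variable {F : Type u} [Field F]

section
variable {V : Type u} [AddCommGroup V] [Module F V] (B : V →ₗ[F] V →ₗ[F] F) (N : V →ₗ[F] V)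

theorem spce2c_anti (halt : ∀ x, B x x = 0) (u v : V) : B u v = - B v u := by
  have h := halt (u + v)
  simp only [map_add, LinearMap.add_apply, halt u, halt v] at h
  linear_combination h

theorem spce2c_pow_pow (a b : ℕ) (v : V) : (N ^ a) ((N ^ b) v) = (N ^ (a + b)) v := by
  rw [pow_add, Module.End.mul_apply]

theorem spce2c_move (hskew : ∀ x y, B (N x) y = - B x (N y)) (a : ℕ) (u v : V) :
    B ((N ^ a) u) v = (-1) ^ a * B u ((N ^ a) v) := by
  induction a generalizing u v with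
  | zero => simp
  | succ a ih =>
    have h1 : (N ^ (a + 1)) u = (N ^ a) (N u) := by rw [pow_succ, Module.End.mul_apply]
    have h2 : (N ^ (a + 1)) v = N ((N ^ a) v) := by rw [pow_succ', Module.End.mul_apply]
    rw [h1, ih, hskew, h2, pow_succ]
    ring

theorem spce2c_move' (hskew : ∀ x y, B (N x) y = - B x (N y)) (a : ℕ) (u v : V) :
    B u ((N ^ a) v) = (-1) ^ a * B ((N ^ a) u) v := by
  rw [spce2c_move B N hskew a u v, ← mul_assoc, ← mul_pow]
  simp

/-- E2C core: from an isotropic chain `x`, a vector `y₀` with `B (x, N^(k-1) y₀) = 1` and the existence of dual vectors. -/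
theorem spce2c_core (h2 : (2 : F) ≠ 0) (halt : ∀ x, B x x = 0)
    (hskew : ∀ x y, B (N x) y = - B x (N y)) (k : ℕ) (hk : Odd k) (hNk : N ^ k = 0)
    (x y₀ : V) (hxx : ∀ a b : ℕ, B ((N ^ a) x) ((N ^ b) x) = 0) (hxy₀ : B x ((N ^ (k - 1)) y₀) = 1)
    (hdual : (N ^ (k - 1)) x ≠ 0 → (N ^ k) x = 0 →
      ∃ y : V, ∀ a : ℕ, B ((N ^ a) x) y = if a + 1 = k then (-1) ^ a else 0) :
    ∃ x y : V, (∀ a b : ℕ, B ((N ^ a) x) ((N ^ b) x) = 0) ∧ (∀ a b : ℕ, B ((N ^ a) y) ((N ^ b) y) = 0) ∧
      ∀ a b : ℕ, B ((N ^ a) x) ((N ^ b) y) = if a + b + 1 = k then (-1) ^ a else 0 := by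
  classical
  obtain ⟨t, rfl⟩ : ∃ t, k = 2 * t + 1 := hk
  have hk1 : 2 * t + 1 - 1 = 2 * t := by omega
  rw [hk1] at hxy₀ hdual
  have hge : ∀ j, 2 * t + 1 ≤ j → N ^ j = 0 := by
    intro j hj
    obtain ⟨s, rfl⟩ := Nat.exists_eq_add_of_le hj
    rw [pow_add, hNk, zero_mul]
  -- `N^(k-1) x ≠ 0`
  have hx1 : (N ^ (2 * t)) x ≠ 0 := by
    intro h0
    have h := spce2c_move' B N hskew (2 * t) x y₀
    rw [hxy₀, h0, map_zero, LinearMap.zero_apply, mul_zero] at h
    exact one_ne_zero h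
  have hx2 : (N ^ (2 * t + 1)) x = 0 := by rw [hNk]; rfl
  obtain ⟨y₁, hy₁⟩ := hdual hx1 hx2
  -- mixed values for `y₁`
  have hmix : ∀ a b : ℕ, B ((N ^ a) x) ((N ^ b) y₁) = if a + b + 1 = 2 * t + 1 then (-1) ^ a else 0 := by
    intro a b
    rw [spce2c_move' B N hskew b, spce2c_pow_pow, hy₁, Nat.add_comm b a]
    by_cases h : a + b + 1 = 2 * t + 1
    · rw [if_pos h, if_pos h, pow_add, ← mul_assoc, mul_comm ((-1 : F) ^ b), mul_assoc, ← mul_pow]
      simp
    · rw [if_neg h, if_neg h, mul_zero]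
  set η : ℕ → F := fun j => B y₁ ((N ^ j) y₁) with hη
  set γ : ℕ → F := fun a => η (2 * t - a) / 2 with hγ
  set g : V := ∑ a ∈ Finset.range (2 * t + 1), γ a • (N ^ a) x with hg
  -- `g` is orthogonal to the chain of `x`
  have hxg : ∀ a b : ℕ, B ((N ^ a) x) ((N ^ b) g) = 0 := by
    intro a b
    rw [hg, map_sum, map_sum]
    apply Finset.sum_eq_zero
    intro c _
    rw [map_smul, map_smul, smul_eq_mul, spce2c_pow_pow, hxx, mul_zero]
  have hgx : ∀ a b : ℕ, B ((N ^ b) g) ((N ^ a) x) = 0 := by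
    intro a b
    rw [spce2c_anti B halt, hxg, neg_zero]
  have hgg : ∀ b : ℕ, B g ((N ^ b) g) = 0 := by
    intro b
    rw [hg, map_sum, LinearMap.sum_apply]
    apply Finset.sum_eq_zero
    intro c _
    rw [map_smul, LinearMap.smul_apply, smul_eq_mul, ← hg, hxg, mul_zero]
  -- `B (g, N^j y₁)`
  have hgy : ∀ j : ℕ, B g ((N ^ j) y₁) = if j ≤ 2 * t then γ (2 * t - j) * (-1) ^ (2 * t - j) else 0 := by
    intro j
    rw [hg, map_sum, LinearMap.sum_apply]
    by_cases hj : j ≤ 2 * t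
    · rw [if_pos hj, Finset.sum_eq_single (2 * t - j)]
      · rw [map_smul, LinearMap.smul_apply, smul_eq_mul, hmix, if_pos (by omega)]
      · intro c _ hc
        rw [map_smul, LinearMap.smul_apply, smul_eq_mul, hmix, if_neg (by omega), mul_zero]
      · intro hc
        exfalso
        apply hc
        rw [Finset.mem_range]
        omega
    · rw [if_neg hj]
      apply Finset.sum_eq_zero
      intro c _
      rw [map_smul, LinearMap.smul_apply, smul_eq_mul, hmix, if_neg (by omega), mul_zero]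
  refine ⟨x, y₁ + g, hxx, ?_, ?_⟩
  · -- the chain of `y` is isotropic
    have hyj : ∀ j : ℕ, B (y₁ + g) ((N ^ j) (y₁ + g)) = 0 := by
      intro j
      rcases Nat.even_or_odd j with hj | hj
      · -- even `j`
        have h := spce2c_move' B N hskew j (y₁ + g) (y₁ + g)
        rw [hj.neg_one_pow, one_mul, spce2c_anti B halt ((N ^ j) (y₁ + g))] at h
        have h3 : (2 : F) * B (y₁ + g) ((N ^ j) (y₁ + g)) = 0 := by linear_combination h
        rcases mul_eq_zero.mp h3 with h4 | h4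
        · exact absurd h4 h2
        · exact h4
      · -- odd `j`
        have e1 : B (y₁ + g) ((N ^ j) (y₁ + g)) =
            η j + B y₁ ((N ^ j) g) + B g ((N ^ j) y₁) + B g ((N ^ j) g) := by
          simp only [map_add, LinearMap.add_apply, hη]
          ring
        have e2 : B y₁ ((N ^ j) g) = B g ((N ^ j) y₁) := by
          rw [spce2c_move' B N hskew j y₁ g, spce2c_anti B halt ((N ^ j) y₁) g, hj.neg_one_pow]
          ring
        rw [e1, e2, hgg, hgy]
        by_cases hjt : j ≤ 2 * t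
        · rw [if_pos hjt]
          have hodd : Odd (2 * t - j) := by
            obtain ⟨s, rfl⟩ := hj
            exact ⟨t - s - 1, by omega⟩
          rw [hodd.neg_one_pow, hγ]
          have h5 : 2 * t - (2 * t - j) = j := by omega
          simp only [h5]
          field_simp
          ring
        · rw [if_neg hjt]
          have h6 : η j = 0 := by
            simp only [hη]
            rw [hge j (by omega)]
            simp
          rw [h6]
          ring
    intro a b
    rw [spce2c_move B N hskew a, spce2c_pow_pow, hyj, mul_zero]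
  · -- mixed values
    intro a b
    rw [map_add, map_add, hmix, hxg, add_zero]

end

/-- E2C [M-L], verbatim. -/
theorem odd_gen (h2 : (2 : F) ≠ 0) {V : Type u} [AddCommGroup V] [Module F V] [FiniteDimensional F V]
    (B : V →ₗ[F] V →ₗ[F] F) (N : V →ₗ[F] V) (halt : ∀ x, B x x = 0)
    (hnd : ∀ x, (∀ y, B x y = 0) → x = 0) (hskew : ∀ x y, B (N x) y = - B x (N y)) (k : ℕ)
    (hk : Odd k) (hNk : N ^ k = 0) (hne : N ^ (k - 1) ≠ 0) :
    ∃ x y : V, (∀ a b : ℕ, B ((N ^ a) x) ((N ^ b) x) = 0) ∧ (∀ a b : ℕ, B ((N ^ a) y) ((N ^ b) y) = 0) ∧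
      ∀ a b : ℕ, B ((N ^ a) x) ((N ^ b) y) = if a + b + 1 = k then (-1) ^ a else 0 := by
  obtain ⟨x, y₀, hxx, hxy₀⟩ := odd_iso_chain h2 B N halt hnd hskew k hk hNk hne
  have hk0 : 0 < k := hk.pos
  exact spce2c_core B N h2 halt hskew k hk hNk x y₀ hxx hxy₀
    (fun h1 h2' => dual_vec B N hnd k hk0 x h1 h2')

end Cfsg.Agent.Lib.helper7.SPC
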