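import Mathlib
import Cfsg.Agent.Lib.helper7.SPC.Defs
import Cfsg.Agent.Lib.helper6.Symp

set_option autoImplicit false

/-!
# Project SPC (designer helper7), rows Y1 (`cay_spec`) and Y2 (`cay_surj`), verbatim from `helper7/SPC/Skel.lean.txt`.  (helper7)
-/

namespace Cfsg.Agent.Lib.helper7.SPC

universe u

open Module Matrix

variable {F : Type u} [Field F]

/-- `(A - B) ^ p = A ^ p - B ^ p` for commuting square matrices in characteristic `p` (also for the empty index type) -/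
theorem spcy1_sub_pow {p : ℕ} [Fact p.Prime] [CharP F p] {n : Type} [Fintype n] [DecidableEq n]
    (A B : Matrix n n F) (h : Commute A B) : (A - B) ^ p = A ^ p - B ^ p := by
  rcases isEmpty_or_nonempty n with h0 | h0
  · exact Subsingleton.elim _ _
  · exact sub_pow_char_of_commute p h

/-- `2 ≠ 0` in odd characteristic -/
theorem spcy1_two_ne {p : ℕ} [Fact p.Prime] [CharP F p] (hp : p ≠ 2) : (2 : F) ≠ 0 := by
  intro h
  have h' : ((2 : ℕ) : F) = 0 := by exact_mod_cast h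
  rw [CharP.cast_eq_zero_iff F p] at h'
  have hp' : p.Prime := Fact.out
  exact hp ((Nat.prime_dvd_prime_iff_eq hp' Nat.prime_two).mp h')

/-- the scalar matrix `2` is a unit -/
theorem spcy1_two_unit {n : Type} [Fintype n] [DecidableEq n] (h2 : (2 : F) ≠ 0) :
    IsUnit ((2 : F) • (1 : Matrix n n F)) := by
  refine ⟨⟨(2 : F) • 1, (2 : F)⁻¹ • 1, ?_, ?_⟩, rfl⟩
  · rw [Matrix.smul_mul, Matrix.mul_smul, Matrix.one_mul, smul_smul, mul_inv_cancel₀ h2, one_smul]
  · rw [Matrix.smul_mul, Matrix.mul_smul, Matrix.one_mul, smul_smul, inv_mul_cancel₀ h2, one_smul]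

/-- bilinear expansion of the standard form, via `stdB` -/
theorem spcy1_form_expand (m : ℕ) (a b c d : Fin m ⊕ Fin m → F) :
    Cfsg.sympForm m F (a - b) (c + d) =
      Cfsg.sympForm m F a c + Cfsg.sympForm m F a d - Cfsg.sympForm m F b c - Cfsg.sympForm m F b d := by
  rw [Cfsg.Agent.Lib.helper6.sympForm_sub_left, Cfsg.Agent.Lib.helper6.sympForm_add_right,
    Cfsg.Agent.Lib.helper6.sympForm_add_right]
  ring

theorem spcy1_form_expand' (m : ℕ) (a b c d : Fin m ⊕ Fin m → F) :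
    Cfsg.sympForm m F (a + b) (c - d) =
      Cfsg.sympForm m F a c - Cfsg.sympForm m F a d + Cfsg.sympForm m F b c - Cfsg.sympForm m F b d := by
  rw [Cfsg.Agent.Lib.helper6.sympForm_add_left, Cfsg.Agent.Lib.helper6.sympForm_sub_right,
    Cfsg.Agent.Lib.helper6.sympForm_sub_right]
  ring

/-- Y1 [M] -/
theorem cay_spec {p : ℕ} [Fact p.Prime] [CharP F p] (hp : p ≠ 2) (m : ℕ)
    (g : Matrix.symplecticGroup (Fin m) F) (hg : g ^ p = 1) :
    SkewM m (cay (g : Matrix (Fin m ⊕ Fin m) (Fin m ⊕ Fin m) F)) ∧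
      (cay (g : Matrix (Fin m ⊕ Fin m) (Fin m ⊕ Fin m) F)) ^ p = 0 := by
  classical
  have h2 : (2 : F) ≠ 0 := spcy1_two_ne hp
  set A : Matrix (Fin m ⊕ Fin m) (Fin m ⊕ Fin m) F := (g : Matrix (Fin m ⊕ Fin m) (Fin m ⊕ Fin m) F) with hA
  have hAp : A ^ p = 1 := by
    have := congrArg (fun x : Matrix.symplecticGroup (Fin m) F => (x : Matrix (Fin m ⊕ Fin m) (Fin m ⊕ Fin m) F)) hg
    simpa using this
  have hnilp : (A - 1) ^ p = 0 := by
    rw [spcy1_sub_pow A 1 (Commute.one_right A), hAp, one_pow, sub_self]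
  have hnil : IsNilpotent (A - 1) := ⟨p, hnilp⟩
  have hdecomp : A + 1 = (2 : F) • (1 : Matrix (Fin m ⊕ Fin m) (Fin m ⊕ Fin m) F) + (A - 1) := by
    rw [two_smul]
    abel
  have hcomm : Commute (A - 1) ((2 : F) • (1 : Matrix (Fin m ⊕ Fin m) (Fin m ⊕ Fin m) F)) := by
    apply Commute.smul_right
    exact Commute.one_right _
  have hunit : IsUnit (A + 1) := by
    rw [hdecomp]
    exact hnil.isUnit_add_left_of_commute (spcy1_two_unit h2) hcomm
  have hdet : IsUnit (A + 1).det := (Matrix.isUnit_iff_isUnit_det _).mp hunit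
  have hinv1 : (A + 1) * (A + 1)⁻¹ = 1 := Matrix.mul_nonsing_inv _ hdet
  have hinv2 : (A + 1)⁻¹ * (A + 1) = 1 := Matrix.nonsing_inv_mul _ hdet
  have hc1 : Commute (A - 1) (A + 1) := by
    apply Commute.add_right
    · apply Commute.sub_left (Commute.refl A) (Commute.one_left A)
    · exact Commute.one_right _
  have hc2 : Commute (A - 1) (A + 1)⁻¹ := by
    show (A - 1) * (A + 1)⁻¹ = (A + 1)⁻¹ * (A - 1)
    calc (A - 1) * (A + 1)⁻¹ = (A + 1)⁻¹ * (A + 1) * ((A - 1) * (A + 1)⁻¹) := by rw [hinv2, Matrix.one_mul]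
      _ = (A + 1)⁻¹ * ((A + 1) * (A - 1)) * (A + 1)⁻¹ := by simp only [Matrix.mul_assoc]
      _ = (A + 1)⁻¹ * ((A - 1) * (A + 1)) * (A + 1)⁻¹ := by rw [hc1.eq]
      _ = (A + 1)⁻¹ * (A - 1) * ((A + 1) * (A + 1)⁻¹) := by simp only [Matrix.mul_assoc]
      _ = (A + 1)⁻¹ * (A - 1) := by rw [hinv1, Matrix.mul_one]
  constructor
  · -- skew
    intro u v
    have hsp : ∀ x y, Cfsg.sympForm m F (A *ᵥ x) (A *ᵥ y) = Cfsg.sympForm m F x y :=
      (Cfsg.Agent.Lib.helper6.mem_symplecticGroup_iff_sympForm m A).mp g.2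
    set u' := (A + 1)⁻¹ *ᵥ u with hu'
    set v' := (A + 1)⁻¹ *ᵥ v with hv'
    have hu : u = A *ᵥ u' + u' := by
      have : u = (A + 1) *ᵥ u' := by rw [hu', Matrix.mulVec_mulVec, hinv1, Matrix.one_mulVec]
      rw [this, Matrix.add_mulVec, Matrix.one_mulVec]
    have hv : v = A *ᵥ v' + v' := by
      have : v = (A + 1) *ᵥ v' := by rw [hv', Matrix.mulVec_mulVec, hinv1, Matrix.one_mulVec]
      rw [this, Matrix.add_mulVec, Matrix.one_mulVec]
    have hNu : (cay A) *ᵥ u = A *ᵥ u' - u' := by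
      unfold cay
      rw [← Matrix.mulVec_mulVec, ← hu', Matrix.sub_mulVec, Matrix.one_mulVec]
    have hNv : (cay A) *ᵥ v = A *ᵥ v' - v' := by
      unfold cay
      rw [← Matrix.mulVec_mulVec, ← hv', Matrix.sub_mulVec, Matrix.one_mulVec]
    rw [hNu, hNv]
    conv_lhs => rw [hv]
    conv_rhs => rw [hu]
    rw [spcy1_form_expand, spcy1_form_expand', hsp]
    ring
  · -- nilpotent
    unfold cay
    rw [hc2.mul_pow, hnilp, Matrix.zero_mul]

/-- `(A + B) ^ p = A ^ p + B ^ p` for commuting square matrices in characteristic `p` (also for the empty index type) -/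
theorem spcy1_add_pow {p : ℕ} [Fact p.Prime] [CharP F p] {n : Type} [Fintype n] [DecidableEq n]
    (A B : Matrix n n F) (h : Commute A B) : (A + B) ^ p = A ^ p + B ^ p := by
  rcases isEmpty_or_nonempty n with h0 | h0
  · exact Subsingleton.elim _ _
  · exact add_pow_char_of_commute p h

theorem spcy1_form_expand2 (m : ℕ) (a b c d : Fin m ⊕ Fin m → F) :
    Cfsg.sympForm m F (a + b) (c + d) =
      Cfsg.sympForm m F a c + Cfsg.sympForm m F a d + Cfsg.sympForm m F b c + Cfsg.sympForm m F b d := by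
  rw [Cfsg.Agent.Lib.helper6.sympForm_add_left, Cfsg.Agent.Lib.helper6.sympForm_add_right,
    Cfsg.Agent.Lib.helper6.sympForm_add_right]
  ring

theorem spcy1_form_expand3 (m : ℕ) (a b c d : Fin m ⊕ Fin m → F) :
    Cfsg.sympForm m F (a - b) (c - d) =
      Cfsg.sympForm m F a c - Cfsg.sympForm m F a d - Cfsg.sympForm m F b c + Cfsg.sympForm m F b d := by
  rw [Cfsg.Agent.Lib.helper6.sympForm_sub_left, Cfsg.Agent.Lib.helper6.sympForm_sub_right,
    Cfsg.Agent.Lib.helper6.sympForm_sub_right]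
  ring

/-- Y2 [M] -/
theorem cay_surj {p : ℕ} [Fact p.Prime] [CharP F p] (hp : p ≠ 2) (m : ℕ)
    (N : Matrix (Fin m ⊕ Fin m) (Fin m ⊕ Fin m) F) (hN : SkewM m N) (hNp : N ^ p = 0) :
    ∃ g : Matrix.symplecticGroup (Fin m) F, g ^ p = 1 ∧
      cay (g : Matrix (Fin m ⊕ Fin m) (Fin m ⊕ Fin m) F) = N := by
  classical
  have h2 : (2 : F) ≠ 0 := spcy1_two_ne hp
  have hnil : IsNilpotent N := ⟨p, hNp⟩
  have hunit : IsUnit (1 - N) := hnil.isUnit_one_sub
  have hdet : IsUnit (1 - N).det := (Matrix.isUnit_iff_isUnit_det _).mp hunit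
  have hinv1 : (1 - N) * (1 - N)⁻¹ = 1 := Matrix.mul_nonsing_inv _ hdet
  have hinv2 : (1 - N)⁻¹ * (1 - N) = 1 := Matrix.nonsing_inv_mul _ hdet
  set Bi : Matrix (Fin m ⊕ Fin m) (Fin m ⊕ Fin m) F := (1 - N)⁻¹ with hBi
  have hc1 : Commute N (1 - N) := by
    apply Commute.sub_right (Commute.one_right N) (Commute.refl N)
  have hc2 : Commute N Bi := by
    show N * Bi = Bi * N
    calc N * Bi = Bi * (1 - N) * (N * Bi) := by rw [hinv2, Matrix.one_mul]
      _ = Bi * ((1 - N) * N) * Bi := by simp only [Matrix.mul_assoc]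
      _ = Bi * (N * (1 - N)) * Bi := by rw [hc1.eq]
      _ = Bi * N * ((1 - N) * Bi) := by simp only [Matrix.mul_assoc]
      _ = Bi * N := by rw [hinv1, Matrix.mul_one]
  set A : Matrix (Fin m ⊕ Fin m) (Fin m ⊕ Fin m) F := (1 + N) * Bi with hA
  have hAmem : A ∈ Matrix.symplecticGroup (Fin m) F := by
    rw [Cfsg.Agent.Lib.helper6.mem_symplecticGroup_iff_sympForm]
    intro x y
    set x' := Bi *ᵥ x with hx'
    set y' := Bi *ᵥ y with hy'
    have hx : x = x' - N *ᵥ x' := by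
      have : x = (1 - N) *ᵥ x' := by rw [hx', Matrix.mulVec_mulVec, hinv1, Matrix.one_mulVec]
      rw [this, Matrix.sub_mulVec, Matrix.one_mulVec]
    have hy : y = y' - N *ᵥ y' := by
      have : y = (1 - N) *ᵥ y' := by rw [hy', Matrix.mulVec_mulVec, hinv1, Matrix.one_mulVec]
      rw [this, Matrix.sub_mulVec, Matrix.one_mulVec]
    have hAx : A *ᵥ x = x' + N *ᵥ x' := by
      rw [hA, ← Matrix.mulVec_mulVec, ← hx', Matrix.add_mulVec, Matrix.one_mulVec]
    have hAy : A *ᵥ y = y' + N *ᵥ y' := by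
      rw [hA, ← Matrix.mulVec_mulVec, ← hy', Matrix.add_mulVec, Matrix.one_mulVec]
    rw [hAx, hAy]
    conv_rhs => rw [hx, hy]
    rw [spcy1_form_expand2, spcy1_form_expand3, hN x' y']
    ring
  have hAm1 : A - 1 = (2 : F) • (N * Bi) := by
    have h1 : (1 : Matrix (Fin m ⊕ Fin m) (Fin m ⊕ Fin m) F) = (1 - N) * Bi := hinv1.symm
    calc A - 1 = (1 + N) * Bi - (1 - N) * Bi := by rw [← h1]
      _ = (2 : F) • (N * Bi) := by
        rw [← Matrix.sub_mul, two_smul, ← Matrix.add_mul]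
        congr 1
        abel
  have hAp1 : A + 1 = (2 : F) • Bi := by
    have h1 : (1 : Matrix (Fin m ⊕ Fin m) (Fin m ⊕ Fin m) F) = (1 - N) * Bi := hinv1.symm
    calc A + 1 = (1 + N) * Bi + (1 - N) * Bi := by rw [← h1]
      _ = (2 : F) • Bi := by
        rw [← Matrix.add_mul, two_smul]
        have : (1 + N + (1 - N)) = (1 : Matrix (Fin m ⊕ Fin m) (Fin m ⊕ Fin m) F) + 1 := by abel
        rw [this, Matrix.add_mul, Matrix.one_mul]
  have hpow : A ^ p = 1 := by
    have h3 : (A - 1) ^ p = 0 := by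
      rw [hAm1, smul_pow, hc2.mul_pow, hNp, Matrix.zero_mul, smul_zero]
    have h4 : A = (A - 1) + 1 := by abel
    rw [h4, spcy1_add_pow _ _ (Commute.one_right _), h3, one_pow, zero_add]
  refine ⟨⟨A, hAmem⟩, ?_, ?_⟩
  · apply Subtype.ext
    rw [SubmonoidClass.coe_pow]
    exact hpow
  · show cay A = N
    unfold cay
    have hinvA : (A + 1)⁻¹ = (2 : F)⁻¹ • (1 - N) := by
      apply Matrix.inv_eq_right_inv
      rw [hAp1, Matrix.smul_mul, Matrix.mul_smul, smul_smul, mul_inv_cancel₀ h2, one_smul]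
      exact hinv2
    rw [hinvA, hAm1, Matrix.smul_mul, Matrix.mul_smul, smul_smul, mul_inv_cancel₀ h2, one_smul,
      Matrix.mul_assoc, hinv2, Matrix.mul_one]

end Cfsg.Agent.Lib.helper7.SPC
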