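import Mathlib
import Cfsg.Prelude.Def_Classical
import Cfsg.Agent.S0246
import Cfsg.Agent.Lib.helper6.Symp
import Cfsg.Agent.Lib.helper14.SpSLa

set_option autoImplicit false
set_option linter.style.haveILetI false
set_option linter.unusedSimpArgs false

/-!
# Project BCG (S2474), pre-written by helper7: the pair `(2, s)` on the `PSp` side at `c_s = 2 n` (existence).

* `bcg7_order_mk_of_sq`: `x ∈ Sp_{2n}(F)` of order `4 s` with `x ^ (2 s) = -1` has order `2 s` in `PSp_{2n}(F)`;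
* `bcg7_diag : GL_n(F) →* Sp_{2n}(F)`, `A ↦ diag (A, A⁻ᵀ)` (injective, `-1 ↦ -1`);
* `bcg7_psp_of_gl`, `bcg7_psp_split` (T1): `-1` a square in `F`, `s ∣ q ^ n - 1`: `2 s ∈ ω(PSp_{2n}(F))`;
* `bcg7_std_basis`: symplectic basis of an abstract non-degenerate alternating space;
* `bcg7_rep`, `bcg7_form`: the norm-one torus of `F_{q^{2n}}` in `Sp_{2n}(F)`;
* `bcg7_psp_nonsplit` (T2): `4 ∣ q ^ n + 1`, `s ∣ q ^ n + 1`: `2 s ∈ ω(PSp_{2n}(F))`.
-/

namespace Cfsg.Agent.Lib.helper7.BCGTorus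

open Matrix


/-- (G0) an element `x` of `Sp_{2n}(F)` of order `4 s` with `x ^ (2 s) = -1` has order `2 s` in `PSp_{2n}(F)` -/
theorem bcg7_order_mk_of_sq {F : Type*} [Field F] (n : ℕ) (hn : 1 ≤ n) (s : ℕ) (hs : 0 < s)
    (x : Matrix.symplecticGroup (Fin n) F) (hx : orderOf x = 4 * s)
    (hx2 : x ^ (2 * s) = Cfsg.Agent.S0246.negOne F n) :
    orderOf (QuotientGroup.mk x : Cfsg.PSp n F) = 2 * s := by
  have hneg2 : Cfsg.Agent.S0246.negOne F n ^ 2 = 1 := by
    apply Subtype.ext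
    rw [SubmonoidClass.coe_pow, Cfsg.Agent.S0246.negOne_coe]
    simp
  rw [orderOf_eq_iff (by omega)]
  constructor
  · rw [← QuotientGroup.mk_pow, QuotientGroup.eq_one_iff, hx2]
    exact Cfsg.Agent.S0246.negOne_mem_center
  · intro k hk hk0 hc
    rw [← QuotientGroup.mk_pow, QuotientGroup.eq_one_iff] at hc
    have h2k : x ^ (2 * k) = 1 := by
      rcases Cfsg.Agent.S0246.center_cases hn _ hc with h | h
      · rw [mul_comm, pow_mul, h, one_pow]
      · rw [mul_comm, pow_mul, h, hneg2]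
    have hdvd := orderOf_dvd_of_pow_eq_one h2k
    rw [hx] at hdvd
    have : 2 * s ∣ k := by
      obtain ⟨c, hc⟩ := hdvd
      have h2 : 2 * k = 2 * (2 * s * c) := by rw [hc]; ring
      exact ⟨c, by omega⟩
    have := Nat.le_of_dvd hk0 this
    omega



theorem bcg7_diag_mem {F : Type*} [Field F] (n : ℕ) (A : GL (Fin n) F) :
    Matrix.fromBlocks (A : Matrix (Fin n) (Fin n) F) 0 0
      ((A⁻¹ : GL (Fin n) F) : Matrix (Fin n) (Fin n) F)ᵀ ∈ Matrix.symplecticGroup (Fin n) F := by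
  rw [SymplecticGroup.mem_iff]
  have h1 : (A : Matrix (Fin n) (Fin n) F) * ((A⁻¹ : GL (Fin n) F) : Matrix (Fin n) (Fin n) F) = 1 := by
    rw [← Units.val_mul, mul_inv_cancel, Units.val_one]
  have h2 : ((A⁻¹ : GL (Fin n) F) : Matrix (Fin n) (Fin n) F)ᵀ * (A : Matrix (Fin n) (Fin n) F)ᵀ = 1 := by
    rw [← Matrix.transpose_mul, h1, Matrix.transpose_one]
  simp only [Matrix.J, Matrix.fromBlocks_multiply, Matrix.fromBlocks_transpose, Matrix.transpose_zero,
    Matrix.transpose_transpose, Matrix.mul_zero, Matrix.zero_mul, Matrix.mul_one, Matrix.mul_neg,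
    Matrix.neg_mul, add_zero, zero_add, h1, h2, neg_zero]

/-- the block-diagonal embedding `A ↦ diag(A, A⁻ᵀ)` of `GL_n(F)` into `Sp_{2n}(F)` -/
noncomputable def bcg7_diag {F : Type*} [Field F] (n : ℕ) :
    GL (Fin n) F →* Matrix.symplecticGroup (Fin n) F where
  toFun A := ⟨Matrix.fromBlocks (A : Matrix (Fin n) (Fin n) F) 0 0
      ((A⁻¹ : GL (Fin n) F) : Matrix (Fin n) (Fin n) F)ᵀ, bcg7_diag_mem n A⟩
  map_one' := by
    apply Subtype.ext
    show Matrix.fromBlocks ((1 : GL (Fin n) F) : Matrix (Fin n) (Fin n) F) 0 0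
      (((1 : GL (Fin n) F)⁻¹ : GL (Fin n) F) : Matrix (Fin n) (Fin n) F)ᵀ = 1
    rw [inv_one, Units.val_one, Matrix.transpose_one, Matrix.fromBlocks_one]
  map_mul' A B := by
    apply Subtype.ext
    show Matrix.fromBlocks ((A * B : GL (Fin n) F) : Matrix (Fin n) (Fin n) F) 0 0
      (((A * B)⁻¹ : GL (Fin n) F) : Matrix (Fin n) (Fin n) F)ᵀ =
      Matrix.fromBlocks (A : Matrix (Fin n) (Fin n) F) 0 0
        ((A⁻¹ : GL (Fin n) F) : Matrix (Fin n) (Fin n) F)ᵀ *
      Matrix.fromBlocks (B : Matrix (Fin n) (Fin n) F) 0 0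
        ((B⁻¹ : GL (Fin n) F) : Matrix (Fin n) (Fin n) F)ᵀ
    rw [Matrix.fromBlocks_multiply, _root_.mul_inv_rev, Units.val_mul, Units.val_mul,
      Matrix.transpose_mul]
    simp only [Matrix.mul_zero, Matrix.zero_mul, add_zero, zero_add]

theorem bcg7_diag_coe {F : Type*} [Field F] (n : ℕ) (A : GL (Fin n) F) :
    ((bcg7_diag n A : Matrix.symplecticGroup (Fin n) F) :
      Matrix (Fin n ⊕ Fin n) (Fin n ⊕ Fin n) F) =
    Matrix.fromBlocks (A : Matrix (Fin n) (Fin n) F) 0 0
      ((A⁻¹ : GL (Fin n) F) : Matrix (Fin n) (Fin n) F)ᵀ := rfl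

theorem bcg7_diag_injective {F : Type*} [Field F] (n : ℕ) :
    Function.Injective (bcg7_diag (F := F) n) := by
  intro A B h
  have h1 := congrArg (fun g : Matrix.symplecticGroup (Fin n) F =>
    (g : Matrix (Fin n ⊕ Fin n) (Fin n ⊕ Fin n) F)) h
  simp only [bcg7_diag_coe] at h1
  have h2 := (Matrix.fromBlocks_inj.1 h1).1
  exact Units.ext h2

theorem bcg7_diag_neg_one {F : Type*} [Field F] (n : ℕ) :
    bcg7_diag n (-1 : GL (Fin n) F) = Cfsg.Agent.S0246.negOne F n := by
  apply Subtype.ext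
  rw [bcg7_diag_coe, Cfsg.Agent.S0246.negOne_coe, inv_neg_one, Units.val_neg, Units.val_one,
    Matrix.transpose_neg, Matrix.transpose_one, ← Matrix.fromBlocks_one]
  rw [Matrix.fromBlocks_neg]
  simp

/-- (T1, group form) from an element `g` of odd order `s` of `GL_n(F)` and a square root `i` of `-1` in `F`:
`2 s` is an element order of `PSp_{2n}(F)` -/
theorem bcg7_psp_of_gl {F : Type*} [Field F] (n : ℕ) (hn : 1 ≤ n) (i : F) (hi : i * i = -1)
    (h2 : (2 : F) ≠ 0) (s : ℕ) (hs : Odd s) (g : GL (Fin n) F) (hg : orderOf g = s) :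
    2 * s ∈ Set.range (orderOf : Cfsg.PSp n F → ℕ) := by
  have _hne : Nonempty (Fin n) := ⟨⟨0, hn⟩⟩
  have hs0 : 0 < s := hs.pos
  -- the unit `i`
  let iu : Fˣ := ⟨i, -i, by rw [mul_neg, hi, neg_neg], by rw [neg_mul, hi, neg_neg]⟩
  have hiu2 : iu ^ 2 = -1 := by
    apply Units.ext
    rw [Units.val_pow_eq_pow_val, Units.val_neg, Units.val_one]
    show i ^ 2 = -1
    rw [pow_two, hi]
  have hne : (-1 : Fˣ) ≠ 1 := by
    intro h
    have := congrArg Units.val h
    rw [Units.val_neg, Units.val_one] at this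
    apply h2
    linear_combination -this
  have hiu_ord : orderOf iu = 4 := by
    have := orderOf_eq_prime_pow (x := iu) (p := 2) (n := 1) (by rw [pow_one, hiu2]; exact hne)
      (by
        show iu ^ 2 ^ 2 = 1
        rw [show (2:ℕ)^2 = 2 * 2 from rfl, pow_mul, hiu2]
        simp)
    simpa using this
  -- the central element `c = i • 1` of `GL_n(F)`
  let φ : Fˣ →* GL (Fin n) F := Units.map (algebraMap F (Matrix (Fin n) (Fin n) F)).toMonoidHom
  have hφinj : Function.Injective φ :=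
    Units.map_injective (FaithfulSMul.algebraMap_injective F (Matrix (Fin n) (Fin n) F))
  let c : GL (Fin n) F := φ iu
  have hc_ord : orderOf c = 4 := by rw [orderOf_injective φ hφinj iu, hiu_ord]
  have hc2 : c ^ 2 = -1 := by
    show (φ iu) ^ 2 = -1
    rw [← map_pow, hiu2]
    apply Units.ext
    show (algebraMap F (Matrix (Fin n) (Fin n) F)) ((-1 : Fˣ) : F) = ((-1 : GL (Fin n) F) : Matrix (Fin n) (Fin n) F)
    rw [Units.val_neg, Units.val_one, map_neg, map_one, Units.val_neg, Units.val_one]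
  have hcomm : Commute c g := by
    apply Units.ext
    show (algebraMap F (Matrix (Fin n) (Fin n) F)) (iu : F) * (g : Matrix (Fin n) (Fin n) F) =
      (g : Matrix (Fin n) (Fin n) F) * (algebraMap F (Matrix (Fin n) (Fin n) F)) (iu : F)
    exact Algebra.commutes _ _
  have hcop : Nat.Coprime (orderOf c) (orderOf g) := by
    rw [hc_ord, hg]
    have : Nat.Coprime 2 s := (Nat.coprime_two_left).2 hs
    exact Nat.Coprime.pow_left 2 this
  have hx_ord : orderOf (c * g) = 4 * s := by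
    rw [hcomm.orderOf_mul_eq_mul_orderOf_of_coprime hcop, hc_ord, hg]
  have hx_pow : (c * g) ^ (2 * s) = -1 := by
    rw [hcomm.mul_pow, pow_mul c 2 s, hc2, mul_comm 2 s, pow_mul g s 2, ← hg, pow_orderOf_eq_one,
      one_pow, mul_one, hg, hs.neg_one_pow]
  refine ⟨QuotientGroup.mk (bcg7_diag n (c * g)), ?_⟩
  apply bcg7_order_mk_of_sq n hn s hs0
  · rw [orderOf_injective (bcg7_diag n) (bcg7_diag_injective n), hx_ord]
  · rw [← map_pow, hx_pow, bcg7_diag_neg_one]

/-- (T1) `2 s` is an element order of `PSp_{2n}(F)` when `-1` is a square in `F` and `s ∣ q ^ n - 1` -/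
theorem bcg7_psp_split {F : Type*} [Field F] [Fintype F] (n : ℕ) (hn : 1 ≤ n) (i : F)
    (hi : i * i = -1) (h2 : (2 : F) ≠ 0) (s : ℕ) (hs : s.Prime) (hs2 : s ≠ 2)
    (hdvd : s ∣ Fintype.card F ^ n - 1) :
    2 * s ∈ Set.range (orderOf : Cfsg.PSp n F → ℕ) := by
  haveI : Fact s.Prime := ⟨hs⟩
  have hcard : s ∣ Nat.card (GL (Fin n) F) := by
    rw [Matrix.card_GL_field]
    have hmem : (⟨0, hn⟩ : Fin n) ∈ (Finset.univ : Finset (Fin n)) := Finset.mem_univ _
    refine dvd_trans ?_ (Finset.dvd_prod_of_mem _ hmem)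
    simpa using hdvd
  obtain ⟨g, hg⟩ := exists_prime_orderOf_dvd_card' s hcard
  exact bcg7_psp_of_gl n hn i hi h2 s (hs.odd_of_ne_two hs2) g hg



section std

variable {F : Type*} [Field F] {V : Type*} [AddCommGroup V] [Module F V] [FiniteDimensional F V]

/-- a finite-dimensional space with a non-degenerate alternating form has a symplectic basis -/
theorem bcg7_std_basis (B : LinearMap.BilinForm F V) (halt : ∀ v, B v v = 0)
    (hnd : ∀ u, (∀ v, B u v = 0) → u = 0) :
    ∃ (k : ℕ) (e : (Fin k ⊕ Fin k → F) ≃ₗ[F] V), Module.finrank F V = 2 * k ∧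
      ∀ x y, B (e x) (e y) = Cfsg.sympForm k F x y := by
  let b : V ≃ₗ[F] (Fin (Module.finrank F V) → F) := (Module.finBasis F V).equivFun
  let f : (Fin (Module.finrank F V) → F) → (Fin (Module.finrank F V) → F) → F :=
    fun u v => B (b.symm u) (b.symm v)
  have hskew : ∀ u v : V, B u v = - B v u := by
    intro u v
    have h := halt (u + v)
    simp only [map_add, LinearMap.add_apply, halt u, halt v] at h
    linear_combination h
  have hf : Cfsg.Geo.IsSymplecticForm f :=
    { bilinear :=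
        { add_left := fun x y v => by simp only [f, map_add, LinearMap.add_apply]
          smul_left := fun c x v => by simp only [f, map_smul, LinearMap.smul_apply, smul_eq_mul]
          add_right := fun v x y => by simp only [f, map_add]
          smul_right := fun c v x => by simp only [f, map_smul, smul_eq_mul] }
      skew := fun v w => hskew _ _
      alternating := fun v => halt _
      nondegenerate := by
        intro v hv
        have hv' : b.symm v ≠ 0 := by
          intro h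
          apply hv
          have := congrArg b h
          simpa using this
        have : ∃ x, B (b.symm v) x ≠ 0 := by
          by_contra hcon
          push Not at hcon
          exact hv' (hnd _ hcon)
        obtain ⟨x, hx⟩ := this
        refine ⟨⟨b x, ?_⟩, ⟨b x, ?_⟩⟩
        · show B (b.symm (b x)) (b.symm v) ≠ 0
          rw [b.symm_apply_apply, hskew]
          exact neg_ne_zero.2 hx
        · show B (b.symm v) (b.symm (b x)) ≠ 0
          rw [b.symm_apply_apply]
          exact hx }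
  obtain ⟨k, φ, hN, hφ⟩ := Cfsg.Agent.Lib.helper14.SpSLa.exists_std f hf
  refine ⟨k, φ.trans b.symm, hN, ?_⟩
  intro x y
  exact hφ x y

end std

section rep

variable {F : Type*} [Field F] {L : Type*} [Field L] [Algebra F L] {k : ℕ}
  (e : (Fin k ⊕ Fin k → F) ≃ₗ[F] L)

/-- the matrix of multiplication by `μ` in the coordinates `e` -/
noncomputable def bcg7_rep : L →* Matrix (Fin k ⊕ Fin k) (Fin k ⊕ Fin k) F where
  toFun μ := LinearMap.toMatrix' (((e.symm : L →ₗ[F] (Fin k ⊕ Fin k → F))) ∘ₗ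
    (LinearMap.mulLeft F μ) ∘ₗ (e : (Fin k ⊕ Fin k → F) →ₗ[F] L))
  map_one' := by
    rw [← LinearMap.toMatrix'_id]
    congr 1
    refine LinearMap.ext fun u => ?_
    simp
  map_mul' μ ν := by
    rw [← LinearMap.toMatrix'_comp]
    congr 1
    refine LinearMap.ext fun u => ?_
    simp [mul_assoc]

theorem bcg7_rep_mulVec (μ : L) (u : Fin k ⊕ Fin k → F) :
    bcg7_rep e μ *ᵥ u = e.symm (μ * e u) := by
  show LinearMap.toMatrix' _ *ᵥ u = _
  rw [LinearMap.toMatrix'_mulVec]
  rfl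

theorem bcg7_rep_eq_one_iff (μ : L) : bcg7_rep e μ = 1 ↔ μ = 1 := by
  constructor
  · intro h
    have h1 := bcg7_rep_mulVec e μ (e.symm 1)
    rw [h, Matrix.one_mulVec, e.apply_symm_apply, mul_one] at h1
    exact (e.symm.injective h1).symm
  · intro h
    rw [h, map_one]

theorem bcg7_rep_neg_one : bcg7_rep e (-1 : L) = -1 := by
  apply Matrix.toLin'.injective
  apply LinearMap.ext
  intro u
  rw [Matrix.toLin'_apply, bcg7_rep_mulVec, neg_one_mul, map_neg, e.symm_apply_apply,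
    Matrix.toLin'_apply, Matrix.neg_mulVec, Matrix.one_mulVec]

theorem bcg7_rep_mem (B : LinearMap.BilinForm F L)
    (hB : ∀ x y, B (e x) (e y) = Cfsg.sympForm k F x y) (μ : L)
    (hμ : ∀ a b, B (μ * a) (μ * b) = B a b) :
    bcg7_rep e μ ∈ Matrix.symplecticGroup (Fin k) F := by
  rw [Cfsg.Agent.Lib.helper6.mem_symplecticGroup_iff_sympForm]
  intro u v
  rw [bcg7_rep_mulVec, bcg7_rep_mulVec, ← hB, e.apply_symm_apply, e.apply_symm_apply, hμ, hB]

end rep

section form

variable {F : Type*} [Field F] {L : Type*} [Field L] [Algebra F L] [FiniteDimensional F L]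
  [Algebra.IsSeparable F L]

/-- the form `Tr (θ a σ(b))`, `σ` of order two, `σ θ = - θ`: alternating, non-degenerate, invariant under the
elements of norm one -/
theorem bcg7_form (h2 : (2 : F) ≠ 0) (σ : L ≃ₐ[F] L) (hσ2 : ∀ x, σ (σ x) = x) (a₀ : L)
    (ha₀ : σ a₀ ≠ a₀) :
    ∃ B : LinearMap.BilinForm F L, (∀ v, B v v = 0) ∧ (∀ u, (∀ v, B u v = 0) → u = 0) ∧
      ∀ μ : L, μ * σ μ = 1 → ∀ a b, B (μ * a) (μ * b) = B a b := by
  set θ : L := a₀ - σ a₀ with hθ
  have hθ0 : θ ≠ 0 := by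
    rw [hθ]
    intro h
    exact ha₀ (sub_eq_zero.1 h).symm
  have hσθ : σ θ = -θ := by
    rw [hθ, map_sub, hσ2]
    ring
  let B : LinearMap.BilinForm F L :=
    (Algebra.traceForm F L).comp (LinearMap.mulLeft F θ) σ.toLinearMap
  have hB : ∀ a b, B a b = Algebra.trace F L (θ * a * σ b) := by
    intro a b
    show Algebra.traceForm F L (θ * a) (σ b) = _
    rw [Algebra.traceForm_apply]
  refine ⟨B, ?_, ?_, ?_⟩
  · intro v
    rw [hB]
    have h1 : σ (θ * v * σ v) = -(θ * v * σ v) := by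
      rw [map_mul, map_mul, hσθ, hσ2]
      ring
    have h3 := Algebra.trace_eq_of_algEquiv σ (θ * v * σ v)
    rw [h1, map_neg] at h3
    have h4 : (2 : F) * Algebra.trace F L (θ * v * σ v) = 0 := by linear_combination -h3
    exact (mul_eq_zero.1 h4).resolve_left h2
  · intro u hu
    have h1 : ∀ y, Algebra.traceForm F L (θ * u) y = 0 := by
      intro y
      have := hu (σ y)
      rw [hB, hσ2] at this
      rw [Algebra.traceForm_apply]
      exact this
    have h3 := (traceForm_nondegenerate F L).1 (θ * u) h1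
    exact (mul_eq_zero.1 h3).resolve_left hθ0
  · intro μ hμ a b
    rw [hB, hB, map_mul σ μ b]
    have : θ * (μ * a) * (σ μ * σ b) = (μ * σ μ) * (θ * a * σ b) := by ring
    rw [this, hμ, one_mul]

end form



theorem bcg7_std_basis' {F : Type*} [Field F] {V : Type*} [AddCommGroup V] [Module F V]
    [FiniteDimensional F V] (B : LinearMap.BilinForm F V) (halt : ∀ v, B v v = 0)
    (hnd : ∀ u, (∀ v, B u v = 0) → u = 0) (n : ℕ) (hdim : Module.finrank F V = 2 * n) :
    ∃ (e : (Fin n ⊕ Fin n → F) ≃ₗ[F] V), ∀ x y, B (e x) (e y) = Cfsg.sympForm n F x y := by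
  obtain ⟨k, e, hk, he⟩ := bcg7_std_basis B halt hnd
  have hkn : k = n := by omega
  subst hkn
  exact ⟨e, he⟩

theorem bcg7_arith (Q : ℕ) (hQ : 1 ≤ Q) : Q * Q - 1 = (Q + 1) * (Q - 1) := by
  obtain ⟨t, rfl⟩ : ∃ t, Q = t + 1 := ⟨Q - 1, by omega⟩
  have h1 : (t + 1) * (t + 1) = (t + 1 + 1) * t + 1 := by ring
  rw [h1]
  simp

/-- (T2, element form) when `4 ∣ q ^ n + 1` and `s ∣ q ^ n + 1` there is `X ∈ Sp_{2n}(F)` of order `4 s` with
`X ^ (2 s) = -1`: the norm-one torus of order `q ^ n + 1` of `F_{q^{2n}}` acting on `F_{q^{2n}}` with the form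
`Tr (θ a b^(q^n))` -/
theorem bcg7_torus_elt {F : Type*} [Field F] [Fintype F] (n : ℕ) (hn : 1 ≤ n)
    (h4 : 4 ∣ Fintype.card F ^ n + 1) (s : ℕ) (hs : s.Prime) (hs2 : s ≠ 2)
    (hdvd : s ∣ Fintype.card F ^ n + 1) :
    ∃ X : Matrix.symplecticGroup (Fin n) F, orderOf X = 4 * s ∧
      X ^ (2 * s) = Cfsg.Agent.S0246.negOne F n := by
  classical
  set q := Fintype.card F with hq
  have hsodd : Odd s := hs.odd_of_ne_two hs2
  have hs0 : 0 < s := hs.pos
  -- `q` is odd
  have hqodd : Odd q := by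
    by_contra h
    rw [Nat.not_odd_iff_even] at h
    have h1 : Even (q ^ n) := (Nat.even_pow.2 ⟨h, by omega⟩)
    obtain ⟨c, hc⟩ := h4
    obtain ⟨d, hd⟩ := h1
    omega
  have h2 : (2 : F) ≠ 0 := by
    intro h
    rw [Cfsg.Agent.S0246.two_eq_zero_iff] at h
    exact (Nat.not_even_iff_odd.2 hqodd) h
  have hq3 : 3 ≤ q := by
    have h1 : 1 < q := Fintype.one_lt_card
    obtain ⟨c, hc⟩ := hqodd
    omega
  set Q := q ^ n with hQ
  have hQ3 : 3 ≤ Q := by
    calc 3 ≤ q := hq3
      _ = q ^ 1 := (pow_one q).symm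
      _ ≤ q ^ n := Nat.pow_le_pow_right (by omega) hn
  obtain ⟨p, hp⟩ := CharP.exists F
  haveI := hp
  haveI : Fact p.Prime := ⟨CharP.char_is_prime F p⟩
  haveI : NeZero (2 * n) := ⟨by omega⟩
  let L := FiniteField.Extension F p (2 * n)
  haveI : Fintype L := Fintype.ofFinite L
  have hcardL : Fintype.card L = Q * Q := by
    rw [Fintype.card_eq_nat_card, FiniteField.natCard_extension, Nat.card_eq_fintype_card, hQ,
      ← pow_add, two_mul]
  have hfin : Module.finrank F L = 2 * n := FiniteField.finrank_extension F p (2 * n)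
  let σ : L ≃ₐ[F] L := (FiniteField.Extension.frob F p (2 * n)) ^ n
  have hσ : ∀ x : L, σ x = x ^ Q := by
    intro x
    show ((FiniteField.Extension.frob F p (2 * n)) ^ n) x = _
    rw [FiniteField.Extension.frob_iterate_apply, Nat.card_eq_fintype_card]
  have hσ2 : ∀ x : L, σ (σ x) = x := by
    intro x
    rw [hσ, hσ, ← pow_mul, ← hcardL, FiniteField.pow_card]
  -- a generator of the multiplicative group
  obtain ⟨ζ, hζ⟩ := IsCyclic.exists_generator (α := Lˣ)
  have hζord : orderOf ζ = Q * Q - 1 := by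
    rw [orderOf_eq_card_of_forall_mem_zpowers hζ, Nat.card_eq_fintype_card, Fintype.card_units,
      hcardL]
  have hN : Q * Q - 1 = (Q + 1) * (Q - 1) := bcg7_arith Q (by omega)
  have hσζ : σ (ζ : L) ≠ (ζ : L) := by
    intro h
    rw [hσ] at h
    have h1 : ζ ^ (Q - 1) = 1 := by
      have h3 : ζ ^ (Q - 1) * ζ = 1 * ζ := by
        rw [← pow_succ, one_mul]
        apply Units.ext
        rw [Units.val_pow_eq_pow_val, show Q - 1 + 1 = Q from by omega]
        exact h
      exact mul_right_cancel h3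
    have h3 := orderOf_dvd_of_pow_eq_one h1
    rw [hζord] at h3
    have h5 := Nat.le_of_dvd (by omega) h3
    have h6 : Q * Q ≥ 3 * Q := Nat.mul_le_mul_right Q hQ3
    omega
  -- the element `μ` of order `4 s`
  have h4s : 4 * s ∣ Q + 1 := by
    have hcop : Nat.Coprime 4 s := Nat.Coprime.pow_left 2 ((Nat.coprime_two_left).2 hsodd)
    exact Nat.Coprime.mul_dvd_of_dvd_of_dvd hcop h4 hdvd
  have h4sN : 4 * s ∣ Q * Q - 1 := by
    rw [hN]
    exact Dvd.dvd.mul_right h4s _
  have hNpos : Q * Q - 1 ≠ 0 := by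
    have h6 : Q * Q ≥ 3 * Q := Nat.mul_le_mul_right Q hQ3
    omega
  set m := (Q * Q - 1) / (4 * s) with hm
  have hmdvd : m ∣ Q * Q - 1 := Nat.div_dvd_of_dvd h4sN
  have hm0 : m ≠ 0 := by
    intro h
    rw [h] at hmdvd
    exact hNpos (zero_dvd_iff.1 hmdvd)
  let μu : Lˣ := ζ ^ m
  have hμord : orderOf μu = 4 * s := by
    show orderOf (ζ ^ m) = 4 * s
    rw [orderOf_pow_of_dvd hm0 (by rw [hζord]; exact hmdvd), hζord, hm]
    exact Nat.div_div_self h4sN hNpos
  let μ : L := (μu : L)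
  have hμσ : μ * σ μ = 1 := by
    rw [hσ, ← pow_succ']
    show (μu : L) ^ (Q + 1) = 1
    rw [← Units.val_pow_eq_pow_val, Units.val_eq_one]
    apply orderOf_dvd_iff_pow_eq_one.1
    rw [hμord]
    exact h4s
  have hμ2s : μ ^ (2 * s) = -1 := by
    have h1 : μu ^ (2 * s) ≠ 1 := by
      apply pow_ne_one_of_lt_orderOf (by omega)
      rw [hμord]
      omega
    have h3 : μu ^ (2 * s) * μu ^ (2 * s) = 1 := by
      rw [← pow_add, show 2 * s + 2 * s = 4 * s from by ring, ← hμord, pow_orderOf_eq_one]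
    have h5 : μ ^ (2 * s) * μ ^ (2 * s) = 1 := by
      have := congrArg Units.val h3
      simpa [μ] using this
    rcases mul_self_eq_one_iff.1 h5 with h | h
    · exfalso
      apply h1
      apply Units.ext
      rw [Units.val_pow_eq_pow_val, Units.val_one]
      exact h
    · exact h
  -- the form and the symplectic basis
  obtain ⟨B, halt, hnd, hinv⟩ := bcg7_form h2 σ hσ2 (ζ : L) hσζ
  obtain ⟨e, he⟩ := bcg7_std_basis' B halt hnd n hfin
  let X : Matrix.symplecticGroup (Fin n) F := ⟨bcg7_rep e μ, bcg7_rep_mem e B he μ (hinv μ hμσ)⟩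
  have hXpow : ∀ j : ℕ, ((X ^ j : Matrix.symplecticGroup (Fin n) F) :
      Matrix (Fin n ⊕ Fin n) (Fin n ⊕ Fin n) F) = bcg7_rep e (μ ^ j) := by
    intro j
    rw [SubmonoidClass.coe_pow, map_pow]
  have hXord : orderOf X = 4 * s := by
    rw [← hμord]
    apply orderOf_eq_orderOf_iff.2
    intro j
    constructor
    · intro h
      have h1 := congrArg (fun g : Matrix.symplecticGroup (Fin n) F =>
        (g : Matrix (Fin n ⊕ Fin n) (Fin n ⊕ Fin n) F)) h
      simp only [hXpow] at h1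
      have h3 : μ ^ j = 1 := (bcg7_rep_eq_one_iff e (μ ^ j)).1 h1
      apply Units.ext
      rw [Units.val_pow_eq_pow_val, Units.val_one]
      exact h3
    · intro h
      apply Subtype.ext
      rw [hXpow]
      have h3 : μ ^ j = 1 := by
        have := congrArg Units.val h
        simpa [μ] using this
      rw [h3, map_one]
      rfl
  have hX2s : X ^ (2 * s) = Cfsg.Agent.S0246.negOne F n := by
    apply Subtype.ext
    rw [hXpow, hμ2s, bcg7_rep_neg_one, Cfsg.Agent.S0246.negOne_coe]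
  exact ⟨X, hXord, hX2s⟩

/-- (T2) `2 s` is an element order of `PSp_{2n}(F)` when `4 ∣ q ^ n + 1` and `s ∣ q ^ n + 1` -/
theorem bcg7_psp_nonsplit {F : Type*} [Field F] [Fintype F] (n : ℕ) (hn : 1 ≤ n)
    (h4 : 4 ∣ Fintype.card F ^ n + 1) (s : ℕ) (hs : s.Prime) (hs2 : s ≠ 2)
    (hdvd : s ∣ Fintype.card F ^ n + 1) :
    2 * s ∈ Set.range (orderOf : Cfsg.PSp n F → ℕ) := by
  obtain ⟨X, hXord, hX2s⟩ := bcg7_torus_elt n hn h4 s hs hs2 hdvd
  exact ⟨QuotientGroup.mk X, bcg7_order_mk_of_sq n hn s hs.pos X hXord hX2s⟩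

/-- (T2, pair form = the statement of BCG row S3 `sp_torus_minus` without the characteristic) commuting `t`, `y` in
`Sp_{2n}(F)` with `y` of order `s` and `t * t = -1` -/
theorem bcg7_torus_pair {F : Type*} [Field F] [Fintype F] (n : ℕ) (hn : 1 ≤ n)
    (h4 : Fintype.card F ^ n % 4 = 3) (s : ℕ) (hs : s.Prime) (hs2 : s ≠ 2)
    (hdvd : s ∣ Fintype.card F ^ n + 1) :
    ∃ t y : Matrix.symplecticGroup (Fin n) F, Commute t y ∧ orderOf y = s ∧
      t * t = Cfsg.Agent.S0246.negOne F n := by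
  obtain ⟨X, hXord, hX2s⟩ := bcg7_torus_elt n hn (by omega) s hs hs2 hdvd
  refine ⟨X ^ s, X ^ 4, (Commute.refl X).pow_pow s 4, ?_, ?_⟩
  · rw [orderOf_pow_of_dvd (by norm_num) (by rw [hXord]; exact Dvd.intro _ rfl), hXord]
    exact Nat.mul_div_cancel_left s (by norm_num)
  · rw [← pow_add, ← two_mul, hX2s]

end Cfsg.Agent.Lib.helper7.BCGTorus
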