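import Cfsg.Agent.Lib.Lead.McL5
import Cfsg.Agent.S0391
import Cfsg.Agent.S0392
import Cfsg.Agent.S0397
import Cfsg.Agent.S0400
import Cfsg.Agent.S1567
import Cfsg.Agent.S1573
import Cfsg.Agent.S1574
import Cfsg.Agent.S1576

set_option autoImplicit false
set_option linter.style.haveILetI false

/-!
# Lattice facts used for the simplicity of `Co0 / centre`

* `negE`: negation as an element of `Co0`, `center_cases`: the centre is `{1, negE}`;
* `dot_vals`: possible dot products of two minimal vectors;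
* `ncard_A`: the census of minimal vectors by dot product with a fixed one (subtype form);
* `sign_const`: an automorphism mapping each minimal vector to plus or minus itself is `1` or `negE`.
-/

namespace Cfsg.Agent.Lib.helper7.Co1

open Cfsg MulAction
open Cfsg.Agent.Lib.Lead.CP Cfsg.Agent.S0398

/-- negation as an element of `Co0` -/
def negE : ↥Co0 := ⟨Equiv.neg leechLattice, neg_mem_Co0⟩

theorem negE_apply (x : ↥leechLattice) : negE.1 x = -x := rfl

theorem negE_smul (x : ↥leechLattice) : negE • x = -x := rfl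

theorem smul_def (g : ↥Co0) (x : ↥leechLattice) : g • x = g.1 x := rfl

theorem negE_mem_center : negE ∈ Subgroup.center ↥Co0 := by
  rw [Subgroup.mem_center_iff]
  intro f
  apply Subtype.ext
  apply Equiv.ext
  intro v
  show f.1 (-v) = -(f.1 v)
  exact map_neg' f v

theorem negE_comm (g : ↥Co0) : g * negE = negE * g :=
  Subgroup.mem_center_iff.1 negE_mem_center g

theorem sqNorm_eq_zero (x : ↥leechLattice) (h : sqNorm x.1 = 0) : x = 0 := by
  by_contra hx
  have h1 := Cfsg.Agent.S0391.result x.1 x.2 (fun h0 => hx (Subtype.ext h0))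
  omega

theorem ne_neg_self (x : ↥leechLattice) (h : sqNorm x.1 = 32) : x ≠ -x := by
  intro h1
  have h2 : x.1 = -x.1 := congrArg Subtype.val h1
  have h3 : ∀ i, x.1 i = 0 := by
    intro i
    have := congrFun h2 i
    rw [Pi.neg_apply] at this
    omega
  have h4 : sqNorm x.1 = 0 := by
    unfold sqNorm
    apply Finset.sum_eq_zero
    intro i _
    rw [h3 i]
    norm_num
  omega

theorem negE_ne_one : negE ≠ 1 := by
  intro h
  have h1 : negE.1 Cfsg.Agent.Lib.Lead.CW.v32 = Cfsg.Agent.Lib.Lead.CW.v32 := by rw [h]; rfl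
  rw [negE_apply] at h1
  exact ne_neg_self _ Cfsg.Agent.Lib.Lead.CP.norm_v32 h1.symm

theorem negE_sq : negE * negE = 1 := by
  apply Subtype.ext
  apply Equiv.ext
  intro v
  show -(-v) = v
  exact neg_neg v

theorem center_cases (z : ↥Co0) (hz : z ∈ Subgroup.center ↥Co0) : z = 1 ∨ z = negE := by
  have hc := Cfsg.Agent.S0398.result
  rw [Nat.card_eq_two_iff] at hc
  obtain ⟨x, y, hxy, huniv⟩ := hc
  have m1 : (⟨1, Subgroup.one_mem _⟩ : ↥(Subgroup.center ↥Co0)) ∈ ({x, y} : Set _) := by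
    rw [huniv]; trivial
  have m2 : (⟨negE, negE_mem_center⟩ : ↥(Subgroup.center ↥Co0)) ∈ ({x, y} : Set _) := by
    rw [huniv]; trivial
  have m3 : (⟨z, hz⟩ : ↥(Subgroup.center ↥Co0)) ∈ ({x, y} : Set _) := by
    rw [huniv]; trivial
  have hne : (⟨1, Subgroup.one_mem _⟩ : ↥(Subgroup.center ↥Co0)) ≠ ⟨negE, negE_mem_center⟩ := by
    intro h
    exact negE_ne_one (congrArg Subtype.val h).symm
  simp only [Set.mem_insert_iff, Set.mem_singleton_iff] at m1 m2 m3
  rcases m1 with m1 | m1 <;> rcases m2 with m2 | m2 <;> rcases m3 with m3 | m3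
  · exact absurd (m1.trans m2.symm) hne
  · exact absurd (m1.trans m2.symm) hne
  · left; exact congrArg Subtype.val (m3.trans m1.symm)
  · right; exact congrArg Subtype.val (m3.trans m2.symm)
  · right; exact congrArg Subtype.val (m3.trans m2.symm)
  · left; exact congrArg Subtype.val (m3.trans m1.symm)
  · exact absurd (m1.trans m2.symm) hne
  · exact absurd (m1.trans m2.symm) hne

/-! ### dot products of minimal vectors -/

theorem eight_dvd_dot (x y : ↥leechLattice) : (8 : ℤ) ∣ dotInt x.1 y.1 := by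
  have h1 := Cfsg.Agent.S0392.result (x + y).1 (x + y).2
  have h2 := Cfsg.Agent.S0392.result x.1 x.2
  have h3 := Cfsg.Agent.S0392.result y.1 y.2
  have h4 : sqNorm (x + y).1 = sqNorm x.1 + 2 * dotInt x.1 y.1 + sqNorm y.1 := sqNorm_add x.1 y.1
  omega

theorem dot_vals (v w : ↥leechLattice) (hv : sqNorm v.1 = 32) (hw : sqNorm w.1 = 32) :
    w = v ∨ w = -v ∨ dotInt v.1 w.1 = -16 ∨ dotInt v.1 w.1 = 16 ∨ dotInt v.1 w.1 = -8
      ∨ dotInt v.1 w.1 = 8 ∨ dotInt v.1 w.1 = 0 := by
  by_cases h1 : w = v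
  · left; exact h1
  by_cases h2 : w = -v
  · right; left; exact h2
  have h3 : 32 ≤ sqNorm (v - w).1 := by
    apply Cfsg.Agent.S0391.result _ (v - w).2
    intro h
    apply h1
    have : v - w = 0 := Subtype.ext h
    exact (sub_eq_zero.1 this).symm
  have h4 : 32 ≤ sqNorm (v + w).1 := by
    apply Cfsg.Agent.S0391.result _ (v + w).2
    intro h
    apply h2
    have : v + w = 0 := Subtype.ext h
    exact (neg_eq_of_add_eq_zero_right this).symm
  have h5 : sqNorm (v - w).1 = sqNorm v.1 - 2 * dotInt v.1 w.1 + sqNorm w.1 := sqNorm_sub v.1 w.1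
  have h6 : sqNorm (v + w).1 = sqNorm v.1 + 2 * dotInt v.1 w.1 + sqNorm w.1 := sqNorm_add v.1 w.1
  obtain ⟨k, hk⟩ := eight_dvd_dot v w
  omega

theorem eq_of_dot_32 (v w : ↥leechLattice) (hv : sqNorm v.1 = 32) (hw : sqNorm w.1 = 32)
    (hd : dotInt v.1 w.1 = 32) : w = v := by
  have h5 : sqNorm (v - w).1 = sqNorm v.1 - 2 * dotInt v.1 w.1 + sqNorm w.1 := sqNorm_sub v.1 w.1
  have : v - w = 0 := sqNorm_eq_zero _ (by omega)
  exact (sub_eq_zero.1 this).symm

theorem eq_of_dot_neg32 (v w : ↥leechLattice) (hv : sqNorm v.1 = 32) (hw : sqNorm w.1 = 32)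
    (hd : dotInt v.1 w.1 = -32) : w = -v := by
  have h6 : sqNorm (v + w).1 = sqNorm v.1 + 2 * dotInt v.1 w.1 + sqNorm w.1 := sqNorm_add v.1 w.1
  have : v + w = 0 := sqNorm_eq_zero _ (by omega)
  exact (neg_eq_of_add_eq_zero_right this).symm

theorem sqNorm_neg' (v : ↥leechLattice) : sqNorm (-v).1 = sqNorm v.1 := negE.2.2 v

theorem dot_neg_l (v w : ↥leechLattice) : dotInt (-v).1 w.1 = -dotInt v.1 w.1 :=
  dot_neg_left v.1 w.1

theorem dot_neg_r (v w : ↥leechLattice) : dotInt v.1 (-w).1 = -dotInt v.1 w.1 :=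
  dot_neg_right v.1 w.1

/-- minimal vectors with prescribed dot product with `v` -/
def A (v : ↥leechLattice) (d : ℤ) : Set ↥leechLattice :=
  {w | sqNorm w.1 = 32 ∧ dotInt v.1 w.1 = d}

theorem ncard_sub (P : (GolayPt → ℤ) → Prop) :
    {w : ↥leechLattice | P w.1}.ncard = {x : GolayPt → ℤ | x ∈ leechLattice ∧ P x}.ncard := by
  apply Set.ncard_congr (fun u _ => u.1)
  · intro u hu
    exact ⟨u.2, hu⟩
  · intro a b _ _ h
    exact Subtype.ext h
  · intro b hb
    exact ⟨⟨b, hb.1⟩, hb.2, rfl⟩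

theorem ncard_A (v : ↥leechLattice) (hv : sqNorm v.1 = 32) :
    (A v (-16)).ncard = 4600 ∧ (A v 16).ncard = 4600 ∧ (A v (-8)).ncard = 47104
      ∧ (A v 8).ncard = 47104 ∧ (A v 0).ncard = 93150 := by
  obtain ⟨h1, h2, h3⟩ := Cfsg.Agent.S1573.result v.1 v.2 hv
  obtain ⟨h1', h2', -⟩ := Cfsg.Agent.S1573.result (-v).1 (-v).2 (by rw [sqNorm_neg']; exact hv)
  refine ⟨?_, ?_, ?_, ?_, ?_⟩
  · rw [← h1]
    exact ncard_sub (fun x => sqNorm x = 32 ∧ dotInt v.1 x = -16)
  · rw [← h1']
    have : A v 16 = {w : ↥leechLattice | sqNorm w.1 = 32 ∧ dotInt (-v).1 w.1 = -16} := by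
      ext w
      show (sqNorm w.1 = 32 ∧ dotInt v.1 w.1 = 16) ↔ (sqNorm w.1 = 32 ∧ dotInt (-v).1 w.1 = -16)
      rw [dot_neg_l]
      constructor
      · rintro ⟨a, b⟩; exact ⟨a, by omega⟩
      · rintro ⟨a, b⟩; exact ⟨a, by omega⟩
    rw [this]
    exact ncard_sub (fun x => sqNorm x = 32 ∧ dotInt (-v).1 x = -16)
  · rw [← h2]
    exact ncard_sub (fun x => sqNorm x = 32 ∧ dotInt v.1 x = -8)
  · rw [← h2']
    have : A v 8 = {w : ↥leechLattice | sqNorm w.1 = 32 ∧ dotInt (-v).1 w.1 = -8} := by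
      ext w
      show (sqNorm w.1 = 32 ∧ dotInt v.1 w.1 = 8) ↔ (sqNorm w.1 = 32 ∧ dotInt (-v).1 w.1 = -8)
      rw [dot_neg_l]
      constructor
      · rintro ⟨a, b⟩; exact ⟨a, by omega⟩
      · rintro ⟨a, b⟩; exact ⟨a, by omega⟩
    rw [this]
    exact ncard_sub (fun x => sqNorm x = 32 ∧ dotInt (-v).1 x = -8)
  · rw [← h3]
    exact ncard_sub (fun x => sqNorm x = 32 ∧ dotInt v.1 x = 0)

/-- the set of minimal vectors -/
def Mn : Set ↥leechLattice := {u | sqNorm u.1 = 32}

theorem ncard_Mn : Mn.ncard = 196560 := Cfsg.Agent.Lib.Lead.ML.ncard_32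

theorem Mn_finite : Mn.Finite := Set.finite_of_ncard_ne_zero (by rw [ncard_Mn]; norm_num)

theorem orbit_eq_Mn (v : ↥leechLattice) (hv : sqNorm v.1 = 32) : orbit ↥Co0 v = Mn := by
  ext u
  constructor
  · rintro ⟨g, rfl⟩
    show sqNorm (g.1 v).1 = 32
    rw [g.2.2]
    exact hv
  · intro hu
    obtain ⟨g, hg⟩ := Cfsg.Agent.S0400.result v u hv hu
    exact ⟨g, hg⟩

theorem index_stab (v : ↥leechLattice) (hv : sqNorm v.1 = 32) :
    (stabilizer ↥Co0 v).index = 196560 := by
  rw [index_stabilizer, orbit_eq_Mn v hv, ncard_Mn]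

/-! ### automorphisms acting as a sign on each minimal vector -/

theorem fix_all (g : ↥Co0) (h : ∀ w : ↥leechLattice, sqNorm w.1 = 32 → g.1 w = w) : g = 1 := by
  have key : ∀ x : GolayPt → ℤ, x ∈ leechLattice → ∀ hx : x ∈ leechLattice, g.1 ⟨x, hx⟩ = ⟨x, hx⟩ := by
    intro x hx
    rw [← Cfsg.Agent.S1567.result] at hx
    induction hx using AddSubgroup.closure_induction with
    | mem x hx =>
      intro hx'
      exact h ⟨x, hx'⟩ hx.2
    | zero =>
      intro hx'
      exact map_zero' g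
    | add x y hx hy ihx ihy =>
      intro hxy
      have hx' : x ∈ leechLattice := by rw [← Cfsg.Agent.S1567.result]; exact hx
      have hy' : y ∈ leechLattice := by rw [← Cfsg.Agent.S1567.result]; exact hy
      have : (⟨x + y, hxy⟩ : ↥leechLattice) = ⟨x, hx'⟩ + ⟨y, hy'⟩ := rfl
      rw [this, g.2.1, ihx hx', ihy hy']
    | neg x hx ihx =>
      intro hnx
      have hx' : x ∈ leechLattice := by rw [← Cfsg.Agent.S1567.result]; exact hx
      have : (⟨-x, hnx⟩ : ↥leechLattice) = -⟨x, hx'⟩ := rfl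
      rw [this, map_neg', ihx hx']
  apply Subtype.ext
  apply Equiv.ext
  intro x
  exact key x.1 x.2 x.2

theorem A_zero_subset_Mn (v : ↥leechLattice) : A v 0 ⊆ Mn := fun _ hw => hw.1

/-- an automorphism mapping every minimal vector to plus or minus itself is `1` or `negE` -/
theorem sign_const (g : ↥Co0)
    (h : ∀ w : ↥leechLattice, sqNorm w.1 = 32 → g.1 w = w ∨ g.1 w = -w) : g = 1 ∨ g = negE := by
  classical
  by_cases hA : ∀ w : ↥leechLattice, sqNorm w.1 = 32 → g.1 w = w
  · left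
    exact fix_all g hA
  by_cases hB : ∀ w : ↥leechLattice, sqNorm w.1 = 32 → g.1 w = -w
  · right
    have : negE * g = 1 := by
      apply fix_all
      intro w hw
      show negE.1 (g.1 w) = w
      rw [hB w hw, negE_apply, neg_neg]
    calc g = negE * (negE * g) := by rw [← mul_assoc, negE_sq, one_mul]
      _ = negE := by rw [this, mul_one]
  exfalso
  push Not at hA hB
  obtain ⟨b, hb, hgb⟩ := hA
  obtain ⟨a, ha, hga⟩ := hB
  have hgb' : g.1 b = -b := by
    rcases h b hb with h1 | h1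
    · exact absurd h1 hgb
    · exact h1
  have hga' : g.1 a = a := by
    rcases h a ha with h1 | h1
    · exact h1
    · exact absurd h1 hga
  -- fixed vectors are orthogonal to negated vectors
  have orth : ∀ x y : ↥leechLattice, g.1 x = x → g.1 y = -y → dotInt x.1 y.1 = 0 := by
    intro x y hx hy
    have := dot_map g x y
    rw [hx, hy, dot_neg_r] at this
    omega
  have hsub : Mn ⊆ A a 0 ∪ A b 0 := by
    intro w hw
    rcases h w hw with h1 | h1
    · right
      exact ⟨hw, by rw [dot_symm]; exact orth w b h1 hgb'⟩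
    · left
      exact ⟨hw, orth a w hga' h1⟩
  have c1 := (ncard_A a ha).2.2.2.2
  have c2 := (ncard_A b hb).2.2.2.2
  have hfin : (A a 0 ∪ A b 0).Finite :=
    (Mn_finite.subset (A_zero_subset_Mn a)).union (Mn_finite.subset (A_zero_subset_Mn b))
  have h1 := Set.ncard_le_ncard hsub hfin
  have h2 := Set.ncard_union_le (A a 0) (A b 0)
  rw [ncard_Mn] at h1
  omega

end Cfsg.Agent.Lib.helper7.Co1
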