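import Cfsg.Agent.Lib.helper7.Co1C

set_option autoImplicit false
set_option linter.style.haveILetI false
set_option linter.unusedSectionVars false

/-!
# `Co0 / centre` is simple of order 4157776806543360000 when the stabiliser of a minimal vector is simple
-/

namespace Cfsg.Agent.Lib.helper7.Co1

open Cfsg MulAction
open Cfsg.Agent.Lib.Lead.CP Cfsg.Agent.S0398
open Cfsg.Agent.Lib.Lead.R3S Cfsg.Agent.Lib.Lead.R4S

theorem normal_cases (v : ↥leechLattice) (hv : sqNorm v.1 = 32)
    (hK : IsSimpleGroup ↥(stabilizer ↥Co0 v)) (N : Subgroup ↥Co0) [hN : N.Normal]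
    (hneg : negE ∈ N) : N ≤ Subgroup.center ↥Co0 ∨ N = ⊤ := by
  classical
  rcases ncard_orb_cases v hv N hneg with hO | hO
  · left
    exact le_center_of_two v hv N hneg hO
  right
  have hc := index_stab v hv
  have hnorm : ((N ⊓ stabilizer ↥Co0 v).subgroupOf (stabilizer ↥Co0 v)).Normal := by
    have : (N.subgroupOf (stabilizer ↥Co0 v)).Normal := hN.subgroupOf _
    rwa [Subgroup.inf_subgroupOf_right]
  rw [Subgroup.inf_subgroupOf_right] at hnorm
  rcases hK.eq_bot_or_eq_top_of_normal _ hnorm with hb | ht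
  · exfalso
    rw [Subgroup.subgroupOf_eq_bot] at hb
    have hcardN : Nat.card ↥N = 196560 := by
      have h1 := ncard_orb N v
      rw [hO] at h1
      have h2 : (stabilizer ↥Co0 v).subgroupOf N = ⊥ := by
        rw [Subgroup.subgroupOf_eq_bot]
        exact hb.symm
      have h3 : (stabilizer ↥Co0 v).relIndex N = Nat.card ↥N := by
        show ((stabilizer ↥Co0 v).subgroupOf N).index = _
        rw [h2, Subgroup.index_bot]
      omega
    exact no_regular_Co v hv N hneg hb hcardN
  · rw [Subgroup.subgroupOf_eq_top] at ht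
    have hle : stabilizer ↥Co0 v ≤ N := ht
    have h1 := ncard_orb (N ⊔ stabilizer ↥Co0 v) v
    rw [orb_sup, hO] at h1
    have h2 := Subgroup.relIndex_mul_index
      (le_sup_right : stabilizer ↥Co0 v ≤ N ⊔ stabilizer ↥Co0 v)
    rw [← h1, hc] at h2
    have h3 : (N ⊔ stabilizer ↥Co0 v).index = 1 := by
      rcases Nat.eq_zero_or_pos (N ⊔ stabilizer ↥Co0 v).index with h0 | h0
      · rw [h0] at h2
        omega
      · nlinarith
    rw [Subgroup.index_eq_one, sup_eq_left.2 hle] at h3
    exact h3

theorem card_quot : Nat.card (↥Co0 ⧸ Subgroup.center ↥Co0) = 4157776806543360000 := by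
  have h1 := Subgroup.card_eq_card_quotient_mul_card_subgroup (Subgroup.center ↥Co0)
  rw [Cfsg.Agent.S0397.result, Cfsg.Agent.S0398.result] at h1
  omega

/-- the Conway group `Co1` is simple of the right order, provided `Co2` is simple -/
theorem co1_of (v : ↥leechLattice) (hv : sqNorm v.1 = 32)
    (hK : IsSimpleGroup ↥(stabilizer ↥Co0 v)) :
    IsCo1 (↥Co0 ⧸ Subgroup.center ↥Co0) := by
  refine ⟨?_, card_quot⟩
  haveI : Nontrivial (↥Co0 ⧸ Subgroup.center ↥Co0) := by
    apply (Finite.one_lt_card_iff_nontrivial).1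
    rw [card_quot]
    norm_num
  refine ⟨fun Nb hNb => ?_⟩
  set N : Subgroup ↥Co0 := Nb.comap (QuotientGroup.mk' (Subgroup.center ↥Co0)) with hNdef
  haveI : N.Normal := hNb.comap _
  have hneg : negE ∈ N := by
    show QuotientGroup.mk' (Subgroup.center ↥Co0) negE ∈ Nb
    have : QuotientGroup.mk' (Subgroup.center ↥Co0) negE = 1 :=
      (QuotientGroup.eq_one_iff negE).2 negE_mem_center
    rw [this]
    exact Nb.one_mem
  rcases normal_cases v hv hK N hneg with h | h
  · left
    rw [eq_bot_iff]
    intro x hx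
    obtain ⟨g, rfl⟩ := QuotientGroup.mk'_surjective (Subgroup.center ↥Co0) x
    have hg : g ∈ N := hx
    rw [Subgroup.mem_bot]
    exact (QuotientGroup.eq_one_iff g).2 (h hg)
  · right
    rw [eq_top_iff]
    intro x _
    obtain ⟨g, rfl⟩ := QuotientGroup.mk'_surjective (Subgroup.center ↥Co0) x
    have hg : g ∈ N := by rw [h]; trivial
    exact hg

end Cfsg.Agent.Lib.helper7.Co1
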