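import Mathlib
import Cfsg.Agent.Lib.helper7.LocalIdeal
import Cfsg.Agent.Lib.helper7.LocalVal
import Cfsg.Agent.Lib.helper7.BlockDefect2
import Cfsg.Agent.Lib.Helper24.GaloisNorm

set_option autoImplicit false
open Cfsg

namespace Cfsg.Agent.Lib.helper7

open Cfsg.Agent.Lib.Helper25 Cfsg.Agent.Lib.helper2 Cfsg.Agent.Lib.Helper24
open Polynomial

variable {G : Type*} [Group G]

theorem h7_centralizer_pow_coprime [Finite G] (g : G) (t : ℕ)
    (ht : Nat.Coprime t (Nat.card G)) :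
    Subgroup.centralizer ({g ^ t} : Set G) = Subgroup.centralizer ({g} : Set G) := by
  have hco : Nat.Coprime t (orderOf g) := Nat.Coprime.coprime_dvd_right (orderOf_dvd_natCard g) ht
  obtain ⟨s, hs⟩ := exists_pow_eq_self_of_coprime hco
  ext y
  rw [Subgroup.mem_centralizer_singleton_iff, Subgroup.mem_centralizer_singleton_iff]
  constructor
  · intro h
    rw [← hs]
    exact ((Commute.pow_right (show Commute y (g ^ t) from h) s)).eq
  · intro h
    exact (Commute.pow_right (show Commute y g from h) t).eq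

theorem h7_intCast_mem_iff {p : ℕ} [hp : Fact p.Prime] {M : Ideal Cfsg.AlgInt}
    (hM : Cfsg.IsPModular p M) (n : ℤ) : (n : Cfsg.AlgInt) ∈ M ↔ (p : ℤ) ∣ n := by
  constructor
  · intro h
    by_contra hnd
    exact h7_intCast_not_mem hM n hnd h
  · rintro ⟨c, rfl⟩
    push_cast
    exact M.mul_mem_right _ hM.2.2

theorem h7_block_indep [Finite G] {p : ℕ} [hp : Fact p.Prime] {M M' : Ideal Cfsg.AlgInt}
    (hM : Cfsg.IsPModular p M) (hM' : Cfsg.IsPModular p M') (χ ψ : Cfsg.IrrCharacter G)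
    (h : Cfsg.SameBlock M (χ : G → ℂ) (ψ : G → ℂ)) (g : G) :
    ∃ r : Cfsg.AlgInt, r ∈ M' ∧
      (r : ℂ) = Cfsg.centralChar (χ : G → ℂ) g - Cfsg.centralChar (ψ : G → ℂ) g := by
  classical
  have hPr := hM.2.1.isPrime
  have hPr' := hM'.2.1.isPrime
  set N := Nat.card G with hNdef
  have hN : 0 < N := Nat.card_pos
  haveI : NeZero N := ⟨hN.ne'⟩
  haveI : NeZero (N : ℚ) := ⟨by exact_mod_cast hN.ne'⟩
  let L := CyclotomicField N ℚ
  haveI hcyc : IsCyclotomicExtension {N} ℚ L := CyclotomicField.isCyclotomicExtension N ℚ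
  haveI : IsGalois ℚ L := IsCyclotomicExtension.isGalois {N} ℚ L
  haveI : FiniteDimensional ℚ L := IsCyclotomicExtension.finiteDimensional {N} ℚ L
  let φ : L →ₐ[ℚ] ℂ := IsAlgClosed.lift
  set μ : L := IsCyclotomicExtension.zeta N ℚ L with hμdef
  have hμ : IsPrimitiveRoot μ N := IsCyclotomicExtension.zeta_spec N ℚ L
  have hζ : IsPrimitiveRoot (φ μ) N := hμ.map_of_injective φ.toRingHom.injective
  obtain ⟨fχ, hfχ⟩ := gn_char_poly (isCharacter_of_irr χ) g (φ μ) hζ
  obtain ⟨fψ, hfψ⟩ := gn_char_poly (isCharacter_of_irr ψ) g (φ μ) hζ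
  set idx := (Subgroup.centralizer ({g} : Set G)).index with hidx
  set qχ : ℚ := (idx : ℚ) / (Cfsg.charDegree (χ : G → ℂ) : ℚ) with hqχ
  set qψ : ℚ := (idx : ℚ) / (Cfsg.charDegree (ψ : G → ℂ) : ℚ) with hqψ
  set xL : L := algebraMap ℚ L qχ * aeval μ fχ - algebraMap ℚ L qψ * aeval μ fψ with hxL
  have hφσ : ∀ (σ : L ≃ₐ[ℚ] L) (t : ℕ), σ μ = μ ^ t → Nat.Coprime t N →
      φ (σ xL) = Cfsg.centralChar (χ : G → ℂ) (g ^ t) - Cfsg.centralChar (ψ : G → ℂ) (g ^ t) := by
    intro σ t hσ ht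
    have h1 : ∀ f : ℤ[X], φ (σ (aeval μ f)) = aeval ((φ μ) ^ t) f := by
      intro f
      have e1 := Polynomial.aeval_algHom_apply ((σ : L →ₐ[ℚ] L).restrictScalars ℤ) μ f
      have e2 := Polynomial.aeval_algHom_apply (φ.restrictScalars ℤ) (σ μ) f
      have e1' : σ (aeval μ f) = aeval (σ μ) f := e1.symm
      have e2' : φ (aeval (σ μ) f) = aeval (φ (σ μ)) f := e2.symm
      rw [e1', e2', hσ, map_pow]
    rw [hxL, map_sub, map_sub, map_mul, map_mul, map_mul, map_mul, AlgEquiv.commutes,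
      AlgEquiv.commutes, AlgHom.commutes, AlgHom.commutes, h1, h1, hfχ, hfψ]
    unfold Cfsg.centralChar
    rw [h7_centralizer_pow_coprime g t ht, ← (h7_charDegree_props χ).2.2,
      ← (h7_charDegree_props ψ).2.2, hqχ, hqψ]
    have hd1 : (Cfsg.charDegree (χ : G → ℂ) : ℂ) ≠ 0 := by
      exact_mod_cast (h7_charDegree_props χ).2.1.ne'
    have hd2 : (Cfsg.charDegree (ψ : G → ℂ) : ℂ) ≠ 0 := by
      exact_mod_cast (h7_charDegree_props ψ).2.1.ne'
    simp only [eq_ratCast]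
    push_cast
    field_simp
    rw [← hidx]
    ring
  have hφ1 : φ xL = Cfsg.centralChar (χ : G → ℂ) g - Cfsg.centralChar (ψ : G → ℂ) g := by
    have := hφσ AlgEquiv.refl 1 (by simp) (Nat.coprime_one_left N)
    simpa using this
  let S := integralClosure ℤ L
  have hSint : ∀ b : S, IsIntegral ℤ (φ (b : L)) := fun b => map_isIntegral_int φ b.2
  let ι : S →+* Cfsg.AlgInt :=
    (φ.toRingHom.comp (algebraMap S L)).codRestrict Cfsg.AlgInt (fun b => hSint b)
  have hι : ∀ b : S, ((ι b : Cfsg.AlgInt) : ℂ) = φ (b : L) := fun b => rfl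
  have hxint : IsIntegral ℤ xL := by
    have h1 : IsIntegral ℤ (φ xL) := by
      rw [hφ1]
      exact IsIntegral.sub (irr_central_char_integral χ g) (irr_central_char_integral ψ g)
    exact (isIntegral_algHom_iff (φ.restrictScalars ℤ) φ.toRingHom.injective).mp h1
  let b : S := ⟨xL, hxint⟩
  have hover : ∀ M₀ : Ideal Cfsg.AlgInt, Cfsg.IsPModular p M₀ →
      M₀.comap ι ∈ Ideal.primesOver (Ideal.span {(p : ℤ)}) S := by
    intro M₀ hM₀
    haveI := hM₀.2.1.isPrime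
    refine ⟨Ideal.comap_isPrime ι M₀, ⟨?_⟩⟩
    ext n
    rw [Ideal.mem_span_singleton, Ideal.under_def, Ideal.mem_comap, Ideal.mem_comap]
    have e : ι (algebraMap ℤ S n) = (n : Cfsg.AlgInt) := by
      rw [eq_intCast, map_intCast]
    rw [e]
    exact (h7_intCast_mem_iff hM₀ n).symm
  obtain ⟨σ, hσ⟩ := Ideal.exists_comap_galRestrict_eq ℤ ℚ L S (hover M hM) (hover M' hM')
  have hσμ : IsPrimitiveRoot (σ μ) N := hμ.map_of_injective σ.injective
  obtain ⟨t, -, ht⟩ := hμ.eq_pow_of_pow_eq_one hσμ.pow_eq_one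
  have htc : Nat.Coprime t N := by
    rw [← ht] at hσμ
    exact (hμ.pow_iff_coprime hN t).mp hσμ
  refine ⟨ι b, ?_, ?_⟩
  · have hb : b ∈ (M.comap ι).comap (galRestrict ℤ ℚ L S σ) := by
      rw [Ideal.mem_comap, Ideal.mem_comap]
      rw [← h7_memLocalIdeal_algInt_iff hPr, hι]
      have e : ((galRestrict ℤ ℚ L S σ b : S) : L) = σ xL :=
        algebraMap_galRestrict_apply ℤ σ b
      rw [e, hφσ σ t ht.symm htc]
      exact h (g ^ t)
    rw [hσ] at hb
    exact hb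
  · rw [hι]
    exact hφ1

end Cfsg.Agent.Lib.helper7
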