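import Mathlib
import Cfsg.Agent.Lib.helper7.CEU.Defs
import Cfsg.Agent.Lib.Helper24.STCI1

/-!
# CEU (designer helper7), row T4 (helper7), verbatim: `t4_of_t6` (disjoint short roots through the long roots).
-/

set_option autoImplicit false

namespace Cfsg.Agent.Lib.helper7.CEU

open Cfsg.Agent.Lib.helper15.St2 Cfsg.Agent.Lib.helper7.Ce Cfsg.Agent.Lib.helper3.STC Cfsg.Agent.Lib.Helper27.STU

open Cfsg.Agent.Lib.helper7.CEC (I2 I3 I4 U2 U3)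

section G

variable {Γ G : Type*} [Group Γ] [Group G] {σ : Γ →* G}

/-- own copy of `CL_inv` (without the hypothesis `IsCE`) -/
theorem ceut4_CL_inv {x w : G} (hx : CL σ x w) : CL σ x⁻¹ w := by
  intro a b ha hb
  have h1 : σ a⁻¹ = x := by rw [map_inv, ha, inv_inv]
  have h2 := hx a⁻¹ b h1 hb
  calc a * b = a * (b * a⁻¹) * a := by group
    _ = a * (a⁻¹ * b) * a := by rw [h2]
    _ = b * a := by group

/-- own copy of `CL_milnor_mul` -/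
theorem ceut4_CL_milnor_mul (h : IsCE σ) {p q r w : G} (hp : p * w = w * p) (hq : q * w = w * q)
    (hr : CL σ r w) : CL σ (cm p q * r) w :=
  h.CL_mul_left (h.milnor hp hq) hr

end G

section T

variable {F : Type*} [Field F] [StarRing F] {od : Prop} {ι : Type*} {Γ G : Type*} [Group Γ] [Group G] {S : SysU F od ι G} {σ : Γ →* G}

/-- T4 [M] -/
theorem t4_of_t6 (h : IsCE σ) {ξ₀ : Lam F od} (hξ₀ : ξ₀.c ≠ 0)
    (h6 : ∀ a c d : ι ⊕ ι, ab c ≠ ab d → ab a ≠ ab c → ab a ≠ ab d → ∀ (ξ : Lam F od) (u : F), CL σ (S.xl a ξ) (S.xs c d u)) :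
    ∀ a b c d : ι ⊕ ι, ab a ≠ ab b → ab c ≠ ab d → ab a ≠ ab c → ab a ≠ ab d → ab b ≠ ab c → ab b ≠ ab d →
      ∀ t u : F, CL σ (S.xs a b t) (S.xs c d u) := by
  intro a b c d hab hcd hac had hbc hbd t u
  have nab : a ≠ b ∧ a ≠ ng b := ⟨fun e => hab (by rw [e]), fun e => hab (by rw [e, ab_ng])⟩
  have ncd : c ≠ d ∧ c ≠ ng d := ⟨fun e => hcd (by rw [e]), fun e => hcd (by rw [e, ab_ng])⟩
  have nac : a ≠ c ∧ a ≠ ng c := ⟨fun e => hac (by rw [e]), fun e => hac (by rw [e, ab_ng])⟩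
  have nad : a ≠ d ∧ a ≠ ng d := ⟨fun e => had (by rw [e]), fun e => had (by rw [e, ab_ng])⟩
  have nbc : b ≠ c ∧ b ≠ ng c := ⟨fun e => hbc (by rw [e]), fun e => hbc (by rw [e, ab_ng])⟩
  have nbd : b ≠ d ∧ b ≠ ng d := ⟨fun e => hbd (by rw [e]), fun e => hbd (by rw [e, ab_ng])⟩
  -- the relation `ls`
  have hls := S.ls a b nab.1 nab.2 ξ₀ (t / ξ₀.c)
  rw [mul_div_cancel₀ t hξ₀] at hls
  have hx : S.xs a b t = cm (S.xl a ξ₀) (S.xs (ng a) b (t / ξ₀.c)) *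
      (S.xl (ng b) (Lam.act (star (t / ξ₀.c)) (Lam.bar ξ₀)))⁻¹ := by
    unfold cm
    rw [hls, mul_inv_cancel_right]
  rw [hx]
  refine ceut4_CL_milnor_mul h ?_ ?_ (ceut4_CL_inv ?_)
  · exact S.comm_ls a c d ncd.1 ncd.2 (fun e => nac.2 (by rw [e, ng_ng])) (fun e => nad.1 e.symm) ξ₀ u
  · exact S.comm_ss (ng a) b c d (fun e => nab.2 (by rw [← e, ng_ng])) (fun e => nab.1 (ng_inj.mp e)) ncd.1 ncd.2 nbc.1
      (fun e => nad.2 (by rw [← e, ng_ng])) nbd.2 (fun e => nac.1 (ng_inj.mp e)) (t / ξ₀.c) u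
  · exact h6 (ng b) c d hcd (by rw [ab_ng]; exact hbc) (by rw [ab_ng]; exact hbd) _ u

end T

end Cfsg.Agent.Lib.helper7.CEU
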