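import Cfsg.Agent.Lib.Helper20.SA3.Defs
import Cfsg.Agent.Lib.Helper20.SA3M1
import Cfsg.Agent.Lib.Helper20.SA3M4
import Cfsg.Agent.Lib.helper7.SAP.Pres8
import Cfsg.Agent.Lib.helper7.SAP.Pres7

/-! Project SA3 (designer helper20; S2285), row PS (`sa3_presS`), by helper7: copy of SAP PRES7/PRES8 with the merged relators. -/

namespace Cfsg.Agent.Lib.helper7.SAP

open Equiv

universe u

/-- PS [M-H]: `S_{p+2+k}` on 2 generators and 6 relators
(`sa3_relsMerged ++ [((wG ^ et) ^ 2)⁻¹ * Ww]`); copy of PRES8 `presS` with M2 M3 M4 P1. -/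
theorem sa3_presS (p k l : ℕ) [Fact p.Prime] (hp : 3 ≤ p) (hkl : k + 1 ≤ l) (hlp : l + 1 ≤ p) (heven : Even (l + k))
    (h3 : ¬ 3 ∣ (l + k)) :
    ∃ rels : Finset (FreeGroup (Fin 2)), rels.card ≤ 6 ∧
      Nonempty (PresentedGroup (↑rels : Set (FreeGroup (Fin 2))) ≃* Perm (Pt p k)) := by
  classical
  have hl : 1 ≤ l := by omega
  have hm : 0 < l + k := by omega
  obtain ⟨ez, et, e, he, hez, hz3, hzm, ht3, htm, hzt⟩ := sa3_exps (l + k) hm h3
  obtain ⟨r, hr⟩ := IsCyclic.exists_generator (α := (ZMod p)ˣ)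
  obtain ⟨rv, hrv1, hrv2, hrvp⟩ := sa3_rv p hp r
  obtain ⟨eA, eZ, eT, eZx⟩ := evP_basic p k l hlp ez et hz3 hzm ht3 htm
  -- the words for `β` and `ν`
  have hfun : (fun x : ZMod p => evP p k l (zo wA (wG ^ ez) x)) =
      fun x : ZMod p => zh (Sum.inl x : Ix p k) := funext eZx
  obtain ⟨Bw, hBw, hB⟩ := exists_word (evP p k l) (zo wA (wG ^ ez) : ZMod p → FreeGroup (Fin 2))
    (bh k r) (by rw [hfun]; exact bh_mem p k hp r hr)
  obtain ⟨Nw, hNw, hN⟩ := exists_word (evP p k l) (zo wA (wG ^ ez) : ZMod p → FreeGroup (Fin 2))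
    (nh p k l) (by rw [hfun]; exact nh_mem p k l hlp hl)
  -- the word for `τ^2`
  have hzx : ∀ y : Ix p k, evP p k l (zx wA (wG ^ ez) (wG ^ et) l y) = zh y := by
    intro y
    rw [sappres8_map_zx, eA, eZ, eT]
    exact zx_perm p k l hlp hl y
  obtain ⟨Ww, hWw, hW⟩ := exists_word (evP p k l)
    (zx wA (wG ^ ez) (wG ^ et) l : Ix p k → FreeGroup (Fin 2)) ((th p k l) ^ 2)
    (by rw [funext hzx]; exact th_sq_mem p k l)
  -- the relators
  set L : List (FreeGroup (Fin 2)) :=
    sa3_relsMerged p l k ez et rv Bw Nw ++ [((wG ^ et) ^ 2)⁻¹ * Ww] with hL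
  refine ⟨L.toFinset, ?_, ?_⟩
  · refine (List.toFinset_card_le L).trans ?_
    simp [hL, sa3_relsMerged]
  have hcoe : (↑L.toFinset : Set (FreeGroup (Fin 2))) = {w | w ∈ L} := by
    ext w; simp
  -- the homomorphism to permutations
  have hrelP : ∀ w ∈ (↑L.toFinset : Set (FreeGroup (Fin 2))),
      FreeGroup.lift ![ah p k, zh (Sum.inl 0) * th p k l] w = 1 := by
    intro w hw
    rw [hcoe] at hw
    change evP p k l w = 1
    rcases List.mem_append.1 hw with hw | hw
    · exact sa3_merged_perm p k l hlp hl r ez et rv hz3 hzm ht3 htm hrvp Bw Nw hB hN w hw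
    · rw [List.mem_singleton] at hw
      rw [hw, map_mul, map_inv, map_pow, eT, hW, inv_mul_cancel]
  set ψ : PresentedGroup (↑L.toFinset : Set (FreeGroup (Fin 2))) →* Perm (Pt p k) :=
    PresentedGroup.toGroup hrelP with hψdef
  have hψa : ψ (PresentedGroup.of 0) = ah p k := by
    rw [hψdef, PresentedGroup.toGroup.of]; rfl
  have hψg : ψ (PresentedGroup.of 1) = zh (Sum.inl 0) * th p k l := by
    rw [hψdef, PresentedGroup.toGroup.of]; rfl
  -- relators hold in the presented group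
  have hmk : ∀ w ∈ L, PresentedGroup.mk (↑L.toFinset : Set (FreeGroup (Fin 2))) w = 1 := by
    intro w hw
    rw [PresentedGroup.mk_eq_one_iff]
    exact Subgroup.subset_normalClosure (by rw [hcoe]; exact hw)
  have hrelM : ∀ w ∈ sa3_relsMerged p l k ez et rv Bw Nw,
      FreeGroup.lift ![(PresentedGroup.of 0 : PresentedGroup (↑L.toFinset : Set (FreeGroup (Fin 2)))),
        PresentedGroup.of 1] w = 1 := by
    intro w hw
    rw [sappres8_lift_of]
    exact hmk w (List.mem_append.2 (Or.inl hw))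
  have hrelG : ∀ w ∈ relsCommon p l k ez et (r : ZMod p).val Bw Nw,
      FreeGroup.lift ![(PresentedGroup.of 0 : PresentedGroup (↑L.toFinset : Set (FreeGroup (Fin 2)))),
        PresentedGroup.of 1] w = 1 :=
    sa3_common_of_merged p k l _ _ e ez et rv r he hez hrv1 hrv2 hrvp Bw Nw hrelM
  obtain ⟨H, ha, hz, hτ, hψ, -, -⟩ := glueHyp_of_rels p k l
    (PresentedGroup.of 0 : PresentedGroup (↑L.toFinset : Set (FreeGroup (Fin 2)))) (PresentedGroup.of 1)
    hkl hlp r hr ez et hz3 hzm ht3 htm hzt Bw Nw hBw hNw hB hN hrelG ψ hψa hψg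
  -- the kill relator
  have hmkA : PresentedGroup.mk (↑L.toFinset : Set (FreeGroup (Fin 2))) wA = H.a := by rw [ha]; rfl
  have hmkZ : PresentedGroup.mk (↑L.toFinset : Set (FreeGroup (Fin 2))) (wG ^ ez) = H.z := by
    rw [hz, map_pow]; rfl
  have hmkT : PresentedGroup.mk (↑L.toFinset : Set (FreeGroup (Fin 2))) (wG ^ et) = H.τ := by
    rw [hτ, map_pow]; rfl
  have hWmem : PresentedGroup.mk (↑L.toFinset : Set (FreeGroup (Fin 2))) Ww ∈
      Subgroup.closure (Set.range (zx H.a H.z H.τ l : Ix p k → _)) := by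
    refine sappres8_map_mem (PresentedGroup.mk _) _ _ (fun y => ?_) Ww hWw
    rw [sappres8_map_zx, hmkA, hmkZ, hmkT]
  have hkill : H.τ ^ 2 = PresentedGroup.mk (↑L.toFinset : Set (FreeGroup (Fin 2))) Ww := by
    have h1 := hmk (((wG ^ et) ^ 2)⁻¹ * Ww) (List.mem_append.2 (Or.inr (List.mem_singleton.2 rfl)))
    rw [map_mul, map_inv, map_pow, hmkT, inv_mul_eq_one] at h1
    exact h1
  have hgen : Subgroup.closure ({H.a, H.z, H.τ} : Set _) = ⊤ := by
    rw [eq_top_iff, ← PresentedGroup.closure_range_of, Subgroup.closure_le]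
    rintro _ ⟨i, rfl⟩
    have hg : PresentedGroup.of (rels := (↑L.toFinset : Set (FreeGroup (Fin 2)))) 1 = H.z * H.τ := by
      have h2 := hrelG (wG ^ (3 * (l + k))) (by simp [relsCommon])
      rw [sappres8_lift_of, map_pow] at h2
      have h4 := (merged (PresentedGroup.mk (↑L.toFinset : Set (FreeGroup (Fin 2))) wG) (l + k) ez et h2 hzm ht3 hzt).2.2.2
      rw [hz, hτ]
      exact h4.symm
    fin_cases i
    · exact Subgroup.subset_closure (by rw [ha]; simp)
    · change PresentedGroup.of 1 ∈ _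
      rw [hg]
      exact mul_mem (Subgroup.subset_closure (by simp)) (Subgroup.subset_closure (by simp))
  have hbij := glue_final_S hp H _ hWmem hkill heven hgen
  rw [hψ] at hbij
  exact ⟨MulEquiv.ofBijective ψ hbij⟩


end Cfsg.Agent.Lib.helper7.SAP
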