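import Cfsg.Agent.Lib.Helper20.SA3.Defs
import Cfsg.Agent.Lib.Helper16.SAPSIXcore
import Cfsg.Agent.Lib.Helper10.SAPSIX1
import Cfsg.Agent.Lib.Helper10.SAPTR2
import Cfsg.Agent.Lib.Helper26.SAPALT3

/-!
Project SA3 (designer helper20; S2285), row SX (`sa3_pres_A6`, `sa3_pres_S6`), by helper7:
`sapsix_pres` of `Cfsg.Agent.Lib.Helper16.SAPSIXcore` keeps the bound `(R wA wG).length = 5`.
-/

namespace Cfsg.Agent.Lib.helper7.SAP

universe u

open Equiv

/-- SX [S-M]: `n = 6` with at most 6 (in fact 5) relators: `sapsix_pres` of `Helper16.SAPSIXcore`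
gives `rels.card ≤ (R wA wG).length`. -/
theorem sa3_pres_A6 : ∃ rels : Finset (FreeGroup (Fin 2)), rels.card ≤ 6 ∧
    Nonempty (PresentedGroup (↑rels : Set (FreeGroup (Fin 2))) ≃* alternatingGroup (Fin 6)) := by
  have hALT3 := altgen (4 : Fin 6) 5 (by decide)
  obtain ⟨rels, hc, he⟩ := sapsix_pres (fun a z => sapsix_relsA a z)
    (fun φ a z => sapsix_map_relsA φ a z) sapsix_aA sapsix_z sapsix_relsA_perm
    (alternatingGroup (Fin 6)) (sapsix_closureA hALT3) (fun a z hgen hrel => by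
      obtain ⟨hf, hc⟩ := sapsix_boundA a z hgen hrel (fun a x ε => cyc4_carRel a x ε)
      exact ⟨hf, hc.trans sapsix_card_A6.ge⟩)
  exact ⟨rels, hc.trans (by simp [sapsix_relsA]), he⟩

theorem sa3_pres_S6 : ∃ rels : Finset (FreeGroup (Fin 2)), rels.card ≤ 6 ∧
    Nonempty (PresentedGroup (↑rels : Set (FreeGroup (Fin 2))) ≃* Perm (Fin 6)) := by
  have hALT3 := altgen (4 : Fin 6) 5 (by decide)
  obtain ⟨rels, hc, ⟨e⟩⟩ := sapsix_pres (fun a z => sapsix_relsS a z)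
    (fun φ a z => sapsix_map_relsS φ a z) sapsix_aS sapsix_z sapsix_relsS_perm
    ⊤ (sapsix_closureS hALT3) (fun a z hgen hrel => by
      obtain ⟨hf, hc⟩ := sapsix_boundS a z hgen hrel (fun a x ε => cyc4_carRel a x ε)
        (fun N _ t => index_two_bound N t)
      exact ⟨hf, hc.trans sapsix_card_S6.ge⟩)
  exact ⟨rels, hc.trans (by simp [sapsix_relsS]), ⟨e.trans Subgroup.topEquiv⟩⟩

end Cfsg.Agent.Lib.helper7.SAP
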