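import Cfsg.Agent.Lib.Helper28.TOO.Defs
import Cfsg.Agent.Lib.helper6.TSSIEG

/-!
# Project TOO (S5681), row WG4 (helper7).
-/

set_option autoImplicit false
set_option linter.unusedVariables false
set_option linter.unusedSectionVars false

namespace Cfsg.Agent.Lib.Helper28.TOO

open Matrix
open scoped Kronecker
open Cfsg.Agent.Lib.helper7.TP Cfsg.Agent.Lib.Helper21.TS

variable {ι : Type*} [Fintype ι] [DecidableEq ι] {F : Type*} [Field F] {J : Matrix ι ι F}

/-- WG4 OPP [M]. -/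
theorem w1_opp (h2 : (2 : F) ≠ 0) (hJ : Jᵀ = J) (p z s : ι → F) (hp : bf J p p = 0) (hz : bf J z z = 0)
    (hs : bf J s s = 0) (hzp : bf J p z ≠ 0) (hsp : bf J p s ≠ 0) :
    ∃ (y : ι → F) (c : F), bf J p y = 0 ∧ c ≠ 0 ∧ sieg J p y *ᵥ z = c • s := by
  have hsz : bf J s z = bf J z s := bf_symm hJ s z
  refine ⟨(bf J p z)⁻¹ • (z - (bf J p z / bf J p s) • s), bf J p z / bf J p s, ?_,
    div_ne_zero hzp hsp, ?_⟩
  · simp only [bf_smul_right, bf_sub_right]
    field_simp
    ring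
  · rw [sieg_mulVec]
    simp only [bf_smul_left, bf_smul_right, bf_sub_left, bf_sub_right, hz, hs, hsz]
    funext i
    simp only [Pi.add_apply, Pi.sub_apply, Pi.smul_apply, smul_eq_mul]
    field_simp
    ring

end Cfsg.Agent.Lib.Helper28.TOO
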