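import Cfsg.Agent.Lib.Helper28.TOO.Defs
import Cfsg.Agent.Lib.helper6.TSSIEG

/-!
# Project TOO (S5681), row WT1 (helper7).
-/

set_option autoImplicit false
set_option linter.unusedVariables false
set_option linter.unusedSectionVars false

namespace Cfsg.Agent.Lib.Helper28.TOO

open Matrix
open scoped Kronecker
open Cfsg.Agent.Lib.helper7.TP Cfsg.Agent.Lib.Helper21.TS

variable {ι : Type*} [Fintype ι] [DecidableEq ι] {F : Type*} [Field F] {J : Matrix ι ι F}

/-- WT1 COMM3 [S]. -/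
theorem w1_comm3 {R : Type*} [Ring R] (X Y : R) (hX : X * X = 0) (hY : Y * Y = 0) (h1 : X * Y * X = 0)
    (h2 : Y * X * Y = 0) : (1 + X) * (1 + Y) * (1 - X) * (1 - Y) = 1 + X * Y - Y * X := by
  have e1 : (1 + X) * (1 + Y) * (1 - X) * (1 - Y) =
      1 + X * Y - Y * X - X * X - Y * Y + (Y * X * Y - X * Y * X) + (X * X) * Y - X * (Y * Y)
        + X * Y * X * Y := by
    noncomm_ring
  have h3 : X * Y * X * Y = 0 := by rw [h1, zero_mul]
  rw [e1, hX, hY, h1, h2]
  simp

end Cfsg.Agent.Lib.Helper28.TOO
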