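import Cfsg.Agent.Lib.helper14.SGUDefs

/-!
# Project SGU (S5976), row ARITH (helper7): `arith`.
-/

set_option autoImplicit false

namespace Cfsg.Agent.Lib.helper14.SGU

/-- `x² - 1 = (x - 1)(x + 1)` in `ℕ`. -/
theorem sguarith_sq_sub_one (x : ℕ) (hx : 1 ≤ x) : x ^ 2 - 1 = (x - 1) * (x + 1) := by
  obtain ⟨y, rfl⟩ : ∃ y, x = y + 1 := ⟨x - 1, by omega⟩
  have h1 : (y + 1) ^ 2 = y * (y + 1 + 1) + 1 := by ring
  rw [h1, Nat.add_sub_cancel, Nat.add_sub_cancel]

/-- `r ∣ q ^ n - 1` gives `orderOf (q : ZMod r) ∣ n`. -/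
theorem sguarith_order_dvd (q r n : ℕ) (hq : 1 ≤ q) (h : r ∣ q ^ n - 1) :
    orderOf ((q : ℕ) : ZMod r) ∣ n := by
  rw [orderOf_dvd_iff_pow_eq_one]
  have h1 : 1 ≤ q ^ n := Nat.one_le_pow _ _ hq
  have h2 : ((q ^ n - 1 : ℕ) : ZMod r) = 0 := (ZMod.natCast_eq_zero_iff _ _).2 h
  rw [Nat.cast_sub h1, Nat.cast_pow, Nat.cast_one, sub_eq_zero] at h2
  exact h2

/-- `o ∣ 2k`, `o ∤ k`, `k` even give `4 ∣ o`. -/
theorem sguarith_four_dvd (o k : ℕ) (hk : Even k) (h2k : o ∣ 2 * k) (hnk : ¬ o ∣ k) : 4 ∣ o := by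
  obtain ⟨k', hk'⟩ := hk
  have h4 : o % 4 = 0 ∨ o % 4 = 1 ∨ o % 4 = 2 ∨ o % 4 = 3 := by omega
  rcases h4 with h | h | h | h
  · exact Nat.dvd_of_mod_eq_zero h
  · exfalso
    apply hnk
    have hcop : Nat.Coprime o 2 := by
      rw [Nat.coprime_two_right, Nat.odd_iff]; omega
    exact hcop.dvd_of_dvd_mul_left h2k
  · exfalso
    apply hnk
    obtain ⟨m, hm⟩ : ∃ m, o = 2 * m := ⟨o / 2, by omega⟩
    have hmodd : m % 2 = 1 := by omega
    have hmk : m ∣ k := by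
      rw [hm] at h2k
      exact (Nat.mul_dvd_mul_iff_left (by norm_num)).1 h2k
    have hcop : Nat.Coprime 2 m := by
      rw [Nat.coprime_comm, Nat.coprime_two_right, Nat.odd_iff]; exact hmodd
    rw [hm]
    exact hcop.mul_dvd_of_dvd_of_dvd ⟨k', by omega⟩ hmk
  · exfalso
    apply hnk
    have hcop : Nat.Coprime o 2 := by
      rw [Nat.coprime_two_right, Nat.odd_iff]; omega
    exact hcop.dvd_of_dvd_mul_left h2k

theorem arith (q d r : ℕ) [Fact r.Prime] (hr2 : r ≠ 2) (hq : 2 ≤ q) (hrq : ¬ r ∣ q) (e : ℕ)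
    (hdvd : r * e * guOrd q d ∣ spOrd q d) :
    (Odd (orderOf (q : ZMod r)) ∧ orderOf (q : ZMod r) ≤ d) ∨
      (4 ∣ orderOf (q : ZMod r) ∧ orderOf (q : ZMod r) ≤ 2 * d) := by
  classical
  have hr : r.Prime := Fact.out
  have hq1 : 1 ≤ q := by omega
  have hpow1 : ∀ n : ℕ, 2 ≤ q ^ (n + 1) := by
    intro n
    calc 2 = 2 ^ 1 := (pow_one 2).symm
      _ ≤ 2 ^ (n + 1) := Nat.pow_le_pow_right (by norm_num) (by omega)
      _ ≤ q ^ (n + 1) := Nat.pow_le_pow_left hq _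
  -- split each factor
  have hfac : ∀ i : ℕ, q ^ (2 * (i + 1)) - 1 =
      (if Even i then q ^ (i + 1) + 1 else q ^ (i + 1) - 1) *
        (if Even i then q ^ (i + 1) - 1 else q ^ (i + 1) + 1) := by
    intro i
    have h1 : q ^ (2 * (i + 1)) = (q ^ (i + 1)) ^ 2 := by rw [← pow_mul, mul_comm]
    rw [h1, sguarith_sq_sub_one _ (by have := hpow1 i; omega)]
    split_ifs
    · ring
    · ring
  have hsplit : ∏ i ∈ Finset.range d, (q ^ (2 * (i + 1)) - 1) =
      (∏ i ∈ Finset.range d, (if Even i then q ^ (i + 1) + 1 else q ^ (i + 1) - 1)) *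
        ∏ i ∈ Finset.range d, (if Even i then q ^ (i + 1) - 1 else q ^ (i + 1) + 1) := by
    rw [← Finset.prod_mul_distrib]
    exact Finset.prod_congr rfl (fun i _ => hfac i)
  have hGpos : 0 < ∏ i ∈ Finset.range d, (if Even i then q ^ (i + 1) + 1 else q ^ (i + 1) - 1) := by
    apply Finset.prod_pos
    intro i _
    have := hpow1 i
    split_ifs <;> omega
  -- cancel
  unfold guOrd spOrd at hdvd
  rw [hsplit] at hdvd
  obtain ⟨c, hc⟩ := hdvd
  have hkey : q ^ (d ^ 2) * ∏ i ∈ Finset.range d, (if Even i then q ^ (i + 1) - 1 else q ^ (i + 1) + 1) =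
      r * (e * q ^ (d * (d - 1) / 2) * c) := by
    apply Nat.eq_of_mul_eq_mul_left hGpos
    calc (∏ i ∈ Finset.range d, (if Even i then q ^ (i + 1) + 1 else q ^ (i + 1) - 1)) *
          (q ^ (d ^ 2) * ∏ i ∈ Finset.range d, (if Even i then q ^ (i + 1) - 1 else q ^ (i + 1) + 1))
        = q ^ (d ^ 2) * ((∏ i ∈ Finset.range d, (if Even i then q ^ (i + 1) + 1 else q ^ (i + 1) - 1)) *
            ∏ i ∈ Finset.range d, (if Even i then q ^ (i + 1) - 1 else q ^ (i + 1) + 1)) := by ring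
      _ = r * e * (q ^ (d * (d - 1) / 2) *
            ∏ i ∈ Finset.range d, (if Even i then q ^ (i + 1) + 1 else q ^ (i + 1) - 1)) * c := hc
      _ = _ := by ring
  have hrdvd : r ∣ q ^ (d ^ 2) * ∏ i ∈ Finset.range d, (if Even i then q ^ (i + 1) - 1 else q ^ (i + 1) + 1) :=
    ⟨_, hkey⟩
  rcases (Nat.Prime.dvd_mul hr).1 hrdvd with h1 | h1
  · exact absurd (hr.dvd_of_dvd_pow h1) hrq
  · obtain ⟨i, hi, hri⟩ := (Prime.dvd_finsetProd_iff (Nat.prime_iff.1 hr) _).1 h1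
    rw [Finset.mem_range] at hi
    by_cases hev : Even i
    · left
      rw [if_pos hev] at hri
      have ho := sguarith_order_dvd q r (i + 1) hq1 hri
      have hodd : Odd (i + 1) := hev.add_one
      refine ⟨?_, ?_⟩
      · obtain ⟨t, ht⟩ := ho
        rw [ht] at hodd
        exact (Nat.odd_mul.1 hodd).1
      · exact (Nat.le_of_dvd (Nat.succ_pos i) ho).trans (by omega)
    · right
      rw [if_neg hev] at hri
      have hk : Even (i + 1) := by
        rw [Nat.even_add_one]; exact hev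
      -- q^(i+1) = -1 in ZMod r
      have hneg : ((q : ℕ) : ZMod r) ^ (i + 1) = -1 := by
        have h2 : ((q ^ (i + 1) + 1 : ℕ) : ZMod r) = 0 := (ZMod.natCast_eq_zero_iff _ _).2 hri
        rw [Nat.cast_add, Nat.cast_pow, Nat.cast_one] at h2
        exact eq_neg_of_add_eq_zero_left h2
      have h2k : orderOf ((q : ℕ) : ZMod r) ∣ 2 * (i + 1) := by
        rw [orderOf_dvd_iff_pow_eq_one, mul_comm, pow_mul, hneg]
        norm_num
      have hnk : ¬ orderOf ((q : ℕ) : ZMod r) ∣ (i + 1) := by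
        intro h
        rw [orderOf_dvd_iff_pow_eq_one, hneg] at h
        have h2 : ((2 : ℕ) : ZMod r) = 0 := by
          have : (1 : ZMod r) + 1 = 0 := by
            nth_rewrite 1 [← h]; ring
          rw [Nat.cast_ofNat]
          rw [← this]; ring
        rw [ZMod.natCast_eq_zero_iff] at h2
        exact hr2 ((Nat.prime_dvd_prime_iff_eq hr Nat.prime_two).1 h2)
      refine ⟨sguarith_four_dvd _ _ hk h2k hnk, ?_⟩
      exact (Nat.le_of_dvd (by omega) h2k).trans (by omega)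

end Cfsg.Agent.Lib.helper14.SGU
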