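import Mathlib

/-!
# Project BT (S0997), part II (BT2), piece ARITH : the counting argument (pure arithmetic)
-/

set_option autoImplicit false
set_option linter.unusedVariables false
set_option linter.unusedSectionVars false

namespace Cfsg.Agent.Lib.helper15.BT2

/-- `card * m ≤ ∑ g` with one distinguished term -/
theorem bt2arith_lower {ι : Type*} [DecidableEq ι] (s : Finset ι) (g : ι → ℕ) (m : ℕ)
    (h : ∀ i ∈ s, m ≤ g i) (i0 : ι) (hi0 : i0 ∈ s) :
    (s.card - 1) * m + g i0 ≤ ∑ i ∈ s, g i := by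
  rw [← Finset.add_sum_erase s g hi0]
  have h1 : (s.erase i0).card * m ≤ ∑ i ∈ s.erase i0, g i := by
    have := Finset.card_nsmul_le_sum (s.erase i0) g m
      (fun i hi => h i (Finset.mem_of_mem_erase hi))
    simpa [smul_eq_mul] using this
  rw [Finset.card_erase_of_mem hi0] at h1
  omega

/-- `card * m ≤ ∑ g` -/
theorem bt2arith_lower0 {ι : Type*} (s : Finset ι) (g : ι → ℕ) (m : ℕ)
    (h : ∀ i ∈ s, m ≤ g i) : s.card * m ≤ ∑ i ∈ s, g i := by
  have := Finset.card_nsmul_le_sum s g m h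
  simpa [smul_eq_mul] using this

/-- ARITH : the counting argument (pure arithmetic) -/
theorem bt2_arith (p f : ℕ) (hpf : 2 * f + 1 = p) (hf4 : 4 ≤ f) (hfe : Even f) {ι : Type*}
    [DecidableEq ι] (X : Finset ι) (t0 : ι) (ht0 : t0 ∈ X) (hX : X.card = f) (a : ι → ℤ)
    (ha : ∀ i ∈ X, a i = 1 ∨ a i = -1) (ha0 : a t0 = 1) (deg : ι → ℕ) (hdeg0 : deg t0 = 1)
    (hminus : ∀ i ∈ X, a i = -1 → ∃ k : ℕ, 1 ≤ k ∧ deg i + 1 = k * p)
    (hplus : ∀ i ∈ X, a i = 1 → i ≠ t0 → ∃ k : ℕ, 1 ≤ k ∧ deg i = k * p + 1)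
    (hno : ∀ i ∈ X, deg i ≠ 2 * p + 1 ∧ deg i ≠ 2 * p - 1)
    (hW : ∑ i ∈ X.filter (fun i => a i = 1), deg i + (f + 1) ≤ (f + 1) ^ 2)
    (hW' : ∑ i ∈ X.filter (fun i => a i = -1), deg i ≤ (f + 1) ^ 2)
    (hW'1 : ∑ i ∈ X.filter (fun i => a i = -1), deg i + 1 ≠ (f + 1) ^ 2) :
    (∀ i ∈ X, a i = -1 → deg i + 1 = p) ∧ (∀ i ∈ X, a i = 1 → i ≠ t0 → deg i = p + 1) ∧
    2 * (X.filter (fun i => a i = -1)).card = f ∧ 2 * (X.filter (fun i => a i = 1)).card = f := by
  obtain ⟨m, hm⟩ := hfe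
  have hm2 : 2 ≤ m := by omega
  have hp : p = 4 * m + 1 := by omega
  set Xp := X.filter (fun i => a i = 1) with hXp
  set Xm := X.filter (fun i => a i = -1) with hXm
  have hXm' : Xm = X.filter (fun i => ¬ a i = 1) := by
    rw [hXm]
    apply Finset.filter_congr
    intro i hi
    rcases ha i hi with h | h
    · simp [h]
    · simp [h]
  have hpm : Xp.card + Xm.card = f := by
    rw [← hX, hXm', hXp, Finset.card_filter_add_card_filter_not]
  have ht0p : t0 ∈ Xp := by
    rw [hXp, Finset.mem_filter]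
    exact ⟨ht0, ha0⟩
  set Xq := Xp.erase t0 with hXq
  have hXqcard : Xq.card + 1 = Xp.card := by
    rw [hXq, Finset.card_erase_of_mem ht0p]
    have : 0 < Xp.card := Finset.card_pos.mpr ⟨t0, ht0p⟩
    omega
  have hsumq : ∑ i ∈ Xp, deg i = 1 + ∑ i ∈ Xq, deg i := by
    rw [← Finset.add_sum_erase Xp deg ht0p, hdeg0]
  -- lower bounds on degrees
  have hdegm : ∀ i ∈ Xm, p - 1 ≤ deg i := by
    intro i hi
    rw [hXm, Finset.mem_filter] at hi
    obtain ⟨k, hk1, hk⟩ := hminus i hi.1 hi.2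
    have : p ≤ k * p := Nat.le_mul_of_pos_left p (by omega)
    omega
  have hdegq : ∀ i ∈ Xq, p + 1 ≤ deg i := by
    intro i hi
    rw [hXq, Finset.mem_erase, hXp, Finset.mem_filter] at hi
    obtain ⟨k, hk1, hk⟩ := hplus i hi.2.1 hi.2.2 hi.1
    have : p ≤ k * p := Nat.le_mul_of_pos_left p (by omega)
    omega
  -- a minus degree different from `p - 1` is at least `2 p - 1`, and at least `3 p - 1` if allowed
  have hdegm2 : ∀ i ∈ Xm, deg i + 1 ≠ p → 3 * p - 1 ≤ deg i := by
    intro i hi hne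
    rw [hXm, Finset.mem_filter] at hi
    obtain ⟨k, hk1, hk⟩ := hminus i hi.1 hi.2
    have hk2 : k ≠ 1 := by
      intro h1
      rw [h1, one_mul] at hk
      exact hne hk
    have hk3 : k ≠ 2 := by
      intro h2
      rw [h2] at hk
      have := (hno i hi.1).2
      omega
    have hk4 : 3 ≤ k := by omega
    have : 3 * p ≤ k * p := Nat.mul_le_mul_right p hk4
    omega
  have hdegm1 : ∀ i ∈ Xm, deg i + 1 ≠ p → 2 * p - 1 ≤ deg i := by
    intro i hi hne
    have := hdegm2 i hi hne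
    omega
  have hdegq2 : ∀ i ∈ Xq, deg i ≠ p + 1 → 3 * p + 1 ≤ deg i := by
    intro i hi hne
    rw [hXq, Finset.mem_erase, hXp, Finset.mem_filter] at hi
    obtain ⟨k, hk1, hk⟩ := hplus i hi.2.1 hi.2.2 hi.1
    have hk2 : k ≠ 1 := by
      intro h1
      rw [h1, one_mul] at hk
      exact hne hk
    have hk3 : k ≠ 2 := by
      intro h2
      rw [h2] at hk
      have := (hno i hi.2.1).1
      omega
    have hk4 : 3 ≤ k := by omega
    have : 3 * p ≤ k * p := Nat.mul_le_mul_right p hk4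
    omega
  -- the two basic inequalities
  set r := Xm.card with hr
  set n := Xq.card with hn
  have hrn : r + n + 1 = 2 * m := by omega
  have h1 : r * (p - 1) ≤ ∑ i ∈ Xm, deg i := bt2arith_lower0 Xm deg (p - 1) hdegm
  have h2 : n * (p + 1) ≤ ∑ i ∈ Xq, deg i := bt2arith_lower0 Xq deg (p + 1) hdegq
  have hp1 : p - 1 = 4 * m := by omega
  have hp2 : p + 1 = 4 * m + 2 := by omega
  have hsq : (f + 1) ^ 2 = 4 * m * m + 4 * m + 1 := by
    rw [hm]; ring
  rw [hsq] at hW hW' hW'1
  rw [hsumq] at hW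
  rw [hp1] at h1
  rw [hp2] at h2
  -- `n ≤ m - 1`
  have hn1 : n + 1 ≤ m := by
    by_contra hcon
    have hge : m ≤ n := by omega
    have : m * (4 * m + 2) ≤ n * (4 * m + 2) := Nat.mul_le_mul_right _ hge
    nlinarith
  -- `r ≤ m + 1`
  have hr1 : r ≤ m + 1 := by
    by_contra hcon
    have hge : m + 2 ≤ r := by omega
    have : (m + 2) * (4 * m) ≤ r * (4 * m) := Nat.mul_le_mul_right _ hge
    nlinarith
  have hr2 : r = m ∨ r = m + 1 := by omega
  rcases hr2 with hrm | hrm
  · -- the main case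
    have hnm : n + 1 = m := by omega
    have hminus' : ∀ i ∈ Xm, deg i + 1 = p := by
      intro i hi
      by_contra hne
      have h3 := hdegm2 i hi hne
      have h4 := bt2arith_lower Xm deg (p - 1) hdegm i hi
      rw [hp1, ← hr, hrm] at h4
      have h5 : (m - 1) * (4 * m) + 4 * m = 4 * m * m := by
        have : m - 1 + 1 = m := by omega
        calc (m - 1) * (4 * m) + 4 * m = (m - 1 + 1) * (4 * m) := by ring
          _ = 4 * m * m := by rw [this]; ring
      omega
    have hplus' : ∀ i ∈ Xq, deg i = p + 1 := by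
      intro i hi
      by_contra hne
      have h3 := hdegq2 i hi hne
      have h4 := bt2arith_lower Xq deg (p + 1) hdegq i hi
      rw [hp2, ← hn] at h4
      have hn' : n - 1 + 2 = m := by omega
      have h5 : (n - 1) * (4 * m + 2) + 2 * (4 * m + 2) = 4 * m * m + 2 * m := by
        calc (n - 1) * (4 * m + 2) + 2 * (4 * m + 2) = (n - 1 + 2) * (4 * m + 2) := by ring
          _ = 4 * m * m + 2 * m := by rw [hn']; ring
      omega
    refine ⟨?_, ?_, ?_, ?_⟩
    · intro i hi hai
      apply hminus' i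
      rw [hXm, Finset.mem_filter]
      exact ⟨hi, hai⟩
    · intro i hi hai hne
      apply hplus' i
      rw [hXq, Finset.mem_erase, hXp, Finset.mem_filter]
      exact ⟨hne, hi, hai⟩
    · omega
    · omega
  · -- the impossible case `r = m + 1`
    exfalso
    have hall : ∀ i ∈ Xm, deg i + 1 = p := by
      intro i hi
      by_contra hne
      have h3 := hdegm1 i hi hne
      have h4 := bt2arith_lower Xm deg (p - 1) hdegm i hi
      rw [hp1, ← hr, hrm] at h4
      have h5 : (m + 1 - 1) * (4 * m) = 4 * m * m := by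
        have : m + 1 - 1 = m := by omega
        rw [this]; ring
      omega
    have hsum : ∑ i ∈ Xm, deg i = ∑ i ∈ Xm, (4 * m) := by
      apply Finset.sum_congr rfl
      intro i hi
      have := hall i hi
      omega
    rw [Finset.sum_const, smul_eq_mul, ← hr, hrm] at hsum
    apply hW'1
    rw [hsum]
    ring

end Cfsg.Agent.Lib.helper15.BT2
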