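import Mathlib
import Cfsg.Agent.Lib.helper15.PSL.Defs
import Cfsg.Agent.Lib.helper15.BH.Main
import Cfsg.Agent.Lib.helper23.PSLDEGSUM

/-!
# Project BT (S0997), part II (BT2), piece CONG : the degrees of the members of `X` modulo `p`
-/

set_option autoImplicit false
set_option linter.unusedVariables false
set_option linter.unusedSectionVars false
open scoped ComplexConjugate
open Classical

namespace Cfsg.Agent.Lib.helper15.BT2

open Cfsg.Agent.Lib.helper7 Cfsg.Agent.Lib.helper7.BR Cfsg.Agent.Lib.helper2 Cfsg.Agent.Lib.Helper25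
  Cfsg.Agent.Lib.Helper29 Cfsg.Agent.Lib.helper15.BH Cfsg.Agent.Lib.helper15.PSL

universe u

variable {G : Type u} [Group G] [Fintype G] {p : ℕ} [Fact p.Prime]

/-- a non-trivial element of a Sylow `p`-subgroup is `p`-singular -/
theorem bt2cong_sing (P : Sylow p G) (x : G) (hxP : x ∈ (P : Subgroup G)) (hx1 : x ≠ 1) :
    p ∣ orderOf x := by
  have hpp := (Fact.out : p.Prime)
  have hpg : IsPGroup p ↥(P : Subgroup G) := P.isPGroup'
  obtain ⟨k, hk⟩ := hpg ⟨x, hxP⟩
  have hord : orderOf x ∣ p ^ k := by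
    have h2 : x ^ (p ^ k) = 1 := by
      have := congrArg Subtype.val hk
      simpa using this
    exact orderOf_dvd_of_pow_eq_one h2
  obtain ⟨j, hj, hjeq⟩ := (Nat.dvd_prime_pow hpp).mp hord
  rcases Nat.eq_zero_or_pos j with h0 | h0
  · rw [h0, pow_zero] at hjeq
    exact absurd (orderOf_eq_one_iff.mp hjeq) hx1
  · rw [hjeq]
    exact dvd_pow_self p h0.ne'

/-- the sum over `P` of a member of `X` -/
theorem bt2cong_sum (P : Sylow p G) (hP : Nat.card ↥(P : Subgroup G) = p) (f : ℕ)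
    {X Y : Finset (Cfsg.IrrCharacter G)} {a : Cfsg.IrrCharacter G → ℤ} {ε : ℤ}
    (hB0 : PB0 p f (P : Subgroup G) X Y a ε) (ξ : Cfsg.IrrCharacter G) (hξ : ξ ∈ X) :
    ∑ y : ↥(P : Subgroup G), (ξ : G → ℂ) (y : G) =
      (leoDeg ξ : ℂ) + ((p : ℂ) - 1) * (a ξ : ℂ) := by
  have hcard : Fintype.card ↥(P : Subgroup G) = p := by
    rw [← Nat.card_eq_fintype_card]; exact hP
  rw [← Finset.add_sum_erase Finset.univ _ (Finset.mem_univ (1 : ↥(P : Subgroup G)))]
  have h1 : (ξ : G → ℂ) ((1 : ↥(P : Subgroup G)) : G) = (leoDeg ξ : ℂ) := by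
    rw [Subgroup.coe_one, leoDeg_spec]
  rw [h1]
  congr 1
  have h2 : ∀ y ∈ (Finset.univ : Finset ↥(P : Subgroup G)).erase 1,
      (ξ : G → ℂ) (y : G) = (a ξ : ℂ) := by
    intro y hy
    have hy1 : y ≠ 1 := Finset.ne_of_mem_erase hy
    have hy1' : (y : G) ≠ 1 := fun h => hy1 (Subtype.ext h)
    exact hB0.valX ξ hξ (y : G) (bt2cong_sing P (y : G) y.2 hy1')
  rw [Finset.sum_congr rfl h2, Finset.sum_const, Finset.card_erase_of_mem (Finset.mem_univ _),
    Finset.card_univ, hcard, nsmul_eq_mul]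
  have hp1 : 1 ≤ p := (Fact.out : p.Prime).one_lt.le
  rw [Nat.cast_sub hp1]
  push_cast
  ring

/-- CONG : the degrees of the members of `X` modulo `p` -/
theorem bt2_cong (P : Sylow p G) (hP : Nat.card ↥(P : Subgroup G) = p) (f : ℕ)
    {X Y : Finset (Cfsg.IrrCharacter G)} {a : Cfsg.IrrCharacter G → ℤ} {ε : ℤ}
    (hB0 : PB0 p f (P : Subgroup G) X Y a ε) (ξ : Cfsg.IrrCharacter G) (hξ : ξ ∈ X) :
    (a ξ = -1 → ∃ k : ℕ, 1 ≤ k ∧ leoDeg ξ + 1 = k * p) ∧
    (a ξ = 1 → ∃ k : ℕ, leoDeg ξ = k * p + 1) := by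
  have hpp := (Fact.out : p.Prime)
  have hp2 : 2 ≤ p := hpp.two_le
  obtain ⟨n, hn⟩ := bhksum_nat (P : Subgroup G) (isCharacter_of_irr ξ)
  rw [hP, bt2cong_sum P hP f hB0 ξ hξ] at hn
  constructor
  · intro ha
    rw [ha] at hn
    refine ⟨n + 1, by omega, ?_⟩
    have h : ((leoDeg ξ + 1 : ℕ) : ℂ) = (((n + 1) * p : ℕ) : ℂ) := by
      push_cast
      push_cast at hn
      linear_combination hn
    exact_mod_cast h
  · intro ha
    rw [ha] at hn
    have h : ((leoDeg ξ + p : ℕ) : ℂ) = ((n * p + 1 : ℕ) : ℂ) := by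
      push_cast
      push_cast at hn
      linear_combination hn
    have h' : leoDeg ξ + p = n * p + 1 := by exact_mod_cast h
    have hn1 : 1 ≤ n := by
      rcases Nat.eq_zero_or_pos n with h0 | h0
      · rw [h0] at h'
        omega
      · exact h0
    refine ⟨n - 1, ?_⟩
    have h3 : n * p = (n - 1) * p + p := by
      have : n = n - 1 + 1 := by omega
      conv_lhs => rw [this]
      ring
    omega

end Cfsg.Agent.Lib.helper15.BT2
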