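import Mathlib
import Cfsg.Agent.Lib.helper15.PSL.Defs
import Cfsg.Agent.Lib.helper15.BH.Main
import Cfsg.Agent.Lib.helper23.PSLDEGSUM

/-!
# Project BT (S0997), part II (BT2), piece NOREM : no remainder of degree `1`
-/

set_option autoImplicit false
set_option linter.unusedVariables false
set_option linter.unusedSectionVars false
open scoped ComplexConjugate
open Classical

namespace Cfsg.Agent.Lib.helper15.BT2

open Cfsg.Agent.Lib.helper7 Cfsg.Agent.Lib.helper7.BR Cfsg.Agent.Lib.helper2 Cfsg.Agent.Lib.Helper25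
  Cfsg.Agent.Lib.Helper29 Cfsg.Agent.Lib.helper15.BH Cfsg.Agent.Lib.helper15.PSL

universe u

variable {G : Type u} [Group G] [Fintype G] {p : ℕ} [Fact p.Prime]

/-- NOREM : a character `Ψ` of degree `d` without trivial constituent, in a group without non-trivial linear
characters, cannot contain a set `S` of irreducible characters of total degree `d - 1` -/
theorem bt2_norem (hlin : ∀ χ : Cfsg.IrrCharacter G, leoDeg χ = 1 → χ = trivIrr G) {Ψ : G → ℂ}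
    (hΨ : Cfsg.IsCharacter G Ψ)
    (h0 : Cfsg.classInner Ψ ((trivIrr G : Cfsg.IrrCharacter G) : G → ℂ) = 0)
    (S : Finset (Cfsg.IrrCharacter G)) (hS : ∀ ξ ∈ S, Cfsg.classInner Ψ (ξ : G → ℂ) ≠ 0) (d : ℕ)
    (hd : Ψ 1 = (d : ℂ)) : ∑ ξ ∈ S, leoDeg ξ + 1 ≠ d := by
  haveI : Fintype (Cfsg.IrrCharacter G) := Fintype.ofFinite _
  obtain ⟨m, hm, hdeg⟩ := psldegsum_deg hΨ
  rw [hd] at hdeg
  have hd' : d = ∑ χ : Cfsg.IrrCharacter G, m χ * leoDeg χ := by exact_mod_cast hdeg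
  have hm0 : m (trivIrr G) = 0 := by
    have h1 := hm (trivIrr G)
    rw [h0] at h1
    exact_mod_cast h1.symm
  have hmS : ∀ ξ ∈ S, 1 ≤ m ξ := by
    intro ξ hξ
    have h1 : m ξ ≠ 0 := by
      intro h2
      apply hS ξ hξ
      rw [hm, h2]
      simp
    exact Nat.one_le_iff_ne_zero.mpr h1
  have hne1 : ∀ χ : Cfsg.IrrCharacter G, m χ ≠ 0 → leoDeg χ ≠ 1 := by
    intro χ hmχ h1
    rw [hlin χ h1] at hmχ
    exact hmχ hm0
  intro hcon
  have hsplit : ∑ χ : Cfsg.IrrCharacter G, m χ * leoDeg χ =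
      ∑ χ ∈ S, m χ * leoDeg χ + ∑ χ ∈ Sᶜ, m χ * leoDeg χ :=
    (Finset.sum_add_sum_compl S _).symm
  have hS2 : ∑ χ ∈ S, m χ * leoDeg χ =
      ∑ χ ∈ S, leoDeg χ + ∑ χ ∈ S, (m χ - 1) * leoDeg χ := by
    rw [← Finset.sum_add_distrib]
    apply Finset.sum_congr rfl
    intro χ hχ
    have h1 := hmS χ hχ
    have h2 : m χ = 1 + (m χ - 1) := by omega
    conv_lhs => rw [h2]
    ring
  have hone : ∑ χ ∈ S, (m χ - 1) * leoDeg χ + ∑ χ ∈ Sᶜ, m χ * leoDeg χ = 1 := by omega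
  have hcase : ∑ χ ∈ S, (m χ - 1) * leoDeg χ ≠ 0 ∨ ∑ χ ∈ Sᶜ, m χ * leoDeg χ ≠ 0 := by omega
  rcases hcase with h | h
  · obtain ⟨χ, hχS, hχ⟩ := Finset.exists_ne_zero_of_sum_ne_zero h
    have h1 : (m χ - 1) * leoDeg χ ≤ ∑ χ ∈ S, (m χ - 1) * leoDeg χ :=
      Finset.single_le_sum (f := fun χ => (m χ - 1) * leoDeg χ) (fun _ _ => Nat.zero_le _) hχS
    have h2 : (m χ - 1) * leoDeg χ = 1 := by omega
    have h3 := (mul_eq_one.mp h2).2
    have h4 := hmS χ hχS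
    exact hne1 χ (by omega) h3
  · obtain ⟨χ, hχS, hχ⟩ := Finset.exists_ne_zero_of_sum_ne_zero h
    have h1 : m χ * leoDeg χ ≤ ∑ χ ∈ Sᶜ, m χ * leoDeg χ :=
      Finset.single_le_sum (f := fun χ => m χ * leoDeg χ) (fun _ _ => Nat.zero_le _) hχS
    have h2 : m χ * leoDeg χ = 1 := by omega
    have h3 := mul_eq_one.mp h2
    exact hne1 χ (by omega) h3.2

end Cfsg.Agent.Lib.helper15.BT2
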