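import Mathlib
import Cfsg.Agent.Lib.helper17.SLP.Defs
import Cfsg.Agent.Lib.helper15.SL2Card
import Cfsg.Agent.Lib.helper17.SLBC03

/-!
# SLP row M6 (`card_PSL2_odd`), helper7.  Verbatim statement of `helper17/SLP/Skel.lean.txt`.
-/

set_option autoImplicit false

namespace Cfsg.Agent.Lib.helper17.SLP

open Polynomial

universe u v

section M

variable {F : Type u} [Field F]

theorem slpm6_odd_card [Fintype F] (h2 : (2 : F) ≠ 0) : Fintype.card F % 2 = 1 := by
  apply FiniteField.odd_card_of_char_ne_two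
  intro h
  apply h2
  have := ringChar.spec F 2
  have h3 : ((2 : ℕ) : F) = 0 := (ringChar.spec F 2).2 (by rw [h])
  exact_mod_cast h3

/-- **M6**. -/
theorem card_PSL2_odd [Fintype F] (h2 : (2 : F) ≠ 0) :
    Nat.card (Matrix.ProjectiveSpecialLinearGroup (Fin 2) F) * 2 =
      Fintype.card F * (Fintype.card F - 1) * (Fintype.card F + 1) := by
  have hodd := slpm6_odd_card h2
  have hq : 2 ≤ Fintype.card F := Fintype.one_lt_card
  have hc : Nat.card (Subgroup.center (Matrix.SpecialLinearGroup (Fin 2) F)) = 2 := by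
    rw [Cfsg.Agent.Lib.Helper10.SLB.card_center_SL 2 (by norm_num)]
    have h2dvd : 2 ∣ Fintype.card F - 1 := by omega
    exact Nat.gcd_eq_left h2dvd
  have h1 := Subgroup.card_eq_card_quotient_mul_card_subgroup
    (Subgroup.center (Matrix.SpecialLinearGroup (Fin 2) F))
  rw [hc, Cfsg.Agent.Lib.helper15.card_SL2] at h1
  show Nat.card (Matrix.SpecialLinearGroup (Fin 2) F ⧸
    Subgroup.center (Matrix.SpecialLinearGroup (Fin 2) F)) * 2 = _
  rw [← h1]
  obtain ⟨k, hk⟩ : ∃ k, Fintype.card F = k + 2 := ⟨Fintype.card F - 2, by omega⟩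
  rw [hk]
  have : (k + 2) ^ 2 - 1 = (k + 2 - 1) * (k + 2 + 1) := by
    have e1 : k + 2 - 1 = k + 1 := by omega
    rw [e1]
    have e2 : (k + 2) ^ 2 = (k + 1) * (k + 2 + 1) + 1 := by ring
    rw [e2]
    omega
  rw [this, mul_assoc]

end M

end Cfsg.Agent.Lib.helper17.SLP
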