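import Cfsg.Agent.Lib.helper7.UXFR43c
import Cfsg.Agent.Lib.Helper10.U3FRSTD

/-!
# Project UX, piece FR43 : in `SU_4(3)` the stabiliser of an orthonormal frame is not maximal
(it lies in the stabiliser of the 480 vectors of the 15 frames permuted by `N(4 ∘ 2^(1+4))`).
-/

set_option autoImplicit false
set_option linter.unusedVariables false
set_option linter.unusedSectionVars false

namespace Cfsg.Agent.Lib.helper2.UX

open Cfsg Cfsg.Geo Cfsg.Agent.Lib.Helper27.ASC Cfsg.Agent.Lib.Lead.ASCU Cfsg.Agent.Lib.helper7.LX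
open Cfsg.Agent.Lib.Helper16.U3
open scoped MatrixGroups Matrix

variable {n : ℕ} {F : Type*} [Field F] [Fintype F]

/-- Transport of a decomposition stabiliser along a change of basis. -/
theorem uxfr43_conj {t : ℕ} (B : GL (Fin 4) F) (D D' : Fin t → Submodule F (Fin 4 → F))
    (hB : ∀ i, (D' i).map (Matrix.toLin' (B : Matrix (Fin 4) (Fin 4) F)) = D i) (g : GL (Fin 4) F) :
    g ∈ decompositionStabilizer D ↔ B⁻¹ * g * B ∈ decompositionStabilizer D' := by
  have hBinv : ∀ i, (D i).map (Matrix.toLin' ((B⁻¹ : GL (Fin 4) F) : Matrix (Fin 4) (Fin 4) F)) = D' i := by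
    intro i
    rw [← hB i, ← Submodule.map_comp, ← Matrix.toLin'_mul, ← Units.val_mul, inv_mul_cancel,
      Units.val_one, Matrix.toLin'_one, Submodule.map_id]
  constructor
  · rintro ⟨σ, hσ⟩
    refine ⟨σ, fun i => ?_⟩
    rw [Units.val_mul, Units.val_mul, Matrix.toLin'_mul, Matrix.toLin'_mul, Submodule.map_comp,
      Submodule.map_comp, hB, hσ, hBinv]
  · rintro ⟨σ, hσ⟩
    refine ⟨σ, fun i => ?_⟩
    have h := hσ i
    rw [Units.val_mul, Units.val_mul, Matrix.toLin'_mul, Matrix.toLin'_mul, Submodule.map_comp,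
      Submodule.map_comp, hB] at h
    have h2 := congrArg (fun W => W.map (Matrix.toLin' (B : Matrix (Fin 4) (Fin 4) F))) h
    change Submodule.map (Matrix.toLin' (B : Matrix (Fin 4) (Fin 4) F)) _ =
      Submodule.map (Matrix.toLin' (B : Matrix (Fin 4) (Fin 4) F)) _ at h2
    rw [hB, ← Submodule.map_comp, ← Matrix.toLin'_mul, ← Units.val_mul, mul_inv_cancel,
      Units.val_one, Matrix.toLin'_one, Submodule.map_id] at h2
    exact h2

/-- an orthogonal frame of non-degenerate lines of `F^4` is `GU`-conjugate to the standard one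
(helper10's `frame_std` of project U3 in dimension four). -/
theorem uxfr43_frame_std (q : ℕ) (hF : Fintype.card F = q ^ 2) (D : Fin 4 → Submodule F (Fin 4 → F))
    (hD : IsNondegenerateMDecomposition (hermForm 4 F q) 1 D) :
    ∃ B : GL (Fin 4) F, B ∈ GU 4 F q ∧
      ∀ g : GL (Fin 4) F, g ∈ decompositionStabilizer D ↔ B⁻¹ * g * B ∈ decompositionStabilizer (uxfr43Std F) := by
  classical
  have hq0 : q ≠ 0 := by
    rintro rfl
    have h1 : 1 < Fintype.card F := Fintype.one_lt_card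
    rw [hF] at h1
    omega
  -- spanning vectors
  have hspan : ∀ i, ∃ d : Fin 4 → F, d ∈ D i ∧ d ≠ 0 ∧ ∀ w ∈ D i, ∃ c : F, c • d = w := by
    intro i
    obtain ⟨⟨d, hd⟩, hd0, hall⟩ := finrank_eq_one_iff'.mp (hD.decomp.finrank_eq i)
    refine ⟨d, hd, fun h => hd0 (Subtype.ext h), fun w hw => ?_⟩
    obtain ⟨c, hc⟩ := hall ⟨w, hw⟩
    exact ⟨c, congrArg Subtype.val hc⟩
  choose d hdmem hd0 hdall using hspan
  -- the norms are non-zero and fixed by `a ↦ a ^ q`
  have hnn : ∀ i, hermForm 4 F q (d i) (d i) ≠ 0 := by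
    intro i
    obtain ⟨⟨x, hx, hfx⟩, -⟩ := hD.nondegenerate i (d i) (hdmem i) (hd0 i)
    obtain ⟨c, rfl⟩ := hdall i x hx
    rw [Cfsg.Agent.Lib.Helper28.Herm.herm_smul_left] at hfx
    exact right_ne_zero_of_mul hfx
  have hfix : ∀ i, (hermForm 4 F q (d i) (d i)) ^ q = hermForm 4 F q (d i) (d i) := fun i =>
    (Cfsg.Agent.Lib.Helper28.Herm.herm_symm hF 4 (d i) (d i)).symm
  have hc : ∀ i, ∃ c : F, c ^ (q + 1) = (hermForm 4 F q (d i) (d i))⁻¹ := by
    intro i
    apply u3frstd_norm q hF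
    rw [inv_pow, hfix]
  choose c hc using hc
  have hc0 : ∀ i, c i ≠ 0 := by
    intro i h
    have := hc i
    rw [h, zero_pow (by omega)] at this
    exact inv_ne_zero (hnn i) this.symm
  -- the columns
  let col : Fin 4 → (Fin 4 → F) := fun i => c i • d i
  have hgram : ∀ i j, hermForm 4 F q (col i) (col j) = if i = j then 1 else 0 := by
    intro i j
    simp only [col]
    rw [Cfsg.Agent.Lib.Helper28.Herm.herm_smul_left, Cfsg.Agent.Lib.Helper28.Herm.herm_smul_right]
    by_cases hij : i = j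
    · subst hij
      rw [if_pos rfl, ← mul_assoc, ← pow_succ', hc, inv_mul_cancel₀ (hnn i)]
    · rw [if_neg hij, hD.orthogonal i j hij (d i) (hdmem i) (d j) (hdmem j), mul_zero, mul_zero]
  let M : Matrix (Fin 4) (Fin 4) F := Matrix.of fun r i => col i r
  let Ms : Matrix (Fin 4) (Fin 4) F := Matrix.of fun i r => (col i r) ^ q
  have hleft : Ms * M = 1 := by
    ext i j
    rw [Matrix.mul_apply, Matrix.one_apply]
    have := hgram j i
    unfold hermForm at this
    simp only [M, Ms, Matrix.of_apply]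
    rw [← (show (∑ r, col j r * col i r ^ q) = ∑ r, col i r ^ q * col j r from
      Finset.sum_congr rfl fun r _ => mul_comm _ _), this]
    by_cases hij : i = j
    · subst hij; simp
    · rw [if_neg hij, if_neg (fun h => hij h.symm)]
  have hright : M * Ms = 1 := mul_eq_one_comm.mp hleft
  let B : GL (Fin 4) F := ⟨M, Ms, hright, hleft⟩
  have hBcol : ∀ i, (B : Matrix (Fin 4) (Fin 4) F) *ᵥ (Pi.single i 1) = col i := by
    intro i
    ext r
    simp [B, M, Matrix.mulVec, dotProduct, Pi.single_apply]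
  have hBv : ∀ u : Fin 4 → F, (B : Matrix (Fin 4) (Fin 4) F) *ᵥ u = ∑ i, u i • col i := by
    intro u
    ext r
    simp only [B, M, Matrix.mulVec, dotProduct, Matrix.of_apply, Finset.sum_apply, Pi.smul_apply,
      smul_eq_mul]
    exact Finset.sum_congr rfl fun i _ => mul_comm _ _
  refine ⟨B, ?_, ?_⟩
  · rw [mem_GU_iff]
    intro u v
    rw [hBv u, hBv v, Cfsg.Agent.Lib.Helper28.Herm.herm_sum_left]
    unfold hermForm
    apply Finset.sum_congr rfl
    intro i _
    change hermForm 4 F q (u i • col i) (∑ j, v j • col j) = _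
    rw [Cfsg.Agent.Lib.Helper28.Herm.herm_sum_right hF, Finset.sum_eq_single i]
    · rw [Cfsg.Agent.Lib.Helper28.Herm.herm_smul_left, Cfsg.Agent.Lib.Helper28.Herm.herm_smul_right,
        hgram, if_pos rfl, mul_one]
    · intro j _ hji
      rw [Cfsg.Agent.Lib.Helper28.Herm.herm_smul_left, Cfsg.Agent.Lib.Helper28.Herm.herm_smul_right,
        hgram, if_neg (fun h => hji h.symm), mul_zero, mul_zero]
    · intro h; exact absurd (Finset.mem_univ i) h
  · intro g
    apply uxfr43_conj B D (uxfr43Std F)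
    intro i
    unfold uxfr43Std
    rw [Submodule.map_span, Set.image_singleton, Matrix.toLin'_apply, hBcol]
    apply le_antisymm
    · rw [Submodule.span_singleton_le_iff_mem]
      exact (D i).smul_mem _ (hdmem i)
    · intro w hw
      obtain ⟨a, rfl⟩ := hdall i w hw
      rw [Submodule.mem_span_singleton]
      refine ⟨a * (c i)⁻¹, ?_⟩
      simp only [col]
      rw [smul_smul, mul_assoc, inv_mul_cancel₀ (hc0 i), mul_one]

/-- conjugation by an element of `GU` preserves `SU` -/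
theorem uxfr43_conj_SU (q : ℕ) (B : GL (Fin 4) F) (hB : B ∈ GU 4 F q) (g : GL (Fin 4) F) :
    g ∈ SUg 4 F q ↔ B⁻¹ * g * B ∈ SUg 4 F q := by
  have h1 : g ∈ GU 4 F q ↔ B⁻¹ * g * B ∈ GU 4 F q := by
    rw [Subgroup.mul_mem_cancel_right _ hB, Subgroup.mul_mem_cancel_left _ (Subgroup.inv_mem _ hB)]
  have h2 : g ∈ specialLinear (Fin 4) F ↔ B⁻¹ * g * B ∈ specialLinear (Fin 4) F := by
    unfold specialLinear
    rw [MonoidHom.mem_ker, MonoidHom.mem_ker, map_mul, map_mul, map_inv, mul_comm, ← mul_assoc,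
      mul_inv_cancel, one_mul]
  rw [Subgroup.mem_inf, Subgroup.mem_inf, ← h1, ← h2]

/-- FR43 : in `SU_4(3)` the stabiliser of an orthonormal frame is not maximal. -/
theorem frame4_q3 (hF : Fintype.card F = 9) (D : Fin 4 → Submodule F (Fin 4 → F))
    (hD : IsNondegenerateMDecomposition (hermForm 4 F 3) 1 D) :
    NotMax (SUg 4 F 3) (decompositionStabilizer D ⊓ SUg 4 F 3) := by
  obtain ⟨B, hBU, hB⟩ := uxfr43_frame_std 3 (by rw [hF]; norm_num) D hD
  have hSU := uxfr43_conj_SU 3 B hBU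
  have h3 := uxfr43_three hF
  obtain ⟨M⟩ := exists_model (F := F) 3 (Or.inl rfl) (by rw [hF]; norm_num)
  have hc : M.θ ^ 2 = -1 := by linear_combination M.hθ + h3
  -- the intermediate subgroup
  let K : Subgroup (GL (Fin 4) F) :=
    { carrier := {g | B⁻¹ * g * B ∈ uxfr43K F ⊓ SUg 4 F 3}
      mul_mem' := by
        intro a b ha hb
        have : B⁻¹ * (a * b) * B = (B⁻¹ * a * B) * (B⁻¹ * b * B) := by group
        rw [Set.mem_setOf_eq, this]
        exact Subgroup.mul_mem _ ha hb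
      one_mem' := by
        have : B⁻¹ * 1 * B = 1 := by group
        rw [Set.mem_setOf_eq, this]
        exact Subgroup.one_mem _
      inv_mem' := by
        intro a ha
        have : B⁻¹ * a⁻¹ * B = (B⁻¹ * a * B)⁻¹ := by group
        rw [Set.mem_setOf_eq, this]
        exact Subgroup.inv_mem _ ha }
  have hK : ∀ g, g ∈ K ↔ B⁻¹ * g * B ∈ uxfr43K F ⊓ SUg 4 F 3 := fun g => Iff.rfl
  have hconj : ∀ g : GL (Fin 4) F, B⁻¹ * (B * g * B⁻¹) * B = g := by
    intro g
    group
  refine ⟨K, ?_, ?_⟩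
  · rw [SetLike.lt_iff_le_and_exists]
    refine ⟨?_, B * uxfr43HK hF * B⁻¹, ?_, ?_⟩
    · intro g hg
      rw [Subgroup.mem_inf] at hg
      rw [hK, Subgroup.mem_inf]
      have h1 : B⁻¹ * g * B ∈ decompositionStabilizer (uxfr43Std F) ⊓ SUg 4 F 3 :=
        Subgroup.mem_inf.mpr ⟨(hB g).mp hg.1, (hSU g).mp hg.2⟩
      exact ⟨uxfr43_std_le hF h1, (hSU g).mp hg.2⟩
    · rw [hK, hconj, Subgroup.mem_inf]
      exact ⟨uxfr43HK_mem_K hF, uxfr43HK_mem hF⟩
    · intro hmem
      rw [Subgroup.mem_inf] at hmem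
      have := (hB _).mp hmem.1
      rw [hconj] at this
      exact uxfr43HK_not_mem hF this
  · rw [SetLike.lt_iff_le_and_exists]
    refine ⟨?_, B * uxfr43T hF M.θ * B⁻¹, ?_, ?_⟩
    · intro g hg
      rw [hK, Subgroup.mem_inf] at hg
      exact (hSU g).mpr hg.2
    · rw [hSU, hconj]
      exact uxfr43T_mem hF M.θ hc
    · intro hmem
      rw [hK, hconj, Subgroup.mem_inf] at hmem
      exact uxfr43T_not_mem hF M.θ hc hmem.1

end Cfsg.Agent.Lib.helper2.UX
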