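import Cfsg.Agent.Lib.helper7.TSDKRONGE7

/-!
# Project TSD (S5980), row KRONGE (helper7): `tsd_kron_rank_ge`, verbatim.
-/

set_option autoImplicit false

namespace Cfsg.Agent.Lib.helper4.TSD

open Matrix
open scoped Kronecker

variable {F : Type*} [Field F]

/-- KRONGE. Both factors non-scalar: `rank (α ⊗ β - l) ≥ a + b - 2`. -/
theorem tsd_kron_rank_ge {a b : ℕ} (α : Matrix (Fin a) (Fin a) F) (β : Matrix (Fin b) (Fin b) F)
    (hα : α.det ≠ 0) (hβ : β.det ≠ 0) (hα' : ∀ c : F, α ≠ c • (1 : Matrix (Fin a) (Fin a) F))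
    (hβ' : ∀ c : F, β ≠ c • (1 : Matrix (Fin b) (Fin b) F)) (l : F) :
    a + b ≤ (α ⊗ₖ β - l • (1 : Matrix (Fin a × Fin b) (Fin a × Fin b) F)).rank + 2 :=
  tsdkronge7_rank_ge α β hα hβ hα' hβ' l

end Cfsg.Agent.Lib.helper4.TSD
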