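import Mathlib
import Cfsg.Prelude.Def_KGroupFacts
import Cfsg.Agent.Lib.helper6.AbCent.Defs
import Cfsg.Agent.Lib.helper6.PGLSL
import Cfsg.Agent.Lib.helper15.SL2Card
import Cfsg.Agent.S2117
import Cfsg.Agent.S2086
import Cfsg.Agent.S0252
import Cfsg.Agent.S0253
import Cfsg.Agent.Lib.Helper19.SL2Normal

set_option autoImplicit false

/-!
# AbCent, piece S: the Schur multiplier step
-/

namespace Cfsg.Agent.Lib.helper7.AbCent

open Cfsg.Agent.Lib.helper6.AbCent
open scoped commutatorElement

universe u

section general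

variable {G : Type u} [Group G] [Finite G]

/-- the kernel of a finite stem extension of a group with cyclic multiplier of order `n` has order
dividing `n` -/
theorem card_ker_dvd {H : Type} [Group H] {n : ℕ} [NeZero n]
    (hH : Cfsg.HasCyclicSchurMultiplier H n) (τ : G →* H) (hτ : Cfsg.IsStemExtension τ) :
    Nat.card τ.ker ∣ n := by
  -- transport to `Type 0`
  let e : Shrink.{0} G ≃* G := Shrink.mulEquiv
  let σ : Shrink.{0} G →* H := τ.comp e.toMonoidHom
  have hσ : Cfsg.IsStemExtension σ := by
    obtain ⟨h1, h2, h3⟩ := hτ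
    refine ⟨h1.comp e.surjective, ?_, ?_⟩
    · intro x hx
      have hx' : e x ∈ τ.ker := by
        rw [MonoidHom.mem_ker] at hx ⊢
        exact hx
      have hc := h2 hx'
      rw [Subgroup.mem_center_iff] at hc ⊢
      intro g
      apply e.injective
      rw [map_mul, map_mul]
      exact hc (e g)
    · intro x hx
      have hx' : e x ∈ τ.ker := by
        rw [MonoidHom.mem_ker] at hx ⊢
        exact hx
      have hc := h3 hx'
      have : commutator (Shrink.{0} G) = (commutator G).comap e.toMonoidHom := by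
        rw [commutator_def, commutator_def]
        have h := Subgroup.map_commutator (⊤ : Subgroup (Shrink.{0} G)) ⊤ e.toMonoidHom
        have ht : (⊤ : Subgroup (Shrink.{0} G)).map e.toMonoidHom = ⊤ := by
          rw [← MonoidHom.range_eq_map]
          exact MonoidHom.range_eq_top.mpr e.surjective
        rw [ht] at h
        rw [← h, Subgroup.comap_map_eq_self_of_injective e.injective]
      rw [this]
      exact hc
  haveI : Finite (Shrink.{0} G) := Finite.of_equiv G e.symm.toEquiv
  obtain ⟨π, hπ⟩ := hH.2 (Shrink.{0} G) σ hσ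
  have h1 : Nat.card σ.ker ∣ Nat.card (Multiplicative (ZMod n)) :=
    Subgroup.card_dvd_of_surjective π hπ
  have h2 : Nat.card (Multiplicative (ZMod n)) = n := by
    rw [Nat.card_congr Multiplicative.toAdd, Nat.card_eq_fintype_card, ZMod.card]
  have h3 : Nat.card σ.ker = Nat.card τ.ker := by
    refine Nat.card_congr ⟨fun x => ⟨e x.1, ?_⟩, fun y => ⟨e.symm y.1, ?_⟩, ?_, ?_⟩
    · have := x.2
      rw [MonoidHom.mem_ker] at this ⊢
      exact this
    · have := y.2
      rw [MonoidHom.mem_ker] at this ⊢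
      show τ (e (e.symm y.1)) = 1
      rw [MulEquiv.apply_symm_apply]
      exact this
    · intro x
      apply Subtype.ext
      exact e.symm_apply_apply x.1
    · intro y
      apply Subtype.ext
      exact e.apply_symm_apply y.1
  rw [← h3, ← h2]
  exact h1

/-- a Sylow `2`-subgroup generating `G` as a normal subgroup: the same holds in a quotient -/
theorem normalClosure_quotient (P : Sylow 2 G)
    (hgen : Subgroup.normalClosure ((P : Subgroup G) : Set G) = ⊤)
    (N : Subgroup G) [N.Normal] (P' : Sylow 2 (G ⧸ N)) :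
    Subgroup.normalClosure ((P' : Subgroup (G ⧸ N)) : Set (G ⧸ N)) = ⊤ := by
  set M := (Subgroup.normalClosure ((P' : Subgroup (G ⧸ N)) : Set (G ⧸ N))).comap
    (QuotientGroup.mk' N) with hM
  have : M.Normal := Subgroup.Normal.comap Subgroup.normalClosure_normal _
  have hPM : (P : Subgroup G) ≤ M := by
    have h2 : IsPGroup 2 ((P : Subgroup G).map (QuotientGroup.mk' N)) := P.2.map _
    obtain ⟨Q, hQ⟩ := h2.exists_le_sylow
    obtain ⟨g, hg⟩ := MulAction.exists_smul_eq (G ⧸ N) P' Q
    intro x hx
    rw [hM, Subgroup.mem_comap]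
    have hxQ : QuotientGroup.mk' N x ∈ Q := hQ (Subgroup.mem_map_of_mem _ hx)
    have hxQ' : QuotientGroup.mk' N x ∈ ((g • P' : Sylow 2 (G ⧸ N)) : Subgroup (G ⧸ N)) := by
      rw [hg]; exact hxQ
    rw [Sylow.coe_subgroup_smul, Subgroup.mem_pointwise_smul_iff_inv_smul_mem] at hxQ'
    have hn : g⁻¹ * QuotientGroup.mk' N x * g ∈
        Subgroup.normalClosure ((P' : Subgroup (G ⧸ N)) : Set (G ⧸ N)) := by
      apply Subgroup.subset_normalClosure
      have h3 : g⁻¹ * QuotientGroup.mk' N x * g ∈ (P' : Subgroup (G ⧸ N)) := by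
        have := hxQ'
        simpa [MulAut.smul_def, mul_assoc] using this
      exact h3
    have := Subgroup.normalClosure_normal.conj_mem _ hn g
    simpa [mul_assoc] using this
  have hMtop : M = ⊤ := by
    apply top_le_iff.mp
    rw [← hgen]
    exact Subgroup.normalClosure_le_normal hPM
  apply top_le_iff.mp
  intro y _
  obtain ⟨x, rfl⟩ := QuotientGroup.mk'_surjective N y
  have : x ∈ M := by rw [hMtop]; trivial
  exact this

/-- `G` is perfect if it is the normal closure of a Sylow `2`-subgroup and has an odd normal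
subgroup with perfect quotient -/
theorem commutator_eq_top (P : Sylow 2 G)
    (hgen : Subgroup.normalClosure ((P : Subgroup G) : Set G) = ⊤)
    (N : Subgroup G) [N.Normal] (hodd : Odd (Nat.card N))
    (hperf : commutator (G ⧸ N) = ⊤) : commutator G = ⊤ := by
  set D := commutator G with hD
  have : D.Normal := by rw [hD]; infer_instance
  -- `P ⊔ D = ⊤`
  have h1 : (P : Subgroup G) ⊔ D = ⊤ := by
    have : ((P : Subgroup G) ⊔ D).Normal := by
      refine ⟨fun x hx g => ?_⟩
      have : g * x * g⁻¹ = ⁅g, x⁆ * x := by rw [commutatorElement_def]; group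
      rw [this]
      refine Subgroup.mul_mem _ (le_sup_right (a := (P : Subgroup G)) ?_) hx
      rw [hD, commutator_def]
      exact Subgroup.commutator_mem_commutator (Subgroup.mem_top g) (Subgroup.mem_top x)
    apply top_le_iff.mp
    rw [← hgen]
    exact Subgroup.normalClosure_le_normal (le_sup_left : (P : Subgroup G) ≤ (P : Subgroup G) ⊔ D)
  -- `N ⊔ D = ⊤`
  have h2 : N ⊔ D = ⊤ := by
    have hmap : D.map (QuotientGroup.mk' N) = ⊤ := by
      rw [hD, commutator_def, Subgroup.map_commutator, ← MonoidHom.range_eq_map,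
        MonoidHom.range_eq_top.mpr (QuotientGroup.mk'_surjective N), ← commutator_def, hperf]
    apply top_le_iff.mp
    intro x _
    have hx : QuotientGroup.mk' N x ∈ D.map (QuotientGroup.mk' N) := by rw [hmap]; trivial
    obtain ⟨d, hd, hdx⟩ := hx
    have : d⁻¹ * x ∈ N := by
      rw [← QuotientGroup.eq] 
      exact hdx
    have hx' : x = d * (d⁻¹ * x) := by group
    rw [hx']
    exact Subgroup.mul_mem _ (le_sup_right (a := N) hd) (le_sup_left (b := D) this)
  -- index of `D` is a power of 2 and odd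
  have hi1 : D.index = D.relIndex (P : Subgroup G) := by
    rw [← Subgroup.relIndex_top_right, ← h1, Subgroup.relIndex_sup_right]
  have hi2 : D.index = D.relIndex N := by
    rw [← Subgroup.relIndex_top_right, ← h2, Subgroup.relIndex_sup_right]
  have hd1 : D.index ∣ Nat.card (P : Subgroup G) := by
    rw [hi1]; exact Subgroup.relIndex_dvd_card _ _
  have hd2 : D.index ∣ Nat.card N := by
    rw [hi2]; exact Subgroup.relIndex_dvd_card _ _
  obtain ⟨k, hk⟩ := IsPGroup.iff_card.mp P.2
  rw [hk] at hd1
  obtain ⟨j, _, hj⟩ := (Nat.dvd_prime_pow Nat.prime_two).mp hd1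
  have hone : D.index = 1 := by
    rcases Nat.eq_zero_or_pos j with h0 | hpos
    · rw [hj, h0, pow_zero]
    · exfalso
      have h2dvd : 2 ∣ D.index := by
        rw [hj]; exact dvd_pow_self 2 (by omega)
      have : 2 ∣ Nat.card N := h2dvd.trans hd2
      obtain ⟨m, hm⟩ := hodd
      omega
  exact Subgroup.index_eq_one.mp hone

/-- composing a stem extension with an isomorphism of the target -/
theorem stem_comp_equiv {H H' : Type*} [Group H] [Group H'] (τ : G →* H)
    (hτ : Cfsg.IsStemExtension τ) (e : H ≃* H') :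
    Cfsg.IsStemExtension (e.toMonoidHom.comp τ) ∧ (e.toMonoidHom.comp τ).ker = τ.ker := by
  have hk : (e.toMonoidHom.comp τ).ker = τ.ker := by
    ext x
    rw [MonoidHom.mem_ker, MonoidHom.mem_ker, MonoidHom.comp_apply]
    exact (map_eq_one_iff e.toMonoidHom e.injective)
  refine ⟨⟨e.surjective.comp hτ.1, ?_, ?_⟩, hk⟩
  · rw [hk]; exact hτ.2.1
  · rw [hk]; exact hτ.2.2

end general

section main

variable {G : Type u} [Group G] [Finite G]

/-- The core of `stepS`, with the inputs from the other pieces as hypotheses. -/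
theorem stepS_core (P : Sylow 2 G)
    (hgen : Subgroup.normalClosure ((P : Subgroup G) : Set G) = ⊤)
    (N : Subgroup G) [N.Normal] (hodd : Odd (Nat.card N)) (hN : N ≠ ⊥)
    (hncQ : ∀ P' : Sylow 2 (G ⧸ N), ¬ IsCyclic ↥(P' : Subgroup (G ⧸ N)))
    (h3 : N ≤ CC P)
    (hiso : ∃ (F : Type) (_ : Field F) (_ : Fintype F), CharP F 2 ∧
      Nonempty (G ⧸ N ≃* Matrix.SpecialLinearGroup (Fin 2) F)) : False := by
  obtain ⟨P'⟩ : Nonempty (Sylow 2 (G ⧸ N)) := inferInstance
  -- `N` is central
  have hcen : N ≤ Subgroup.center G := by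
    have hPc : (P : Subgroup G) ≤ Subgroup.centralizer (N : Set G) := by
      intro x hx
      rw [Subgroup.mem_centralizer_iff]
      intro n hn
      have := h3 hn
      rw [Subgroup.mem_centralizer_iff] at this
      exact (this x hx).symm
    have hnc : Subgroup.normalClosure ((P : Subgroup G) : Set G) ≤
        Subgroup.centralizer (N : Set G) := Subgroup.normalClosure_le_normal hPc
    rw [hgen] at hnc
    intro n hn
    rw [Subgroup.mem_center_iff]
    intro g
    have := hnc (Subgroup.mem_top g)
    rw [Subgroup.mem_centralizer_iff] at this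
    exact (this n hn).symm
  obtain ⟨F, _, _, hchar, ⟨e⟩⟩ := hiso
  have h2F : (2 : F) = 0 := by
    have := CharP.cast_eq_zero F 2
    exact_mod_cast this
  -- `|F|` is a power of two
  obtain ⟨n, _, hn⟩ := FiniteField.card F 2
  have hcard : Nat.card (G ⧸ N) = Fintype.card F * (Fintype.card F ^ 2 - 1) := by
    rw [Nat.card_congr e.toEquiv, Cfsg.Agent.Lib.helper15.card_SL2]
  -- `|F| ≠ 2`
  have hF2 : Fintype.card F ≠ 2 := by
    intro h
    rw [h] at hcard
    have h6 : Nat.card (G ⧸ N) = 6 := by rw [hcard]; norm_num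
    obtain ⟨k, hk⟩ := IsPGroup.iff_card.mp P'.2
    have hdvd : Nat.card (P' : Subgroup (G ⧸ N)) ∣ 6 := by
      rw [← h6]; exact Subgroup.card_subgroup_dvd_card _
    rw [hk] at hdvd
    have hk1 : k ≤ 1 := by
      by_contra hlt
      rw [not_le] at hlt
      have : 2 ^ 2 ∣ 6 := (pow_dvd_pow 2 hlt).trans hdvd
      omega
    apply hncQ P'
    interval_cases k
    · have : Nat.card (P' : Subgroup (G ⧸ N)) = 1 := by rw [hk, pow_zero]
      haveI : Subsingleton (P' : Subgroup (G ⧸ N)) := (Nat.card_eq_one_iff_unique.mp this).1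
      exact isCyclic_of_subsingleton
    · have hc2 : Nat.card (P' : Subgroup (G ⧸ N)) = 2 := by rw [hk, pow_one]
      haveI : Fact (Nat.Prime 2) := ⟨Nat.prime_two⟩
      exact isCyclic_of_prime_card hc2
  have hF4 : 4 ≤ Fintype.card F := by
    rw [hn] at hF2 ⊢
    have hn1 : (n : ℕ) ≠ 1 := by
      intro h; rw [h, pow_one] at hF2; exact hF2 rfl
    have hn2 : 2 ≤ (n : ℕ) := by
      have := n.pos; omega
    calc 4 = 2 ^ 2 := by norm_num
      _ ≤ 2 ^ (n : ℕ) := Nat.pow_le_pow_right (by norm_num) hn2
  have hF9 : Fintype.card F ≠ 9 := by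
    rw [hn]
    intro h
    have : 2 ∣ 9 := by rw [← h]; exact dvd_pow_self 2 (by have := n.pos; omega)
    omega
  -- the quotient is perfect
  have hperfSL : commutator (Matrix.SpecialLinearGroup (Fin 2) F) = ⊤ :=
    Cfsg.Agent.Lib.Helper19.SL2Normal.commutator_eq_top (by rwa [Nat.card_eq_fintype_card])
  have hperfQ : commutator (G ⧸ N) = ⊤ := by
    have h := Subgroup.map_commutator (⊤ : Subgroup (Matrix.SpecialLinearGroup (Fin 2) F)) ⊤
      e.symm.toMonoidHom
    have ht : (⊤ : Subgroup (Matrix.SpecialLinearGroup (Fin 2) F)).map e.symm.toMonoidHom = ⊤ := by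
      rw [← MonoidHom.range_eq_map]
      exact MonoidHom.range_eq_top.mpr e.symm.surjective
    rw [ht, ← commutator_def, ← commutator_def, hperfSL, ht] at h
    exact h.symm
  have hperf : commutator G = ⊤ := commutator_eq_top P hgen N hodd hperfQ
  -- the stem extension
  let τ : G →* Matrix.SpecialLinearGroup (Fin 2) F := e.toMonoidHom.comp (QuotientGroup.mk' N)
  have hker : τ.ker = N := by
    ext x
    rw [MonoidHom.mem_ker, MonoidHom.comp_apply]
    rw [map_eq_one_iff e.toMonoidHom e.injective]
    exact QuotientGroup.eq_one_iff x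
  have hτ : Cfsg.IsStemExtension τ := by
    refine ⟨e.surjective.comp (QuotientGroup.mk'_surjective N), ?_, ?_⟩
    · rw [hker]; exact hcen
    · rw [hker, hperf]; exact le_top
  by_cases h4 : Fintype.card F = 4
  · -- `SL₂(4) ≃ PSL₂(5)`
    haveI : Fact (Nat.Prime 5) := ⟨by norm_num⟩
    have e1 : Matrix.ProjectiveSpecialLinearGroup (Fin 2) F ≃*
        Matrix.SpecialLinearGroup (Fin 2) F := by
      unfold Matrix.ProjectiveSpecialLinearGroup
      exact (QuotientGroup.quotientMulEquivOfEq (Cfsg.Agent.Lib.helper6.PGLSL.center_SL2_bot h2F)).trans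
        (QuotientGroup.quotientBot)
    obtain ⟨e2⟩ := Cfsg.Agent.S0252.result (F := F) h4
    obtain ⟨e3⟩ := Cfsg.Agent.S0253.result (F := ZMod 5) (by rw [ZMod.card])
    let e4 : Matrix.SpecialLinearGroup (Fin 2) F ≃*
        Matrix.ProjectiveSpecialLinearGroup (Fin 2) (ZMod 5) := (e1.symm.trans e2).trans e3.symm
    obtain ⟨hst, hk⟩ := stem_comp_equiv τ hτ e4
    have hmult : Cfsg.HasCyclicSchurMultiplier
        (Matrix.ProjectiveSpecialLinearGroup (Fin 2) (ZMod 5)) (Nat.gcd 2 (5 - 1)) :=
      Cfsg.Agent.S2086.result (F := ZMod 5) (q := 5) (by rw [ZMod.card]) 2 le_rfl (fun _ => by norm_num)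
        (by
          intro h
          simp only [Set.mem_insert_iff, Set.mem_singleton_iff, Prod.mk.injEq] at h
          omega)
    have hg : Nat.gcd 2 (5 - 1) = 2 := by norm_num
    rw [hg] at hmult
    have hd := card_ker_dvd hmult _ hst
    rw [hk, hker] at hd
    have hN1 : Nat.card N = 1 := by
      rcases (Nat.dvd_prime Nat.prime_two).mp hd with h | h
      · exact h
      · exfalso
        obtain ⟨m, hm⟩ := hodd
        omega
    exact hN (Subgroup.card_eq_one.mp hN1)
  · have hmult := Cfsg.Agent.S2117.result (F := F) h4 hF9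
    have hd := card_ker_dvd hmult τ hτ
    rw [hker] at hd
    exact hN (Subgroup.card_eq_one.mp (Nat.dvd_one.mp hd))

end main

end Cfsg.Agent.Lib.helper7.AbCent
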