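import Mathlib
import Cfsg.Agent.Lib.Lead.BCG.Defs
import Cfsg.Agent.Lib.helper7.BCGTORUS

set_option autoImplicit false

/-!
# Project BCG (designer lead), row S3 (`sp_torus_minus`), copy by helper7 under the name `bcgs3_h7`
(the statement is exactly the one of the skeleton; proof = `bcg7_torus_pair` of `helper7/BCGTORUS.lean`).
-/

namespace Cfsg.Agent.Lib.Lead.BCG

open Polynomial Module Matrix Cfsg.Agent.Lib.Helper13.S5955 Cfsg.Agent.Lib.helper15.S5972
  Cfsg.Agent.Lib.Helper18.ONE Cfsg.Agent.Lib.Lead.BCS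

theorem bcgs3_h7 {F : Type*} [Field F] [Fintype F] {p : ℕ} [Fact p.Prime] [CharP F p]
    (n : ℕ) (hn : 1 ≤ n) (h4 : Fintype.card F ^ n % 4 = 3) (s : ℕ) [Fact s.Prime] (hs2 : s ≠ 2)
    (hs : s ∣ Fintype.card F ^ n + 1) :
    ∃ t y : Matrix.symplecticGroup (Fin n) F, Commute t y ∧ orderOf y = s ∧
      t * t = Cfsg.Agent.S0246.negOne F n :=
  Cfsg.Agent.Lib.helper7.BCGTorus.bcg7_torus_pair n hn h4 s Fact.out hs2 hs

end Cfsg.Agent.Lib.Lead.BCG
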