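import Mathlib
import Cfsg.Agent.Lib.Lead.BCS.Defs
import Cfsg.Agent.Lib.helper7.BCSA3
import Cfsg.Agent.Lib.Helper24.S5972SPLIT
import Cfsg.Agent.Lib.Helper24.ElB
import Cfsg.Agent.Lib.Helper24.ElC
import Cfsg.Agent.Lib.Helper24.ElD
import Cfsg.Agent.Lib.Helper24.ElR
import Cfsg.Agent.Lib.Helper5.S5955T7

/-!
# Project BCS (S2362), row A6b: spare copy `bcsa6b_h7` of `bcs_unip_cyc_split` (the verbatim row is Helper21.BCSA6B).  (helper7)

Own copies of the contents of rows A4 / A5 are proved inline (`bcsa6b_inv_dvd`, `bcsa6b_unip_fix`).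
-/

set_option autoImplicit false
set_option linter.unusedVariables false

namespace Cfsg.Agent.Lib.Lead.BCS

open Polynomial Module Matrix Cfsg.Agent.Lib.Helper13.S5955 Cfsg.Agent.Lib.helper15.S5972
  Cfsg.Agent.Lib.Helper18.ONE

/-- content of row A4 -/
theorem bcsa6b_inv_dvd {F : Type*} [Field F] [Fintype F] {p : ℕ} [Fact p.Prime] [CharP F p]
    {V : Type*} [AddCommGroup V] [Module F V] [FiniteDimensional F V]
    {ℓ : ℕ} [Fact ℓ.Prime] (hℓp : ℓ ≠ p) (y : Module.End F V) (K : Submodule F V)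
    (hK : SInv y K) (hKc : K ≤ cycS ℓ y) :
    orderOf ((Fintype.card F : ℕ) : ZMod ℓ) ∣ finrank F K := by
  refine Cfsg.Agent.Lib.Helper24.el_dvd_dim y K hK (cyclotomic ℓ F) (cyclotomic_ne_zero ℓ F) ?_ _
    (Cfsg.Agent.Lib.Helper24.el_ord_pos (F := F) (p := p) ℓ hℓp)
    (fun P hP hPd => Cfsg.Agent.Lib.Helper24.el_cyc_deg (F := F) (p := p) ℓ hℓp P hP hPd)
  intro s hs
  have := hKc hs
  unfold cycS at this
  exact LinearMap.mem_ker.mp this

/-- content of row A5 -/
theorem bcsa6b_unip_fix {F : Type*} [Field F] {V : Type*} [AddCommGroup V] [Module F V]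
    (u : Module.End F V) (k : ℕ) (hk : (u - 1) ^ k = 0) (W : Submodule F V) (hW : SInv u W)
    (hW0 : W ≠ ⊥) : W ⊓ fixS u ≠ ⊥ := by
  classical
  obtain ⟨w, hwW, hw0⟩ := Submodule.exists_mem_ne_zero_of_ne_bot hW0
  have hWN : Cfsg.Agent.Lib.Helper24.ElInv (u - 1) W := by
    intro s hs
    rw [LinearMap.sub_apply, Module.End.one_apply]
    exact W.sub_mem (hW s hs) hs
  have hex : ∃ j, ((u - 1 : Module.End F V) ^ j) w = 0 := ⟨k, by rw [hk, LinearMap.zero_apply]⟩
  have hj0 : Nat.find hex ≠ 0 := by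
    intro h0
    have := Nat.find_spec hex
    rw [h0, pow_zero, Module.End.one_apply] at this
    exact hw0 this
  obtain ⟨j1, hj1⟩ := Nat.exists_eq_succ_of_ne_zero hj0
  have hmin : ((u - 1) ^ j1) w ≠ 0 := Nat.find_min hex (by omega)
  have hspec : (u - 1) (((u - 1) ^ j1) w) = 0 := by
    have := Nat.find_spec hex
    rw [hj1, pow_succ', Module.End.mul_apply] at this
    exact this
  intro hbot
  have hmem : ((u - 1) ^ j1) w ∈ W ⊓ fixS u := by
    refine ⟨Cfsg.Agent.Lib.Helper24.el_pow_mem hWN j1 hwW, (bcs_mem_fixS u _).mpr ?_⟩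
    rw [LinearMap.sub_apply, Module.End.one_apply, sub_eq_zero] at hspec
    exact hspec
  rw [hbot, Submodule.mem_bot] at hmem
  exact hmin hmem

theorem bcsa6b_eq_of_dvd {m a : ℕ} (hm : 0 < m) (hpos : 0 < m * a) (hlt : m * a < 2 * m) : a = 1 := by
  have ha2 : a < 2 := by
    by_contra hge
    push Not at hge
    have : m * 2 ≤ m * a := Nat.mul_le_mul_left m hge
    omega
  have ha0 : a ≠ 0 := by
    rintro rfl
    simp at hpos
  omega

/-- A6b [L] -/
theorem bcsa6b_h7 {F : Type*} [Field F] [Fintype F] {p : ℕ} [Fact p.Prime] [CharP F p]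
    (h2 : (2 : F) ≠ 0) {V : Type*} [AddCommGroup V] [Module F V] [FiniteDimensional F V]
    {ℓ : ℕ} [Fact ℓ.Prime] (hℓp : ℓ ≠ p) {B : LinearMap.BilinForm F V}
    {y u : Module.End F V} (h : OCtx ℓ B y) (hu : OCtx p B u) (hc : Commute u y) (m : ℕ)
    (hmo : Odd m) (hord : orderOf ((Fintype.card F : ℕ) : ZMod ℓ) = m)
    (hdim : finrank F (cycS ℓ y) = 2 * m) :
    ∀ w ∈ cycS ℓ y, u w = w := by
  classical
  obtain ⟨-, -, -, hWnd⟩ := o_split hℓp h
  set W := cycS ℓ y with hW
  have hN_apply : ∀ v, (u - 1) v = u v - v := fun v => by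
    rw [LinearMap.sub_apply, Module.End.one_apply]
  have hNp : (u - 1) ^ p = 0 := by
    rw [Cfsg.Agent.Lib.Helper24.el_sub_one_pow_char, hu.pow, sub_self]
  have hmpos : 0 < m := hmo.pos
  have hWu : SInv u W := (bcs_comm_inv u y hc ℓ).2
  have hWy : SInv y W := Cfsg.Agent.Lib.Helper24.el_inv_ker y _
  have hfy : SInv y (fixS u) := (bcs_comm_inv y u hc.symm 0).1
  have hWN : ∀ w ∈ W, (u - 1) w ∈ W := fun w hw => by
    rw [hN_apply]; exact W.sub_mem (hWu w hw) hw
  have hNy : ∀ v, (u - 1) (y v) = y ((u - 1) v) := by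
    intro v
    rw [hN_apply, hN_apply, map_sub]
    have := congrArg (fun t : Module.End F V => t v) hc.eq
    simp only [Module.End.mul_apply] at this
    rw [this]
  have hNu : ∀ v, (u - 1) (u v) = u ((u - 1) v) := by
    intro v; rw [hN_apply, hN_apply, map_sub]
  have hdvd : ∀ S : Submodule F V, SInv y S → S ≤ W → m ∣ finrank F S := by
    intro S hS hSW
    have := bcsa6b_inv_dvd hℓp y S hS hSW
    rw [hord] at this
    exact this
  have hfix : ∀ S : Submodule F V, SInv u S → S ≠ ⊥ → S ⊓ fixS u ≠ ⊥ :=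
    fun S hS hS0 => bcsa6b_unip_fix u p hNp S hS hS0
  by_contra hcon
  push Not at hcon
  obtain ⟨w0, hw0W, hw0⟩ := hcon
  have hWne : W ≠ ⊥ := by
    intro hb
    rw [hb, Submodule.mem_bot] at hw0W
    rw [hw0W, map_zero] at hw0
    exact hw0 rfl
  -- K
  set K := W ⊓ fixS u with hK
  have hKW : K ≤ W := inf_le_left
  have hKne : K ≠ W := by
    intro heq
    have : w0 ∈ K := by rw [heq]; exact hw0W
    exact hw0 ((bcs_mem_fixS u w0).mp this.2)
  have hKbot : K ≠ ⊥ := hfix W hWu hWne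
  have hKy : SInv y K := Cfsg.Agent.Lib.Helper24.el_inv_inf hWy hfy
  have hKdim : finrank F K = m := by
    obtain ⟨a, ha⟩ := hdvd K hKy hKW
    have hlt : finrank F K < finrank F W :=
      Submodule.finrank_lt_finrank_of_lt (lt_of_le_of_ne hKW hKne)
    have hpos : 0 < finrank F K := by
      rw [Nat.pos_iff_ne_zero]; intro h0; exact hKbot (Submodule.finrank_eq_zero.mp h0)
    rw [hdim, ha] at hlt
    rw [ha] at hpos
    rw [ha, bcsa6b_eq_of_dvd hmpos hpos hlt, mul_one]
  -- R
  set R := W.map (u - 1) with hR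
  have hRW : R ≤ W := by
    rintro _ ⟨w, hw, rfl⟩; exact hWN w hw
  have hRy : SInv y R := by
    rintro _ ⟨w, hw, rfl⟩; exact ⟨y w, hWy w hw, hNy w⟩
  have hRu : SInv u R := by
    rintro _ ⟨w, hw, rfl⟩; exact ⟨u w, hWu w hw, hNu w⟩
  have hRbot : R ≠ ⊥ := by
    intro hb
    have : (u - 1) w0 ∈ R := ⟨w0, hw0W, rfl⟩
    rw [hb, Submodule.mem_bot, hN_apply, sub_eq_zero] at this
    exact hw0 this
  have hRne : R ≠ W := by
    intro heq
    have hall : ∀ j, W.map ((u - 1) ^ j) = W := by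
      intro j
      induction j with
      | zero => rw [pow_zero, Module.End.one_eq_id]; exact Submodule.map_id W
      | succ j ih => rw [pow_succ, Module.End.mul_eq_comp, Submodule.map_comp, ← hR, heq, ih]
    have := hall p
    rw [hNp, Submodule.map_zero] at this
    exact hWne this.symm
  have hRdim : finrank F R = m := by
    obtain ⟨a, ha⟩ := hdvd R hRy hRW
    have hlt : finrank F R < finrank F W :=
      Submodule.finrank_lt_finrank_of_lt (lt_of_le_of_ne hRW hRne)
    have hpos : 0 < finrank F R := by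
      rw [Nat.pos_iff_ne_zero]; intro h0; exact hRbot (Submodule.finrank_eq_zero.mp h0)
    rw [hdim, ha] at hlt
    rw [ha] at hpos
    rw [ha, bcsa6b_eq_of_dvd hmpos hpos hlt, mul_one]
  have hRfix : R ≤ fixS u := by
    have hne := hfix R hRu hRbot
    have hy' : SInv y (R ⊓ fixS u) := Cfsg.Agent.Lib.Helper24.el_inv_inf hRy hfy
    obtain ⟨a, ha⟩ := hdvd _ hy' (le_trans inf_le_left hRW)
    have hle : finrank F ↥(R ⊓ fixS u) ≤ finrank F R := Submodule.finrank_mono inf_le_left
    have hpos : 0 < finrank F ↥(R ⊓ fixS u) := by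
      rw [Nat.pos_iff_ne_zero]; intro h0; exact hne (Submodule.finrank_eq_zero.mp h0)
    have heq : finrank F ↥(R ⊓ fixS u) = finrank F R := by
      rw [hRdim] at hle ⊢
      rw [ha] at hle hpos ⊢
      have : a = 1 := bcsa6b_eq_of_dvd hmpos hpos (by omega)
      rw [this, mul_one]
    have := Submodule.eq_of_le_of_finrank_eq (inf_le_left : R ⊓ fixS u ≤ R) heq
    rw [← this]; exact inf_le_right
  have hNN : ∀ w ∈ W, (u - 1) ((u - 1) w) = 0 := by
    intro w hw
    have : (u - 1) w ∈ fixS u := hRfix ⟨w, hw, rfl⟩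
    rw [bcs_mem_fixS] at this
    rw [hN_apply ((u - 1) w), this, sub_self]
  -- isometry identity
  have hiso : ∀ v w, B ((u - 1) v) w + B v ((u - 1) w) + B ((u - 1) v) ((u - 1) w) = 0 := by
    intro v w
    have := hu.pres v w
    have e1 : u v = v + (u - 1) v := by rw [hN_apply]; abel
    have e2 : u w = w + (u - 1) w := by rw [hN_apply]; abel
    rw [e1, e2] at this
    simp only [map_add, LinearMap.add_apply] at this
    linear_combination this
  have hNNB : ∀ v, ∀ w ∈ W, B ((u - 1) v) ((u - 1) w) = 0 := by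
    intro v w hw
    have := hiso v ((u - 1) w)
    rw [hNN w hw, map_zero, map_zero, add_zero, add_zero] at this
    exact this
  have hskew : ∀ v, ∀ w ∈ W, B ((u - 1) v) w = - B ((u - 1) w) v := by
    intro v w hw
    have := hiso v w
    rw [hNNB v w hw, add_zero, h.symm v ((u - 1) w)] at this
    exact eq_neg_of_add_eq_zero_left this
  have hrad : ∀ v ∈ W, (∀ w ∈ W, B ((u - 1) v) w = 0) → v ∈ K := by
    intro v hv hv0
    have : (u - 1) v = 0 := hWnd ((u - 1) v) (hWN v hv) hv0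
    refine ⟨hv, (bcs_mem_fixS u v).mpr ?_⟩
    rw [hN_apply, sub_eq_zero] at this; exact this
  -- the alternating form
  let G0 : V →ₗ[F] V →ₗ[F] F := LinearMap.comp B (u - 1)
  let G : LinearMap.BilinForm F V := G0 - G0.flip
  have hG : ∀ v w, G v w = B ((u - 1) v) w - B ((u - 1) w) v := fun v w => rfl
  have hGalt : ∀ v, G v v = 0 := fun v => by rw [hG, sub_self]
  -- complement of K in W
  obtain ⟨C0, hC0⟩ := Submodule.exists_isCompl K
  set C := C0 ⊓ W with hC
  have hKC : K ⊓ C = ⊥ := by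
    rw [eq_bot_iff]
    calc K ⊓ (C0 ⊓ W) ≤ K ⊓ C0 := inf_le_inf_left K inf_le_left
      _ = ⊥ := hC0.inf_eq_bot
  have hKCsup : K ⊔ C = W := by
    have := sup_inf_assoc_of_le C0 hKW
    rw [hC0.sup_eq_top, top_inf_eq] at this
    exact this.symm
  have hCdim : finrank F C = m := by
    have := Submodule.finrank_sup_add_finrank_inf_eq K C
    rw [hKCsup, hKC, finrank_bot, hdim, hKdim] at this
    omega
  have hCnd : SND G C := by
    intro c hc hc0
    have hcW : c ∈ W := hc.2
    have hcK : c ∈ K := by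
      apply hrad c hcW
      intro w hw
      have hw' : w ∈ K ⊔ C := by rw [hKCsup]; exact hw
      obtain ⟨k, hk, c', hc', rfl⟩ := Submodule.mem_sup.mp hw'
      have hk0 : (u - 1) k = 0 := by
        have := (bcs_mem_fixS u k).mp hk.2
        rw [hN_apply, this, sub_self]
      have h1 : B ((u - 1) c) k = 0 := by
        rw [hskew c k hk.1, hk0, map_zero, LinearMap.zero_apply, neg_zero]
      have h3 : B ((u - 1) c) c' = 0 := by
        have hG0 := hc0 c' hc'
        rw [hG, hskew c' c hcW, sub_neg_eq_add] at hG0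
        have h4 : (2 : F) * B ((u - 1) c) c' = 0 := by rw [two_mul]; exact hG0
        exact (mul_eq_zero.mp h4).resolve_left h2
      rw [map_add, h1, h3, add_zero]
    have : c ∈ K ⊓ C := ⟨hcK, hc⟩
    rw [hKC] at this
    exact (Submodule.mem_bot F).mp this
  have hev := nd_even G hGalt C hCnd
  rw [hCdim] at hev
  exact (Nat.not_even_iff_odd.mpr hmo) hev

end Cfsg.Agent.Lib.Lead.BCS
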