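import Mathlib
import Cfsg.Prelude.Def_Blocks
import Cfsg.Agent.Lib.helper7.BlockQuot
import Cfsg.Agent.Lib.helper7.BlockInd2
import Cfsg.Agent.S0908
import Cfsg.Agent.S0931

set_option autoImplicit false
set_option linter.style.haveILetI false
set_option linter.unusedSectionVars false
set_option linter.unusedVariables false

namespace Cfsg.Agent.Lib.helper7

open scoped ComplexConjugate
open Cfsg.Agent.Lib.Helper25 Cfsg.Agent.Lib.Helper11 Cfsg.Agent.Lib.helper2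

variable {G : Type*} [Group G]

theorem h7_normal_defect_pregular [Fintype G] [Fintype (Cfsg.IrrCharacter G)] {p : ℕ}
    [hp : Fact p.Prime] {M : Ideal Cfsg.AlgInt} (hM : Cfsg.IsPModular p M)
    (Q : Subgroup G) [hQn : Q.Normal] (ξ₀ : Cfsg.IrrCharacter G)
    (hQ : Cfsg.IsDefectGroup p M (Cfsg.blockOf M (ξ₀ : G → ℂ)) Q)
    (y : G) (hy : ¬ Cfsg.MemLocalIdeal M (Cfsg.centralChar (ξ₀ : G → ℂ) y)) :
    ¬ p ∣ orderOf (QuotientGroup.mk y : G ⧸ Q) := by
  classical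
  haveI : Fintype (G ⧸ Q) := Fintype.ofFinite _
  haveI : Fintype (Cfsg.IrrCharacter (G ⧸ Q)) := Fintype.ofFinite _
  have hPr := hM.2.1.isPrime
  obtain ⟨g₀, hg₀, Q₀, hQ₀⟩ := hQ
  have hQp : IsPGroup p Q := by
    rw [hQ₀]
    exact Q₀.isPGroup'.map _
  have hcard : Nat.card Q = p ^ Cfsg.blockDefect p (Cfsg.blockOf M (ξ₀ : G → ℂ)) := by
    rw [hQ₀]
    exact Cfsg.Agent.S0908.defect_card p M hM ξ₀ g₀ hg₀ Q₀
  obtain ⟨ψ, hψ, hker⟩ := h7_dominance hM Q hQp ξ₀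
  obtain ⟨φ, hφ⟩ := h7_deflate Q ψ hker
  intro hdvd
  have hdeg : Cfsg.charDegree (φ : G ⧸ Q → ℂ) = Cfsg.charDegree (ψ : G → ℂ) := by
    unfold Cfsg.charDegree
    rw [← hφ 1]
    rfl
  have hzero : ¬ p ∣ Nat.card (G ⧸ Q) / Cfsg.charDegree (φ : G ⧸ Q → ℂ) := by
    rw [← Cfsg.Agent.S0931.full_iff_not_dvd, hdeg]
    have h1 : sInf ((fun χ : Cfsg.IrrCharacter G =>
        (Cfsg.charDegree (χ : G → ℂ)).factorization p) '' Cfsg.blockOf M (ξ₀ : G → ℂ)) ≤
        (Cfsg.charDegree (ψ : G → ℂ)).factorization p := Nat.sInf_le ⟨ψ, hψ, rfl⟩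
    have h2 : Nat.card G = Nat.card (G ⧸ Q) * Nat.card Q :=
      Subgroup.card_eq_card_quotient_mul_card_subgroup Q
    have h3 : (Nat.card G).factorization p = (Nat.card (G ⧸ Q)).factorization p +
        Cfsg.blockDefect p (Cfsg.blockOf M (ξ₀ : G → ℂ)) := by
      rw [h2, Nat.factorization_mul Nat.card_pos.ne' Nat.card_pos.ne', hcard, Finsupp.add_apply,
        Nat.Prime.factorization_pow hp.out, Finsupp.single_eq_same]
    unfold Cfsg.blockDefect at h3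
    omega
  have hvan := h7_defect_zero_vanish hM φ hzero (QuotientGroup.mk y) hdvd
  rw [hφ y] at hvan
  apply hy
  have hsame : Cfsg.MemLocalIdeal M (Cfsg.centralChar (ξ₀ : G → ℂ) y -
      Cfsg.centralChar (ψ : G → ℂ) y) := hψ y
  have h0 : Cfsg.centralChar (ψ : G → ℂ) y = 0 := by
    unfold Cfsg.centralChar
    rw [hvan, mul_zero, zero_div]
  rw [h0, sub_zero] at hsame
  exact hsame

end Cfsg.Agent.Lib.helper7
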