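import Mathlib
import Cfsg.Prelude.Def_Blocks
import Cfsg.Agent.Lib.helper7.BlockFirstMain
import Cfsg.Agent.Lib.helper7.BlockNormalDefect

set_option autoImplicit false
set_option linter.style.haveILetI false
set_option linter.unusedSectionVars false
set_option linter.unusedVariables false

namespace Cfsg.Agent.Lib.helper7

open scoped ComplexConjugate
open Cfsg.Agent.Lib.Helper25 Cfsg.Agent.Lib.Helper11 Cfsg.Agent.Lib.helper2

variable {G : Type*} [Group G]

theorem h7_isPPart_pow {p : ℕ} (hp : p.Prime) {x z : G} (h : Cfsg.IsPPart p x z) :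
    ∃ n : ℕ, z = x ^ n := by
  obtain ⟨y', hzy, hcomm, ⟨k, hk⟩, hy'⟩ := h
  have hcop : Nat.Coprime (p ^ k) (orderOf y') :=
    Nat.Coprime.pow_left k ((Nat.Prime.coprime_iff_not_dvd hp).mpr hy')
  obtain ⟨e', he'2, he'0⟩ := Nat.chineseRemainder hcop 1 0
  have he'1 : orderOf y' ∣ e' := (Nat.modEq_zero_iff_dvd).mp he'0
  refine ⟨e', ?_⟩
  rw [← hzy, hcomm.mul_pow, orderOf_dvd_iff_pow_eq_one.mp he'1, mul_one]
  have : z ^ e' = z ^ 1 := by
    rw [pow_eq_pow_iff_modEq, hk]
    exact he'2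
  rw [this, pow_one]

theorem h7_central_char_class_meets [Fintype G] [Fintype (Cfsg.IrrCharacter G)] {p : ℕ}
    [hp : Fact p.Prime] {M : Ideal Cfsg.AlgInt} (hM : Cfsg.IsPModular p M) (P : Subgroup G)
    (B : Set (Cfsg.IrrCharacter G)) (hB : Cfsg.IsPBlock M B) (hP : Cfsg.IsDefectGroup p M B P)
    (g : G) (hg : ∃ χ ∈ B, ¬ Cfsg.MemLocalIdeal M (Cfsg.centralChar (χ : G → ℂ) g)) :
    ∃ y : Subgroup.normalizer (P : Set G), IsConj g (y : G) ∧
      (y : G) ∈ Subgroup.centralizer (P : Set G) ∧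
      ¬ p ∣ orderOf (QuotientGroup.mk y :
        Subgroup.normalizer (P : Set G) ⧸ P.subgroupOf (Subgroup.normalizer (P : Set G))) := by
  classical
  haveI : Fintype (Subgroup.normalizer (P : Set G)) := Fintype.ofFinite _
  haveI : Fintype (Cfsg.IrrCharacter (Subgroup.normalizer (P : Set G))) := Fintype.ofFinite _
  haveI : Fintype (ConjClasses (Subgroup.normalizer (P : Set G))) := Fintype.ofFinite _
  have hPr := hM.2.1.isPrime
  have hPN : P ≤ Subgroup.normalizer (P : Set G) := Subgroup.le_normalizer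
  have hPp : IsPGroup p P := by
    obtain ⟨g₀, hg₀, Q₀, rfl⟩ := hP
    exact Q₀.isPGroup'.map _
  obtain ⟨b, hb1, hb2, hb3⟩ := h7_first_main_exists hM P hPp B hB hP
  obtain ⟨ξ₀, rfl⟩ := hb1
  have hξ₀b : ξ₀ ∈ Cfsg.blockOf M (ξ₀ : Subgroup.normalizer (P : Set G) → ℂ) :=
    h7_sameBlock_refl hPr _
  obtain ⟨χ, hχ, hχg⟩ := hg
  have h1 := hb3.2.2 ξ₀ hξ₀b χ hχ g
  have h2 := h7_icc_sub_bcc hM P (Subgroup.normalizer (P : Set G)) hPp hPN le_rfl ξ₀ g
  have h3 : ¬ Cfsg.MemLocalIdeal M (Cfsg.brauerCentralChar P (Subgroup.normalizer (P : Set G))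
      (ξ₀ : Subgroup.normalizer (P : Set G) → ℂ) g) := by
    intro h
    apply hχg
    have e : Cfsg.centralChar (χ : G → ℂ) g =
        Cfsg.brauerCentralChar P (Subgroup.normalizer (P : Set G))
          (ξ₀ : Subgroup.normalizer (P : Set G) → ℂ) g +
        (Cfsg.inducedCentralChar (Subgroup.normalizer (P : Set G))
          (ξ₀ : Subgroup.normalizer (P : Set G) → ℂ) g -
          Cfsg.brauerCentralChar P (Subgroup.normalizer (P : Set G))
          (ξ₀ : Subgroup.normalizer (P : Set G) → ℂ) g) -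
        (Cfsg.inducedCentralChar (Subgroup.normalizer (P : Set G))
          (ξ₀ : Subgroup.normalizer (P : Set G) → ℂ) g - Cfsg.centralChar (χ : G → ℂ) g) := by
      ring
    rw [e]
    exact h7_memLocalIdeal_sub hPr (h7_memLocalIdeal_add hPr h h2) h1
  rw [h7_bcc_expand P (Subgroup.normalizer (P : Set G)) le_rfl ξ₀ g] at h3
  obtain ⟨L, hL⟩ : ∃ L : ConjClasses (Subgroup.normalizer (P : Set G)),
      ¬ Cfsg.MemLocalIdeal M ((if IsConj g ((Quotient.out L : Subgroup.normalizer (P : Set G)) : G) ∧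
          ((Quotient.out L : Subgroup.normalizer (P : Set G)) : G) ∈
            Subgroup.centralizer (P : Set G) then (1 : ℂ) else 0) *
        Cfsg.centralChar (ξ₀ : Subgroup.normalizer (P : Set G) → ℂ) (Quotient.out L)) := by
    by_contra hall
    push Not at hall
    exact h3 (h7_memLocalIdeal_sum hPr _ _ (fun L _ => hall L))
  by_cases hcond : IsConj g ((Quotient.out L : Subgroup.normalizer (P : Set G)) : G) ∧
      ((Quotient.out L : Subgroup.normalizer (P : Set G)) : G) ∈ Subgroup.centralizer (P : Set G)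
  · rw [if_pos hcond, one_mul] at hL
    haveI : (P.subgroupOf (Subgroup.normalizer (P : Set G))).Normal :=
      Subgroup.normal_in_normalizer
    exact ⟨Quotient.out L, hcond.1, hcond.2,
      h7_normal_defect_pregular hM (P.subgroupOf (Subgroup.normalizer (P : Set G))) ξ₀ hb2 _ hL⟩
  · rw [if_neg hcond, zero_mul] at hL
    exact absurd (h7_memLocalIdeal_zero hPr) hL

end Cfsg.Agent.Lib.helper7
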