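import Cfsg.Agent.Lib.Helper10.C3E.Defs

/-!
# Project S5975 (C3E), row DERR (helper7): core `c3ederr_core` = `c3e_der_odd` with the instances of the rows
COUNT, CASES, RNG, ORDS, SEMI for this `g` as hypotheses.
-/

set_option autoImplicit false

namespace Cfsg.Agent.Lib.Helper10.C3E

open Module

variable {F K V : Type*} [Field F] [Field K] [Algebra F K] [AddCommGroup V] [Module F V] [Module K V]
  [IsScalarTower F K V]

/-- `r ∣ q ^ n - 1` gives `orderOf (q : ZMod r) ∣ n`. -/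
theorem c3ederr_order_dvd (q r n : ℕ) (hq : 1 ≤ q) (h : r ∣ q ^ n - 1) :
    orderOf ((q : ℕ) : ZMod r) ∣ n := by
  rw [orderOf_dvd_iff_pow_eq_one]
  have h1 : 1 ≤ q ^ n := Nat.one_le_pow _ _ hq
  have h2 : ((q ^ n - 1 : ℕ) : ZMod r) = 0 := (ZMod.natCast_eq_zero_iff _ _).2 h
  rw [Nat.cast_sub h1, Nat.cast_pow, Nat.cast_one, sub_eq_zero] at h2
  exact h2

/-- `lcm 2 (ord_r q) ∣ r - 1` for an odd prime `r ∤ q`. -/
theorem c3ederr_lcm_dvd (q r : ℕ) [Fact r.Prime] (hr2 : r ≠ 2) (hrq : ¬ r ∣ q) :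
    Nat.lcm 2 (orderOf ((q : ℕ) : ZMod r)) ∣ r - 1 := by
  have hr : r.Prime := Fact.out
  apply Nat.lcm_dvd
  · rcases hr.eq_two_or_odd with h | h
    · exact absurd h hr2
    · omega
  · rw [orderOf_dvd_iff_pow_eq_one]
    apply ZMod.pow_card_sub_one_eq_one
    rw [Ne, ZMod.natCast_eq_zero_iff]
    exact hrq

/-- `rk g 1 = 0` forces `g = 1`. -/
theorem c3ederr_rk_pos [FiniteDimensional F V] (g : V ≃ₗ[F] V) (hg1 : g ≠ 1) : 0 < rk g 1 := by
  rw [Nat.pos_iff_ne_zero]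
  intro h0
  apply hg1
  rw [rk, Submodule.finrank_eq_zero, LinearMap.range_eq_bot] at h0
  ext x
  have := LinearMap.congr_fun h0 x
  rw [LinearMap.sub_apply, LinearMap.smul_apply, LinearMap.id_apply, one_smul, LinearMap.zero_apply,
    sub_eq_zero] at this
  exact this

theorem c3ederr_core [Fintype F] [FiniteDimensional F V]
    {r : ℕ} [Fact r.Prime] (hr2 : r ≠ 2) (hrq : ¬ r ∣ Fintype.card F)
    {d i : ℕ} (hV : finrank F V = 2 * d) (hd : 1 ≤ d) (hkd : finrank F K ∣ d) (hi : ¬ finrank F K ∣ i)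
    (hri : r ∣ Fintype.card F ^ (2 * i) - 1)
    (g : V ≃ₗ[F] V) (hg1 : g ≠ 1)
    (hrk : rk g 1 ≤ Nat.lcm 2 (orderOf ((Fintype.card F : ℕ) : ZMod r)))
    (hcount : r ∣ Fintype.card F ^ rk g 1 - 1)
    (hcases : Lin K g ∨ ∃ σ : K ≃ₐ[F] K, σ ≠ 1 ∧ ∀ (a : K) (x : V), g (a • x) = σ a • g x)
    (hrng : Lin K g → 2 * finrank F K ∣ rk g 1)
    (hords : ∀ σ : K ≃ₐ[F] K, σ ≠ 1 → (∀ (a : K) (x : V), g (a • x) = σ a • g x) → r = finrank F K)
    (hsemi : ∀ σ : K → K, (∀ (a : K) (x : V), g (a • x) = σ a • g x) → ∀ a : K, σ a ≠ a →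
      2 * finrank F (fixc g 1) ≤ finrank F V) : False := by
  have hr : r.Prime := Fact.out
  have hq1 : 1 ≤ Fintype.card F := Fintype.card_pos
  have hρpos := c3ederr_rk_pos g hg1
  have hoρ : orderOf ((Fintype.card F : ℕ) : ZMod r) ∣ rk g 1 :=
    c3ederr_order_dvd _ r _ hq1 hcount
  have ho2i : orderOf ((Fintype.card F : ℕ) : ZMod r) ∣ 2 * i := c3ederr_order_dvd _ r _ hq1 hri
  have hcr : Nat.lcm 2 (orderOf ((Fintype.card F : ℕ) : ZMod r)) ∣ r - 1 := c3ederr_lcm_dvd _ r hr2 hrq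
  have hr1 : 0 < r - 1 := by have := hr.two_le; omega
  have hcle : Nat.lcm 2 (orderOf ((Fintype.card F : ℕ) : ZMod r)) ≤ r - 1 := Nat.le_of_dvd hr1 hcr
  rcases hcases with hL | ⟨σ, hσ1, hσ⟩
  · -- K-linear
    have h2k : 2 * finrank F K ∣ rk g 1 := hrng hL
    have h2ρ : 2 ∣ rk g 1 := (dvd_mul_right 2 _).trans h2k
    have hcρ : Nat.lcm 2 (orderOf ((Fintype.card F : ℕ) : ZMod r)) ∣ rk g 1 := Nat.lcm_dvd h2ρ hoρ
    have hρc : rk g 1 = Nat.lcm 2 (orderOf ((Fintype.card F : ℕ) : ZMod r)) :=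
      Nat.le_antisymm hrk (Nat.le_of_dvd hρpos hcρ)
    have hc2i : Nat.lcm 2 (orderOf ((Fintype.card F : ℕ) : ZMod r)) ∣ 2 * i :=
      Nat.lcm_dvd (dvd_mul_right 2 i) ho2i
    have : 2 * finrank F K ∣ 2 * i := by
      rw [hρc] at h2k
      exact h2k.trans hc2i
    exact hi ((Nat.mul_dvd_mul_iff_left (by norm_num)).1 this)
  · -- semilinear
    have hrk' : r = finrank F K := hords σ hσ1 hσ
    obtain ⟨a, ha⟩ : ∃ a : K, σ a ≠ a := by
      by_contra hcon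
      push Not at hcon
      apply hσ1
      ext a
      exact hcon a
    have hsemi : 2 * finrank F (fixc g 1) ≤ finrank F V :=
      hsemi (fun a => σ a) hσ a ha
    have hrn := LinearMap.finrank_range_add_finrank_ker ((g : V →ₗ[F] V) - (1 : F) • LinearMap.id)
    have hkd' : finrank F K ≤ d := Nat.le_of_dvd hd hkd
    have hfix : fixc g 1 = LinearMap.ker ((g : V →ₗ[F] V) - (1 : F) • LinearMap.id) := rfl
    have hrkdef : rk g 1 = finrank F (LinearMap.range ((g : V →ₗ[F] V) - (1 : F) • LinearMap.id)) := rfl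
    rw [hfix] at hsemi
    omega

end Cfsg.Agent.Lib.Helper10.C3E
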