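import Mathlib
import Cfsg.Agent.Lib.helper3.C6U.Defs
import Cfsg.Agent.Lib.helper7.C6PWCZcore

/-!
# Project C6U (S6001), helper7: general facts on `gram` / `IsU` used by rows B4, W2, W3, W4.
-/

set_option autoImplicit false
set_option linter.unusedVariables false
set_option linter.unusedSectionVars false
set_option linter.unusedSimpArgs false
set_option linter.unreachableTactic false
set_option linter.unusedTactic false

namespace Cfsg.Agent.Lib.helper3.C6U

open Polynomial Matrix
open Cfsg.Agent.Lib.Helper10.C6P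

variable {F : Type*} [Field F]

section fin

variable {p : ℕ} [Fact p.Prime] [CharP F p]

theorem c6uw_map_frob (B : M4 F) : B.map (fun a => a ^ p) = B.map (frobenius F p) := rfl

theorem c6uw_map_mul (A B : M4 F) :
    (A * B).map (fun a => a ^ p) = A.map (fun a => a ^ p) * B.map (fun a => a ^ p) := by
  rw [c6uw_map_frob, c6uw_map_frob, c6uw_map_frob, Matrix.map_mul]

theorem c6uw_map_one : (1 : M4 F).map (fun a => a ^ p) = 1 := by
  rw [c6uw_map_frob, Matrix.map_one _ (map_zero _) (map_one _)]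

theorem c6uw_map_smul (c : F) (B : M4 F) :
    (c • B).map (fun a => a ^ p) = (c ^ p) • B.map (fun a => a ^ p) := by
  ext a b
  simp [Matrix.map_apply, Matrix.smul_apply, mul_pow]

theorem c6uw_gram_mul (A B : M4 F) :
    gram p (A * B) = B.transpose * gram p A * B.map (fun a => a ^ p) := by
  unfold gram
  rw [c6uw_map_mul, Matrix.transpose_mul]
  simp only [Matrix.mul_assoc]

theorem c6uw_gram_smul (c : F) (B : M4 F) : gram p (c • B) = (c * c ^ p) • gram p B := by
  unfold gram
  rw [c6uw_map_smul, Matrix.transpose_smul, Matrix.smul_mul, Matrix.mul_smul, smul_smul]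

theorem c6uw_isU_one : IsU p (1 : M4 F) := by
  unfold IsU gram
  rw [c6uw_map_one, Matrix.transpose_one, Matrix.mul_one]

theorem c6uw_isU_mul {A B : M4 F} (hA : IsU p A) (hB : IsU p B) : IsU p (A * B) := by
  unfold IsU at *
  rw [c6uw_gram_mul, hA, Matrix.mul_one]
  exact hB

theorem c6uw_isU_pow {A : M4 F} (hA : IsU p A) (n : ℕ) : IsU p (A ^ n) := by
  induction n with
  | zero => rw [pow_zero]; exact c6uw_isU_one
  | succ k ih => rw [pow_succ]; exact c6uw_isU_mul ih hA

theorem c6uw_isU_smul {A : M4 F} (hA : IsU p A) (c : F) (hc : c * c ^ p = 1) : IsU p (c • A) := by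
  unfold IsU at *
  rw [c6uw_gram_smul, hA, hc, one_smul]

/-- the Frobenius fixes the natural numbers -/
theorem c6uw_nat_pow (n : ℕ) : ((n : F)) ^ p = (n : F) := by
  rw [← frobenius_def, map_natCast]

theorem c6uw_two_pow : ((2 : F)) ^ p = (2 : F) := by
  have := c6uw_nat_pow (F := F) (p := p) 2
  simpa using this

theorem c6uw_four_pow : ((4 : F)) ^ p = (4 : F) := by
  have := c6uw_nat_pow (F := F) (p := p) 4
  simpa using this

/-- a matrix with entries fixed by the Frobenius -/
theorem c6uw_map_fixed (B : M4 F) (h : ∀ a b, B a b ^ p = B a b) : B.map (fun a => a ^ p) = B := by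
  ext a b
  simp [Matrix.map_apply, h a b]

theorem c6uw_neg_one_pow : ((-1 : F)) ^ p = (-1 : F) := by
  rw [← frobenius_def, map_neg, map_one]

theorem c6uw_zero_pow : ((0 : F)) ^ p = (0 : F) := by
  rw [← frobenius_def, map_zero]

theorem c6uw_one_pow : ((1 : F)) ^ p = (1 : F) := one_pow p

theorem c6uw_pD1_map : (pD1 : M4 F).map (fun a => a ^ p) = pD1 := by
  apply c6uw_map_fixed
  intro a b
  rw [c6pw_D1_eq]
  fin_cases a <;> fin_cases b <;> simp [c6uw_neg_one_pow, c6uw_zero_pow]

theorem c6uw_pD2_map : (pD2 : M4 F).map (fun a => a ^ p) = pD2 := by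
  apply c6uw_map_fixed
  intro a b
  rw [c6pw_D2_eq]
  fin_cases a <;> fin_cases b <;> simp [c6uw_neg_one_pow, c6uw_zero_pow]

theorem c6uw_pX1_map : (pX1 : M4 F).map (fun a => a ^ p) = pX1 := by
  apply c6uw_map_fixed
  intro a b
  fin_cases a <;> fin_cases b <;> simp [pX1, c6uw_neg_one_pow, c6uw_zero_pow]

theorem c6uw_pX2_map : (pX2 : M4 F).map (fun a => a ^ p) = pX2 := by
  apply c6uw_map_fixed
  intro a b
  fin_cases a <;> fin_cases b <;> simp [pX2, c6uw_neg_one_pow, c6uw_zero_pow]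

theorem c6uw_isU_pD1 : IsU p (pD1 : M4 F) := by
  unfold IsU gram
  rw [c6uw_pD1_map, c6pw_D1_eq]
  ext a b
  fin_cases a <;> fin_cases b <;> simp [Matrix.mul_apply, Fin.sum_univ_four, Matrix.one_apply]

theorem c6uw_isU_pD2 : IsU p (pD2 : M4 F) := by
  unfold IsU gram
  rw [c6uw_pD2_map, c6pw_D2_eq]
  ext a b
  fin_cases a <;> fin_cases b <;> simp [Matrix.mul_apply, Fin.sum_univ_four, Matrix.one_apply]

theorem c6uw_isU_pX1 : IsU p (pX1 : M4 F) := by
  unfold IsU gram
  rw [c6uw_pX1_map]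
  ext a b
  fin_cases a <;> fin_cases b <;> simp [pX1, Matrix.mul_apply, Fin.sum_univ_four, Matrix.one_apply]

theorem c6uw_isU_pX2 : IsU p (pX2 : M4 F) := by
  unfold IsU gram
  rw [c6uw_pX2_map]
  ext a b
  fin_cases a <;> fin_cases b <;> simp [pX2, Matrix.mul_apply, Fin.sum_univ_four, Matrix.one_apply]

/-- `i` has norm one -/
theorem c6uw_i_norm (i : F) (hi : i * i = -1) (hip : i ^ p = -i) : i * i ^ p = 1 := by
  rw [hip, mul_neg, hi, neg_neg]

theorem c6uw_pow_norm (c : F) (hc : c * c ^ p = 1) (a : ℕ) : c ^ a * (c ^ a) ^ p = 1 := by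
  rw [← pow_mul, mul_comm a p, pow_mul, ← mul_pow, hc, one_pow]

/-- B4 core: Pauli words are unitary. -/
theorem c6uw_pauli_unitary (i : F) (hi : i * i = -1) (hip : i ^ p = -i) (a b c d e : ℕ) :
    IsU p (pauliM i a b c d e) := by
  unfold pauliM
  apply c6uw_isU_smul _ _ (c6uw_pow_norm i (c6uw_i_norm i hi hip) a)
  exact c6uw_isU_mul (c6uw_isU_mul (c6uw_isU_mul (c6uw_isU_pow c6uw_isU_pD1 b)
    (c6uw_isU_pow c6uw_isU_pX1 c)) (c6uw_isU_pow c6uw_isU_pD2 d)) (c6uw_isU_pow c6uw_isU_pX2 e)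

end fin

end Cfsg.Agent.Lib.helper3.C6U
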