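import Mathlib
import Cfsg.Agent.Lib.helper3.C6U.Defs
import Cfsg.Agent.Lib.helper7.C6UWcore

/-!
# Project C6U (S6001), row B4: spare copy of `pauli_unitary` under the prefixed name `c6ub4_h7_pauli_unitary` (the verbatim row is Helper25.C6UB4).  (helper7)
-/

set_option autoImplicit false
set_option linter.unusedVariables false
set_option linter.unusedSectionVars false

namespace Cfsg.Agent.Lib.helper3.C6U

open Polynomial Matrix
open Cfsg.Agent.Lib.Helper10.C6P
open scoped MatrixGroups

variable {F : Type*} [Field F]

section fin

variable [Fintype F] {p : ℕ} [Fact p.Prime] [CharP F p]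

/-- B4 [S-M] : Pauli words are unitary. -/
theorem c6ub4_h7_pauli_unitary (i : F) (hi : i * i = -1) (hip : i ^ p = -i) (a b c d e : ℕ) : IsU p (pauliM i a b c d e) :=
  c6uw_pauli_unitary i hi hip a b c d e

end fin

end Cfsg.Agent.Lib.helper3.C6U
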