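import Mathlib
import Cfsg.Agent.Lib.helper7.CEC.Defs
import Cfsg.Agent.Lib.Helper24.STCI1

/-! Project CEC (designer helper7; S2092), row L12 (`xF_ssl`), core on the statements of L9 L10 L11, by helper7. -/

set_option autoImplicit false

namespace Cfsg.Agent.Lib.helper7.CEC

open Cfsg.Agent.Lib.helper15.St2 Cfsg.Agent.Lib.helper7.Ce Cfsg.Agent.Lib.helper3.STC

section L

variable {K : Type*} [Field K] {ι : Type*} {Γ G : Type*} [Group Γ] [Group G] {S : SysC K ι G} {σ : Γ →* G} {h : IsCE σ}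

/-- cancellation in a group: the key step of `xF_ssl` -/
theorem cecl12_cancel {P₁ P₂ Λ₁ Λ₁₂ Λ₂ C B : Γ}
    (h1 : P₁ * P₂ * (Λ₁ * Λ₁₂ * Λ₂) = P₁ * Λ₁ * (B * (P₂ * Λ₂) * B⁻¹))
    (hB2 : B * Λ₂ = Λ₂ * B) (hC : B * P₂ * B⁻¹ * P₂⁻¹ = C)
    (hΛ₁C : Λ₁ * C = C * Λ₁) (hΛ₁P₂ : Λ₁ * P₂ = P₂ * Λ₁) (hCP₂ : C * P₂ = P₂ * C) : Λ₁₂ = C := by
  have e1 : B * (P₂ * Λ₂) * B⁻¹ = C * P₂ * Λ₂ := by
    have : B * (P₂ * Λ₂) * B⁻¹ = (B * P₂ * B⁻¹ * P₂⁻¹) * P₂ * (B * Λ₂ * B⁻¹) := by group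
    rw [this, hC, hB2, mul_inv_cancel_right]
  rw [e1] at h1
  have e2 : P₁ * Λ₁ * (C * P₂ * Λ₂) = P₁ * P₂ * (Λ₁ * C * Λ₂) := by
    have : P₁ * Λ₁ * (C * P₂ * Λ₂) = P₁ * (Λ₁ * C * P₂) * Λ₂ := by group
    rw [this, hΛ₁C, mul_assoc C, hΛ₁P₂, ← mul_assoc C, hCP₂]
    group
  rw [e2] at h1
  have e3 := mul_left_cancel h1
  have e4 := mul_right_cancel e3
  exact mul_left_cancel e4

/-- L12 core: `hls`, `hmap`, `hadd` are the statements of `xF_ls` (L11), `xF_map` (L10), `Xl_add` (L9). -/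
theorem xF_ssl_core [DecidableEq ι] (hC : HC S σ) (L : ShortLift S h) (h2 : I2 ι)
    (hls : ∀ {a b : ι ⊕ ι}, ab a ≠ ab b → ∀ t u : K,
      cm (xF L h2 a (ng a) t) (xF L h2 (ng a) b u) = xF L h2 a b (t * u) * xF L h2 (ng b) b (sg a * sg b * t * u ^ 2))
    (hmap : ∀ (a b : ι ⊕ ι) (t : K), σ (xF L h2 a b t) = S.x a b t)
    (hadd : ∀ (b : ι ⊕ ι) (s s' : K), Xl L h2 b (s + s') = Xl L h2 b s * Xl L h2 b s')
    {a b : ι ⊕ ι} (hab : ab a ≠ ab b) (t u : K) :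
    cm (xF L h2 a b t) (xF L h2 b (ng a) u) = xF L h2 a (ng a) (2 * t * u) := by
  classical
  have hne : a ≠ b ∧ a ≠ ng b := by
    constructor
    · rintro rfl; exact hab rfl
    · rintro e; apply hab; rw [e, ab_ng]
  obtain ⟨hab1, hab2⟩ := hne
  have hbna : ab b ≠ ab (ng a) := by rw [ab_ng]; exact hab.symm
  have hnbna : ab (ng b) ≠ ab (ng a) := by rw [ab_ng, ab_ng]; exact hab.symm
  -- unfold the relevant values of `xF`
  have x_short : ∀ {c d : ι ⊕ ι}, ab c ≠ ab d → ∀ s, xF L h2 c d s = L.X c d s := by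
    intro c d hcd s
    have h1 : c ≠ d := by rintro rfl; exact hcd rfl
    have h2' : d ≠ ng c := by rintro e; apply hcd; rw [e, ab_ng]
    unfold xF
    rw [if_neg h1, if_neg h2']
  have x_long : ∀ (c : ι ⊕ ι) (s : K), xF L h2 c (ng c) s = Xl L h2 (ng c) s := by
    intro c s
    unfold xF
    rw [if_neg (ne_ng c), if_pos rfl]
  set ε : K := sg a * sg b with hε
  have hεε : ε * ε = 1 := by
    rw [hε]
    have h1 : (sg a : K) * sg b * (sg a * sg b) = (sg a * sg a) * (sg b * sg b) := by ring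
    rw [h1, sg_mul_self, sg_mul_self, one_mul]
  -- the relation `ls` for the pair `(b, ng a)` with `t = 1`
  have key : ∀ U : K, cm (xF L h2 b (ng b) 1) (L.X (ng b) (ng a) U) =
      L.X b (ng a) U * Xl L h2 (ng a) (-(ε * U ^ 2)) := by
    intro U
    have := hls hbna 1 U
    rw [x_short hnbna, x_short hbna, ng_ng, x_long a, one_mul] at this
    rw [this]
    congr 2
    rw [sg_ng, hε]; ring
  set U₁ : K := -(ε * t) with hU₁
  set A := xF L h2 b (ng b) 1 with hA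
  set B := L.X (ng b) (ng a) U₁ with hB
  set P₁ := L.X b (ng a) U₁ with hP₁
  set P₂ := L.X b (ng a) u with hP₂
  set Λ₁ := Xl L h2 (ng a) (-(ε * U₁ ^ 2)) with hΛ₁
  set Λ₂ := Xl L h2 (ng a) (-(ε * u ^ 2)) with hΛ₂
  set Λ₁₂ := Xl L h2 (ng a) (2 * t * u) with hΛ₁₂
  have sB : σ B = S.x (ng b) (ng a) U₁ := L.map _ _ hnbna _
  have sP₂ : σ P₂ = S.x b (ng a) u := L.map _ _ hbna _
  have sΛ : ∀ s, σ (Xl L h2 (ng a) s) = S.x a (ng a) s := by
    intro s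
    rw [← x_long a, hmap]
  -- the expansion at `U₁ + u`
  have h1 : P₁ * P₂ * (Λ₁ * Λ₁₂ * Λ₂) = P₁ * Λ₁ * (B * (P₂ * Λ₂) * B⁻¹) := by
    have e1 := key (U₁ + u)
    rw [L.add _ _ hnbna, cm_mul_right, key U₁, key u, L.add _ _ hbna] at e1
    have e2 : -(ε * (U₁ + u) ^ 2) = -(ε * U₁ ^ 2) + 2 * t * u + -(ε * u ^ 2) := by
      have : ε * (U₁ + u) ^ 2 = ε * U₁ ^ 2 + 2 * (ε * U₁) * u + ε * u ^ 2 := by ring
      rw [this, hU₁]
      have : ε * -(ε * t) = -t := by rw [mul_neg, ← mul_assoc, hεε, one_mul]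
      rw [this]; ring
    rw [e2, hadd, hadd] at e1
    exact e1.symm
  -- commutations
  have cBΛ : ∀ s, B * Xl L h2 (ng a) s = Xl L h2 (ng a) s * B := by
    intro s
    refine hC (ng b) (ng a) a (ng a) ?_ (ne_ng a) ?_ ?_ ?_ ?_ U₁ s B _ sB (sΛ s)
    · exact fun e => hab1 (ng_inj.1 e).symm
    · exact ng_ne a
    · exact fun e => hab1 (ng_inj.1 e).symm
    · rw [ng_ng]; exact ng_ne a
    · exact fun e => hab1 (ng_inj.1 e).symm
  have cΛP : ∀ (z : Γ) (s s' : K), σ z = S.x a (ng a) s → z * L.X b (ng a) s' = L.X b (ng a) s' * z := by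
    intro z s s' hz
    refine hC a (ng a) b (ng a) (ne_ng a) ?_ ?_ (ne_ng a) ?_ ?_ s s' _ _ hz (L.map _ _ hbna _)
    · exact fun e => hab2 (by rw [e, ng_ng])
    · exact fun e => hab2 (by rw [← e, ng_ng])
    · rw [ng_ng]; exact ng_ne a
    · exact hab2
  have cΛΛ : ∀ (s s' : K) (z : Γ), σ z = S.x a (ng a) s' → Xl L h2 (ng a) s * z = z * Xl L h2 (ng a) s := by
    intro s s' z hz
    refine hC a (ng a) a (ng a) (ne_ng a) (ne_ng a) (ng_ne a) (ne_ng a) ?_ ?_ s s' _ z (sΛ s) hz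
    · rw [ng_ng]; exact ng_ne a
    · exact ne_ng a
  -- the commutator `C`
  set C := B * P₂ * B⁻¹ * P₂⁻¹ with hCdef
  have sC : σ C = S.x a (ng a) (2 * (-(ε * U₁)) * u) := by
    rw [hCdef, map_mul, map_mul, map_mul, map_inv, map_inv, sB, sP₂]
    have e1 : S.x (ng b) (ng a) U₁ = S.x a b (-(ε * U₁)) := by
      have := S.sym a b hab1 (-(ε * U₁))
      rw [this]
      congr 1
      have h3 : sg a * sg b * (ε * U₁) = U₁ := by
        rw [← mul_assoc, ← hε, hεε, one_mul]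
      rw [mul_neg, neg_neg, h3]
    rw [e1]
    exact S.ssl a b hab1 hab2 _ _
  have hfin : Λ₁₂ = C := cecl12_cancel h1 (cBΛ _) rfl (cΛΛ _ _ C sC) (cΛP _ _ _ (sΛ _)) (cΛP _ _ _ sC)
  rw [x_short hab, x_short hbna, x_long a, ← hΛ₁₂, hfin, hCdef, hB, hP₂]
  have e5 : L.X a b t = L.X (ng b) (ng a) U₁ := by
    rw [L.sym a b hab t, hU₁, hε]
  rw [e5]
  rfl

end L

end Cfsg.Agent.Lib.helper7.CEC
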