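import Mathlib
import Cfsg.Agent.Lib.helper7.CEC.Defs
import Cfsg.Agent.Lib.helper7.CECL12core
import Cfsg.Agent.Lib.helper4.CECL10
import Cfsg.Agent.Lib.helper4.CECL11core
import Cfsg.Agent.Lib.Helper13.CECL7
import Cfsg.Agent.Lib.helper8.CECL9

/-! Project CEC (designer helper7; S2092), row L12 (`xF_ssl`), VERBATIM, by helper7: `xF_ssl_core` on L9 (`Xl_add`, helper8), L10 (`xF_map`, helper4), L11 (`cecl11_core`, helper4, with L8 `Dl_eq_Xl`, helper13). -/

set_option autoImplicit false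

namespace Cfsg.Agent.Lib.helper7.CEC

open Cfsg.Agent.Lib.helper15.St2 Cfsg.Agent.Lib.helper7.Ce Cfsg.Agent.Lib.helper3.STC

section L

variable {K : Type*} [Field K] {ι : Type*} {Γ G : Type*} [Group Γ] [Group G] {S : SysC K ι G} {σ : Γ →* G} {h : IsCE σ}

/-- own-name copy of the statement of L11 `xF_ls` (helper4's core with helper13's L8) -/
theorem cecl12_xF_ls [DecidableEq ι] (hC : HC S σ) (hW : S.HW) (hH : S.HH) (L : ShortLift S h) (h2 : I2 ι) {a b : ι ⊕ ι} (hab : ab a ≠ ab b) (t u : K) :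
    cm (xF L h2 a (ng a) t) (xF L h2 (ng a) b u) = xF L h2 a b (t * u) * xF L h2 (ng b) b (sg a * sg b * t * u ^ 2) :=
  cecl11_core L h2 hab t u (Dl_eq_Xl hC hW hH L h2 hab t u)

theorem xF_ssl [DecidableEq ι] (hC : HC S σ) (hW : S.HW) (hH : S.HH) (L : ShortLift S h) (h2 : I2 ι) {a b : ι ⊕ ι} (hab : ab a ≠ ab b) (t u : K) :
    cm (xF L h2 a b t) (xF L h2 b (ng a) u) = xF L h2 a (ng a) (2 * t * u) :=
  xF_ssl_core hC L h2 (fun hab t u => cecl12_xF_ls hC hW hH L h2 hab t u) (xF_map L h2) (Xl_add hC L h2) hab t u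

end L

end Cfsg.Agent.Lib.helper7.CEC
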