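import Mathlib
import Cfsg.Agent.Lib.helper7.CEC.Defs
import Cfsg.Agent.Lib.Helper24.STCI1

/-! Project CEC (designer helper7; S2092), row L15 (`exists_sysC`), core on the statements of L9 L10 L11 L12 L13 L14, by helper7. -/

set_option autoImplicit false

namespace Cfsg.Agent.Lib.helper7.CEC

open Cfsg.Agent.Lib.helper15.St2 Cfsg.Agent.Lib.helper7.Ce Cfsg.Agent.Lib.helper3.STC

section L

variable {K : Type*} [Field K] {ι : Type*} {Γ G : Type*} [Group Γ] [Group G] {S : SysC K ι G} {σ : Γ →* G} {h : IsCE σ}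

theorem cecl15_ab_ne {a b : ι ⊕ ι} (h1 : a ≠ b) (h2 : a ≠ ng b) : ab a ≠ ab b := fun e => by
  rcases ab_eq_iff.1 e with e | e
  · exact h1 e
  · exact h2 e

theorem cecl15_xF_long [DecidableEq ι] (L : ShortLift S h) (h2 : I2 ι) (a : ι ⊕ ι) (t : K) :
    xF L h2 a (ng a) t = Xl L h2 (ng a) t := by
  unfold xF
  rw [if_neg (ne_ng a), if_pos rfl]

theorem cecl15_xF_short [DecidableEq ι] (L : ShortLift S h) (h2 : I2 ι) {a b : ι ⊕ ι} (h1 : a ≠ b) (hn : a ≠ ng b) (t : K) :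
    xF L h2 a b t = L.X a b t := by
  unfold xF
  rw [if_neg h1, if_neg (fun e => hn (by rw [e, ng_ng]))]

/-- L15 core: the hypotheses are the statements of `xF_map` (L10), `Xl_add` (L9), `xF_ssl` (L12), `xF_ls` (L11), `xF_rel_short` (L13), `xF_rel_long` (L14). -/
theorem exists_sysC_core [DecidableEq ι] (hC : HC S σ) (L : ShortLift S h) (h2 : I2 ι)
    (hmap : ∀ (a b : ι ⊕ ι) (t : K), σ (xF L h2 a b t) = S.x a b t)
    (hadd : ∀ (b : ι ⊕ ι) (s s' : K), Xl L h2 b (s + s') = Xl L h2 b s * Xl L h2 b s')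
    (hssl : ∀ {a b : ι ⊕ ι}, ab a ≠ ab b → ∀ t u : K,
      cm (xF L h2 a b t) (xF L h2 b (ng a) u) = xF L h2 a (ng a) (2 * t * u))
    (hls : ∀ {a b : ι ⊕ ι}, ab a ≠ ab b → ∀ t u : K,
      cm (xF L h2 a (ng a) t) (xF L h2 (ng a) b u) = xF L h2 a b (t * u) * xF L h2 (ng b) b (sg a * sg b * t * u ^ 2))
    (hrs : ∀ {a b : ι ⊕ ι}, ab a ≠ ab b → ∀ t u : K, t ≠ 0 →
      cj (xF L h2 a b t * xF L h2 b a (-t⁻¹) * xF L h2 a b t) (xF L h2 a b u) = xF L h2 b a (-(t⁻¹ ^ 2 * u)))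
    (hrl : ∀ (a : ι ⊕ ι) (t u : K), t ≠ 0 →
      cj (xF L h2 a (ng a) t * xF L h2 (ng a) a (-t⁻¹) * xF L h2 a (ng a) t) (xF L h2 a (ng a) u) = xF L h2 (ng a) a (-(t⁻¹ ^ 2 * u))) :
    ∃ P : SysC K ι Γ, ∀ a b t, σ (P.x a b t) = S.x a b t := by
  refine ⟨{ x := xF L h2, diag := ?_, sym := ?_, add := ?_, comm := ?_, comm3 := ?_, ssl := ?_, ls := ?_, rel := ?_ }, hmap⟩
  · intro a t
    unfold xF
    rw [if_pos rfl]
  · intro a b hab t
    by_cases hb : b = ng a
    · subst hb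
      rw [ng_ng, sg_ng]
      congr 1
      have := sg_mul_self (K := K) a
      linear_combination (-t) * this
    · have hn : a ≠ ng b := fun e => hb (by rw [e, ng_ng])
      rw [cecl15_xF_short L h2 hab hn, cecl15_xF_short L h2 (fun e => hab (ng_inj.1 e).symm) (by rw [ng_ng]; exact fun e => hb (ng_eq_iff.1 e))]
      exact L.sym a b (cecl15_ab_ne hab hn) t
  · intro a b hab t u
    by_cases hb : b = ng a
    · subst hb
      rw [cecl15_xF_long, cecl15_xF_long, cecl15_xF_long, hadd]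
    · have hn : a ≠ ng b := fun e => hb (by rw [e, ng_ng])
      rw [cecl15_xF_short L h2 hab hn, cecl15_xF_short L h2 hab hn, cecl15_xF_short L h2 hab hn]
      exact (L.add a b (cecl15_ab_ne hab hn) t u).symm
  · intro a b c d hab hcd hbc had hbd hac t u
    exact hC a b c d hab hcd hbc had hbd hac t u _ _ (hmap a b t) (hmap c d u)
  · intro a b c hab hab' hbc hbc' hac hac' t u
    rw [cecl15_xF_short L h2 hab hab', cecl15_xF_short L h2 hbc hbc', cecl15_xF_short L h2 hac hac']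
    exact L.c3 a b c (cecl15_ab_ne hab hab') (cecl15_ab_ne hbc hbc') (cecl15_ab_ne hac hac') t u
  · intro a b hab hab' t u
    exact hssl (cecl15_ab_ne hab hab') t u
  · intro a b hab hab' t u
    exact hls (cecl15_ab_ne hab hab') t u
  · intro a b hab t u ht
    by_cases hb : b = ng a
    · subst hb
      exact hrl a t u ht
    · have hn : a ≠ ng b := fun e => hb (by rw [e, ng_ng])
      exact hrs (cecl15_ab_ne hab hn) t u ht

end L

end Cfsg.Agent.Lib.helper7.CEC
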