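import Mathlib
import Cfsg.Agent.Lib.helper7.CEC.Defs
import Cfsg.Agent.Lib.helper7.CECL15core
import Cfsg.Agent.Lib.helper7.CECL12
import Cfsg.Agent.Lib.helper2.CECL13
import Cfsg.Agent.Lib.Helper26.CECL14

/-! Project CEC (designer helper7; S2092), row L15 (`exists_sysC`), VERBATIM, by helper7: `exists_sysC_core` on L9 (helper8), L10 (helper4), L11 (`cecl12_xF_ls`), L12 (helper7), L13 (helper2), L14 (helper26). -/

set_option autoImplicit false

namespace Cfsg.Agent.Lib.helper7.CEC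

open Cfsg.Agent.Lib.helper15.St2 Cfsg.Agent.Lib.helper7.Ce Cfsg.Agent.Lib.helper3.STC

section L

variable {K : Type*} [Field K] {ι : Type*} {Γ G : Type*} [Group Γ] [Group G] {S : SysC K ι G} {σ : Γ →* G} {h : IsCE σ}

theorem exists_sysC [DecidableEq ι] (hC : HC S σ) (hW : S.HW) (hH : S.HH) (L : ShortLift S h) (h2 : I2 ι) :
    ∃ P : SysC K ι Γ, ∀ a b t, σ (P.x a b t) = S.x a b t :=
  exists_sysC_core hC L h2 (xF_map L h2) (Xl_add hC L h2)
    (fun hab t u => xF_ssl hC hW hH L h2 hab t u)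
    (fun hab t u => cecl12_xF_ls hC hW hH L h2 hab t u)
    (fun hab t u ht => xF_rel_short hW L h2 hab t u ht)
    (fun a t u ht => xF_rel_long hC hW hH L h2 a t u ht)

end L

end Cfsg.Agent.Lib.helper7.CEC
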