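import Mathlib
import Cfsg.Agent.Lib.helper7.CEC.Defs
import Cfsg.Agent.Lib.Helper24.STCI1
import Cfsg.Agent.Lib.Helper22.STCF1
import Cfsg.Agent.Lib.Helper22.CECG1
import Cfsg.Agent.Lib.Helper9.CECT3
import Cfsg.Agent.Lib.Helper9.CECT4

/-!
# CEC T5 T6 T7 (spares under own names `cect567_*`, by helper7; exact Skel statements): long + short at 45 degrees, long + short orthogonal, two long roots
-/

set_option autoImplicit false

namespace Cfsg.Agent.Lib.helper7.CEC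

open Cfsg.Agent.Lib.helper15.St2 Cfsg.Agent.Lib.helper7.Ce Cfsg.Agent.Lib.helper3.STC

section T

variable {K : Type*} [Field K] {ι : Type*} {Γ G : Type*} [Group Γ] [Group G] {S : SysC K ι G} {σ : Γ →* G}

theorem cect567_dhl_ng [DecidableEq ι] (d : ι ⊕ ι) (v : K) : dhl d v (ng d) = v⁻¹ := by
  unfold dhl
  rw [if_neg (ng_ne d), if_pos rfl]

theorem cect567_ng_ne_of {a d : ι ⊕ ι} (h1 : a ≠ ng d) : ng a ≠ d := fun e => h1 (by rw [← e, ng_ng])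

theorem cect567_ng_ne_ng {a d : ι ⊕ ι} (h1 : a ≠ d) : ng a ≠ ng d := fun e => h1 (ng_inj.1 e)

/-- exact statement of T5 `t5_milnor` -/
theorem cect567_t5_milnor (h : IsCE σ) (h3 : I3 ι) :
    ∀ a d : ι ⊕ ι, ab a ≠ ab d → ∀ t u : K, CL σ (S.x a (ng a) t) (S.x a d u) := by
  intro a d had t u
  obtain ⟨e, hea, hed⟩ := h3 a d
  obtain ⟨ad1, ad2, da1, da2⟩ := cect3_ne had
  obtain ⟨ea1, ea2, ae1, ae2⟩ := cect3_ne hea
  obtain ⟨ed1, ed2, de1, de2⟩ := cect3_ne hed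
  apply CL.symm
  rw [cect3_cm (S := S) (Ne.symm hea) hed had u]
  apply h.milnor
  · exact S.comm a e a (ng a) ae1 (ne_ng a) ea1 (ne_ng a) (by rw [ng_ng]; exact ea1) (ne_ng a) u t
  · exact S.comm e d a (ng a) ed1 (ne_ng a) da1 ea2 (by rw [ng_ng]; exact da1) ea2 1 t

/-- exact statement of T5 `t5_torus` -/
theorem cect567_t5_torus [DecidableEq ι] (h : IsCE σ) (hH : S.HH) (v : K) (hv0 : v ≠ 0) (hv1 : v ≠ 1) :
    ∀ a d : ι ⊕ ι, ab a ≠ ab d → ∀ t u : K, CL σ (S.x a (ng a) t) (S.x a d u) := by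
  intro a d had t u
  obtain ⟨ad1, ad2, da1, da2⟩ := cect3_ne had
  have hg := SysC.HH.long S hH d v hv0
  apply cect4_CL_tor h (ne_ng a) ad1 (S.h d (ng d) v) (dhl d v) hg
  · rw [cect4_dhl_of_ne v ad1 ad2, cect4_dhl_of_ne v (cect567_ng_ne_of ad2) (cect567_ng_ne_ng ad1)]
    simp
  · rw [cect4_dhl_of_ne v ad1 ad2, cect4_dhl_self, one_mul]
    intro hv
    apply hv1
    rw [← inv_inv v, hv, inv_one]
  · intro t u
    exact S.comm a (ng a) a d (ne_ng a) ad1 (ng_ne a) ad1 (cect567_ng_ne_ng ad1) (ne_ng a) t u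

/-- exact statement of T6 `t6_milnor` -/
theorem cect567_t6_milnor (h : IsCE σ) (h4 : I4 ι) :
    ∀ a c d : ι ⊕ ι, ab c ≠ ab d → ab a ≠ ab c → ab a ≠ ab d → ∀ t u : K, CL σ (S.x a (ng a) t) (S.x c d u) := by
  intro a c d hcd hac had t u
  obtain ⟨e, hea, hec, hed⟩ := h4 a c d
  obtain ⟨cd1, cd2, dc1, dc2⟩ := cect3_ne hcd
  obtain ⟨ac1, ac2, ca1, ca2⟩ := cect3_ne hac
  obtain ⟨ad1, ad2, da1, da2⟩ := cect3_ne had
  obtain ⟨ea1, ea2, ae1, ae2⟩ := cect3_ne hea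
  obtain ⟨ec1, ec2, ce1, ce2⟩ := cect3_ne hec
  obtain ⟨ed1, ed2, de1, de2⟩ := cect3_ne hed
  apply CL.symm
  rw [cect3_cm (S := S) (Ne.symm hec) hed hcd u]
  apply h.milnor
  · exact S.comm c e a (ng a) ce1 (ne_ng a) ea1 ca2 (by rw [ng_ng]; exact ea1) ca2 u t
  · exact S.comm e d a (ng a) ed1 (ne_ng a) da1 ea2 (by rw [ng_ng]; exact da1) ea2 1 t

/-- exact statement of T6 `t6_torus` -/
theorem cect567_t6_torus [DecidableEq ι] (h : IsCE σ) (hH : S.HH) (v : K) (hv0 : v ≠ 0) (hv1 : v ≠ 1) :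
    ∀ a c d : ι ⊕ ι, ab c ≠ ab d → ab a ≠ ab c → ab a ≠ ab d → ∀ t u : K, CL σ (S.x a (ng a) t) (S.x c d u) := by
  intro a c d hcd hac had t u
  obtain ⟨cd1, cd2, dc1, dc2⟩ := cect3_ne hcd
  obtain ⟨ac1, ac2, ca1, ca2⟩ := cect3_ne hac
  obtain ⟨ad1, ad2, da1, da2⟩ := cect3_ne had
  have hg := SysC.HH.long S hH c v hv0
  apply cect4_CL_tor h (ne_ng a) cd1 (S.h c (ng c) v) (dhl c v) hg
  · rw [cect4_dhl_of_ne v ac1 ac2, cect4_dhl_of_ne v (cect567_ng_ne_of ac2) (cect567_ng_ne_ng ac1)]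
    simp
  · rw [cect4_dhl_self, cect4_dhl_of_ne v dc1 dc2, inv_one, mul_one]
    exact hv1
  · intro t u
    exact S.comm a (ng a) c d (ne_ng a) cd1 (cect567_ng_ne_of ac2) ad1 (cect567_ng_ne_ng ad1) ac2 t u

/-- exact statement of T7 `t7_of_t6` -/
theorem cect567_t7_of_t6 (h : IsCE σ) (h3 : I3 ι)
    (h6 : ∀ a c d : ι ⊕ ι, ab c ≠ ab d → ab a ≠ ab c → ab a ≠ ab d → ∀ t u : K, CL σ (S.x a (ng a) t) (S.x c d u)) :
    ∀ a c : ι ⊕ ι, ab a ≠ ab c → ∀ t u : K, CL σ (S.x a (ng a) t) (S.x c (ng c) u) := by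
  intro a c hac t u
  obtain ⟨e, hea, hec⟩ := h3 a c
  obtain ⟨ac1, ac2, ca1, ca2⟩ := cect3_ne hac
  obtain ⟨ea1, ea2, ae1, ae2⟩ := cect3_ne hea
  obtain ⟨ec1, ec2, ce1, ce2⟩ := cect3_ne hec
  set T : K := sg e * sg (ng c) * u with hT
  have hls := S.ls e (ng c) ec2 (by rw [ng_ng]; exact ec1) T 1
  have hu : sg e * sg (ng c) * T * 1 ^ 2 = u := by
    rw [hT]
    have h1 := sg_mul_self (K := K) e
    have h2 := sg_mul_self (K := K) (ng c)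
    linear_combination (u * sg (ng c) * sg (ng c)) * h1 + u * h2
  rw [hu, mul_one, ng_ng] at hls
  -- `X := x e (ng c) T`, `Y := x c (ng c) u` commute
  have hXY : S.x e (ng c) T * S.x c (ng c) u = S.x c (ng c) u * S.x e (ng c) T :=
    S.comm e (ng c) c (ng c) ec2 (ne_ng c) (ng_ne c) ec2 (by rw [ng_ng]; exact ng_ne c) ec2 T u
  have hY : S.x c (ng c) u = cm (S.x e (ng e) T) (S.x (ng e) (ng c) 1) * (S.x e (ng c) T)⁻¹ := by
    unfold cm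
    rw [hls, hXY, mul_inv_cancel_right]
  apply CL.symm
  rw [hY]
  apply CL_milnor_mul h
  · exact S.comm e (ng e) a (ng a) (ne_ng e) (ne_ng a) (cect567_ng_ne_of ea2) ea2 (cect567_ng_ne_ng ea2 |> fun hh => by rw [ng_ng]; exact cect567_ng_ne_of ea2) ea2 T t
  · exact S.comm (ng e) (ng c) a (ng a) (cect567_ng_ne_ng ec1) (ne_ng a) (cect567_ng_ne_of ca2) (cect567_ng_ne_ng ea1) (by rw [ng_ng]; exact cect567_ng_ne_of ca2) (cect567_ng_ne_ng ea1) 1 t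
  · apply CL_inv h
    apply CL.symm
    exact h6 a e (ng c) (by rw [ab_ng]; exact hec) (Ne.symm hea) (by rw [ab_ng]; exact hac) t T

/-- exact statement of T7 `t7_torus` -/
theorem cect567_t7_torus [DecidableEq ι] (h : IsCE σ) (hH : S.HH) (v : K) (hv0 : v ≠ 0) (hv2 : v ^ 2 ≠ 1) :
    ∀ a c : ι ⊕ ι, ab a ≠ ab c → ∀ t u : K, CL σ (S.x a (ng a) t) (S.x c (ng c) u) := by
  intro a c hac t u
  obtain ⟨ac1, ac2, ca1, ca2⟩ := cect3_ne hac
  have hg := SysC.HH.long S hH c v hv0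
  apply cect4_CL_tor h (ne_ng a) (ne_ng c) (S.h c (ng c) v) (dhl c v) hg
  · rw [cect4_dhl_of_ne v ac1 ac2, cect4_dhl_of_ne v (cect567_ng_ne_of ac2) (cect567_ng_ne_ng ac1)]
    simp
  · rw [cect4_dhl_self, cect567_dhl_ng, inv_inv, ← pow_two]
    exact hv2
  · intro t u
    exact S.comm a (ng a) c (ng c) (ne_ng a) (ne_ng c) (cect567_ng_ne_of ac2) ac2 (by rw [ng_ng]; exact cect567_ng_ne_of ac2) ac2 t u

end T

end Cfsg.Agent.Lib.helper7.CEC
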