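import Mathlib
import Cfsg.Agent.Lib.helper7.CEC.Defs
import Cfsg.Agent.Lib.helper7.CEC.Defs2
import Cfsg.Agent.Lib.helper7.CeG
import Cfsg.Agent.Lib.helper7.CECT567
import Cfsg.Agent.Lib.helper7.CECL15
import Cfsg.Agent.Lib.helper2.STCK1
import Cfsg.Agent.Lib.Helper26.STCK3
import Cfsg.Agent.Lib.Helper21.STCM.GenTop
import Cfsg.Agent.Lib.helper14.CECT1
import Cfsg.Agent.Lib.Helper9.CECT3
import Cfsg.Agent.Lib.Helper9.CECT4
import Cfsg.Agent.Lib.Helper12.CECT8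
import Cfsg.Agent.Lib.Helper25.CECT9
import Cfsg.Agent.Lib.Helper24.CECT10
import Cfsg.Agent.Lib.Helper24.CECM3
import Cfsg.Agent.Lib.Helper24.CECM4
import Cfsg.Agent.Lib.Helper24.CECY7
import Cfsg.Agent.Lib.Helper5.CECY3
import Cfsg.Agent.Lib.Helper5.CECY5
import Cfsg.Agent.Lib.Helper11.CECY2
import Cfsg.Agent.Lib.Helper25.CECY9
import Cfsg.Agent.Lib.Helper16.CECY10core
import Cfsg.Agent.Lib.helper6.CECX
import Cfsg.Agent.Lib.Helper18.CECM1
import Cfsg.Agent.Lib.Helper18.CECM9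
import Cfsg.Agent.Lib.helper4.CECZ2
import Cfsg.Agent.Lib.Helper26.CECZ1
import Cfsg.Agent.Lib.Helper29.CECZ7
import Cfsg.Agent.Lib.helper23.CECZ6
import Cfsg.Agent.S0269

/-!
# Project CEC (designer helper7; S2092), row TA: the assembly, by helper7

`HT_four`, `HT_three`, `HT_two`, `HT_two_three`, `exists_lift_sp`, `Sp_split`, `Sp_mult_trivial`, `cec_main`: every central extension of `Sp_{2m}(F_q)` splits
(`m ≥ 4`; `m = 3`, `q ≥ 3`; `m = 2`, `q ≥ 3`), hence `PSp_{2m}(q)` has Schur multiplier of order `gcd(2, q - 1)`.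
-/

set_option autoImplicit false

namespace Cfsg.Agent.Lib.helper7.CEC

open Cfsg.Agent.Lib.helper15.St2 Cfsg.Agent.Lib.helper7.Ce Cfsg.Agent.Lib.helper3.STC

section T

variable {K : Type*} [Field K] {ι : Type*} {Γ G : Type*} [Group Γ] [Group G] {S : SysC K ι G} {σ : Γ →* G}

theorem cecta_I3_of_I4 (h4 : I4 ι) : I3 ι := fun a b => by
  obtain ⟨e, h1, h2, -⟩ := h4 a b b
  exact ⟨e, h1, h2⟩

theorem cecta_I2_of_I3 (h3 : I3 ι) : I2 ι := fun b => by
  obtain ⟨e, h1, -⟩ := h3 b b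
  exact ⟨e, h1⟩

/-- T11  `m ≥ 4`. -/
theorem HT_four (h : IsCE σ) (h4 : I4 ι) : HT S σ := by
  have h3 := cecta_I3_of_I4 h4
  have h2 := cecta_I2_of_I3 h3
  have t6 := cect567_t6_milnor (S := S) h h4
  have t5 := cect567_t5_milnor (S := S) h h3
  exact ⟨t1_milnor h h3, t2_of_t5 h h2 t5, t3r_milnor h h4, t3c_milnor h h4, t4_of_t6 h t6, t5, t6, cect567_t7_of_t6 h h3 t6⟩

/-- T12  `m = 3`, `q ≥ 3`. -/
theorem HT_three [DecidableEq ι] (h : IsCE σ) (h3 : I3 ι) (u3 : U3 ι) (hH : S.HH) (v : K) (hv0 : v ≠ 0) (hv1 : v ≠ 1) : HT S σ := by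
  have h2 := cecta_I2_of_I3 h3
  have t6 := cect567_t6_torus (S := S) h hH v hv0 hv1
  have t5 := cect567_t5_milnor (S := S) h h3
  refine ⟨t1_milnor h h3, t2_of_t5 h h2 t5, t3r_torus h hH v hv0 hv1, t3c_torus h hH v hv0 hv1, ?_, t5, t6, cect567_t7_of_t6 h h3 t6⟩
  intro a b c d hab hcd hac had hbc hbd t u
  exact absurd (u3 a b c d hab hac.symm hbc.symm had.symm hbd.symm) hcd

/-- the types of pairs that occur when there are two indices -/
theorem cecta_HT_two_of (u2 : U2 ι)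
    (h1 : ∀ a b : ι ⊕ ι, ab a ≠ ab b → ∀ t u : K, CL σ (S.x a b t) (S.x a b u))
    (h2' : ∀ a : ι ⊕ ι, ∀ t u : K, CL σ (S.x a (ng a) t) (S.x a (ng a) u))
    (h5 : ∀ a d : ι ⊕ ι, ab a ≠ ab d → ∀ t u : K, CL σ (S.x a (ng a) t) (S.x a d u))
    (h7 : ∀ a c : ι ⊕ ι, ab a ≠ ab c → ∀ t u : K, CL σ (S.x a (ng a) t) (S.x c (ng c) u)) : HT S σ := by
  refine ⟨h1, h2', ?_, ?_, ?_, h5, ?_, h7⟩
  · intro a b d hab had hbd t u
    rcases u2 a b d hab with e | e
    · exact absurd e.symm had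
    · exact absurd e.symm hbd
  · intro a b c hab hcb hac t u
    rcases u2 a b c hab with e | e
    · exact absurd e.symm hac
    · exact absurd e hcb
  · intro a b c d hab hcd hac had hbc hbd t u
    rcases u2 a b c hab with e | e
    · exact absurd e.symm hac
    · exact absurd e.symm hbc
  · intro a c d hcd hac had t u
    rcases u2 c d a hcd with e | e
    · exact absurd e hac
    · exact absurd e had

/-- T13  `m = 2`, `q ≥ 4`. -/
theorem HT_two [DecidableEq ι] (h : IsCE σ) (h2 : I2 ι) (u2 : U2 ι) (hH : S.HH) (v : K) (hv0 : v ≠ 0) (hv2 : v ^ 2 ≠ 1) : HT S σ := by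
  have hv1 : v ≠ 1 := fun e => hv2 (by rw [e, one_pow])
  have t5 := cect567_t5_torus (S := S) h hH v hv0 hv1
  have t7 := cect567_t7_torus (S := S) h hH v hv0 hv2
  have t2 := t2_of_t5 h h2 t5
  exact cecta_HT_two_of u2 (t1_of_t7 h t5 t2 t7) t2 t5 t7

/-- `m = 2`, `q = 3`. -/
theorem HT_two_three [DecidableEq ι] (h : IsCE σ) (h2 : I2 ι) (u2 : U2 ι) (hW : S.HW) (hH : S.HH) (h3 : (3 : K) = 0)
    (hK : ∀ t : K, t = 0 ∨ t = 1 ∨ t = -1) : HT S σ := by
  have hv0 : (-1 : K) ≠ 0 := by simp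
  have hv1 : (-1 : K) ≠ 1 := by
    intro e
    have h20 : (2 : K) = 0 := by linear_combination -e
    have : (1 : K) = 0 := by linear_combination h3 - h20
    exact one_ne_zero this
  have t5 := cect567_t5_torus (S := S) h hH (-1) hv0 hv1
  have t7 := t7_three (S := S) h hW h3 hK
  have t2 := t2_of_t5 h h2 t5
  exact cecta_HT_two_of u2 (t1_of_t7 h t5 t2 t7) t2 t5 t7

/-- exact statement of Y10 `shortLift_A2` (helper16's core on Y2, Y9) -/
theorem cecta_shortLift_A2 (h : IsCE σ) (hC : HC S σ) (h3 : I3 ι) (hB : PB S h) (hI : PI S h) :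
    ∃ L : ShortLift S h, ∀ a b t, L.X a b t = Xs S h h3 a b t :=
  cecy10_core h h3 hB hI (fun hac hcb hab s s' t => Ys_add_left h hC hac hcb hab s s' t)
    (fun hab t => Xs_sym h hC h3 hB hI hab t)

end T

section M

open Cfsg.Agent.Lib.helper3.STC.Mat Matrix

universe u

variable {F : Type u} [Field F] [Fintype F]

/-- M5  the lifted system. -/
theorem exists_lift_sp (m : ℕ) (hcase : 4 ≤ m ∨ (m = 3 ∧ 3 ≤ Fintype.card F) ∨ (m = 2 ∧ 3 ≤ Fintype.card F))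
    {Γ : Type*} [Group Γ] {σ : Γ →* symplecticGroup (Fin m) F} (h : IsCE σ) :
    ∃ P : SysC F (Fin m) Γ, ∀ a b t, σ (P.x a b t) = (matSys (Fin m) F).x a b t := by
  classical
  have hW := SysC.hW_all (matSys (Fin m) F)
  have hH := SysC.hH_all (matSys (Fin m) F)
  rcases hcase with h4 | ⟨rfl, hq⟩ | ⟨rfl, hq⟩
  · have i4 := I4_fin h4
    have i3 := cecta_I3_of_I4 i4
    have i2 := cecta_I2_of_I3 i3
    have hC := HC_of_HT (HT_four (S := matSys (Fin m) F) h i4)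
    obtain ⟨hB, hI⟩ := Ys_BI_four h hC i4
    obtain ⟨L, -⟩ := cecta_shortLift_A2 h hC i3 hB hI
    exact exists_sysC hC hW hH L i2
  · have i3 := I3_fin (m := 3) le_rfl
    have i2 := cecta_I2_of_I3 i3
    obtain ⟨v, hv0, hv1⟩ := exists_ne_zero_one (F := F) hq
    have hC := HC_of_HT (HT_three (S := matSys (Fin 3) F) h i3 U3_fin hH v hv0 hv1)
    have hB := Ys_B_torus h hC hH v hv0 hv1
    have hI := Ys_I_three h hC hW U3_fin hB
    obtain ⟨L, -⟩ := cecta_shortLift_A2 h hC i3 hB hI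
    exact exists_sysC hC hW hH L i2
  · have i2 := I2_fin (m := 2) le_rfl
    by_cases hq4 : 4 ≤ Fintype.card F
    · obtain ⟨v, hv0, hv2'⟩ := exists_sq_ne_one F hq4
      have hv2 : v ^ 2 ≠ 1 := by rwa [pow_two]
      have hC := HC_of_HT (HT_two (S := matSys (Fin 2) F) h i2 U2_fin hH v hv0 hv2)
      obtain ⟨L, -⟩ := shortLift_tor h hC hH U2_fin hv0 hv2
      exact exists_sysC hC hW hH L i2
    · have hq3 : Fintype.card F = 3 := by omega
      obtain ⟨h3, hK⟩ := field_three (F := F) hq3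
      have hC := HC_of_HT (HT_two_three (S := matSys (Fin 2) F) h i2 U2_fin hW hH h3 hK)
      obtain ⟨L, -⟩ := shortLift_three h hC U2_fin h3 hK (matSys_x_inj 2)
      exact exists_sysC hC hW hH L i2

/-- M6  every central extension of `Sp_{2m}(F)` splits. -/
theorem Sp_split (m : ℕ) (hcase : 4 ≤ m ∨ (m = 3 ∧ 3 ≤ Fintype.card F) ∨ (m = 2 ∧ 3 ≤ Fintype.card F))
    {Γ : Type*} [Group Γ] {σ : Γ →* symplecticGroup (Fin m) F} (h : IsCE σ) :
    ∃ s : symplecticGroup (Fin m) F →* Γ, ∀ g, σ (s g) = g := by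
  obtain ⟨P, hP⟩ := exists_lift_sp m hcase h
  exact split_of_sysC_core (matSys (Fin m) F) (matRep (Fin m) F) (matSys_gen m) P hP
    (fun Γ₀ P₀ R₀ hgen => SysC.Rep.injective R₀ hgen)

/-- M7  `Sp_{2m}(F)` has trivial Schur multiplier. -/
theorem Sp_mult_trivial (m : ℕ) (hcase : 4 ≤ m ∨ (m = 3 ∧ 3 ≤ Fintype.card F) ∨ (m = 2 ∧ 3 ≤ Fintype.card F)) :
    Cfsg.HasCyclicSchurMultiplier (symplecticGroup (Fin m) F) 1 := by
  apply trivial_mult_of_ker
  intro Γ _ _ σ hσ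
  obtain ⟨s, hs⟩ := Sp_split m hcase (σ := σ) ⟨hσ.1, hσ.2.1⟩
  exact ker_eq_bot_of_section hσ s hs

/-- M10  the Schur multiplier of `PSp_{2m}(F)`. -/
theorem cec_main (m : ℕ) (hm : 2 ≤ m) (h2 : m = 2 → 3 ≤ Fintype.card F) (hexc : ¬ (m = 3 ∧ Fintype.card F = 2)) :
    Cfsg.HasCyclicSchurMultiplier (Cfsg.PSp m F) (Nat.gcd 2 (Fintype.card F - 1)) := by
  have hpos : 1 < Fintype.card F := Fintype.one_lt_card
  have hperf : commutator (symplecticGroup (Fin m) F) = ⊤ := by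
    apply Cfsg.Agent.S0269.result
    by_cases h3 : 3 ≤ m
    · exact Or.inl h3
    · have : m = 2 := by omega
      exact Or.inr (Or.inl ⟨this, h2 this⟩)
  have hc : 4 ≤ m ∨ (m = 3 ∧ 3 ≤ Fintype.card F) ∨ (m = 2 ∧ 3 ≤ Fintype.card F) := by
    by_cases h4 : 4 ≤ m
    · exact Or.inl h4
    · by_cases h3 : m = 3
      · refine Or.inr (Or.inl ⟨h3, ?_⟩)
        by_contra hlt
        exact hexc ⟨h3, by omega⟩
      · have h2m : m = 2 := by omega
        exact Or.inr (Or.inr ⟨h2m, h2 h2m⟩)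
  exact psp_mult m (by omega) (Sp_mult_trivial m hc) hperf

end M

end Cfsg.Agent.Lib.helper7.CEC
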