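import Mathlib
import Cfsg.Agent.Lib.helper7.CEUN2

/-!
# CEU (designer helper7): the ODD twins of the rows N2-N4 and the statement `hCEU` of helper24's `s2089_core`, as CORES on the STATEMENT
of the last row N3 `exists_lift_odd` of helper3's project CEUO (the odd case).
-/

set_option autoImplicit false

namespace Cfsg.Agent.Lib.helper7.CEU

open Cfsg.Agent.Lib.helper15.St2 Cfsg.Agent.Lib.helper7.Ce Cfsg.Agent.Lib.helper3.STC Cfsg.Agent.Lib.Helper27.STU

section N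

universe u

variable {F : Type u} [Field F] [Fintype F] {q : ℕ}

/-- the statement of CEUO N3 `exists_lift_odd` at the groups `SU_{2m+1}(q)`, for finite `Γ` in the universe of `F` -/
def OddLift (hF : Fintype.card F = q ^ 2) : Prop :=
  ∀ (m : ℕ), 2 ≤ m → ∀ (Γ : Type u) [Group Γ] [Finite Γ] (σ : Γ →* ↥(Cfsg.SU (2 * m + 1) F q)), IsCE σ →
    letI := frobStar hF
    ∀ S : SysU F True (Fin m) ↥(Cfsg.SU (2 * m + 1) F q), ∃ P : SysU F True (Fin m) Γ,
      (∀ a b : Fin m ⊕ Fin m, ab a ≠ ab b → ∀ t, σ (P.xs a b t) = S.xs a b t) ∧ ∀ a ξ, σ (P.xl a ξ) = S.xl a ξ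

/-- the central extensions of `SU_{2m+1}(q)`, `m ≥ 2`, by finite groups split -/
theorem ceun5_split_odd_core (hF : Fintype.card F = q ^ 2) (hodd : OddLift hF) (m : ℕ) (hm : 2 ≤ m)
    {Γ : Type u} [Group Γ] [Finite Γ] {σ : Γ →* ↥(Cfsg.SU (2 * m + 1) F q)} (h : IsCE σ) :
    ∃ s : ↥(Cfsg.SU (2 * m + 1) F q) →* Γ, ∀ g, σ (s g) = g := by
  classical
  letI := frobStar hF
  have hHyp : Hyp F := frobStar_hyp hF
  obtain ⟨S₀, R₀, -, hgen⟩ := mod_main hF (2 * m + 1) m True (Or.inr ⟨trivial, rfl⟩) (by omega)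
  obtain ⟨P, hPs, hPl⟩ := hodd m hm Γ σ h S₀
  exact split_of_sysU hHyp S₀ R₀ hgen P hPs hPl

/-- the Schur multiplier of `SU_{2m+1}(q)`, `m ≥ 2`, is trivial -/
theorem ceun5_mult_trivial_odd_core (hF : Fintype.card F = q ^ 2) (hodd : OddLift hF) (m : ℕ) (hm : 2 ≤ m) :
    Cfsg.HasCyclicSchurMultiplier ↥(Cfsg.SU (2 * m + 1) F q) 1 := by
  have : Finite ↥(Cfsg.SU (2 * m + 1) F q) := Subtype.finite
  apply trivial_mult_of_ker
  intro Γ _ _ σ hσ
  obtain ⟨s, hs⟩ := ceun5_split_odd_core hF hodd m hm (σ := σ) ⟨hσ.1, hσ.2.1⟩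
  exact ker_eq_bot_of_section hσ s hs

/-- the hypothesis `hCEU` of helper24's `s2089_core` -/
theorem ceun5_hCEU_core (hF : Fintype.card F = q ^ 2) (hodd : OddLift hF) (n : ℕ)
    (hexc : (n, q) ∉ ({(4, 2), (4, 3), (6, 2)} : Set (ℕ × ℕ))) (hn : 4 ≤ n) :
    Cfsg.HasCyclicSchurMultiplier ↥(Cfsg.SU n F q) 1 := by
  have hq2 : 2 ≤ q := Cfsg.Agent.Lib.Helper28.UHerm.two_le_q hF
  rcases Nat.even_or_odd' n with ⟨m, rfl | rfl⟩
  · have hcase : 4 ≤ m ∨ (m = 3 ∧ 3 ≤ q) ∨ (m = 2 ∧ 4 ≤ q) := by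
      by_cases h4 : 4 ≤ m
      · exact Or.inl h4
      · have hm : m = 2 ∨ m = 3 := by omega
        rcases hm with rfl | rfl
        · refine Or.inr (Or.inr ⟨rfl, ?_⟩)
          by_contra hq
          have : q = 2 ∨ q = 3 := by omega
          rcases this with rfl | rfl
          · exact hexc (by simp)
          · exact hexc (by simp)
        · refine Or.inr (Or.inl ⟨rfl, ?_⟩)
          by_contra hq
          have : q = 2 := by omega
          subst this
          exact hexc (by simp)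
    exact SU_mult_trivial_even hF m hcase
  · exact ceun5_mult_trivial_odd_core hF hodd m (by omega)

end N

end Cfsg.Agent.Lib.helper7.CEU
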