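import Mathlib
import Cfsg.Agent.Lib.Helper25.SubsectionBound
import Cfsg.Agent.Lib.helper7.GKS4

/-!
The polynomial data of a subsection `(y, b)` of a `p`-block `B` (general `p`): integer polynomials
`f χ ψ` whose values at `ζ^j` are the contributions `p^d W_j(χ,ψ)`.
-/

set_option autoImplicit false
set_option linter.style.haveILetI false
set_option linter.unusedVariables false
set_option warn.classDefReducibility false
set_option maxHeartbeats 3200000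

namespace Cfsg.Agent.Lib.helper7
open scoped ComplexConjugate
open Polynomial
open Cfsg.Agent.Lib.helper2
open Cfsg.Agent.Lib.Helper25
open Cfsg.Agent.Lib.Helper24

theorem h7_gk_data {G : Type*} [Group G] [Fintype G] (p : ℕ) [hp : Fact p.Prime]
    (M : Ideal Cfsg.AlgInt) (hM : Cfsg.IsPModular p M) (B : Set (Cfsg.IrrCharacter G))
    (y : G) (k : ℕ) (hk : orderOf y = p ^ k)
    (H : Subgroup G) [Fintype H] (hH : H = Subgroup.centralizer ({y} : Set G))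
    (b : Set (Cfsg.IrrCharacter H))
    (hind : Cfsg.IsInducedBlock M H b B) :
    ∃ (ζ : ℂ) (f : Cfsg.IrrCharacter G → Cfsg.IrrCharacter G → ℤ[X]),
      IsPrimitiveRoot ζ (p ^ k) ∧
      (∀ (χ ψ : Cfsg.IrrCharacter G) (j : ℕ), aeval (ζ ^ j) (f χ ψ) =
        (p : ℂ) ^ Cfsg.blockDefect p b * h7_gk_W p H b (y ^ j) χ ψ) ∧
      (∀ (χ ψ : Cfsg.IrrCharacter G) (j : ℕ),
        aeval (ζ ^ j) (f ψ χ) = conj (aeval (ζ ^ j) (f χ ψ))) := by
  classical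
  have hMp := hM.2.1.isPrime
  haveI : Fintype (Cfsg.IrrCharacter H) := Fintype.ofFinite _
  haveI : Fintype (Cfsg.IrrCharacter G) := Fintype.ofFinite _
  have hyH : y ∈ H := by
    rw [hH]
    exact Subgroup.mem_centralizer_singleton_iff.mpr rfl
  have hcent : ∀ h ∈ H, h * y = y * h := fun h hh =>
    Subgroup.mem_centralizer_singleton_iff.mp (hH ▸ hh)
  have hyk : y ^ (p ^ k) = 1 := by rw [← hk]; exact pow_orderOf_eq_one y
  set d := Cfsg.blockDefect p b with hd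
  set n := p ^ k with hn
  have hn0 : n ≠ 0 := pow_ne_zero _ hp.out.ne_zero
  haveI : NeZero n := ⟨hn0⟩
  obtain ⟨ψ₀, hb⟩ := hind.1
  -- the central element
  have hyc : (⟨y, hyH⟩ : H) ∈ Subgroup.center H := by
    rw [Subgroup.mem_center_iff]
    intro h
    apply Subtype.ext
    show (h : G) * y = y * (h : G)
    exact hcent h h.2
  have hyn : (⟨y, hyH⟩ : H) ^ n = 1 := by
    apply Subtype.ext
    show y ^ n = 1
    exact hyk
  have hlamex : ∀ ψ' : Cfsg.IrrCharacter H, ∃ lam : ℂ,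
      (∀ c : H, (ψ' : H → ℂ) ((⟨y, hyH⟩ : H) * c) = lam * (ψ' : H → ℂ) c) ∧ lam ^ n = 1 :=
    fun ψ' => bp_central_shift ψ' _ hyc _ hyn
  choose lam hlam1 hlam2 using hlamex
  set ζ : ℂ := Complex.exp (2 * Real.pi * Complex.I / n) with hζdef
  have hζ : IsPrimitiveRoot ζ n := Complex.isPrimitiveRoot_exp n hn0
  have hex : ∀ ψ' : Cfsg.IrrCharacter H, ∃ i < n, ζ ^ i = lam ψ' :=
    fun ψ' => hζ.eq_pow_of_pow_eq_one (hlam2 ψ')
  choose ex hex1 hex2 using hex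
  -- multiplicities
  have hnat : ∀ (χ : Cfsg.IrrCharacter G) (ψ' : Cfsg.IrrCharacter H), ∃ m : ℕ,
      Cfsg.classInner (fun h : H => (χ : G → ℂ) (h : G)) (ψ' : H → ℂ) = (m : ℂ) := fun χ ψ' =>
    classInner_character_nat (isCharacter_restrict (isCharacter_of_irr χ) H) (isCharacter_of_irr ψ')
  choose mult hmult using hnat
  -- the matrices
  set W : ℕ → Cfsg.IrrCharacter G → Cfsg.IrrCharacter G → ℂ := fun j χ ψ =>
    Cfsg.classInner
      (Cfsg.pRegularPart p (Cfsg.blockPart b (fun c : H => (χ : G → ℂ) (y ^ j * (c : G)))))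
      (Cfsg.blockPart b (fun c : H => (ψ : G → ℂ) (y ^ j * (c : G)))) with hW
  -- polynomials
  have hpoly : ∀ χ ψ : Cfsg.IrrCharacter G, ∃ f : ℤ[X], ∀ j : ℕ,
      aeval (ζ ^ j) f = ((p : ℕ) : ℂ) ^ d * W j χ ψ := by
    intro χ ψ
    obtain ⟨f, hf⟩ := su_poly b n hn0 ζ hζ.pow_eq_one (mult χ) (mult ψ)
      (fun ψ' ψ'' => bf_z p b ψ' ψ'') ex
    refine ⟨f, fun j => ?_⟩
    rw [hf j]
    show _ = ((p : ℕ) : ℂ) ^ d * Cfsg.classInner
      (Cfsg.pRegularPart p (Cfsg.blockPart b (fun c : H => (χ : G → ℂ) (y ^ j * (c : G)))))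
      (Cfsg.blockPart b (fun c : H => (ψ : G → ℂ) (y ^ j * (c : G))))
    rw [su_W_formula p H y hyH hcent b χ ψ lam hlam1 j, Finset.mul_sum]
    refine Finset.sum_congr rfl fun ψ' _ => ?_
    rw [Finset.mul_sum]
    refine Finset.sum_congr rfl fun ψ'' _ => ?_
    split_ifs with h
    · have hspec := bf_z_spec p M hM ψ₀ ψ' ψ'' (hb ▸ h.1) (hb ▸ h.2)
      rw [← hb] at hspec
      rw [hex2 ψ', hex2 ψ'', ← hmult χ ψ', ← hmult ψ ψ'', ← hspec]
      ring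
    · rw [mul_zero]
  choose f hf using hpoly
  set J := (Finset.range n).filter (Nat.Coprime n) with hJ
  -- integer data
  set c : Cfsg.IrrCharacter G → Cfsg.IrrCharacter G → Cfsg.IrrCharacter H →
      Cfsg.IrrCharacter H → ℤ :=
    fun χ ψ ψ' ψ'' => if ψ' ∈ b ∧ ψ'' ∈ b then
      (mult χ ψ' : ℤ) * (mult ψ ψ'' : ℤ) * bf_z p b ψ' ψ'' else 0 with hc
  set μ : Cfsg.IrrCharacter H → Cfsg.IrrCharacter H → ℂ :=
    fun ψ' ψ'' => lam ψ' * conj (lam ψ'') with hμ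
  have hμn : ∀ ψ' ψ'', μ ψ' ψ'' ^ (p ^ k) = 1 := by
    intro ψ' ψ''
    show (lam ψ' * conj (lam ψ'')) ^ n = 1
    rw [mul_pow, ← map_pow, hlam2, hlam2, map_one, mul_one]
  have hμconj : ∀ ψ' ψ'', μ ψ'' ψ' = conj (μ ψ' ψ'') := by
    intro ψ' ψ''
    show lam ψ'' * conj (lam ψ') = conj (lam ψ' * conj (lam ψ''))
    rw [map_mul, Complex.conj_conj, mul_comm]
  have hμdiag : ∀ ψ', μ ψ' ψ' = 1 := by
    intro ψ'
    show lam ψ' * conj (lam ψ') = 1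
    have h1 : ‖lam ψ'‖ = 1 := Complex.norm_eq_one_of_pow_eq_one (hlam2 ψ') hn0
    rw [Complex.mul_conj, Complex.normSq_eq_norm_sq, h1]
    simp
  have hcsymm : ∀ χ ψ ψ' ψ'', c χ ψ ψ' ψ'' = c ψ χ ψ'' ψ' := by
    intro χ ψ ψ' ψ''
    show (if ψ' ∈ b ∧ ψ'' ∈ b then
      (mult χ ψ' : ℤ) * (mult ψ ψ'' : ℤ) * bf_z p b ψ' ψ'' else 0) =
      (if ψ'' ∈ b ∧ ψ' ∈ b then
      (mult ψ ψ'' : ℤ) * (mult χ ψ' : ℤ) * bf_z p b ψ'' ψ' else 0)
    by_cases h : ψ' ∈ b ∧ ψ'' ∈ b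
    · rw [if_pos h, if_pos ⟨h.2, h.1⟩]
      have h1 := bf_z_symm p M hM ψ₀ ψ' ψ'' (hb ▸ h.1) (hb ▸ h.2)
      rw [← hb] at h1
      rw [h1]
      ring
    · rw [if_neg h, if_neg (fun h' => h ⟨h'.2, h'.1⟩)]
  -- (I1)
  have hI1 : ∀ χ ψ j, ((p : ℕ) : ℂ) ^ d * W j χ ψ =
      ∑ ψ' : Cfsg.IrrCharacter H, ∑ ψ'' : Cfsg.IrrCharacter H,
        (c χ ψ ψ' ψ'' : ℂ) * (μ ψ' ψ'') ^ j := by
    intro χ ψ j
    show ((p : ℕ) : ℂ) ^ d * Cfsg.classInner
      (Cfsg.pRegularPart p (Cfsg.blockPart b (fun c : H => (χ : G → ℂ) (y ^ j * (c : G)))))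
      (Cfsg.blockPart b (fun c : H => (ψ : G → ℂ) (y ^ j * (c : G)))) = _
    rw [su_W_formula p H y hyH hcent b χ ψ lam hlam1 j, Finset.mul_sum]
    refine Finset.sum_congr rfl fun ψ' _ => ?_
    rw [Finset.mul_sum]
    refine Finset.sum_congr rfl fun ψ'' _ => ?_
    show _ = ((if ψ' ∈ b ∧ ψ'' ∈ b then
      (mult χ ψ' : ℤ) * (mult ψ ψ'' : ℤ) * bf_z p b ψ' ψ'' else 0 : ℤ) : ℂ) *
      (lam ψ' * conj (lam ψ'')) ^ j
    split_ifs with h
    · have hspec := bf_z_spec p M hM ψ₀ ψ' ψ'' (hb ▸ h.1) (hb ▸ h.2)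
      rw [← hb] at hspec
      rw [hmult χ ψ', hmult ψ ψ'', map_mul, Complex.conj_natCast, map_pow]
      push_cast
      rw [← hspec, mul_pow]
      ring
    · simp
  refine ⟨ζ, f, hζ, ?_, ?_⟩
  · intro χ ψ j
    rw [hf χ ψ j]
    rfl
  · -- symmetry
    intro χ ψ j
    rw [hf ψ χ j, hf χ ψ j, hI1 ψ χ j, hI1 χ ψ j, map_sum, Finset.sum_comm]
    refine Finset.sum_congr rfl fun ψ' _ => ?_
    rw [map_sum]
    refine Finset.sum_congr rfl fun ψ'' _ => ?_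
    rw [map_mul, map_pow, ← hμconj ψ' ψ'', map_intCast, hcsymm χ ψ ψ' ψ'']


end Cfsg.Agent.Lib.helper7
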