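import Mathlib
import Cfsg.Agent.Lib.helper7.GKS5
import Cfsg.Agent.Lib.helper7.Induction
import Cfsg.Agent.Lib.Helper25.BrauerPairCover
import Cfsg.Agent.Lib.Helper25.SubsectionCount

/-!
Class functions attached to subsections, their inner products, and the resulting upper bound for
the sum of the diagonal contributions of a family of subsections with controlled fusion.
-/

set_option autoImplicit false
set_option linter.style.haveILetI false
set_option linter.unusedVariables false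
set_option linter.unusedSectionVars false
set_option warn.classDefReducibility false
set_option maxHeartbeats 1600000

namespace Cfsg.Agent.Lib.helper7
open scoped ComplexConjugate
open Cfsg.Agent.Lib.helper2
open Cfsg.Agent.Lib.Helper25
open Cfsg.Agent.Lib.Helper24

/-- conjugation by `x⁻¹` as an isomorphism between two subgroups -/
def h7_ii_conjEquiv {G : Type*} [Group G] (K K' : Subgroup G) (x : G)
    (h : ∀ s : G, s ∈ K ↔ x⁻¹ * s * x ∈ K') : K ≃* K' where
  toFun s := ⟨x⁻¹ * (s : G) * x, (h _).mp s.2⟩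
  invFun s' := ⟨x * (s' : G) * x⁻¹, (h _).mpr (by
    have e : x⁻¹ * (x * (s' : G) * x⁻¹) * x = (s' : G) := by group
    rw [e]
    exact s'.2)⟩
  left_inv s := by
    apply Subtype.ext
    show x * (x⁻¹ * (s : G) * x) * x⁻¹ = (s : G)
    group
  right_inv s' := by
    apply Subtype.ext
    show x⁻¹ * (x * (s' : G) * x⁻¹) * x = (s' : G)
    group
  map_mul' s t := by
    apply Subtype.ext
    show x⁻¹ * ((s : G) * (t : G)) * x = x⁻¹ * (s : G) * x * (x⁻¹ * (t : G) * x)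
    group

theorem h7_ii_conjEquiv_coe {G : Type*} [Group G] (K K' : Subgroup G) (x : G)
    (h : ∀ s : G, s ∈ K ↔ x⁻¹ * s * x ∈ K') (s : K) :
    ((h7_ii_conjEquiv K K' x h s : K') : G) = x⁻¹ * (s : G) * x := rfl

/-- transport of inner products along an isomorphism -/
theorem h7_ii_classInner_tr {A B : Type*} [Group A] [Group B] [Fintype A] [Fintype B]
    (σ : A ≃* B) (φ ψ : B → ℂ) :
    Cfsg.classInner (fun a => φ (σ a)) (fun a => ψ (σ a)) = Cfsg.classInner φ ψ := by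
  unfold Cfsg.classInner
  rw [Nat.card_congr σ.toEquiv]
  congr 1
  exact Fintype.sum_equiv σ.toEquiv _ _ fun a => rfl

/-- transport of block parts along an isomorphism -/
theorem h7_ii_blockPart_tr {A B : Type*} [Group A] [Group B] [Fintype A] [Fintype B]
    (σ : A ≃* B) (b : Set (Cfsg.IrrCharacter B)) (θ : B → ℂ) (a : A) :
    Cfsg.blockPart (bq_trSet σ b) (fun a => θ (σ a)) a = Cfsg.blockPart b θ (σ a) := by
  classical
  haveI : Fintype (Cfsg.IrrCharacter A) := Fintype.ofFinite _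
  haveI : Fintype (Cfsg.IrrCharacter B) := Fintype.ofFinite _
  rw [su_part_fun, su_part_fun, Finset.sum_apply, Finset.sum_apply]
  refine (Fintype.sum_equiv (bq_trEquiv σ) _ _ fun ψ => ?_).symm
  have h1 : (bq_trEquiv σ ψ ∈ bq_trSet σ b) ↔ ψ ∈ b := bq_mem_trSet σ b ψ
  have h3 : ((bq_trEquiv σ ψ : Cfsg.IrrCharacter A) : A → ℂ) = fun a => (ψ : B → ℂ) (σ a) := rfl
  rw [Pi.smul_apply, Pi.smul_apply, h3, h7_ii_classInner_tr]
  by_cases hψ : ψ ∈ b
  · rw [if_pos hψ, if_pos (h1.mpr hψ)]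
  · rw [if_neg hψ, if_neg (fun h => hψ (h1.mp h))]

/-- the `p`-regular part of a block part is orthogonal to the parts in other blocks -/
theorem h7_ii_block_orth {H : Type*} [Group H] [Fintype H]
    {p : ℕ} [hp : Fact p.Prime] {M : Ideal Cfsg.AlgInt} (hM : Cfsg.IsPModular p M)
    (b b' : Set (Cfsg.IrrCharacter H)) (hb : Cfsg.IsPBlock M b) (hb' : Cfsg.IsPBlock M b')
    (hne : b' ≠ b) (θ θ' : H → ℂ) :
    Cfsg.classInner (Cfsg.pRegularPart p (Cfsg.blockPart b θ)) (Cfsg.blockPart b' θ') = 0 := by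
  classical
  haveI : Fintype (Cfsg.IrrCharacter H) := Fintype.ofFinite _
  have hMp := hM.2.1.isPrime
  obtain ⟨ξ₀, rfl⟩ := hb
  set X := Cfsg.pRegularPart p (Cfsg.blockPart (Cfsg.blockOf M (ξ₀ : H → ℂ)) θ) with hX
  rw [Cfsg.Agent.Lib.Helper25.classInner_conj_symm (Cfsg.blockPart b' θ') X]
  rw [su_part_fun, classInner_sum_left]
  rw [Finset.sum_eq_zero, map_zero]
  intro ψ _
  rw [classInner_smul_left]
  split_ifs with h
  · have hψ : ψ ∉ Cfsg.blockOf M (ξ₀ : H → ℂ) := by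
      intro hmem
      apply hne
      obtain ⟨ξ₁, rfl⟩ := hb'
      have h1 : Cfsg.blockOf M (ξ₁ : H → ℂ) = Cfsg.blockOf M (ψ : H → ℂ) :=
        ib_blockOf_eq hMp ψ ξ₁ h
      have h2 : Cfsg.blockOf M (ξ₀ : H → ℂ) = Cfsg.blockOf M (ψ : H → ℂ) :=
        ib_blockOf_eq hMp ψ ξ₀ hmem
      rw [h1, h2]
    rw [Cfsg.Agent.Lib.Helper25.classInner_conj_symm X (ψ : H → ℂ),
      su_reg_out hM ξ₀ θ ψ hψ, map_zero, mul_zero]
  · rw [zero_mul]

/-- the function on `K` attached to the subsection `(u, f)` and `χ`: supported on the elements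
`u s` with `s` `p`-regular, where it is the `f`-part of `χ` -/
noncomputable def h7_ii_sec {G : Type*} [Group G] (p : ℕ) (K : Subgroup G) [Fintype K]
    (f : Set (Cfsg.IrrCharacter K)) (u : G) (χ : G → ℂ) : K → ℂ :=
  fun y => by
    classical
    exact if h : u⁻¹ * (y : G) ∈ K then
      Cfsg.pRegularPart p (Cfsg.blockPart f (fun c : K => χ (u * (c : G)))) ⟨u⁻¹ * (y : G), h⟩
    else 0

theorem h7_ii_sec_mul {G : Type*} [Group G] (p : ℕ) (K : Subgroup G) [Fintype K]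
    (f : Set (Cfsg.IrrCharacter K)) (u : G) (huK : u ∈ K) (χ : G → ℂ) (s : K) :
    h7_ii_sec p K f u χ (⟨u, huK⟩ * s) =
      Cfsg.pRegularPart p (Cfsg.blockPart f (fun c : K => χ (u * (c : G)))) s := by
  classical
  unfold h7_ii_sec
  have e : u⁻¹ * (((⟨u, huK⟩ : K) * s : K) : G) = (s : G) := by
    show u⁻¹ * (u * (s : G)) = (s : G)
    group
  have hmem : u⁻¹ * (((⟨u, huK⟩ : K) * s : K) : G) ∈ K := by
    rw [e]
    exact s.2
  rw [dif_pos hmem]
  congr 1
  exact Subtype.ext e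

/-- the class function of `G` attached to the subsection `(u, f)` and `χ` -/
noncomputable def h7_ii_Xi {G : Type*} [Group G] [Fintype G] (p : ℕ) (K : Subgroup G) [Fintype K]
    (f : Set (Cfsg.IrrCharacter K)) (u : G) (χ : G → ℂ) : G → ℂ :=
  Cfsg.indFun K (h7_ii_sec p K f u χ)

/-- `[Ξ, χ] = W(χ, χ)` -/
theorem h7_ii_Xi_chi {G : Type*} [Group G] [Fintype G] (p : ℕ) [hp : Fact p.Prime]
    (M : Ideal Cfsg.AlgInt) (hM : Cfsg.IsPModular p M) (K : Subgroup G) [Fintype K] (u : G)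
    (huK : u ∈ K) (hcent : ∀ h ∈ K, h * u = u * h)
    (f : Set (Cfsg.IrrCharacter K)) (hf : Cfsg.IsPBlock M f) (χ : Cfsg.IrrCharacter G) :
    Cfsg.classInner (h7_ii_Xi p K f u (χ : G → ℂ)) (χ : G → ℂ) = h7_gk_W p K f u χ χ := by
  classical
  haveI : Fintype (Cfsg.IrrCharacter K) := Fintype.ofFinite _
  obtain ⟨ξ₀, rfl⟩ := hf
  have hχcl : Cfsg.IsClassFunction G (χ : G → ℂ) := fun g h => irr_conj_invariant χ g h
  unfold h7_ii_Xi
  rw [h7_frobenius_reciprocity K _ _ hχcl]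
  unfold h7_gk_W
  rw [su_stepa hM ξ₀ _ _ (fun g h => st_theta_class K u hcent χ g h)]
  unfold Cfsg.classInner
  congr 1
  rw [← Equiv.sum_comp (Equiv.mulLeft (⟨u, huK⟩ : K))]
  refine Finset.sum_congr rfl fun s _ => ?_
  rw [Equiv.coe_mulLeft, h7_ii_sec_mul]
  rfl

open Classical in
/-- the contribution of a single `x` to `[Ξ, Ξ']` -/
theorem h7_ii_perx {G : Type*} [Group G] [Fintype G] (p : ℕ) [hp : Fact p.Prime]
    (M : Ideal Cfsg.AlgInt) (hM : Cfsg.IsPModular p M)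
    (K K' : Subgroup G) [Fintype K] [Fintype K'] (u u' : G) (huK : u ∈ K) (hu'K' : u' ∈ K')
    (hcent : ∀ h ∈ K, h * u = u * h) (hcentc : ∀ g : G, g * u = u * g → g ∈ K)
    (hcent' : ∀ h ∈ K', h * u' = u' * h) (hcentc' : ∀ g : G, g * u' = u' * g → g ∈ K')
    (hu : ∃ k : ℕ, orderOf u = p ^ k) (hu' : ∃ k : ℕ, orderOf u' = p ^ k)
    (f : Set (Cfsg.IrrCharacter K)) (hf : Cfsg.IsPBlock M f)
    (f' : Set (Cfsg.IrrCharacter K')) (hf' : Cfsg.IsPBlock M f')
    (χ : Cfsg.IrrCharacter G) (x : G) :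
    (Nat.card K : ℂ)⁻¹ * ∑ y : K, h7_ii_sec p K f u (χ : G → ℂ) y *
        conj (Cfsg.extendByZero K' (h7_ii_sec p K' f' u' (χ : G → ℂ)) (x⁻¹ * (y : G) * x)) =
      if (x⁻¹ * u * x = u' ∧ ∀ σ : K ≃* K', (∀ s : K, ((σ s : K') : G) = x⁻¹ * (s : G) * x) →
          bq_trSet σ f' = f) then h7_gk_W p K f u χ χ else 0 := by
  classical
  haveI : Fintype (Cfsg.IrrCharacter K) := Fintype.ofFinite _
  haveI : Fintype (Cfsg.IrrCharacter K') := Fintype.ofFinite _
  set θ : K → ℂ := fun c => (χ : G → ℂ) (u * (c : G)) with hθ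
  set θ' : K' → ℂ := fun c => (χ : G → ℂ) (u' * (c : G)) with hθ'
  set X : K → ℂ := Cfsg.pRegularPart p (Cfsg.blockPart f θ) with hX
  set X' : K' → ℂ := Cfsg.pRegularPart p (Cfsg.blockPart f' θ') with hX'
  -- reindex by `y = u s`
  have hre : ∑ y : K, h7_ii_sec p K f u (χ : G → ℂ) y *
        conj (Cfsg.extendByZero K' (h7_ii_sec p K' f' u' (χ : G → ℂ)) (x⁻¹ * (y : G) * x)) =
      ∑ s : K, X s *
        conj (Cfsg.extendByZero K' (h7_ii_sec p K' f' u' (χ : G → ℂ)) (x⁻¹ * (u * (s : G)) * x)) := by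
    rw [← Equiv.sum_comp (Equiv.mulLeft (⟨u, huK⟩ : K))]
    refine Finset.sum_congr rfl fun s _ => ?_
    rw [Equiv.coe_mulLeft, h7_ii_sec_mul]
    rfl
  rw [hre]
  by_cases hxu : x⁻¹ * u * x = u'
  · -- the conjugation isomorphism
    have hKK : ∀ s : G, s ∈ K ↔ x⁻¹ * s * x ∈ K' := by
      intro s
      constructor
      · intro hs
        apply hcentc'
        rw [← hxu]
        have := hcent s hs
        calc x⁻¹ * s * x * (x⁻¹ * u * x) = x⁻¹ * (s * u) * x := by group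
          _ = x⁻¹ * (u * s) * x := by rw [this]
          _ = x⁻¹ * u * x * (x⁻¹ * s * x) := by group
      · intro hs
        apply hcentc
        have := hcent' _ hs
        rw [← hxu] at this
        have e1 : s * u = x * (x⁻¹ * s * x * (x⁻¹ * u * x)) * x⁻¹ := by group
        have e2 : u * s = x * (x⁻¹ * u * x * (x⁻¹ * s * x)) * x⁻¹ := by group
        rw [e1, e2, this]
    set σ := h7_ii_conjEquiv K K' x hKK with hσ
    have hσv : ∀ s : K, ((σ s : K') : G) = x⁻¹ * (s : G) * x := fun s => rfl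
    have hθσ : (fun a : K => θ' (σ a)) = θ := by
      funext a
      show (χ : G → ℂ) (u' * (x⁻¹ * (a : G) * x)) = (χ : G → ℂ) (u * (a : G))
      rw [← hxu]
      have e : x⁻¹ * u * x * (x⁻¹ * (a : G) * x) = x⁻¹ * (u * (a : G)) * x⁻¹⁻¹ := by group
      rw [e]
      exact irr_conj_invariant χ _ _
    have hterm : ∀ s : K, X s *
        conj (Cfsg.extendByZero K' (h7_ii_sec p K' f' u' (χ : G → ℂ)) (x⁻¹ * (u * (s : G)) * x)) =
        X s * conj (Cfsg.blockPart (bq_trSet σ f') θ s) := by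
      intro s
      by_cases hs : p ∣ orderOf s
      · rw [hX, br_pRegularPart_sing p _ s hs, zero_mul, zero_mul]
      · congr 2
        have e : x⁻¹ * (u * (s : G)) * x = (((⟨u', hu'K'⟩ : K') * σ s : K') : G) := by
          show x⁻¹ * (u * (s : G)) * x = u' * (x⁻¹ * (s : G) * x)
          rw [← hxu]
          group
        rw [e, h7_extendByZero_coe, h7_ii_sec_mul]
        have hs' : ¬ p ∣ orderOf (σ s) := by
          rw [MulEquiv.orderOf_eq]
          exact hs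
        rw [br_pRegularPart_reg p _ _ hs', ← hθσ, h7_ii_blockPart_tr]
    rw [Finset.sum_congr rfl (fun s _ => hterm s)]
    have hfb' : Cfsg.IsPBlock M (bq_trSet σ f') := bq_trSet_isBlock M σ f' hf'
    have hci : (Nat.card K : ℂ)⁻¹ * ∑ s : K, X s * conj (Cfsg.blockPart (bq_trSet σ f') θ s) =
        Cfsg.classInner X (Cfsg.blockPart (bq_trSet σ f') θ) := rfl
    rw [hci]
    by_cases hP : bq_trSet σ f' = f
    · rw [if_pos]
      · rw [hP]
        rfl
      · refine ⟨hxu, fun σ₂ hσ₂ => ?_⟩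
        have : σ₂ = σ := by
          ext s
          rw [hσ₂ s, hσv s]
        rw [this]
        exact hP
    · rw [if_neg]
      · exact h7_ii_block_orth hM f (bq_trSet σ f') hf hfb' hP θ θ
      · rintro ⟨-, h⟩
        exact hP (h σ hσv)
  · rw [if_neg (fun h => hxu h.1)]
    rw [Finset.sum_eq_zero, mul_zero]
    intro s _
    by_cases hs : p ∣ orderOf s
    · rw [hX, br_pRegularPart_sing p _ s hs, zero_mul]
    by_cases hy' : x⁻¹ * (u * (s : G)) * x ∈ K'
    swap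
    · rw [h7_extendByZero_not_mem K' _ _ hy', map_zero, mul_zero]
    rw [h7_extendByZero_mem K' _ _ hy']
    unfold h7_ii_sec
    by_cases hmem : u'⁻¹ * (x⁻¹ * (u * (s : G)) * x) ∈ K'
    swap
    · rw [dif_neg hmem, map_zero, mul_zero]
    rw [dif_pos hmem]
    by_cases ht : p ∣ orderOf (⟨u'⁻¹ * (x⁻¹ * (u * (s : G)) * x), hmem⟩ : K')
    · rw [br_pRegularPart_sing p _ _ ht, map_zero, mul_zero]
    exfalso
    apply hxu
    have hsG : ¬ p ∣ orderOf (s : G) := by rwa [Subgroup.orderOf_coe]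
    have htG : ¬ p ∣ orderOf (u'⁻¹ * (x⁻¹ * (u * (s : G)) * x)) := by
      have := Subgroup.orderOf_coe (⟨u'⁻¹ * (x⁻¹ * (u * (s : G)) * x), hmem⟩ : K')
      rw [← this] at ht
      exact ht
    have hus : Commute u (s : G) := (hcent _ s.2).symm
    have h1 : Cfsg.IsPPart p (x⁻¹ * (u * (s : G)) * x) (x⁻¹ * u * x) := by
      have h0 : Cfsg.IsPPart p (u * (s : G)) u := ⟨(s : G), rfl, hus, hu, hsG⟩
      have := h7_isPPart_conj x⁻¹ _ _ h0
      rwa [inv_inv] at this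
    have h2 : Cfsg.IsPPart p (x⁻¹ * (u * (s : G)) * x) u' := by
      refine ⟨u'⁻¹ * (x⁻¹ * (u * (s : G)) * x), by group, ?_, hu', htG⟩
      exact (hcent' _ hmem).symm
    exact h7_isPPart_unique _ _ _ h2 h1

open Classical in
/-- the inner product `[Ξ, Ξ']` -/
theorem h7_ii_Xi_Xi {G : Type*} [Group G] [Fintype G] (p : ℕ) [hp : Fact p.Prime]
    (M : Ideal Cfsg.AlgInt) (hM : Cfsg.IsPModular p M)
    (K K' : Subgroup G) [Fintype K] [Fintype K'] (u u' : G) (huK : u ∈ K) (hu'K' : u' ∈ K')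
    (hcent : ∀ h ∈ K, h * u = u * h) (hcentc : ∀ g : G, g * u = u * g → g ∈ K)
    (hcent' : ∀ h ∈ K', h * u' = u' * h) (hcentc' : ∀ g : G, g * u' = u' * g → g ∈ K')
    (hu : ∃ k : ℕ, orderOf u = p ^ k) (hu' : ∃ k : ℕ, orderOf u' = p ^ k)
    (f : Set (Cfsg.IrrCharacter K)) (hf : Cfsg.IsPBlock M f)
    (f' : Set (Cfsg.IrrCharacter K')) (hf' : Cfsg.IsPBlock M f')
    (χ : Cfsg.IrrCharacter G) :
    Cfsg.classInner (h7_ii_Xi p K f u (χ : G → ℂ)) (h7_ii_Xi p K' f' u' (χ : G → ℂ)) =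
      (Nat.card K' : ℂ)⁻¹ * ∑ x : G,
        (if (x⁻¹ * u * x = u' ∧ ∀ σ : K ≃* K', (∀ s : K, ((σ s : K') : G) = x⁻¹ * (s : G) * x) →
          bq_trSet σ f' = f) then h7_gk_W p K f u χ χ else 0) := by
  have hcl : Cfsg.IsClassFunction G (h7_ii_Xi p K' f' u' (χ : G → ℂ)) :=
    h7_indFun_isClassFunction K' _
  have h1 : Cfsg.classInner (h7_ii_Xi p K f u (χ : G → ℂ)) (h7_ii_Xi p K' f' u' (χ : G → ℂ)) =
      Cfsg.classInner (h7_ii_sec p K f u (χ : G → ℂ))
        (fun h : K => h7_ii_Xi p K' f' u' (χ : G → ℂ) h) :=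
    h7_frobenius_reciprocity K _ _ hcl
  rw [h1]
  have h2 : Cfsg.classInner (h7_ii_sec p K f u (χ : G → ℂ))
        (fun h : K => h7_ii_Xi p K' f' u' (χ : G → ℂ) h) =
      (Nat.card K' : ℂ)⁻¹ * ∑ x : G, ((Nat.card K : ℂ)⁻¹ *
        ∑ y : K, h7_ii_sec p K f u (χ : G → ℂ) y *
          conj (Cfsg.extendByZero K' (h7_ii_sec p K' f' u' (χ : G → ℂ)) (x⁻¹ * (y : G) * x))) := by
    unfold Cfsg.classInner h7_ii_Xi Cfsg.indFun
    rw [← Finset.mul_sum, Finset.sum_comm, ← mul_assoc, mul_comm (Nat.card K' : ℂ)⁻¹, mul_assoc]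
    congr 1
    rw [Finset.mul_sum]
    refine Finset.sum_congr rfl fun y _ => ?_
    rw [map_mul, map_inv₀, Complex.conj_natCast, map_sum, Finset.mul_sum, Finset.mul_sum,
      Finset.mul_sum]
    refine Finset.sum_congr rfl fun x _ => ?_
    ring
  rw [h2]
  congr 1
  refine Finset.sum_congr rfl fun x _ => ?_
  exact h7_ii_perx p M hM K K' u u' huK hu'K' hcent hcentc hcent' hcentc' hu hu' f hf f' hf' χ x

/-- the diagonal contribution of a subsection is a nonnegative real -/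
theorem h7_ii_W_nonneg {G : Type*} [Group G] (p : ℕ) (K : Subgroup G) [Fintype K]
    (f : Set (Cfsg.IrrCharacter K)) (u : G) (χ : Cfsg.IrrCharacter G) :
    ∃ m : ℝ, 0 ≤ m ∧ (m : ℂ) = h7_gk_W p K f u χ χ := by
  classical
  set X : K → ℂ := Cfsg.blockPart f (fun c : K => (χ : G → ℂ) (u * (c : G))) with hX
  refine ⟨(Nat.card K : ℝ)⁻¹ * ∑ s : K, (if ¬ p ∣ orderOf s then ‖X s‖ ^ 2 else 0), ?_, ?_⟩
  · apply mul_nonneg (inv_nonneg.mpr (Nat.cast_nonneg _))
    apply Finset.sum_nonneg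
    intro s _
    by_cases hs : p ∣ orderOf s
    · rw [if_neg (not_not.mpr hs)]
    · rw [if_pos hs]
      exact sq_nonneg _
  · unfold h7_gk_W Cfsg.classInner
    push_cast
    congr 1
    refine Finset.sum_congr rfl fun s _ => ?_
    by_cases hs : p ∣ orderOf s
    · rw [if_neg (not_not.mpr hs), br_pRegularPart_sing p _ s hs, zero_mul]
      simp
    · rw [if_pos hs, br_pRegularPart_reg p _ s hs, Complex.mul_conj, Complex.normSq_eq_norm_sq]

theorem h7_ii_classInner_sum_right {G : Type*} [Group G] [Fintype G] {ι : Type*} (s : Finset ι)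
    (F : G → ℂ) (H : ι → G → ℂ) :
    Cfsg.classInner F (∑ i ∈ s, H i) = ∑ i ∈ s, Cfsg.classInner F (H i) := by
  unfold Cfsg.classInner
  rw [← Finset.mul_sum, Finset.sum_comm]
  congr 1
  refine Finset.sum_congr rfl fun g _ => ?_
  rw [Finset.sum_apply, map_sum, Finset.mul_sum]

/-- Cauchy-Schwarz for the inner product of functions on a finite group -/
theorem h7_ii_cauchy {G : Type*} [Group G] [Fintype G] (F H : G → ℂ) :
    ‖Cfsg.classInner F H‖ ^ 2 ≤ (Cfsg.classInner F F).re * (Cfsg.classInner H H).re := by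
  have hself : ∀ F : G → ℂ, (Cfsg.classInner F F).re =
      (Nat.card G : ℝ)⁻¹ * ∑ g : G, ‖F g‖ ^ 2 := by
    intro F
    unfold Cfsg.classInner
    have : ∑ g : G, F g * conj (F g) = ((∑ g : G, ‖F g‖ ^ 2 : ℝ) : ℂ) := by
      push_cast
      refine Finset.sum_congr rfl fun g _ => ?_
      rw [Complex.mul_conj, Complex.normSq_eq_norm_sq]
      push_cast
      rfl
    rw [this]
    have h2 : ((Nat.card G : ℂ)⁻¹ * ((∑ g : G, ‖F g‖ ^ 2 : ℝ) : ℂ)) =
        (((Nat.card G : ℝ)⁻¹ * ∑ g : G, ‖F g‖ ^ 2 : ℝ) : ℂ) := by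
      push_cast
      rfl
    rw [h2, Complex.ofReal_re]
  rw [hself F, hself H]
  unfold Cfsg.classInner
  rw [norm_mul, mul_pow, norm_inv, Complex.norm_natCast]
  have h1 : ‖∑ g : G, F g * conj (H g)‖ ≤ ∑ g : G, ‖F g‖ * ‖H g‖ := by
    refine (norm_sum_le _ _).trans (le_of_eq ?_)
    refine Finset.sum_congr rfl fun g _ => ?_
    rw [norm_mul, Complex.norm_conj]
  have h2 : (∑ g : G, ‖F g‖ * ‖H g‖) ^ 2 ≤ (∑ g : G, ‖F g‖ ^ 2) * ∑ g : G, ‖H g‖ ^ 2 :=
    Finset.sum_mul_sq_le_sq_mul_sq _ _ _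
  have h3 : ‖∑ g : G, F g * conj (H g)‖ ^ 2 ≤ (∑ g : G, ‖F g‖ ^ 2) * ∑ g : G, ‖H g‖ ^ 2 := by
    refine le_trans ?_ h2
    exact pow_le_pow_left₀ (norm_nonneg _) h1 2
  have hc : (0 : ℝ) ≤ ((Nat.card G : ℝ)⁻¹) ^ 2 := by positivity
  calc ((Nat.card G : ℝ)⁻¹) ^ 2 * ‖∑ g : G, F g * conj (H g)‖ ^ 2
      ≤ ((Nat.card G : ℝ)⁻¹) ^ 2 * ((∑ g : G, ‖F g‖ ^ 2) * ∑ g : G, ‖H g‖ ^ 2) :=
        mul_le_mul_of_nonneg_left h3 hc
    _ = _ := by ring

/-- the number of elements conjugating `a` to `b` is at most the order of the centralizer of `b` -/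
theorem h7_ii_conj_count {G : Type*} [Group G] [Fintype G] (a b : G) (K : Subgroup G)
    (hK : ∀ g : G, g * b = b * g → g ∈ K) (Q : G → Prop) [DecidablePred Q]
    (hQ : ∀ x, Q x → x⁻¹ * a * x = b) :
    (Finset.univ.filter Q).card ≤ Nat.card K := by
  classical
  have hcardK : Nat.card K = (Finset.univ.filter (fun g : G => g ∈ K)).card := by
    rw [Nat.card_eq_fintype_card]
    exact Fintype.card_subtype _
  rw [hcardK]
  by_cases hne : (Finset.univ.filter Q).Nonempty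
  · obtain ⟨x₀, hx₀⟩ := hne
    rw [Finset.mem_filter] at hx₀
    have hx₀' := hQ x₀ hx₀.2
    apply Finset.card_le_card_of_injOn (fun x => x₀⁻¹ * x)
    · intro x hx
      have hx' := hQ x (Finset.mem_filter.mp hx).2
      rw [Finset.mem_coe, Finset.mem_filter]
      refine ⟨Finset.mem_univ _, hK _ ?_⟩
      have e1 : x₀⁻¹ * x * b = x₀⁻¹ * (x * b * x⁻¹) * x := by group
      have e2 : x * b * x⁻¹ = a := by rw [← hx']; group
      have e3 : b * (x₀⁻¹ * x) = x₀⁻¹ * (x₀ * b * x₀⁻¹) * x := by group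
      have e4 : x₀ * b * x₀⁻¹ = a := by rw [← hx₀']; group
      rw [e1, e2, e3, e4]
    · intro x _ y _ hxy
      exact mul_left_cancel hxy
  · rw [Finset.not_nonempty_iff_eq_empty.mp hne]
    exact Nat.zero_le _

open Classical in
/-- **upper bound** for the sum of the diagonal contributions of a family of subsections whose
fusion is controlled by a relation with small fibres -/
theorem h7_ii_upper {G : Type*} [Group G] [Fintype G] (p : ℕ) [hp : Fact p.Prime]
    (M : Ideal Cfsg.AlgInt) (hM : Cfsg.IsPModular p M) (χ : Cfsg.IrrCharacter G)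
    {ι : Type*} [Fintype ι] (z : ι → G) (K : ι → Subgroup G) [hKfin : ∀ i, Fintype (K i)]
    (f : ∀ i, Set (Cfsg.IrrCharacter (K i)))
    (hzK : ∀ i, z i ∈ K i) (hcent : ∀ i, ∀ h ∈ K i, h * z i = z i * h)
    (hcentc : ∀ i, ∀ g : G, g * z i = z i * g → g ∈ K i)
    (hz : ∀ i, ∃ k : ℕ, orderOf (z i) = p ^ k) (hf : ∀ i, Cfsg.IsPBlock M (f i))
    (R : ι → ι → Prop) (e : ℕ)
    (hR : ∀ i j (x : G), x⁻¹ * z i * x = z j →
      (∀ σ : K i ≃* K j, (∀ s : K i, ((σ s : K j) : G) = x⁻¹ * (s : G) * x) →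
        bq_trSet σ (f j) = f i) → R i j)
    (hcount : ∀ i (S : Finset ι), (∀ j ∈ S, R i j) → S.card ≤ e)
    (m : ι → ℝ) (hm0 : ∀ i, 0 ≤ m i)
    (hm : ∀ i, (m i : ℂ) = h7_gk_W p (K i) (f i) (z i) χ χ) :
    ∑ i, m i ≤ e := by
  set Ξ : ι → G → ℂ := fun i => h7_ii_Xi p (K i) (f i) (z i) (χ : G → ℂ) with hΞ
  set Φ : G → ℂ := ∑ i, Ξ i with hΦ
  set S : ℝ := ∑ i, m i with hS
  have hS0 : 0 ≤ S := Finset.sum_nonneg fun i _ => hm0 i
  -- (a)
  have hA : Cfsg.classInner Φ (χ : G → ℂ) = (S : ℂ) := by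
    rw [hΦ, classInner_sum_left, hS]
    push_cast
    refine Finset.sum_congr rfl fun i _ => ?_
    rw [hm i]
    exact h7_ii_Xi_chi p M hM (K i) (z i) (hzK i) (hcent i) (f i) (hf i) χ
  -- (b)
  have hpair : ∀ i j, (Cfsg.classInner (Ξ i) (Ξ j)).re ≤ (if R i j then m i else 0) := by
    intro i j
    have h1 := h7_ii_Xi_Xi p M hM (K i) (K j) (z i) (z j) (hzK i) (hzK j) (hcent i) (hcentc i)
      (hcent j) (hcentc j) (hz i) (hz j) (f i) (hf i) (f j) (hf j) χ
    rw [← hm i, Finset.sum_ite, Finset.sum_const_zero, add_zero, Finset.sum_const,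
      nsmul_eq_mul] at h1
    set n := (Finset.univ.filter (fun x : G => x⁻¹ * z i * x = z j ∧
      ∀ σ : K i ≃* K j, (∀ s : K i, ((σ s : K j) : G) = x⁻¹ * (s : G) * x) →
        bq_trSet σ (f j) = f i)).card with hn
    have h2 : Cfsg.classInner (Ξ i) (Ξ j) =
        (((Nat.card (K j) : ℝ)⁻¹ * ((n : ℝ) * m i) : ℝ) : ℂ) := by
      rw [h1]
      push_cast
      rfl
    rw [h2, Complex.ofReal_re]
    have hnK : n ≤ Nat.card (K j) :=
      h7_ii_conj_count (z i) (z j) (K j) (hcentc j) _ (fun x hx => hx.1)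
    have hKpos : (0 : ℝ) < Nat.card (K j) := by exact_mod_cast Nat.card_pos
    by_cases hRij : R i j
    · rw [if_pos hRij]
      have h3 : (n : ℝ) ≤ Nat.card (K j) := by exact_mod_cast hnK
      have h4 : (Nat.card (K j) : ℝ)⁻¹ * ((n : ℝ) * m i) =
          ((n : ℝ) / Nat.card (K j)) * m i := by
        field_simp
      rw [h4]
      have h5 : (n : ℝ) / Nat.card (K j) ≤ 1 := (div_le_one hKpos).mpr h3
      calc (n : ℝ) / Nat.card (K j) * m i ≤ 1 * m i :=
            mul_le_mul_of_nonneg_right h5 (hm0 i)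
        _ = m i := one_mul _
    · rw [if_neg hRij]
      have hn0 : n = 0 := by
        rw [hn, Finset.card_eq_zero, Finset.filter_eq_empty_iff]
        intro x _ hx
        exact hRij (hR i j x hx.1 hx.2)
      rw [hn0]
      simp
  have hB : (Cfsg.classInner Φ Φ).re ≤ e * S := by
    have h1 : Cfsg.classInner Φ Φ = ∑ i, ∑ j, Cfsg.classInner (Ξ i) (Ξ j) := by
      rw [hΦ, classInner_sum_left]
      refine Finset.sum_congr rfl fun i _ => ?_
      rw [h7_ii_classInner_sum_right]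
    rw [h1, Complex.re_sum]
    have h2 : ∀ i, (∑ j, Cfsg.classInner (Ξ i) (Ξ j)).re ≤ e * m i := by
      intro i
      rw [Complex.re_sum]
      calc ∑ j, (Cfsg.classInner (Ξ i) (Ξ j)).re
          ≤ ∑ j, (if R i j then m i else 0) := Finset.sum_le_sum fun j _ => hpair i j
        _ = ((Finset.univ.filter (fun j => R i j)).card : ℝ) * m i := by
            rw [Finset.sum_ite, Finset.sum_const_zero, add_zero, Finset.sum_const, nsmul_eq_mul]
        _ ≤ e * m i := by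
            apply mul_le_mul_of_nonneg_right _ (hm0 i)
            exact_mod_cast hcount i _ (fun j hj => (Finset.mem_filter.mp hj).2)
    calc ∑ i, (∑ j, Cfsg.classInner (Ξ i) (Ξ j)).re ≤ ∑ i, (e : ℝ) * m i :=
          Finset.sum_le_sum fun i _ => h2 i
      _ = e * S := by rw [hS, Finset.mul_sum]
  -- (c)
  have hC := h7_ii_cauchy Φ (χ : G → ℂ)
  have hχχ : Cfsg.classInner (χ : G → ℂ) (χ : G → ℂ) = 1 := by
    rw [irr_classInner, if_pos rfl]
  rw [hA, hχχ, Complex.one_re, mul_one, Complex.norm_real, Real.norm_eq_abs, sq_abs] at hC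
  have hD : S ^ 2 ≤ e * S := hC.trans hB
  by_cases hS1 : S = 0
  · rw [hS1]
    exact Nat.cast_nonneg _
  · have hSpos : 0 < S := lt_of_le_of_ne hS0 (Ne.symm hS1)
    have : S * S ≤ e * S := by rw [← pow_two]; exact hD
    exact le_of_mul_le_mul_right this hSpos

end Cfsg.Agent.Lib.helper7
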