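import Mathlib
import Cfsg.Agent.Lib.helper7.IID
import Cfsg.Agent.Lib.Helper25.HeightZeroCrit
import Cfsg.Agent.Lib.Helper25.SubsectionBound
import Cfsg.Agent.Lib.Helper24.GaloisNorm

/-!
Lower bound for the Galois average of the diagonal contributions of a major subsection.
-/

set_option autoImplicit false
set_option linter.style.haveILetI false
set_option linter.unusedVariables false
set_option linter.unusedSectionVars false
set_option warn.classDefReducibility false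
set_option maxHeartbeats 1600000

namespace Cfsg.Agent.Lib.helper7
open scoped ComplexConjugate
open Polynomial
open Cfsg.Agent.Lib.helper2
open Cfsg.Agent.Lib.Helper25
open Cfsg.Agent.Lib.Helper24

/-- positive reals with product at least `1` have sum at least their number -/
theorem h7_ii_amgm (J : Finset ℕ) (x : ℕ → ℝ) (hx : ∀ j ∈ J, 0 < x j)
    (hP : 1 ≤ ∏ j ∈ J, x j) : (J.card : ℝ) ≤ ∑ j ∈ J, x j := by
  have h1 : ∑ j ∈ J, Real.log (x j) ≤ ∑ j ∈ J, (x j - 1) :=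
    Finset.sum_le_sum fun j hj => Real.log_le_sub_one_of_pos (hx j hj)
  have h2 : Real.log (∏ j ∈ J, x j) = ∑ j ∈ J, Real.log (x j) :=
    Real.log_prod fun j hj => (hx j hj).ne'
  have h3 : 0 ≤ Real.log (∏ j ∈ J, x j) := Real.log_nonneg hP
  have h4 : ∑ j ∈ J, (x j - 1) = ∑ j ∈ J, x j - J.card := by
    rw [Finset.sum_sub_distrib, Finset.sum_const, nsmul_eq_mul, mul_one]
  linarith

/-- an integer divisible by `p^h` in the local ring is divisible by `p^h` in `ℤ` -/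
theorem h7_ii_int_div {p : ℕ} [hp : Fact p.Prime] {M : Ideal Cfsg.AlgInt}
    (hM : Cfsg.IsPModular p M) (h : ℕ) :
    ∀ a : ℤ, Cfsg.MemLocalRing M ((a : ℂ) / (p : ℂ) ^ h) → (p : ℤ) ^ h ∣ a := by
  have hMp := hM.2.1.isPrime
  have hp0 : (p : ℂ) ≠ 0 := by exact_mod_cast hp.out.ne_zero
  induction h with
  | zero => intro a _; simp
  | succ h ih =>
    intro a ha
    have hpR : Cfsg.MemLocalRing M ((p : ℂ) ^ h) := by
      have := h7_memLocalRing_natCast hMp (p ^ h)
      push_cast at this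
      exact this
    have h1 : Cfsg.MemLocalIdeal M (a : ℂ) := by
      have h2 := h7_memLocalIdeal_mul_right hMp (h7_memLocalIdeal_p hM)
        (h7_memLocalRing_mul hMp hpR ha)
      have e : (p : ℂ) * ((p : ℂ) ^ h * ((a : ℂ) / (p : ℂ) ^ (h + 1))) = (a : ℂ) := by
        rw [pow_succ]
        field_simp
      rwa [e] at h2
    obtain ⟨a', rfl⟩ := (hz_memLocalIdeal_intCast_iff hM a).mp h1
    have h3 : Cfsg.MemLocalRing M ((a' : ℂ) / (p : ℂ) ^ h) := by
      have e : ((((p : ℤ) * a' : ℤ)) : ℂ) / (p : ℂ) ^ (h + 1) = (a' : ℂ) / (p : ℂ) ^ h := by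
        push_cast
        rw [pow_succ]
        field_simp
      rwa [e] at ha
    obtain ⟨q, rfl⟩ := ih a' h3
    exact ⟨q, by ring⟩

theorem h7_ii_memLocalRing_prod {M : Ideal Cfsg.AlgInt} (hM : M.IsPrime) {ι : Type*}
    (s : Finset ι) (f : ι → ℂ)
    (h : ∀ i ∈ s, Cfsg.MemLocalRing M (f i)) : Cfsg.MemLocalRing M (∏ i ∈ s, f i) := by
  classical
  induction s using Finset.induction_on with
  | empty =>
    rw [Finset.prod_empty]
    have := h7_memLocalRing_natCast hM 1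
    simpa using this
  | insert a s ha ih =>
    rw [Finset.prod_insert ha]
    exact h7_memLocalRing_mul hM (h a (Finset.mem_insert_self a s))
      (ih fun i hi => h i (Finset.mem_insert_of_mem hi))

/-- a block contains a character of height zero -/
theorem h7_ii_exists_height_zero {G : Type*} [Group G] [Finite G] (p : ℕ)
    {M : Ideal Cfsg.AlgInt} (hP : M.IsPrime) (B : Set (Cfsg.IrrCharacter G))
    (hB : Cfsg.IsPBlock M B) :
    ∃ ψ : Cfsg.IrrCharacter G, ψ ∈ B ∧ Cfsg.blockHeight p B (ψ : G → ℂ) = 0 := by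
  haveI : Fintype G := Fintype.ofFinite G
  haveI : Fintype (Cfsg.IrrCharacter G) := Fintype.ofFinite _
  obtain ⟨χ₀, rfl⟩ := hB
  have hne : ((fun χ : Cfsg.IrrCharacter G => (Cfsg.charDegree (χ : G → ℂ)).factorization p) ''
      Cfsg.blockOf M (χ₀ : G → ℂ)).Nonempty :=
    ⟨_, χ₀, h7_sameBlock_refl hP _, rfl⟩
  obtain ⟨ψ, hψ, heq⟩ := Nat.sInf_mem hne
  refine ⟨ψ, hψ, ?_⟩
  unfold Cfsg.blockHeight
  simp only at heq
  rw [heq]
  exact Nat.sub_self _

/-- the diagonal contribution of a major subsection does not vanish -/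
theorem h7_ii_W_ne_zero {G : Type*} [Group G] [Fintype G] (p : ℕ) [hp : Fact p.Prime]
    (M : Ideal Cfsg.AlgInt) (hM : Cfsg.IsPModular p M) (B : Set (Cfsg.IrrCharacter G))
    (y : G) (k : ℕ) (hk : orderOf y = p ^ k)
    (K : Subgroup G) [Fintype K] (hK : K = Subgroup.centralizer ({y} : Set G))
    (b : Set (Cfsg.IrrCharacter K))
    (hind : Cfsg.IsInducedBlock M K b B)
    (hdef : Cfsg.blockDefect p b = Cfsg.blockDefect p B)
    (χ : Cfsg.IrrCharacter G) (hχ : χ ∈ B) (j : ℕ) (hj : (p ^ k).Coprime j) :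
    h7_gk_W p K b (y ^ j) χ χ ≠ 0 := by
  classical
  haveI : Fintype (Cfsg.IrrCharacter K) := Fintype.ofFinite _
  haveI : Fintype (Cfsg.IrrCharacter G) := Fintype.ofFinite _
  have hMp := hM.2.1.isPrime
  have hyK : y ∈ K := by
    rw [hK]
    exact Subgroup.mem_centralizer_singleton_iff.mpr rfl
  have hcenty : ∀ h ∈ K, h * y = y * h := fun h hh =>
    Subgroup.mem_centralizer_singleton_iff.mp (hK ▸ hh)
  have hyk : y ^ (p ^ k) = 1 := by rw [← hk]; exact pow_orderOf_eq_one y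
  obtain ⟨huK, hcent, hcent', hu⟩ : y ^ j ∈ K ∧ (∀ h ∈ K, h * y ^ j = y ^ j * h) ∧
      (∀ g : G, g * y ^ j = y ^ j * g → g ∈ K) ∧ (∃ k' : ℕ, orderOf (y ^ j) = p ^ k') := by
    have h0 := su_pow_hyp p y k hk j (by rw [hk]; exact hj)
    rw [← hK] at h0
    exact h0
  obtain ⟨ψ₀, hψ₀, hψ₀h⟩ := h7_ii_exists_height_zero p hMp B hind.2.1
  intro h0
  -- all `W(χ, ψ)` vanish
  have hidem := su_idem p M hM K (y ^ j) huK hcent hcent' hu b B hind χ χ
  have hidem' : ∑ᶠ ψ ∈ B, h7_gk_W p K b (y ^ j) χ ψ * conj (h7_gk_W p K b (y ^ j) χ ψ) =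
      h7_gk_W p K b (y ^ j) χ χ := hidem
  rw [h0, h7_finsum_mem_fintype] at hidem'
  have hreal : ∀ ψ : Cfsg.IrrCharacter G,
      (if ψ ∈ B then h7_gk_W p K b (y ^ j) χ ψ * conj (h7_gk_W p K b (y ^ j) χ ψ) else 0) =
      (((if ψ ∈ B then ‖h7_gk_W p K b (y ^ j) χ ψ‖ ^ 2 else 0 : ℝ)) : ℂ) := by
    intro ψ
    split_ifs
    · rw [Complex.mul_conj, Complex.normSq_eq_norm_sq]
    · simp
  rw [Finset.sum_congr rfl (fun ψ _ => hreal ψ), ← Complex.ofReal_sum, Complex.ofReal_eq_zero] at hidem'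
  have hall := (Finset.sum_eq_zero_iff_of_nonneg (fun ψ _ => by
    split_ifs
    · exact sq_nonneg _
    · exact le_refl (0 : ℝ))).mp hidem' ψ₀ (Finset.mem_univ _)
  rw [if_pos hψ₀] at hall
  have hW0 : h7_gk_W p K b (y ^ j) χ ψ₀ = 0 := by
    have := pow_eq_zero_iff (two_ne_zero) |>.mp hall
    exact norm_eq_zero.mp this
  -- hermitian symmetry
  have hsym : h7_gk_W p K b (y ^ j) ψ₀ χ = conj (h7_gk_W p K b (y ^ j) χ ψ₀) := by
    unfold h7_gk_W
    set θ : Cfsg.IrrCharacter G → K → ℂ := fun φ c => (φ : G → ℂ) (y ^ j * (c : G)) with hθ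
    obtain ⟨ξ₀, rfl⟩ := hind.1
    have hθcl : ∀ (φ : Cfsg.IrrCharacter G) (g h : K), θ φ (h * g * h⁻¹) = θ φ g :=
      fun φ g h => st_theta_class K (y ^ j) hcent φ g h
    rw [su_stepa hM ξ₀ (θ ψ₀) (θ χ) (hθcl χ)]
    rw [Cfsg.Agent.Lib.Helper25.classInner_conj_symm (Cfsg.blockPart _ (θ ψ₀))
      (Cfsg.pRegularPart p (Cfsg.blockPart _ (θ χ)))]
    rw [Complex.conj_conj]
    -- `[X_ψ₀°, θ_χ] = [F_ψ₀, X_χ°]`
    have h1 : Cfsg.classInner (Cfsg.pRegularPart p (Cfsg.blockPart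
        (Cfsg.blockOf M (ξ₀ : K → ℂ)) (θ ψ₀))) (θ χ) =
        Cfsg.classInner (Cfsg.pRegularPart p (Cfsg.blockPart
          (Cfsg.blockOf M (ξ₀ : K → ℂ)) (θ ψ₀)))
          (Cfsg.blockPart (Cfsg.blockOf M (ξ₀ : K → ℂ)) (θ χ)) :=
      (su_stepa hM ξ₀ (θ ψ₀) (θ χ) (hθcl χ)).symm
    rw [h1]
    unfold Cfsg.classInner
    congr 1
    refine Finset.sum_congr rfl fun s _ => ?_
    by_cases hs : p ∣ orderOf s
    · rw [br_pRegularPart_sing p _ s hs, br_pRegularPart_sing p _ s hs, zero_mul, map_zero,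
        mul_zero]
    · rw [br_pRegularPart_reg p _ s hs, br_pRegularPart_reg p _ s hs]
  rw [hW0, map_zero] at hsym
  -- congruence
  have hcong := (h7_gk_cong p M hM K (y ^ j) huK hcent hcent' hu b B hind hdef ψ₀ χ ψ₀ hχ hψ₀).2
  rw [hsym, mul_zero, zero_div, hψ₀h, pow_zero, div_one] at hcong
  have hmem := hcong (h7_memLocalIdeal_zero hMp)
  exact su_unit p M hM K y hyK hcenty k hyk b B hind ψ₀ ψ₀ hψ₀ hψ₀ hψ₀h hψ₀h j hmem

/-- **lower bound**: the Galois average of the diagonal contributions of a major subsection is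
at least `p^(h - d)` -/
theorem h7_ii_lower {G : Type*} [Group G] [Fintype G] (p : ℕ) [hp : Fact p.Prime]
    (M : Ideal Cfsg.AlgInt) (hM : Cfsg.IsPModular p M) (B : Set (Cfsg.IrrCharacter G))
    (y : G) (k : ℕ) (hk : orderOf y = p ^ k)
    (K : Subgroup G) [Fintype K] (hK : K = Subgroup.centralizer ({y} : Set G))
    (b : Set (Cfsg.IrrCharacter K))
    (hind : Cfsg.IsInducedBlock M K b B)
    (hdef : Cfsg.blockDefect p b = Cfsg.blockDefect p B)
    (χ : Cfsg.IrrCharacter G) (hχ : χ ∈ B)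
    (m : ℕ → ℝ) (hm : ∀ j, (m j : ℂ) = h7_gk_W p K b (y ^ j) χ χ) :
    (((Finset.range (p ^ k)).filter (Nat.Coprime (p ^ k))).card : ℝ) *
        (p : ℝ) ^ Cfsg.blockHeight p B (χ : G → ℂ) ≤
      (p : ℝ) ^ Cfsg.blockDefect p B *
        ∑ j ∈ (Finset.range (p ^ k)).filter (Nat.Coprime (p ^ k)), m j := by
  classical
  haveI : Fintype (Cfsg.IrrCharacter K) := Fintype.ofFinite _
  haveI : Fintype (Cfsg.IrrCharacter G) := Fintype.ofFinite _
  have hMp := hM.2.1.isPrime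
  obtain ⟨ζ, f, hζ, hf, -⟩ := h7_gk_data p M hM B y k hk K hK b hind
  rw [hdef] at hf
  set d := Cfsg.blockDefect p B with hd
  set h := Cfsg.blockHeight p B (χ : G → ℂ) with hh
  set n := p ^ k with hn
  have hn0 : 0 < n := pow_pos hp.out.pos _
  set J := (Finset.range n).filter (Nat.Coprime n) with hJ
  have hpR : (0 : ℝ) < p := by exact_mod_cast hp.out.pos
  have hpC : (p : ℂ) ≠ 0 := by exact_mod_cast hp.out.ne_zero
  -- positivity
  have hpos : ∀ j, n.Coprime j → 0 < m j := by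
    intro j hj
    obtain ⟨m', hm'0, hm'⟩ := h7_ii_W_nonneg p K b (y ^ j) χ
    have e : m j = m' := by
      apply Complex.ofReal_injective
      rw [hm j, hm']
    rw [e]
    apply lt_of_le_of_ne hm'0
    intro h0
    apply h7_ii_W_ne_zero p M hM B y k hk K hK b hind hdef χ hχ j hj
    rw [← hm', ← h0]
    simp
  -- the values
  have hv : ∀ j, aeval (ζ ^ j) (f χ χ) = (((p : ℝ) ^ d * m j : ℝ) : ℂ) := by
    intro j
    rw [hf χ χ j, ← hm j]
    push_cast
    rfl
  -- local integrality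
  have hloc : ∀ j, n.Coprime j →
      Cfsg.MemLocalRing M (aeval (ζ ^ j) (f χ χ) / (p : ℂ) ^ h) := by
    intro j hj
    obtain ⟨huK, hcent, hcent', hu⟩ : y ^ j ∈ K ∧ (∀ h ∈ K, h * y ^ j = y ^ j * h) ∧
        (∀ g : G, g * y ^ j = y ^ j * g → g ∈ K) ∧ (∃ k' : ℕ, orderOf (y ^ j) = p ^ k') := by
      have h0 := su_pow_hyp p y k hk j (by rw [hk]; exact hj)
      rw [← hK] at h0
      exact h0
    have := (h7_gk_cong p M hM K (y ^ j) huK hcent hcent' hu b B hind hdef χ χ χ hχ hχ).1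
    rw [hdef] at this
    rw [hf χ χ j]
    exact this
  -- the norm
  have h1J : n.Coprime 1 := Nat.coprime_one_right n
  have hne : aeval ζ (f χ χ) ≠ 0 := by
    have := hv 1
    rw [pow_one] at this
    rw [this]
    have := hpos 1 h1J
    have h2 : (0 : ℝ) < (p : ℝ) ^ d * m 1 := by positivity
    exact_mod_cast h2.ne'
  obtain ⟨N, hN0, hN⟩ := gn_prod_range n hn0 (f χ χ) ζ hζ hne
  -- `N` is positive
  have hprodR : ((∏ j ∈ J, ((p : ℝ) ^ d * m j) : ℝ) : ℂ) = (N : ℂ) := by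
    rw [← hN]
    push_cast
    refine Finset.prod_congr rfl fun j _ => ?_
    rw [hv j]
    push_cast
    rfl
  have hprodR' : ∏ j ∈ J, ((p : ℝ) ^ d * m j) = (N : ℝ) := by
    have : ((∏ j ∈ J, ((p : ℝ) ^ d * m j) : ℝ) : ℂ) = ((N : ℝ) : ℂ) := by
      rw [hprodR]
      push_cast
      rfl
    exact Complex.ofReal_injective this
  have hJpos : ∀ j ∈ J, 0 < (p : ℝ) ^ d * m j := by
    intro j hj
    have := hpos j (Finset.mem_filter.mp hj).2
    positivity
  have hNpos : 0 < N := by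
    have : (0 : ℝ) < N := by
      rw [← hprodR']
      exact Finset.prod_pos hJpos
    exact_mod_cast this
  -- divisibility
  have hdiv : (p : ℤ) ^ (h * J.card) ∣ N := by
    apply h7_ii_int_div hM
    have h1 := h7_ii_memLocalRing_prod hMp J (fun j => aeval (ζ ^ j) (f χ χ) / (p : ℂ) ^ h)
      (fun j hj => hloc j (Finset.mem_filter.mp hj).2)
    rw [Finset.prod_div_distrib, Finset.prod_const, hN, ← pow_mul] at h1
    exact h1
  have hNge : (p : ℤ) ^ (h * J.card) ≤ N := Int.le_of_dvd hNpos hdiv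
  have hNgeR : (p : ℝ) ^ (h * J.card) ≤ N := by exact_mod_cast hNge
  -- AM-GM
  have hamgm := h7_ii_amgm J (fun j => (p : ℝ) ^ d * m j / (p : ℝ) ^ h)
    (fun j hj => div_pos (hJpos j hj) (pow_pos hpR _))
    (by
      rw [Finset.prod_div_distrib, Finset.prod_const, hprodR', ← pow_mul]
      rw [le_div_iff₀ (pow_pos hpR _), one_mul]
      exact hNgeR)
  rw [← Finset.sum_div, le_div_iff₀ (pow_pos hpR _), ← Finset.mul_sum] at hamgm
  exact hamgm

end Cfsg.Agent.Lib.helper7
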