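import Mathlib
import Cfsg.Agent.Lib.helper7.IIE
import Cfsg.Agent.Lib.Helper25.SubsectionTrace

/-!
Upper bound for the number of characters of a block with a major subsection `(y, b)`:
`k(B) ≤ Σ_χ p^{h(χ)} ≤ p^{d(B)} l(b)` (h7_cn_upper).
-/

set_option autoImplicit false
set_option linter.style.haveILetI false
set_option linter.unusedVariables false
set_option linter.unusedSectionVars false
set_option warn.classDefReducibility false
set_option maxHeartbeats 1600000

namespace Cfsg.Agent.Lib.helper7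
open scoped ComplexConjugate
open Cfsg.Agent.Lib.helper2
open Cfsg.Agent.Lib.Helper25
open Cfsg.Agent.Lib.Helper24

/-- a block `B` with a major subsection `(y, b)` has at most `p^{d(B)} l(b)` characters -/
theorem h7_cn_upper {G : Type*} [Group G] [Fintype G] (p : ℕ) [hp : Fact p.Prime]
    (M : Ideal Cfsg.AlgInt) (hM : Cfsg.IsPModular p M) (B : Set (Cfsg.IrrCharacter G))
    (y : G) (k : ℕ) (hk : orderOf y = p ^ k)
    (K : Subgroup G) [Fintype K] (hK : K = Subgroup.centralizer ({y} : Set G))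
    (b : Set (Cfsg.IrrCharacter K))
    (hind : Cfsg.IsInducedBlock M K b B)
    (hdef : Cfsg.blockDefect p b = Cfsg.blockDefect p B) :
    Nat.card B ≤ p ^ Cfsg.blockDefect p B * Cfsg.blockRank p b := by
  classical
  haveI : Fintype (Cfsg.IrrCharacter G) := Fintype.ofFinite _
  set J : Finset ℕ := (Finset.range (p ^ k)).filter (Nat.Coprime (p ^ k)) with hJ
  have hJpos : 0 < J.card := by
    apply Finset.card_pos.mpr
    by_cases hk0 : k = 0
    · refine ⟨0, Finset.mem_filter.mpr ⟨Finset.mem_range.mpr (pow_pos hp.out.pos _), ?_⟩⟩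
      rw [hk0, pow_zero]
      exact Nat.coprime_one_left 0
    · refine ⟨1, Finset.mem_filter.mpr ⟨Finset.mem_range.mpr ?_, Nat.coprime_one_right _⟩⟩
      exact Nat.one_lt_pow hk0 hp.out.one_lt
  have hWex : ∀ (χ : Cfsg.IrrCharacter G) (j : ℕ), ∃ m : ℝ, 0 ≤ m ∧
      (m : ℂ) = h7_gk_W p K b (y ^ j) χ χ := fun χ j => h7_ii_W_nonneg p K b (y ^ j) χ
  choose mm hmm0 hmm using hWex
  set Bf : Finset (Cfsg.IrrCharacter G) := Finset.univ.filter (fun χ => χ ∈ B) with hBf
  have hBcard : Nat.card B = Bf.card := by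
    rw [hBf, Nat.card_eq_fintype_card, Fintype.card_subtype]
  -- the trace formula for each `j`
  have htrace : ∀ j ∈ J, ∑ χ ∈ Bf, mm χ j = (Cfsg.blockRank p b : ℝ) := by
    intro j hj
    have hj' : (orderOf y).Coprime j := by
      rw [hk]
      exact (Finset.mem_filter.mp hj).2
    obtain ⟨h1, h2, h3, h4⟩ := su_pow_hyp p y k hk j hj'
    rw [← hK] at h1 h2 h3
    have htr := st_trace p M hM K (y ^ j) h1 h2 h3 h4 b B hind
    have hfin : ∑ᶠ χ ∈ B, Cfsg.classInner
        (Cfsg.pRegularPart p (Cfsg.blockPart b (fun c : K => (χ : G → ℂ) (y ^ j * (c : G)))))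
        (Cfsg.blockPart b (fun c : K => (χ : G → ℂ) (y ^ j * (c : G)))) =
        ∑ χ ∈ Bf, ((mm χ j : ℝ) : ℂ) := by
      rw [finsum_mem_eq_finite_toFinset_sum _ (Set.toFinite B)]
      apply Finset.sum_congr
      · ext χ
        rw [Set.Finite.mem_toFinset, hBf, Finset.mem_filter]
        exact ⟨fun h => ⟨Finset.mem_univ _, h⟩, fun h => h.2⟩
      · intro χ _
        rw [hmm χ j]
        rfl
    rw [hfin] at htr
    have : ((∑ χ ∈ Bf, mm χ j : ℝ) : ℂ) = ((Cfsg.blockRank p b : ℝ) : ℂ) := by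
      push_cast
      exact htr
    exact_mod_cast this
  -- the lower bound for each `χ`
  have hlow : ∀ χ ∈ Bf, (J.card : ℝ) ≤
      (p : ℝ) ^ Cfsg.blockDefect p B * ∑ j ∈ J, mm χ j := by
    intro χ hχ
    have hχB : χ ∈ B := (Finset.mem_filter.mp hχ).2
    have h1 := h7_ii_lower p M hM B y k hk K hK b hind hdef χ hχB (fun j => mm χ j)
      (fun j => hmm χ j)
    have h2 : (1 : ℝ) ≤ (p : ℝ) ^ Cfsg.blockHeight p B (χ : G → ℂ) := by
      apply one_le_pow₀
      exact_mod_cast hp.out.one_le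
    calc (J.card : ℝ) = (J.card : ℝ) * 1 := (mul_one _).symm
      _ ≤ (J.card : ℝ) * (p : ℝ) ^ Cfsg.blockHeight p B (χ : G → ℂ) :=
          mul_le_mul_of_nonneg_left h2 (Nat.cast_nonneg _)
      _ ≤ _ := h1
  have hsum : (Bf.card : ℝ) * (J.card : ℝ) ≤
      (p : ℝ) ^ Cfsg.blockDefect p B * ((J.card : ℝ) * (Cfsg.blockRank p b : ℝ)) := by
    calc (Bf.card : ℝ) * (J.card : ℝ) = ∑ χ ∈ Bf, (J.card : ℝ) := by
          rw [Finset.sum_const, nsmul_eq_mul]
      _ ≤ ∑ χ ∈ Bf, (p : ℝ) ^ Cfsg.blockDefect p B * ∑ j ∈ J, mm χ j :=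
          Finset.sum_le_sum hlow
      _ = (p : ℝ) ^ Cfsg.blockDefect p B * ∑ j ∈ J, ∑ χ ∈ Bf, mm χ j := by
          rw [← Finset.mul_sum, Finset.sum_comm]
      _ = (p : ℝ) ^ Cfsg.blockDefect p B * ∑ j ∈ J, (Cfsg.blockRank p b : ℝ) := by
          rw [Finset.sum_congr rfl htrace]
      _ = _ := by rw [Finset.sum_const, nsmul_eq_mul]
  have hJR : (0 : ℝ) < (J.card : ℝ) := by exact_mod_cast hJpos
  have hfinal : (Bf.card : ℝ) ≤ (p : ℝ) ^ Cfsg.blockDefect p B * (Cfsg.blockRank p b : ℝ) := by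
    have h3 : (Bf.card : ℝ) * (J.card : ℝ) ≤
        ((p : ℝ) ^ Cfsg.blockDefect p B * (Cfsg.blockRank p b : ℝ)) * (J.card : ℝ) := by
      calc _ ≤ _ := hsum
        _ = _ := by ring
    exact le_of_mul_le_mul_right h3 hJR
  rw [hBcard]
  exact_mod_cast hfinal

end Cfsg.Agent.Lib.helper7
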