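import Mathlib
import Cfsg.Agent.Lib.helper7.CNA
import Cfsg.Agent.Lib.helper7.KleinDef8
import Cfsg.Agent.Lib.helper7.HKS8
import Cfsg.Agent.Lib.Helper25.CentralDefect
import Cfsg.Agent.Lib.Helper25.DefectOneTwo
import Cfsg.Agent.Lib.Helper25.FreeInertial
import Cfsg.Agent.Lib.Helper25.BrauerPairExtMain

/-!
A nilpotent block with cyclic defect group has `p`-regular rank one (h7_cn_rank_one):
lower bound `l(B) + |P| - 1 ≤ k(B)` for an abelian defect group with inertial index one
(h7_cn_lower) against the upper bound `k(B) ≤ |P| l(b_y)` for a generator `y` of `P`.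
-/

set_option autoImplicit false
set_option linter.style.haveILetI false
set_option linter.unusedVariables false
set_option linter.unusedSectionVars false
set_option warn.classDefReducibility false
set_option maxHeartbeats 1600000

namespace Cfsg.Agent.Lib.helper7
open scoped ComplexConjugate
open Cfsg.Agent.Lib.helper2
open Cfsg.Agent.Lib.Helper25
open Cfsg.Agent.Lib.Helper24

/-- abelian defect group with inertial index one: `l(B) + |P| - 1 ≤ k(B)` -/
theorem h7_cn_lower {G : Type*} [Group G] [Fintype G] [DecidableEq G] (p : ℕ)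
    [hp : Fact p.Prime]
    (M : Ideal Cfsg.AlgInt) (hM : Cfsg.IsPModular p M) (B : Set (Cfsg.IrrCharacter G))
    (hB : Cfsg.IsPBlock M B) (P : Subgroup G)
    (c : Set (Cfsg.IrrCharacter (Subgroup.centralizer (P : Set G))))
    (hmax : Cfsg.IsMaximalBrauerPair p M B P c)
    (hab : ∀ x ∈ P, ∀ y ∈ P, x * y = y * x)
    (hstab : ∀ t : G, t ∈ Subgroup.normalizer (P : Set G) →
      Cfsg.StabilizesBlock (Subgroup.centralizer (P : Set G)) c t →
      t ∈ Subgroup.centralizer (P : Set G)) :
    Cfsg.blockRank p B + (Nat.card P - 1) ≤ Nat.card B := by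
  classical
  haveI : Fintype (Cfsg.IrrCharacter G) := Fintype.ofFinite _
  have hPr := hM.2.1.isPrime
  have hPp : IsPGroup p P := hmax.1.1.1
  obtain ⟨X, h1X, hXp, hXrep, hform⟩ := h7_kd_brauer p M hM B hB
  set Ps : Finset G := (Finset.univ.filter (fun y : G => y ∈ P)).erase 1 with hPs
  have hPs_card : Ps.card = Nat.card P - 1 := by
    have h5 : (Finset.univ.filter (fun y : G => y ∈ P)).card = Nat.card P := by
      rw [Nat.card_eq_fintype_card, Fintype.card_subtype]
    rw [hPs, Finset.card_erase_of_mem (Finset.mem_filter.mpr ⟨Finset.mem_univ _, P.one_mem⟩), h5]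
  have hPs_mem : ∀ y ∈ Ps, y ∈ P ∧ y ≠ 1 := by
    intro y hy
    rw [hPs, Finset.mem_erase, Finset.mem_filter] at hy
    exact ⟨hy.2.2, hy.1⟩
  have hPs_p : ∀ y ∈ Ps, ∃ k : ℕ, orderOf y = p ^ k := by
    intro y hy
    obtain ⟨h1, h2⟩ := hPs_mem y hy
    obtain ⟨k, hk⟩ := (IsPGroup.iff_orderOf.mp hPp) ⟨y, h1⟩
    exact ⟨k, by rw [← hk]; exact (Subgroup.orderOf_mk y h1).symm⟩
  set r : G → G := fun y => if h : ∃ k : ℕ, orderOf y = p ^ k then
    Classical.choose (hXrep y h).exists else 1 with hr
  have hr_spec : ∀ y ∈ Ps, r y ∈ X ∧ IsConj y (r y) := by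
    intro y hy
    simp only [hr, dif_pos (hPs_p y hy)]
    exact Classical.choose_spec (hXrep y (hPs_p y hy)).exists
  have hr_mem : ∀ y ∈ Ps, r y ∈ X.erase 1 := by
    intro y hy
    obtain ⟨h1, h2⟩ := hr_spec y hy
    refine Finset.mem_erase.mpr ⟨?_, h1⟩
    intro h
    rw [h] at h2
    exact (hPs_mem y hy).2 (isConj_one_left.mp h2)
  have hfib := Finset.card_eq_sum_card_fiberwise (s := Ps) (t := X.erase 1) (f := r) hr_mem
  have hle : ∀ x ∈ X.erase 1, (Ps.filter (fun y => r y = x)).card ≤ h7_kd_n p M B x := by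
    intro x hx
    obtain ⟨hx1, hxX⟩ := Finset.mem_erase.mp hx
    have hA : ∀ y ∈ Ps.filter (fun y => r y = x), y ∈ P ∧ IsConj y x := by
      intro y hy
      obtain ⟨hyPs, hyx⟩ := Finset.mem_filter.mp hy
      refine ⟨(hPs_mem y hyPs).1, ?_⟩
      rw [← hyx]
      exact (hr_spec y hyPs).2
    exact (h7_kd_count p M hM B P c hmax hab hstab x _ hA).trans
      (h7_kd_n_ge p M hM B x (hXp x hxX))
  have hsum : Nat.card P - 1 ≤ ∑ x ∈ X.erase 1, h7_kd_n p M B x := by
    rw [← hPs_card, hfib]
    exact Finset.sum_le_sum hle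
  omega

/-- a nilpotent block with cyclic defect group has `p`-regular rank one -/
theorem h7_cn_rank_one {G : Type*} [Group G] [Finite G] (p : ℕ) [hp : Fact p.Prime]
    (M : Ideal Cfsg.AlgInt) (hM : Cfsg.IsPModular p M) (B : Set (Cfsg.IrrCharacter G))
    (hB : Cfsg.IsPBlock M B) (P : Subgroup G) (hPD : Cfsg.IsDefectGroup p M B P)
    (hcyc : IsCyclic P) (hnil : Cfsg.IsNilpotentBlock p M B) :
    Cfsg.blockRank p B = 1 ∧ Nat.card B = Nat.card P := by
  classical
  haveI : Fintype G := Fintype.ofFinite _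
  haveI : Fintype (Cfsg.IrrCharacter G) := Fintype.ofFinite _
  have hPr := hM.2.1.isPrime
  have hPp : IsPGroup p P := fi_defect_isPGroup p M B P hPD
  obtain ⟨e, hpair⟩ := bq_pair_at_defect p M hM P hPp B hB hPD
  have hmax := bq_max_of_defect p M hM B P e hpair hPD
  obtain ⟨g, hg⟩ := hcyc.exists_generator
  have hab : ∀ x ∈ P, ∀ y ∈ P, x * y = y * x := by
    intro x hx y hy
    obtain ⟨m, hm⟩ := Subgroup.mem_zpowers_iff.mp (hg ⟨x, hx⟩)
    obtain ⟨n, hn⟩ := Subgroup.mem_zpowers_iff.mp (hg ⟨y, hy⟩)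
    have h1 : (⟨x, hx⟩ : P) * ⟨y, hy⟩ = ⟨y, hy⟩ * ⟨x, hx⟩ := by
      rw [← hm, ← hn]
      exact ((Commute.refl g).zpow_zpow m n).eq
    exact congrArg Subtype.val h1
  have hstab := (bq_abelian_nilpotent_iff p M hM B P e hmax hab).mp hnil
  have hlower := h7_cn_lower p M hM B hB P e hmax hab hstab
  -- the upper bound
  have hcardP : Nat.card P = p ^ Cfsg.blockDefect p B := h7_hk_defect_card p M hM B hB P hPD
  set y : G := (g : G) with hy
  have hyord : orderOf y = p ^ Cfsg.blockDefect p B := by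
    rw [hy, Subgroup.orderOf_coe, orderOf_eq_card_of_forall_mem_zpowers hg, hcardP]
  haveI : Fintype (Subgroup.centralizer (P : Set G)) := Fintype.ofFinite _
  have hK : Subgroup.centralizer (P : Set G) = Subgroup.centralizer ({y} : Set G) := by
    ext t
    rw [Subgroup.mem_centralizer_iff, Subgroup.mem_centralizer_singleton_iff]
    constructor
    · intro h
      exact (h y g.2).symm
    · intro h x hx
      obtain ⟨m, hm⟩ := Subgroup.mem_zpowers_iff.mp (hg ⟨x, hx⟩)
      have hx' : x = y ^ m := by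
        have := congrArg Subtype.val hm
        simp only [Subgroup.coe_zpow] at this
        exact this.symm
      rw [hx']
      exact ((Commute.zpow_right (show Commute t y from h) m).eq).symm
  have hinde : Cfsg.IsInducedBlock M (Subgroup.centralizer (P : Set G)) e B :=
    tp_pair_induced p M hM P B e hpair
  have hPK : P ≤ Subgroup.centralizer (P : Set G) := by
    intro x hx
    rw [Subgroup.mem_centralizer_iff]
    intro q hq
    exact hab q hq x hx
  have hdefgrp : Cfsg.IsDefectGroup p M e (P.subgroupOf (Subgroup.centralizer (P : Set G))) :=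
    bq_defect_of_le_cent p M hM B P e hmax P e le_rfl hPK hpair.1.2 Relation.ReflTransGen.refl
  have hcardP' : Nat.card (P.subgroupOf (Subgroup.centralizer (P : Set G))) =
      p ^ Cfsg.blockDefect p e :=
    h7_hk_defect_card p M hM e hpair.1.2 _ hdefgrp
  have hdef : Cfsg.blockDefect p e = Cfsg.blockDefect p B := by
    rw [bq_card_subgroupOf_of_le P _ hPK, hcardP] at hcardP'
    exact (Nat.pow_right_injective hp.out.two_le hcardP').symm
  have hPZ : P.subgroupOf (Subgroup.centralizer (P : Set G)) ≤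
      Subgroup.center (Subgroup.centralizer (P : Set G)) := by
    intro x hx
    rw [Subgroup.mem_center_iff]
    intro t
    apply Subtype.ext
    have h1 : (x : G) ∈ P := Subgroup.mem_subgroupOf.mp hx
    have h2 := Subgroup.mem_centralizer_iff.mp t.2 (x : G) h1
    simp only [Subgroup.coe_mul]
    exact h2.symm
  have hle1 : Cfsg.blockRank p e = 1 :=
    cd_main p M hM e hpair.1.2 (P.subgroupOf (Subgroup.centralizer (P : Set G))) hdefgrp hPZ
  have hupper := h7_cn_upper p M hM B y _ hyord (Subgroup.centralizer (P : Set G)) hK e hinde hdef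
  rw [hle1, mul_one, ← hcardP] at hupper
  have hpos : 0 < Cfsg.blockRank p B := by
    obtain ⟨χ₀, rfl⟩ := hB
    exact sd_rank_pos p _ χ₀ (h7_sameBlock_refl hPr _)
  have hPpos : 0 < Nat.card P := Nat.card_pos
  constructor
  · omega
  · omega

end Cfsg.Agent.Lib.helper7
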