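import Mathlib
import Cfsg.Agent.Lib.Helper25.BrauerPairSaturated

/-!
Conjugation action on a cyclic subgroup: it is a power map (h7_cn_power), subgroups of a cyclic
subgroup `P` are normalized by `N_G(P)` (h7_cn_normalizer_le), and an element of `N_G(P)`
centralizing a nontrivial subgroup of the cyclic `p`-group `P` has a `p`-power in `C_G(P)`
(h7_cn_pow_centralizes).
-/

set_option autoImplicit false
set_option linter.style.haveILetI false
set_option linter.unusedVariables false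
set_option linter.unusedSectionVars false
set_option maxHeartbeats 800000

namespace Cfsg.Agent.Lib.helper7
open Cfsg.Agent.Lib.Helper25

/-- conjugation by an element of `N_G(P)`, `P` cyclic, is a power map on `P` -/
theorem h7_cn_power {G : Type*} [Group G] (P : Subgroup G) (hcyc : IsCyclic P) (y : G)
    (hy : y ∈ Subgroup.normalizer (P : Set G)) :
    ∃ a : ℤ, ∀ q ∈ P, y * q * y⁻¹ = q ^ a := by
  obtain ⟨g, hg⟩ := hcyc.exists_generator
  have h1 : y * (g : G) * y⁻¹ ∈ P := (Subgroup.mem_normalizer_iff.mp hy (g : G)).mp g.2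
  obtain ⟨a, ha⟩ := Subgroup.mem_zpowers_iff.mp (hg ⟨_, h1⟩)
  have ha' : (g : G) ^ a = y * (g : G) * y⁻¹ := by
    have := congrArg Subtype.val ha
    simpa only [Subgroup.coe_zpow] using this
  refine ⟨a, fun q hq => ?_⟩
  obtain ⟨j, hj⟩ := Subgroup.mem_zpowers_iff.mp (hg ⟨q, hq⟩)
  have hj' : (g : G) ^ j = q := by
    have := congrArg Subtype.val hj
    simpa only [Subgroup.coe_zpow] using this
  rw [← hj', ← zpow_mul, mul_comm, zpow_mul, ha']
  exact (map_zpow (MulAut.conj y) (g : G) j)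

theorem h7_cn_power_iter {G : Type*} [Group G] (P : Subgroup G) (y : G) (a : ℤ)
    (ha : ∀ q ∈ P, y * q * y⁻¹ = q ^ a) (k : ℕ) :
    ∀ q ∈ P, y ^ k * q * (y ^ k)⁻¹ = q ^ (a ^ k) := by
  induction k with
  | zero =>
    intro q hq
    simp
  | succ k ih =>
    intro q hq
    have h1 : y ^ (k + 1) * q * (y ^ (k + 1))⁻¹ = y * (y ^ k * q * (y ^ k)⁻¹) * y⁻¹ := by
      rw [pow_succ']
      group
    rw [h1, ih q hq, ha _ (P.zpow_mem hq _), ← zpow_mul, pow_succ]

/-- `N_G(P) ≤ N_G(Q)` for a subgroup `Q` of a cyclic subgroup `P` -/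
theorem h7_cn_normalizer_le {G : Type*} [Group G] [Finite G] (P Q : Subgroup G)
    (hcyc : IsCyclic P) (hQP : Q ≤ P) :
    Subgroup.normalizer (P : Set G) ≤ Subgroup.normalizer (Q : Set G) := by
  intro y hy
  obtain ⟨a, ha⟩ := h7_cn_power P hcyc y hy
  apply bq_mem_normalizer_of_conj_le
  intro q hq
  rw [ha q (hQP hq)]
  exact Q.zpow_mem hq a

/-- an element of `N_G(P)`, `P` a cyclic `p`-group, centralizing a nontrivial subgroup `Q` of
`P` has its `|P|`-th power in `C_G(P)` -/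
theorem h7_cn_pow_centralizes {G : Type*} [Group G] [Finite G] (p : ℕ) [hp : Fact p.Prime]
    (P Q : Subgroup G) (hcyc : IsCyclic P) (hPp : IsPGroup p P) (hQP : Q ≤ P) (hQ1 : Q ≠ ⊥)
    (y : G) (hy : y ∈ Subgroup.normalizer (P : Set G))
    (hyQ : y ∈ Subgroup.centralizer (Q : Set G)) :
    ∃ d : ℕ, y ^ (p ^ d) ∈ Subgroup.centralizer (P : Set G) := by
  obtain ⟨a, ha⟩ := h7_cn_power P hcyc y hy
  obtain ⟨d, hd⟩ := IsPGroup.iff_card.mp hPp
  refine ⟨d, ?_⟩
  -- `p ∣ a - 1`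
  obtain ⟨q, hq1⟩ := (Subgroup.ne_bot_iff_exists_ne_one).mp hQ1
  have hq1' : (q : G) ≠ 1 := fun h => hq1 (Subtype.ext h)
  have hqa : (q : G) ^ (a - 1) = 1 := by
    have h1 := ha (q : G) (hQP q.2)
    have h2 : y * (q : G) * y⁻¹ = (q : G) := by
      have := Subgroup.mem_centralizer_iff.mp hyQ (q : G) q.2
      rw [← this]
      group
    rw [h2] at h1
    rw [zpow_sub, zpow_one, ← h1]
    group
  have hdvd : (orderOf (q : G) : ℤ) ∣ a - 1 := orderOf_dvd_iff_zpow_eq_one.mpr hqa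
  obtain ⟨s, hs⟩ := (IsPGroup.iff_orderOf.mp hPp) ⟨(q : G), hQP q.2⟩
  have hs' : orderOf (q : G) = p ^ s := by
    rw [← hs]
    exact (Subgroup.orderOf_mk (q : G) (hQP q.2)).symm
  have hs0 : s ≠ 0 := by
    intro h
    rw [h, pow_zero, orderOf_eq_one_iff] at hs'
    exact hq1' hs'
  have hpa : ((p : ℕ) : ℤ) ∣ a - 1 := by
    refine dvd_trans ?_ hdvd
    rw [hs']
    exact_mod_cast dvd_pow_self p hs0
  have hpow : ((p : ℤ) ^ (d + 1)) ∣ a ^ p ^ d - 1 ^ p ^ d := dvd_sub_pow_of_dvd_sub hpa d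
  rw [one_pow] at hpow
  have hpow' : ((p : ℤ) ^ d) ∣ a ^ p ^ d - 1 := dvd_trans (pow_dvd_pow _ (Nat.le_succ d)) hpow
  obtain ⟨t, ht⟩ := hpow'
  rw [Subgroup.mem_centralizer_iff]
  intro x hx
  have h1 := h7_cn_power_iter P y a ha (p ^ d) x hx
  have hxd : x ^ ((p : ℤ) ^ d) = 1 := by
    have h2 : (⟨x, hx⟩ : P) ^ Nat.card P = 1 := pow_card_eq_one'
    rw [hd] at h2
    have h3 := congrArg Subtype.val h2
    simp only [Subgroup.coe_pow, Subgroup.coe_one] at h3
    have : x ^ ((p : ℤ) ^ d) = x ^ (p ^ d : ℕ) := by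
      rw [← zpow_natCast]
      push_cast
      rfl
    rw [this, h3]
  have h4 : x ^ (a ^ p ^ d) = x := by
    have : a ^ p ^ d = 1 + (p : ℤ) ^ d * t := by linarith
    rw [this, zpow_add, zpow_one, zpow_mul, hxd, one_zpow, mul_one]
  rw [h4] at h1
  calc x * y ^ p ^ d = y ^ p ^ d * x * (y ^ p ^ d)⁻¹ * y ^ p ^ d := by rw [h1]
    _ = y ^ p ^ d * x := by group

end Cfsg.Agent.Lib.helper7
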