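import Mathlib
import Cfsg.Agent.Lib.helper7.CNB
import Cfsg.Agent.Lib.helper7.CNC
import Cfsg.Agent.Lib.helper7.KleinDef5

/-!
Cyclic defect groups: stabilizers of the subpairs `(Q, f) ≤ (P, c)`, and the local blocks are
nilpotent of rank one (h7_cn_main, S4645).
-/

set_option autoImplicit false
set_option linter.style.haveILetI false
set_option linter.unusedVariables false
set_option linter.unusedSectionVars false
set_option warn.classDefReducibility false
set_option maxHeartbeats 1600000

namespace Cfsg.Agent.Lib.helper7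
open scoped ComplexConjugate
open Cfsg.Agent.Lib.helper2
open Cfsg.Agent.Lib.Helper25
open Cfsg.Agent.Lib.Helper24

theorem h7_cn_main {G : Type*} [Group G] [Finite G] (p : ℕ) [hp : Fact p.Prime] (M : Ideal Cfsg.AlgInt) (hM : Cfsg.IsPModular p M) (B : Set (Cfsg.IrrCharacter G)) (hB : Cfsg.IsPBlock M B) (P : Subgroup G) (hPD : Cfsg.IsDefectGroup p M B P) (hcyc : IsCyclic P) (c : Set (Cfsg.IrrCharacter (Subgroup.centralizer (P : Set G)))) (hc : Cfsg.IsInducedBlock M (Subgroup.centralizer (P : Set G)) c B) (T : Subgroup G) (hT : ∀ g : G, g ∈ T ↔ (g ∈ Subgroup.normalizer (P : Set G) ∧ Cfsg.StabilizesBlock (Subgroup.centralizer (P : Set G)) c g)) (Q : Subgroup G) (hQP : Q ≤ P) (hQ1 : Q ≠ ⊥) (f : Set (Cfsg.IrrCharacter (Subgroup.centralizer (Q : Set G)))) (hf : Cfsg.IsInducedBlockIn M (Subgroup.centralizer (Q : Set G)) (Subgroup.centralizer (P : Set G)) c f) (T' : Subgroup G) (hT' : ∀ g : G, g ∈ T' ↔ (g ∈ Subgroup.normalizer (Q : Set G) ∧ Cfsg.StabilizesBlock (Subgroup.centralizer (Q : Set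 G)) f g)) : T' = T ⊔ Subgroup.centralizer (Q : Set G) ∧ (Subgroup.centralizer (Q : Set G)).relIndex T' = (Subgroup.centralizer (P : Set G)).relIndex T ∧ Cfsg.blockRank p f = 1 ∧ Cfsg.IsNilpotentBlock p M f := by
  classical
  haveI : Fintype G := Fintype.ofFinite _
  haveI : Fintype (Subgroup.centralizer (Q : Set G)) := Fintype.ofFinite _
  have hPr := hM.2.1.isPrime
  have hPp : IsPGroup p P := fi_defect_isPGroup p M B P hPD
  obtain ⟨g, hg⟩ := hcyc.exists_generator
  have hPab : ∀ x ∈ P, ∀ y ∈ P, x * y = y * x := by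
    intro x hx y hy
    obtain ⟨m, hm⟩ := Subgroup.mem_zpowers_iff.mp (hg ⟨x, hx⟩)
    obtain ⟨n, hn⟩ := Subgroup.mem_zpowers_iff.mp (hg ⟨y, hy⟩)
    have h1 : (⟨x, hx⟩ : P) * ⟨y, hy⟩ = ⟨y, hy⟩ * ⟨x, hx⟩ := by
      rw [← hm, ← hn]
      exact ((Commute.refl g).zpow_zpow m n).eq
    exact congrArg Subtype.val h1
  have hpairG := fi_pair_of_induced p M hM P hPp B c hc
  have hmaxG := bq_max_of_defect p M hM B P c hpairG hPD
  have hPH : P ≤ Subgroup.centralizer (Q : Set G) := by
    intro x hx
    rw [Subgroup.mem_centralizer_iff]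
    intro q hq
    exact hPab q (hQP hq) x hx
  have hPC : P ≤ Subgroup.centralizer (P : Set G) := by
    intro x hx
    rw [Subgroup.mem_centralizer_iff]
    intro q hq
    exact hPab q hq x hx
  -- the subpair `(Q, f) ≤ (P, c)` and the defect group of `f`
  have hR := fi_hR P Q hQP hPH
  have hσ : ∀ y : Subgroup.centralizer ((P.subgroupOf (Subgroup.centralizer (Q : Set G)) :
      Subgroup (Subgroup.centralizer (Q : Set G))) : Set (Subgroup.centralizer (Q : Set G))),
      ((bq_relCent (Subgroup.centralizer (Q : Set G))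
        (P.subgroupOf (Subgroup.centralizer (Q : Set G))) P hR y : _) : G) =
        ((y : (Subgroup.centralizer (Q : Set G))) : G) := fun y => rfl
  have hind' : Cfsg.IsInducedBlock M (Subgroup.centralizer
      ((P.subgroupOf (Subgroup.centralizer (Q : Set G)) :
      Subgroup (Subgroup.centralizer (Q : Set G))) : Set (Subgroup.centralizer (Q : Set G))))
      (bq_trSet (bq_relCent (Subgroup.centralizer (Q : Set G))
        (P.subgroupOf (Subgroup.centralizer (Q : Set G))) P hR) c) f :=
    (fi_in_iff M (Subgroup.centralizer (Q : Set G)) (Subgroup.centralizer (P : Set G)) _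
      (bq_relCent (Subgroup.centralizer (Q : Set G))
        (P.subgroupOf (Subgroup.centralizer (Q : Set G))) P hR) hσ c f).mp hf
  have hP'p : IsPGroup p (P.subgroupOf (Subgroup.centralizer (Q : Set G))) := hPp.comap_subtype
  have hpair' := fi_pair_of_induced p M hM _ hP'p f _ hind'
  have hQp : IsPGroup p Q := hPp.to_le hQP
  have hPN : P ≤ Subgroup.normalizer (Q : Set G) :=
    hPH.trans (Subgroup.centralizer_le_normalizer _)
  have hst : ∀ x ∈ P, Cfsg.StabilizesBlock (Subgroup.centralizer (Q : Set G)) f x :=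
    fun x hx => bq_inner_stabilizes (Subgroup.centralizer (Q : Set G)) f x (hPH hx)
  have hns := bq_normalSubpair_of_pair p M Q P _ hR hQp hPp hQP hPN f hst _ hpair'
  have hcc : bq_trSet (bq_relCent (Subgroup.centralizer (Q : Set G))
        (P.subgroupOf (Subgroup.centralizer (Q : Set G))) P hR).symm
      (bq_trSet (bq_relCent (Subgroup.centralizer (Q : Set G))
        (P.subgroupOf (Subgroup.centralizer (Q : Set G))) P hR) c) = c :=
    bq_trSet_symm (bq_relCent (Subgroup.centralizer (Q : Set G))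
        (P.subgroupOf (Subgroup.centralizer (Q : Set G))) P hR).symm c
  rw [hcc] at hns
  have hle : Cfsg.SubpairLE p M Q f P c := Relation.ReflTransGen.single hns
  have hdef' := bq_defect_of_le_cent p M hM B P c hmaxG Q f hQP hPH hf.2.1 hle
  -- the inertial group
  have hTN : T ≤ Subgroup.normalizer (P : Set G) := fun t ht => ((hT t).mp ht).1
  have hNQ : Subgroup.normalizer (P : Set G) ≤ Subgroup.normalizer (Q : Set G) :=
    h7_cn_normalizer_le P Q hcyc hQP
  have hidx : ¬ p ∣ (Subgroup.centralizer (P : Set G)).relIndex T :=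
    h7_kd_index p M hM B P hPD hPC c hc T hT
  have hCA : ∀ y : G, y ∈ Subgroup.centralizer (Q : Set G) →
      y ∈ Subgroup.normalizer (P : Set G) →
      Cfsg.StabilizesBlock (Subgroup.centralizer (P : Set G)) c y →
      y ∈ Subgroup.centralizer (P : Set G) := by
    intro y hyQ hyN hyst
    have hyT : y ∈ T := (hT y).mpr ⟨hyN, hyst⟩
    have h1 := h7_kd_pow_mem P T hTN _ rfl y hyT
    obtain ⟨d, h2⟩ := h7_cn_pow_centralizes p P Q hcyc hPp hQP hQ1 y hyN hyQ
    have hcop : Nat.Coprime ((Subgroup.centralizer (P : Set G)).relIndex T) (p ^ d) :=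
      Nat.Coprime.pow_right d ((Nat.Prime.coprime_iff_not_dvd hp.out).mpr hidx).symm
    exact bq_mem_of_pow_coprime _ y _ _ hcop h1 h2
  have hnil : Cfsg.IsNilpotentBlock p M f :=
    (fi_local_iff p M hM B P hPD hPab c hc Q hQP f hf).mpr hCA
  have hcyc' : IsCyclic (P.subgroupOf (Subgroup.centralizer (Q : Set G))) :=
    (Subgroup.subgroupOfEquivOfLe hPH).isCyclic.mpr hcyc
  have hrank := (h7_cn_rank_one p M hM f hf.2.1 _ hdef' hcyc' hnil).1
  obtain ⟨hfac, hindex⟩ := bq_abelian_stab p M hM B P c hmaxG hPab Q f hQP hf.2.1 hle T' hT' T hT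
  have hCPT : Subgroup.centralizer (P : Set G) ≤ T := fun x hx =>
    (hT x).mpr ⟨Subgroup.centralizer_le_normalizer _ hx, bq_inner_stabilizes _ c x hx⟩
  have hCPQ : Subgroup.centralizer (P : Set G) ≤ Subgroup.centralizer (Q : Set G) :=
    Subgroup.centralizer_le hQP
  refine ⟨?_, ?_, hrank, hnil⟩
  · apply le_antisymm
    · intro x hx
      obtain ⟨y, hy, c', hc', rfl⟩ := hfac x hx
      exact Subgroup.mul_mem_sup hy hc'
    · apply sup_le
      · intro t ht
        obtain ⟨htN, htst⟩ := (hT t).mp ht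
        exact (hT' t).mpr ⟨hNQ htN,
          bq_stab_inf_le p M hM P c hpairG.1 Q f hf.2.1 hle t htN htst (hNQ htN)⟩
      · intro x hx
        exact (hT' x).mpr ⟨Subgroup.centralizer_le_normalizer _ hx,
          bq_inner_stabilizes _ f x hx⟩
  · have h1 : T ⊓ Subgroup.normalizer (Q : Set G) = T := inf_eq_left.mpr (hTN.trans hNQ)
    have h2 : T ⊓ Subgroup.centralizer (Q : Set G) = Subgroup.centralizer (P : Set G) := by
      apply le_antisymm
      · rintro y ⟨hyT, hyQ⟩
        exact hCA y hyQ ((hT y).mp hyT).1 ((hT y).mp hyT).2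
      · exact le_inf hCPT hCPQ
    unfold Subgroup.relIndex
    rw [hindex, h1, h2]

end Cfsg.Agent.Lib.helper7
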