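import Cfsg.Agent.Lib.helper7.Co1B

set_option autoImplicit false
set_option linter.style.haveILetI false
set_option linter.unusedSectionVars false

/-!
# `Co0 / centre` is simple when the stabiliser of a minimal vector is simple
-/

namespace Cfsg.Agent.Lib.helper7.Co1

open Cfsg MulAction
open Cfsg.Agent.Lib.Lead.CP Cfsg.Agent.S0398
open Cfsg.Agent.Lib.Lead.R3S Cfsg.Agent.Lib.Lead.R4S

/-- order of the image modulo the centre -/
noncomputable def fz (g : ↥Co0) : ℕ := orderOf (QuotientGroup.mk' (Subgroup.center ↥Co0) g)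

theorem fz_conj (h g : ↥Co0) : fz (h * g * h⁻¹) = fz g := by
  unfold fz
  symm
  apply SemiconjBy.orderOf_eq (QuotientGroup.mk' (Subgroup.center ↥Co0) h)
  show _ * _ = _ * _
  rw [← map_mul, ← map_mul]
  congr 1
  group

theorem fz_neg (g : ↥Co0) : fz (negE * g) = fz g := by
  unfold fz
  rw [map_mul]
  have : QuotientGroup.mk' (Subgroup.center ↥Co0) negE = 1 :=
    (QuotientGroup.eq_one_iff negE).2 negE_mem_center
  rw [this, one_mul]

theorem sq_eq_one_of (g : ↥Co0) (h : g = 1 ∨ g = negE) : g ^ 2 = 1 := by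
  rcases h with rfl | rfl
  · exact one_pow 2
  · rw [pow_two]; exact negE_sq

theorem fz_prime (g : ↥Co0) (p : ℕ) (hp : p.Prime) (hp2 : p ≠ 2) (hg : orderOf g = p) :
    fz g = p := by
  unfold fz
  have h1 : orderOf (QuotientGroup.mk' (Subgroup.center ↥Co0) g) ∣ p := by
    rw [← hg]
    exact orderOf_map_dvd _ g
  rcases (Nat.dvd_prime hp).1 h1 with h | h
  · exfalso
    rw [orderOf_eq_one_iff] at h
    have hc : g ∈ Subgroup.center ↥Co0 := (QuotientGroup.eq_one_iff g).1 h
    have := sq_eq_one_of g (center_cases g hc)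
    have h2 : orderOf g ∣ 2 := orderOf_dvd_of_pow_eq_one this
    rw [hg] at h2
    have := (Nat.prime_dvd_prime_iff_eq hp Nat.prime_two).1 h2
    exact hp2 this
  · exact h

theorem not_central_of_prime (g : ↥Co0) (p : ℕ) (hp : p.Prime) (hp2 : p ≠ 2) (hg : orderOf g = p) :
    g ≠ 1 ∧ g ≠ negE := by
  have key : ¬ (g = 1 ∨ g = negE) := by
    intro h
    have := sq_eq_one_of g h
    have h2 : orderOf g ∣ 2 := orderOf_dvd_of_pow_eq_one this
    rw [hg] at h2
    have := (Nat.prime_dvd_prime_iff_eq hp Nat.prime_two).1 h2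
    exact hp2 this
  exact ⟨fun h => key (Or.inl h), fun h => key (Or.inr h)⟩

/-- membership of a value among three -/
def fz_val_mem (p a b c : ℕ) : Prop := p = a ∨ p = b ∨ p = c

section Main

variable (v : ↥leechLattice) (hv : sqNorm v.1 = 32) (N : Subgroup ↥Co0) [hN : N.Normal]
  (hneg : negE ∈ N)

include hv hneg

/-- if the orbit is `{v, -v}` then `N` is central -/
theorem le_center_of_two (h2 : (orb N v).ncard = 2) : N ≤ Subgroup.center ↥Co0 := by
  have hpair : ({v, -v} : Set ↥leechLattice).ncard = 2 := Set.ncard_pair (ne_neg_self v hv)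
  have hsub : ({v, -v} : Set ↥leechLattice) ⊆ orb N v := by
    intro y hy
    rcases hy with rfl | hy
    · exact v_mem_orb y hv N hneg
    · rw [Set.mem_singleton_iff] at hy
      rw [hy]
      exact neg_v_mem_orb v hv N hneg
  have hfin : (orb N v).Finite := Mn_finite.subset (orb_subset_Mn v hv N hneg)
  have heq : ({v, -v} : Set ↥leechLattice) = orb N v :=
    Set.eq_of_subset_of_ncard_le hsub (by rw [h2, hpair]) hfin
  intro n hn
  have hsign : ∀ w : ↥leechLattice, sqNorm w.1 = 32 → n.1 w = w ∨ n.1 w = -w := by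
    intro w hw
    have hw' : w ∈ orbit ↥Co0 v := by rw [orbit_eq_Mn v hv]; exact hw
    obtain ⟨g, rfl⟩ := hw'
    have hm : g⁻¹ * n * g ∈ N := by
      have := hN.conj_mem n hn g⁻¹
      rwa [inv_inv] at this
    have hmem : (g⁻¹ * n * g) • v ∈ orb N v := ⟨_, hm, rfl⟩
    rw [← heq] at hmem
    have e : n.1 (g • v) = g • ((g⁻¹ * n * g) • v) := by
      show n • (g • v) = g • ((g⁻¹ * n * g) • v)
      rw [← mul_smul, ← mul_smul]
      congr 1
      group
    rcases hmem with hm1 | hm1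
    · left
      rw [e, hm1]
    · right
      rw [Set.mem_singleton_iff] at hm1
      rw [e, hm1]
      show g.1 (-v) = -(g.1 v)
      exact map_neg' g v
  rcases sign_const n hsign with rfl | rfl
  · exact Subgroup.one_mem _
  · exact negE_mem_center

/-- there is no normal subgroup acting regularly on the minimal vectors -/
theorem no_regular_Co (hb : Disjoint N (stabilizer ↥Co0 v)) (hcard : Nat.card ↥N = 196560) :
    False := by
  classical
  -- regularity
  have hreg : ∀ n ∈ N, ∀ n' ∈ N, n.1 v = n'.1 v → n = n' := by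
    intro n hn n' hn' h
    have h1 : n'⁻¹ * n ∈ N := N.mul_mem (N.inv_mem hn') hn
    have h2 : n'⁻¹ * n ∈ stabilizer ↥Co0 v := by
      rw [mem_stabilizer_iff]
      show (n'⁻¹ * n) • v = v
      rw [mul_smul]
      show n'⁻¹ • (n.1 v) = v
      rw [h]
      show (n'⁻¹ * n') • v = v
      rw [inv_mul_cancel, one_smul]
    have h3 : n'⁻¹ * n = 1 := by
      have := hb.le_bot (show n'⁻¹ * n ∈ N ⊓ stabilizer ↥Co0 v from ⟨h1, h2⟩)
      exact (Subgroup.mem_bot).1 this
    exact (inv_mul_eq_one.1 h3).symm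
  -- same dot product gives the same order modulo the centre
  have same : ∀ d : ℤ, (d = -16 ∨ d = -8 ∨ d = 0) → ∀ m ∈ N, ∀ m' ∈ N,
      dotInt v.1 (m.1 v).1 = d → dotInt v.1 (m'.1 v).1 = d → fz m = fz m' := by
    intro d hd m hm m' hm' h1 h2
    have hA : m.1 v ∈ A v d := ⟨by rw [m.2.2]; exact hv, h1⟩
    have hA' : m'.1 v ∈ A v d := ⟨by rw [m'.2.2]; exact hv, h2⟩
    have hd' : d = -16 ∨ d = 16 ∨ d = -8 ∨ d = 8 ∨ d = 0 := by omega
    obtain ⟨k, hk, hkm⟩ := trans_A v hv d hd' _ _ hA hA'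
    have hkinv : ∀ x : ↥leechLattice, k.1 x = v → k⁻¹.1 v = x := by
      intro x hx
      rw [← hx]
      exact inv_apply_apply k x
    rcases hk with hk | hk
    · have e : (k * m * k⁻¹).1 v = m'.1 v := by
        show k.1 (m.1 (k⁻¹.1 v)) = m'.1 v
        rw [hkinv v hk, hkm]
      have := hreg _ (hN.conj_mem m hm k) _ hm' e
      rw [← this, fz_conj]
    · have hk' : k.1 (-v) = v := by rw [map_neg', hk, neg_neg]
      have e : (k * m * k⁻¹).1 v = (negE * m').1 v := by
        show k.1 (m.1 (k⁻¹.1 v)) = negE.1 (m'.1 v)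
        rw [hkinv (-v) hk', map_neg', map_neg', hkm, negE_apply]
      have := hreg _ (hN.conj_mem m hm k) _ (N.mul_mem hneg hm') e
      rw [← fz_neg m', ← this, fz_conj]
  -- normalisation of the sign
  have normal : ∀ n ∈ N, n ≠ 1 → n ≠ negE → ∃ m ∈ N, fz m = fz n ∧
      (dotInt v.1 (m.1 v).1 = -16 ∨ dotInt v.1 (m.1 v).1 = -8 ∨ dotInt v.1 (m.1 v).1 = 0) := by
    intro n hn hn1 hn2
    have hne1 : n.1 v ≠ v := by
      intro h
      exact hn1 (hreg n hn 1 N.one_mem h)
    have hne2 : n.1 v ≠ -v := by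
      intro h
      exact hn2 (hreg n hn negE hneg h)
    have hdneg : dotInt v.1 ((negE * n).1 v).1 = -dotInt v.1 (n.1 v).1 := by
      show dotInt v.1 (negE.1 (n.1 v)).1 = _
      rw [negE_apply, dot_neg_r]
    rcases dot_vals v (n.1 v) hv (by rw [n.2.2]; exact hv) with h | h | h | h | h | h | h
    · exact absurd h hne1
    · exact absurd h hne2
    · exact ⟨n, hn, rfl, Or.inl h⟩
    · exact ⟨negE * n, N.mul_mem hneg hn, fz_neg n, Or.inl (by rw [hdneg, h])⟩
    · exact ⟨n, hn, rfl, Or.inr (Or.inl h)⟩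
    · exact ⟨negE * n, N.mul_mem hneg hn, fz_neg n, Or.inr (Or.inl (by rw [hdneg, h]))⟩
    · exact ⟨n, hn, rfl, Or.inr (Or.inr h)⟩
  -- at most three values
  have three : ∃ a b c : ℕ, ∀ n ∈ N, n ≠ 1 → n ≠ negE → fz n = a ∨ fz n = b ∨ fz n = c := by
    have pick : ∀ d : ℤ, (d = -16 ∨ d = -8 ∨ d = 0) → ∃ a : ℕ, ∀ m ∈ N,
        dotInt v.1 (m.1 v).1 = d → fz m = a := by
      intro d hd
      by_cases hex : ∃ m0 ∈ N, dotInt v.1 (m0.1 v).1 = d
      · obtain ⟨m0, hm0, hd0⟩ := hex
        exact ⟨fz m0, fun m hm hdm => same d hd m hm m0 hm0 hdm hd0⟩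
      · exact ⟨0, fun m hm hdm => absurd ⟨m, hm, hdm⟩ hex⟩
    obtain ⟨a, ha⟩ := pick (-16) (by norm_num)
    obtain ⟨b, hb'⟩ := pick (-8) (by norm_num)
    obtain ⟨c, hc⟩ := pick 0 (by norm_num)
    refine ⟨a, b, c, fun n hn hn1 hn2 => ?_⟩
    obtain ⟨m, hm, hfm, hdm | hdm | hdm⟩ := normal n hn hn1 hn2
    · left; rw [← hfm]; exact ha m hm hdm
    · right; left; rw [← hfm]; exact hb' m hm hdm
    · right; right; rw [← hfm]; exact hc m hm hdm
  obtain ⟨a, b, c, habc⟩ := three
  -- elements of prime orders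
  have elt : ∀ p : ℕ, p.Prime → p ≠ 2 → p ∣ 196560 → fz_val_mem p a b c := by
    intro p hp hp2 hdvd
    haveI : Fact p.Prime := ⟨hp⟩
    obtain ⟨g0, hg0⟩ := exists_prime_orderOf_dvd_card' (G := ↥N) p (by rw [hcard]; exact hdvd)
    have hg : orderOf g0.1 = p := by
      rw [← hg0]
      exact Subgroup.orderOf_coe g0
    obtain ⟨h1, h2⟩ := not_central_of_prime g0.1 p hp hp2 hg
    have := habc g0.1 g0.2 h1 h2
    rw [fz_prime g0.1 p hp hp2 hg] at this
    exact this
  have e3 := elt 3 (by norm_num) (by norm_num) (by norm_num)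
  have e5 := elt 5 (by norm_num) (by norm_num) (by norm_num)
  have e7 := elt 7 (by norm_num) (by norm_num) (by norm_num)
  have e13 := elt 13 (by norm_num) (by norm_num) (by norm_num)
  unfold fz_val_mem at e3 e5 e7 e13
  omega

end Main

end Cfsg.Agent.Lib.helper7.Co1
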