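import Mathlib
import Cfsg.Prelude.Def_Characters
import Cfsg.Agent.Lib.helper7.Clifford
import Cfsg.Agent.Lib.helper7.CliffordSub
import Cfsg.Agent.Lib.helper2.CliffordCorr
import Cfsg.Agent.Lib.Helper11.AbelianQuot

set_option autoImplicit false

/-! # Extension of invariant characters, part A: ramification over a normal subgroup of
`p`-power index is `1` or divisible by `p`. -/

namespace Cfsg.Agent.Lib.helper7

open scoped ComplexConjugate
open Cfsg.Agent.Lib.helper2 Cfsg.Agent.Lib.Helper25 Cfsg.Agent.Lib.Helper11

theorem h7_ext_comm_mem_of_prime_index {G : Type*} [Group G] [Finite G] {p : ℕ} (hp : p.Prime)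
    (M : Subgroup G) [hM : M.Normal] (hidx : M.index = p) (x y : G) :
    x * y * x⁻¹ * y⁻¹ ∈ M := by
  have hcard : Nat.card (G ⧸ M) = p := by rw [← hidx]; rfl
  have : Fact p.Prime := ⟨hp⟩
  have := isCyclic_of_prime_card hcard
  rw [← QuotientGroup.eq_one_iff]
  have hc : ∀ a b : G ⧸ M, a * b = b * a := fun a b =>
    (IsCyclic.commGroup (α := G ⧸ M)).mul_comm a b
  simp only [QuotientGroup.mk_mul, QuotientGroup.mk_inv]
  rw [hc (x : G ⧸ M) (y : G ⧸ M)]
  group

/-- Prime index step: an irreducible character of `G` restricted to a normal subgroup `M` of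
prime index `p` is either irreducible, or a multiple of the sum of exactly `p` conjugates. -/
theorem h7_ext_prime_step {G : Type*} [Group G] [Fintype G] {p : ℕ} (hp : p.Prime)
    (M : Subgroup G) [hM : M.Normal] [Fintype M] (hidx : M.index = p) (χ : G → ℂ)
    (hχ : Cfsg.IsIrrCharacter G χ) (ψ : M → ℂ) (hψ : Cfsg.IsIrrCharacter M ψ)
    (hcon : Cfsg.classInner (fun m : M => χ m) ψ ≠ 0) [DecidableEq (M → ℂ)] :
    (fun m : M => χ m) = ψ ∨
      ∃ e : ℕ, (fun m : M => χ m) = (e : ℂ) • ∑ φ ∈ Finset.univ.image (fun g : G => cj M ψ g), φ ∧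
        (Finset.univ.image (fun g : G => cj M ψ g)).card = p := by
  classical
  haveI : Fintype (Cfsg.IrrCharacter G) := Fintype.ofFinite _
  by_cases hinv : ∀ g : G, cj M ψ g = ψ
  · left
    obtain ⟨e, C, hepos, hC, hres, -, hcard⟩ := ramification_abelian_quotient M ψ hψ hinv
      (h7_ext_comm_mem_of_prime_index hp M hidx)
    have hG : Nat.card G = p * Nat.card M := by
      rw [← hidx]; exact (Subgroup.index_mul_card M).symm
    have hMpos : 0 < Nat.card M := Nat.card_pos
    have h1 : e ^ 2 * C.card = p := by
      have : e ^ 2 * C.card * Nat.card M = p * Nat.card M := by rw [hcard, hG]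
      exact Nat.eq_of_mul_eq_mul_right hMpos this
    have he1 : e = 1 := by
      have hdvd : e ∣ p := ⟨e * C.card, by rw [← h1]; ring⟩
      rcases (Nat.dvd_prime hp).1 hdvd with h | h
      · exact h
      · exfalso
        rw [h] at h1
        have hCpos : 0 < C.card := by
          rcases Nat.eq_zero_or_pos C.card with h0 | h0
          · rw [h0] at h1; simp at h1; exact absurd h1.symm hp.ne_zero
          · exact h0
        have : p ^ 2 * C.card ≥ p ^ 2 := Nat.le_mul_of_pos_right _ hCpos
        have h2 : p ^ 2 > p := by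
          have := hp.two_le
          nlinarith
        omega
    have hmem : (⟨χ, hχ⟩ : Cfsg.IrrCharacter G) ∈ C := by
      rw [hC]
      show Cfsg.classInner (Cfsg.indFun M ψ) χ ≠ 0
      rw [h7_frobenius_irr M χ (h7_irr_isClassFunction hχ) ψ]
      intro h
      apply hcon
      have := congrArg conj h
      simpa using this
    have := hres _ hmem
    rw [he1] at this
    simpa using this
  · right
    obtain ⟨e, -, -, hres⟩ := h7_clifford M χ hχ ψ hψ hcon
    refine ⟨e, hres, ?_⟩
    rw [card_image_cj M ψ]
    have hle : M ≤ cjStab M ψ :=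
      le_cjStab M ψ (isCharacter_isClassFunction (h7_irr_isCharacter hψ))
    have hdvd : (cjStab M ψ).index ∣ p := by
      rw [← hidx]; exact Subgroup.index_dvd_of_le hle
    rcases (Nat.dvd_prime hp).1 hdvd with h | h
    · exfalso
      apply hinv
      intro g
      have htop : cjStab M ψ = ⊤ := Subgroup.index_eq_one.mp h
      have : g ∈ cjStab M ψ := by rw [htop]; exact Subgroup.mem_top g
      exact (mem_cjStab M ψ g).mp this
    · exact h

end Cfsg.Agent.Lib.helper7
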