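import Mathlib
import Cfsg.Prelude.Def_Characters
import Cfsg.Agent.Lib.helper7.ExtA

set_option autoImplicit false

/-! # Extension of invariant characters, part B0: auxiliary lemmas for the ramification lemma -/

namespace Cfsg.Agent.Lib.helper7

open scoped ComplexConjugate commutatorElement
open Cfsg.Agent.Lib.helper2 Cfsg.Agent.Lib.Helper25 Cfsg.Agent.Lib.Helper11

/-- a nontrivial finite solvable group has a normal subgroup of prime index -/
theorem h7_ext_exists_normal_prime_index {H : Type*} [Group H] [Finite H] [Group.IsSolvable H]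
    [Nontrivial H] : ∃ M : Subgroup H, M.Normal ∧ M.index.Prime := by
  have hlt : commutator H < ⊤ := Group.IsSolvable.commutator_lt_top_of_nontrivial H
  obtain ⟨M, hM, hle⟩ := (IsCoatomic.eq_top_or_exists_le_coatom (commutator H)).resolve_left hlt.ne
  have hMn : M.Normal := by
    constructor
    intro n hn g
    have h1 : ⁅g, n⁆ ∈ commutator H :=
      Subgroup.commutator_mem_commutator (Subgroup.mem_top g) (Subgroup.mem_top n)
    have e : g * n * g⁻¹ = ⁅g, n⁆ * n := by
      rw [commutatorElement_def]; group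
    rw [e]
    exact M.mul_mem (hle h1) hn
  refine ⟨M, hMn, ?_⟩
  have hq1 : M.index ≠ 1 := fun h => hM.1 (Subgroup.index_eq_one.mp h)
  obtain ⟨ℓ, hℓ, hdvd⟩ := Nat.exists_prime_and_dvd hq1
  have : Fact ℓ.Prime := ⟨hℓ⟩
  have hdvd' : ℓ ∣ Nat.card (H ⧸ M) := hdvd
  obtain ⟨x, hx⟩ := exists_prime_orderOf_dvd_card' ℓ hdvd'
  obtain ⟨y, rfl⟩ := QuotientGroup.mk_surjective x
  let L : Subgroup H := (Subgroup.zpowers (QuotientGroup.mk' M y)).comap (QuotientGroup.mk' M)
  have hML : M ≤ L := by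
    intro z hz
    rw [Subgroup.mem_comap]
    have : QuotientGroup.mk' M z = 1 := (QuotientGroup.eq_one_iff z).mpr hz
    rw [this]
    exact Subgroup.one_mem _
  have hyL : y ∈ L := by
    rw [Subgroup.mem_comap]
    exact Subgroup.mem_zpowers _
  have hyM : y ∉ M := by
    intro h
    have h1 : (QuotientGroup.mk y : H ⧸ M) = 1 := (QuotientGroup.eq_one_iff y).mpr h
    rw [h1, orderOf_one] at hx
    exact hℓ.one_lt.ne hx
  have hLtop : L = ⊤ := by
    by_contra hne
    have := hM.2 L (lt_of_le_of_ne hML (fun h => hyM (h ▸ hyL)))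
    exact hne this
  have hz : Subgroup.zpowers (QuotientGroup.mk' M y) = ⊤ := by
    rw [eq_top_iff]
    intro z _
    obtain ⟨w, rfl⟩ := QuotientGroup.mk_surjective z
    have : w ∈ L := by rw [hLtop]; exact Subgroup.mem_top w
    exact this
  have hcard : Nat.card (H ⧸ M) = ℓ := by
    rw [← Subgroup.card_top (G := H ⧸ M), ← hz, Nat.card_zpowers]
    exact hx
  have : M.index = ℓ := hcard
  rw [this]
  exact hℓ

theorem h7_ext_exists_max {G : Type*} [Group G] [Finite G] {p : ℕ} (hp : p.Prime)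
    (N : Subgroup G) [hN : N.Normal] (k : ℕ) (hidx : N.index = p ^ k) (hne : N ≠ ⊤) :
    ∃ M : Subgroup G, M.Normal ∧ N ≤ M ∧ M.index = p := by
  haveI : Fact p.Prime := ⟨hp⟩
  have hcard : Nat.card (G ⧸ N) = p ^ k := by rw [← hidx]; rfl
  have hPG : IsPGroup p (G ⧸ N) := IsPGroup.of_card hcard
  haveI : Group.IsNilpotent (G ⧸ N) := hPG.isNilpotent
  haveI : Nontrivial (G ⧸ N) := by
    rw [← Finite.one_lt_card_iff_nontrivial]
    have h1 : N.index ≠ 1 := fun h => hne (Subgroup.index_eq_one.mp h)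
    have hpos : 0 < Nat.card (G ⧸ N) := Nat.card_pos
    have : Nat.card (G ⧸ N) ≠ 1 := h1
    omega
  obtain ⟨M', hMn, hM'p⟩ := h7_ext_exists_normal_prime_index (H := G ⧸ N)
  have hM'idx : M'.index = p := by
    have hdvd : M'.index ∣ p ^ k := by
      rw [← hcard]; exact Subgroup.index_dvd_card M'
    exact (Nat.prime_dvd_prime_iff_eq hM'p hp).mp (hM'p.dvd_of_dvd_pow hdvd)
  refine ⟨M'.comap (QuotientGroup.mk' N), inferInstance, ?_, ?_⟩
  · intro x hx
    rw [Subgroup.mem_comap]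
    have : (QuotientGroup.mk' N) x = 1 := (QuotientGroup.eq_one_iff x).mpr hx
    rw [this]
    exact M'.one_mem
  · rw [Subgroup.index_comap_of_surjective _ (QuotientGroup.mk'_surjective N)]
    exact hM'idx

/-- choose an irreducible constituent of `χ_M` lying over `θ` -/
theorem h7_ext_exists_between {G : Type*} [Group G] [Fintype G] (N M : Subgroup G) [Fintype N]
    [Fintype M] (hNM : N ≤ M) (χ : G → ℂ) (hχ : Cfsg.IsCharacter G χ) (θ : N → ℂ)
    (hcon : Cfsg.classInner (fun n : N => χ n) θ ≠ 0) :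
    ∃ ψ : M → ℂ, Cfsg.IsIrrCharacter M ψ ∧ Cfsg.classInner (fun m : M => χ m) ψ ≠ 0 ∧
      Cfsg.classInner (fun n : N => ψ ⟨n, hNM n.2⟩) θ ≠ 0 := by
  classical
  haveI : Fintype (Cfsg.IrrCharacter M) := Fintype.ofFinite _
  obtain ⟨m, hm, hexp⟩ := isCharacter_expansion (isCharacter_restrict hχ M)
  have h1 : (fun n : N => χ n) =
      ∑ ψ : Cfsg.IrrCharacter M, (m ψ : ℂ) • (fun n : N => (ψ : M → ℂ) ⟨n, hNM n.2⟩) := by
    funext n
    have := congrFun hexp ⟨n, hNM n.2⟩
    simp only [Finset.sum_apply, Pi.smul_apply] at this ⊢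
    exact this
  rw [h1, classInner_sum_left] at hcon
  obtain ⟨ψ, -, hψ⟩ := Finset.exists_ne_zero_of_sum_ne_zero hcon
  rw [classInner_smul_left] at hψ
  refine ⟨ψ, ψ.2, ?_, right_ne_zero_of_mul hψ⟩
  rw [hm ψ]
  exact left_ne_zero_of_mul hψ

theorem h7_ext_cj_restrict {G : Type*} [Group G] (N M : Subgroup G) [hN : N.Normal]
    [hM : M.Normal] [Fintype N] (hNM : N ≤ M) (ψ : M → ℂ) (θ : N → ℂ) (g : G)
    (hinv : cj N θ g = θ) :
    Cfsg.classInner (fun n : N => cj M ψ g ⟨n, hNM n.2⟩) θ =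
      Cfsg.classInner (fun n : N => ψ ⟨n, hNM n.2⟩) θ := by
  have h1 : (fun n : N => cj M ψ g ⟨n, hNM n.2⟩) = cj N (fun n : N => ψ ⟨n, hNM n.2⟩) g := by
    funext n
    rfl
  rw [h1]
  have := h7_classInner_cj_cj N (fun n : N => ψ ⟨n, hNM n.2⟩) θ g
  rw [hinv] at this
  exact this

end Cfsg.Agent.Lib.helper7
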