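import Mathlib
import Cfsg.Prelude.Def_Characters
import Cfsg.Agent.Lib.helper7.ExtA
import Cfsg.Agent.Lib.helper7.ExtB0

set_option autoImplicit false

/-! # Extension of invariant characters, part B: over a normal subgroup of `p`-power index, the
ramification of an invariant character is `1` or divisible by `p` -/

namespace Cfsg.Agent.Lib.helper7

open scoped ComplexConjugate commutatorElement
open Cfsg.Agent.Lib.helper2 Cfsg.Agent.Lib.Helper25 Cfsg.Agent.Lib.Helper11

universe u

theorem h7_ext_ram_aux {p : ℕ} (hp : p.Prime) :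
    ∀ (n : ℕ) (G : Type u) [Group G] [Fintype G] (N : Subgroup G) [N.Normal] [Fintype N],
      Nat.card G = n → (∃ k : ℕ, N.index = p ^ k) →
      ∀ (θ : N → ℂ), Cfsg.IsIrrCharacter N θ → (∀ g : G, cj N θ g = θ) →
      ∀ (χ : G → ℂ), Cfsg.IsIrrCharacter G χ → ∀ e : ℕ,
        (fun n : N => χ n) = (e : ℂ) • θ → ¬ p ∣ e → e = 1 := by
  intro n
  induction n using Nat.strong_induction_on with
  | _ n ih =>
  intro G _ _ N _ _ hcard hidx θ hθ hinv χ hχ e hres hpe
  classical
  obtain ⟨k, hk⟩ := hidx
  have he0 : e ≠ 0 := fun h => hpe (h ▸ dvd_zero p)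
  have hθn : Cfsg.classInner θ θ = 1 := h7_irr_norm hθ
  by_cases htop : N = ⊤
  · -- `N = ⊤`
    subst htop
    have h1 : Cfsg.classInner (fun n : (⊤ : Subgroup G) => χ n) (fun n : (⊤ : Subgroup G) => χ n)
        = Cfsg.classInner χ χ :=
      h7_classInner_comp_equiv (Subgroup.topEquiv : (⊤ : Subgroup G) ≃* G) χ χ
    rw [h7_irr_norm hχ, hres, classInner_smul_left, h7_classInner_smul_right, hθn] at h1
    have h2 : (e : ℂ) * (conj (e : ℂ) * 1) = ((e * e : ℕ) : ℂ) := by
      rw [Complex.conj_natCast]; push_cast; ring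
    rw [h2] at h1
    have h3 : e * e = 1 := by exact_mod_cast h1
    exact Nat.eq_one_of_mul_eq_one_right h3
  · obtain ⟨M, hMn, hNM, hMidx⟩ := h7_ext_exists_max hp N k hk htop
    haveI := hMn
    haveI : Fintype M := Fintype.ofFinite M
    have hχc := h7_irr_isCharacter hχ
    have hcon : Cfsg.classInner (fun n : N => χ n) θ ≠ 0 := by
      rw [hres, classInner_smul_left, hθn, mul_one]
      exact_mod_cast he0
    obtain ⟨ψ, hψ, hψ1, hψ2⟩ := h7_ext_exists_between N M hNM χ hχc θ hcon
    rcases h7_ext_prime_step hp M hMidx χ hχ ψ hψ hψ1 with hL | ⟨e', hR, hcardO⟩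
    · -- `χ_M = ψ` irreducible: induction
      have hGM : Nat.card G = p * Nat.card M := by
        rw [← hMidx]; exact (Subgroup.index_mul_card M).symm
      have hlt : Nat.card M < n := by
        rw [← hcard, hGM]
        have : 0 < Nat.card M := Nat.card_pos
        have := hp.two_le
        nlinarith
      haveI : Fintype (N.subgroupOf M) := Fintype.ofFinite _
      let eqv : N.subgroupOf M ≃* N := Subgroup.subgroupOfEquivOfLe hNM
      have hidx' : ∃ k' : ℕ, (N.subgroupOf M).index = p ^ k' := by
        have h1 : N.relIndex M * M.index = N.index := Subgroup.relIndex_mul_index hNM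
        rw [hMidx, hk] at h1
        have hdvd : N.relIndex M ∣ p ^ k := ⟨p, h1.symm⟩
        obtain ⟨k', -, hk'⟩ := (Nat.dvd_prime_pow hp).1 hdvd
        exact ⟨k', hk'⟩
      have hθ' : Cfsg.IsIrrCharacter (N.subgroupOf M) (fun x => θ (eqv x)) :=
        h7_isIrr_comp_equiv eqv θ hθ
      have hinv' : ∀ m : M, cj (N.subgroupOf M) (fun x => θ (eqv x)) m = fun x => θ (eqv x) := by
        intro m
        funext x
        rw [cj_apply]
        have := congrFun (hinv (m : G)) (eqv x)
        rw [cj_apply] at this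
        rw [← this]
        congr 1
      have hres' : (fun x : N.subgroupOf M => ψ x) = (e : ℂ) • (fun x => θ (eqv x)) := by
        funext x
        have h1 := congrFun hL (x : M)
        have h2 := congrFun hres (eqv x)
        simp only [Pi.smul_apply] at h2 ⊢
        rw [← h2, ← h1]
        rfl
      exact ih (Nat.card M) hlt M (N.subgroupOf M) rfl hidx' _ hθ' hinv' ψ hψ e hres' hpe
    · -- `χ_M` is a multiple of the sum of `p` conjugates: `p ∣ e`
      exfalso
      apply hpe
      obtain ⟨a, ha⟩ := classInner_character_nat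
        (isCharacter_comp_hom (h7_irr_isCharacter hψ) (Subgroup.inclusion hNM))
        (h7_irr_isCharacter hθ)
      have ha' : Cfsg.classInner (fun n : N => ψ ⟨n, hNM n.2⟩) θ = (a : ℂ) := ha
      have h1 : (fun n : N => χ n) = (e' : ℂ) •
          ∑ φ ∈ Finset.univ.image (fun g : G => cj M ψ g), (fun n : N => φ ⟨n, hNM n.2⟩) := by
        funext n
        have := congrFun hR ⟨n, hNM n.2⟩
        simp only [Pi.smul_apply, Finset.sum_apply] at this ⊢
        exact this
      have h2 : Cfsg.classInner (fun n : N => χ n) θ = (e : ℂ) := by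
        rw [hres, classInner_smul_left, hθn, mul_one]
      rw [h1, classInner_smul_left, classInner_sum_left] at h2
      have h3 : ∀ φ ∈ Finset.univ.image (fun g : G => cj M ψ g),
          Cfsg.classInner (fun n : N => φ ⟨n, hNM n.2⟩) θ = (a : ℂ) := by
        intro φ hφ
        obtain ⟨g, -, rfl⟩ := Finset.mem_image.mp hφ
        rw [h7_ext_cj_restrict N M hNM ψ θ g (hinv g), ha']
      rw [Finset.sum_congr rfl h3, Finset.sum_const, hcardO, nsmul_eq_mul] at h2
      have h4 : e' * (p * a) = e := by exact_mod_cast h2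
      exact ⟨e' * a, by rw [← h4]; ring⟩

end Cfsg.Agent.Lib.helper7
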