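import Mathlib
import Cfsg.Prelude.Def_Characters
import Cfsg.Agent.Lib.helper7.ExtA

set_option autoImplicit false

/-! # Extension of invariant characters, part C: inner products of restrictions of induced
class functions with invariant class functions of a normal subgroup -/

namespace Cfsg.Agent.Lib.helper7

open scoped ComplexConjugate
open Cfsg.Agent.Lib.helper2 Cfsg.Agent.Lib.Helper25 Cfsg.Agent.Lib.Helper11

/-- the functional `f ↦ [f_N θ, θ]` -/
noncomputable def h7_extL {G : Type*} [Group G] (N : Subgroup G) [Fintype N] (θ : N → ℂ)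
    (f : G → ℂ) : ℂ :=
  Cfsg.classInner (fun n : N => f n * θ n) θ

theorem h7_extL_add {G : Type*} [Group G] (N : Subgroup G) [Fintype N] (θ : N → ℂ)
    (f g : G → ℂ) : h7_extL N θ (f + g) = h7_extL N θ f + h7_extL N θ g := by
  unfold h7_extL
  rw [← classInner_add_left]
  congr 1
  funext n
  simp only [Pi.add_apply]
  ring

theorem h7_extL_zsmul {G : Type*} [Group G] (N : Subgroup G) [Fintype N] (θ : N → ℂ)
    (z : ℤ) (f : G → ℂ) : h7_extL N θ (z • f) = (z : ℂ) * h7_extL N θ f := by
  unfold h7_extL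
  rw [← classInner_smul_left]
  congr 1
  funext n
  simp only [Pi.smul_apply, smul_eq_mul, zsmul_eq_mul]
  ring

theorem h7_extL_zero {G : Type*} [Group G] (N : Subgroup G) [Fintype N] (θ : N → ℂ) :
    h7_extL N θ (0 : G → ℂ) = 0 := by
  unfold h7_extL
  have : (fun n : N => (0 : G → ℂ) n * θ n) = 0 := by
    funext n; simp
  rw [this, classInner_zero_left]

/-- restriction of a function on `N` to `N ∩ E`, seen inside `E` -/
def h7_extResU {G : Type*} [Group G] (N E : Subgroup G) (θ : N → ℂ) : N.subgroupOf E → ℂ :=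
  fun u => θ ⟨((u : E) : G), Subgroup.mem_subgroupOf.mp u.2⟩

theorem h7_extResU_apply {G : Type*} [Group G] (N E : Subgroup G) (θ : N → ℂ)
    (u : N.subgroupOf E) :
    h7_extResU N E θ u = θ ⟨((u : E) : G), Subgroup.mem_subgroupOf.mp u.2⟩ := rfl

/-- inner product of the restriction to `N` of an induced class function with a `G`-invariant
function on the normal subgroup `N` -/
theorem h7_ext_inner_indFun {G : Type*} [Group G] [Fintype G] (N : Subgroup G) [hN : N.Normal]
    [Fintype N] (η : N → ℂ) (hinv : ∀ g : G, cj N η g = η) (E : Subgroup G) [Fintype E]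
    [Fintype (N.subgroupOf E)] (φ : E → ℂ) :
    Cfsg.classInner (fun n : N => Cfsg.indFun E φ n) η =
      (N.index : ℂ) * ((Nat.card (N.subgroupOf E) : ℂ) / (Nat.card E : ℂ)) *
        Cfsg.classInner (fun u : N.subgroupOf E => φ u) (h7_extResU N E η) := by
  classical
  set Θ : G → ℂ := Cfsg.extendByZero N η with hΘ
  have hG : (Nat.card G : ℂ) ≠ 0 := by exact_mod_cast Nat.card_pos.ne'
  have hNc : (Nat.card N : ℂ) ≠ 0 := by exact_mod_cast Nat.card_pos.ne'
  have hEc : (Nat.card E : ℂ) ≠ 0 := by exact_mod_cast Nat.card_pos.ne'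
  have hUc : (Nat.card (N.subgroupOf E) : ℂ) ≠ 0 := by exact_mod_cast Nat.card_pos.ne'
  have hconjΘ : ∀ g : G, conj (Θ g) = Cfsg.extendByZero N (fun n => conj (η n)) g := by
    intro g
    by_cases hg : g ∈ N
    · rw [hΘ, h7_extendByZero_mem N _ g hg, h7_extendByZero_mem N _ g hg]
    · rw [hΘ, h7_extendByZero_not_mem N _ g hg, h7_extendByZero_not_mem N _ g hg, map_zero]
  -- (i)
  have h1 : ∀ f : G → ℂ, Cfsg.classInner (fun n : N => f n) η =
      (N.index : ℂ) * Cfsg.classInner f Θ := by
    intro f
    unfold Cfsg.classInner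
    have hs : ∑ g : G, f g * conj (Θ g) = ∑ n : N, f n * conj (η n) := by
      rw [Finset.sum_congr rfl (fun g _ => by rw [hconjΘ g])]
      exact h7_sum_mul_extendByZero N _ f
    rw [hs]
    have hidx : (Nat.card G : ℂ) = (N.index : ℂ) * (Nat.card N : ℂ) := by
      rw [← Subgroup.index_mul_card N]; push_cast; ring
    have hidx0 : (N.index : ℂ) ≠ 0 := by
      exact_mod_cast Subgroup.index_ne_zero_of_finite
    rw [hidx, mul_inv, ← mul_assoc, ← mul_assoc, mul_inv_cancel₀ hidx0, one_mul]
  -- (ii)
  have hcl : Cfsg.IsClassFunction G Θ := by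
    intro g h
    by_cases hg : g ∈ N
    · have hg' : h * g * h⁻¹ ∈ N := hN.conj_mem g hg h
      rw [hΘ, h7_extendByZero_mem N _ _ hg', h7_extendByZero_mem N _ g hg]
      have := congrFun (hinv h) ⟨g, hg⟩
      rw [cj_apply] at this
      rw [this]
    · have hg' : h * g * h⁻¹ ∉ N := by
        intro hc
        apply hg
        have := hN.conj_mem _ hc h⁻¹
        simpa [mul_assoc] using this
      rw [hΘ, h7_extendByZero_not_mem N _ _ hg', h7_extendByZero_not_mem N _ g hg]
  rw [h1, h7_frobenius_reciprocity E φ Θ hcl]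
  -- (iv)
  have h4 : Cfsg.classInner φ (fun x : E => Θ x) =
      ((Nat.card (N.subgroupOf E) : ℂ) / (Nat.card E : ℂ)) *
        Cfsg.classInner (fun u : N.subgroupOf E => φ u) (h7_extResU N E η) := by
    unfold Cfsg.classInner
    have hs : ∑ x : E, φ x * conj (Θ x) =
        ∑ x : E, (if x ∈ N.subgroupOf E then φ x * conj (Θ x) else 0) := by
      apply Finset.sum_congr rfl
      intro x _
      split_ifs with hx
      · rfl
      · have hx' : (x : G) ∉ N := hx
        rw [hΘ, h7_extendByZero_not_mem N _ _ hx', map_zero, mul_zero]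
    rw [hs, h7_sum_subgroup (N.subgroupOf E) (fun x : E => φ x * conj (Θ x))]
    have hs2 : ∑ u : N.subgroupOf E, φ u * conj (Θ ((u : E) : G)) =
        ∑ u : N.subgroupOf E, φ u * conj (h7_extResU N E η u) := by
      apply Finset.sum_congr rfl
      intro u _
      have hu : ((u : E) : G) ∈ N := Subgroup.mem_subgroupOf.mp u.2
      rw [hconjΘ, h7_extendByZero_mem N _ _ hu, h7_extResU_apply]
    rw [hs2]
    field_simp
  rw [h4]
  ring

theorem h7_extL_indFun {G : Type*} [Group G] [Fintype G] (N : Subgroup G) [hN : N.Normal]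
    [Fintype N] (θ : N → ℂ) (hinv : ∀ g : G, cj N θ g = θ) (E : Subgroup G) [Fintype E]
    [Fintype (N.subgroupOf E)] (φ : E → ℂ) :
    h7_extL N θ (Cfsg.indFun E φ) =
      (N.index : ℂ) * ((Nat.card (N.subgroupOf E) : ℂ) / (Nat.card E : ℂ)) *
        Cfsg.classInner (fun u : N.subgroupOf E => φ u * h7_extResU N E θ u)
          (h7_extResU N E θ) := by
  have hinv' : ∀ g : G, cj N (fun n => θ n * conj (θ n)) g = fun n => θ n * conj (θ n) := by
    intro g
    funext n
    rw [cj_apply]
    have := congrFun (hinv g) n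
    rw [cj_apply] at this
    rw [this]
  have h1 := h7_ext_inner_indFun N (fun n => θ n * conj (θ n)) hinv' E φ
  have h2 : h7_extL N θ (Cfsg.indFun E φ) =
      Cfsg.classInner (fun n : N => Cfsg.indFun E φ n) (fun n => θ n * conj (θ n)) := by
    unfold h7_extL Cfsg.classInner
    congr 1
    apply Finset.sum_congr rfl
    intro n _
    rw [map_mul, Complex.conj_conj]
    ring
  have h3 : Cfsg.classInner (fun u : N.subgroupOf E => φ u)
      (h7_extResU N E (fun n => θ n * conj (θ n))) =
      Cfsg.classInner (fun u : N.subgroupOf E => φ u * h7_extResU N E θ u)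
          (h7_extResU N E θ) := by
    unfold Cfsg.classInner
    congr 1
    apply Finset.sum_congr rfl
    intro u _
    simp only [h7_extResU_apply, map_mul, Complex.conj_conj]
    ring
  rw [h2, h1, h3]

end Cfsg.Agent.Lib.helper7
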