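import Mathlib
import Cfsg.Prelude.Def_Characters
import Cfsg.Agent.Lib.helper7.ExtC
import Cfsg.Agent.Lib.helper2.BrauerDescent

set_option autoImplicit false

/-! # Extension of invariant characters, part D: Brauer's induction theorem selects a
`p`-elementary subgroup covering `G / N` and a constituent of multiplicity prime to `p` -/

namespace Cfsg.Agent.Lib.helper7

open scoped ComplexConjugate
open Cfsg.Agent.Lib.helper2 Cfsg.Agent.Lib.Helper25 Cfsg.Agent.Lib.Helper11

/-- the inclusion of `N ∩ E` (inside `E`) into `N` -/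
def h7_extIncl {G : Type*} [Group G] (N E : Subgroup G) : N.subgroupOf E →* N :=
  MonoidHom.codRestrict (E.subtype.comp (N.subgroupOf E).subtype) N
    (fun u => Subgroup.mem_subgroupOf.mp u.2)

theorem h7_extResU_isCharacter {G : Type*} [Group G] (N E : Subgroup G) (θ : N → ℂ)
    (hθ : Cfsg.IsCharacter N θ) : Cfsg.IsCharacter (N.subgroupOf E) (h7_extResU N E θ) :=
  isCharacter_comp_hom hθ (h7_extIncl N E)

theorem h7_ext_select {G : Type*} [Group G] [Fintype G] (p : ℕ) [hp : Fact p.Prime]
    (N : Subgroup G) [hN : N.Normal] [Fintype N] (k : ℕ) (hidx : N.index = p ^ k) (θ : N → ℂ)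
    (hθ : Cfsg.IsIrrCharacter N θ) (hinv : ∀ g : G, cj N θ g = θ) :
    ∃ (E : Subgroup G) (φ : E → ℂ) (m : ℕ), Cfsg.IsElementary p E ∧ Cfsg.IsCharacter E φ ∧
      N.relIndex E = N.index ∧ ¬ p ∣ m ∧
      @Cfsg.classInner (N.subgroupOf E) _ (Fintype.ofFinite _)
        (fun u : N.subgroupOf E => φ u * h7_extResU N E θ u) (h7_extResU N E θ) = (m : ℂ) := by
  classical
  by_contra hno
  obtain ⟨l, hl, hmem⟩ := local_one_int (G := G) p
  have hθc := h7_irr_isCharacter hθ
  have key : ∀ f ∈ Submodule.span ℤ (bgens p G), ∃ z : ℤ, h7_extL N θ f = ((p : ℤ) * z : ℤ) := by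
    intro f hf
    induction hf using Submodule.span_induction with
    | mem f hf =>
      obtain ⟨E, φ, hE, hφ, rfl⟩ := hf
      haveI : Fintype E := Fintype.ofFinite E
      letI : Fintype (N.subgroupOf E) := Fintype.ofFinite _
      rw [h7_extL_indFun N θ hinv E φ]
      obtain ⟨m, hm⟩ := classInner_character_nat
        (h7_isCharacter_mul (isCharacter_comp_hom hφ (N.subgroupOf E).subtype)
          (h7_extResU_isCharacter N E θ hθc))
        (h7_extResU_isCharacter N E θ hθc)
      have hm' : Cfsg.classInner (fun u : N.subgroupOf E => φ u * h7_extResU N E θ u)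
          (h7_extResU N E θ) = (m : ℂ) := hm
      rw [hm']
      -- arithmetic of indices
      have hd : N.relIndex E ∣ N.index := Subgroup.relIndex_dvd_index_of_normal N E
      obtain ⟨r, hr⟩ := hd
      have hcardE : N.relIndex E * Nat.card (N.subgroupOf E) = Nat.card E :=
        Subgroup.index_mul_card (N.subgroupOf E)
      have hUc : (Nat.card (N.subgroupOf E) : ℂ) ≠ 0 := by exact_mod_cast Nat.card_pos.ne'
      have hdc : (N.relIndex E : ℂ) ≠ 0 := by
        have : N.relIndex E ≠ 0 := by
          intro h0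
          rw [h0, zero_mul] at hcardE
          exact Nat.card_pos.ne' hcardE.symm
        exact_mod_cast this
      have hval : (N.index : ℂ) * ((Nat.card (N.subgroupOf E) : ℂ) / (Nat.card E : ℂ)) * (m : ℂ)
          = ((r * m : ℕ) : ℂ) := by
        rw [← hcardE, hr]
        push_cast
        field_simp
      rw [hval]
      by_cases hr1 : r = 1
      · -- full index: use `hno`
        have hfull : N.relIndex E = N.index := by rw [hr, hr1, mul_one]
        have hpm : p ∣ m := by
          by_contra hpm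
          exact hno ⟨E, φ, m, hE, hφ, hfull, hpm, hm'⟩
        obtain ⟨m', rfl⟩ := hpm
        refine ⟨(m' : ℤ), ?_⟩
        rw [hr1]
        push_cast
        ring
      · have hrd : r ∣ p ^ k := ⟨N.relIndex E, by rw [← hidx, hr]; ring⟩
        obtain ⟨j, -, rfl⟩ := (Nat.dvd_prime_pow hp.out).1 hrd
        have hj : j ≠ 0 := by
          intro h0
          apply hr1
          rw [h0, pow_zero]
        obtain ⟨j', rfl⟩ : ∃ j', j = j' + 1 := ⟨j - 1, by omega⟩
        refine ⟨((p ^ j' * m : ℕ) : ℤ), ?_⟩
        push_cast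
        ring
    | zero => exact ⟨0, by rw [h7_extL_zero]; simp⟩
    | add f g _ _ ihf ihg =>
      obtain ⟨a, ha⟩ := ihf
      obtain ⟨b, hb⟩ := ihg
      exact ⟨a + b, by rw [h7_extL_add, ha, hb]; push_cast; ring⟩
    | smul c f _ ih =>
      obtain ⟨a, ha⟩ := ih
      exact ⟨c * a, by rw [h7_extL_zsmul, ha]; push_cast; ring⟩
  obtain ⟨z, hz⟩ := key _ hmem
  have hL : h7_extL N θ ((l : ℂ) • (1 : G → ℂ)) = (l : ℂ) := by
    unfold h7_extL
    have : (fun n : N => ((l : ℂ) • (1 : G → ℂ)) n * θ n) = (l : ℂ) • θ := by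
      funext n
      simp
    rw [this, classInner_smul_left, h7_irr_norm hθ, mul_one]
  rw [hL] at hz
  have : (l : ℤ) = (p : ℤ) * z := by exact_mod_cast hz
  apply hl
  exact Int.natCast_dvd_natCast.mp ⟨z, this⟩

end Cfsg.Agent.Lib.helper7
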