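import Mathlib
import Cfsg.Prelude.Def_Characters
import Cfsg.Agent.Lib.helper7.Gallagher

set_option autoImplicit false

/-! # Extension of invariant characters, part E: transfer of the Sylow hypotheses
to an arbitrary `p`-subgroup -/

namespace Cfsg.Agent.Lib.helper7

open scoped IsMulCommutative in
/-- homomorphisms to `ℂˣ` extend from subgroups of finite abelian groups -/
theorem h7_ext_hom_extend_of_comm {A : Type*} [Group A] [Finite A]
    (hA : ∀ a b : A, a * b = b * a) (H : Subgroup A) (ν : H →* ℂˣ) :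
    ∃ μ : A →* ℂˣ, ∀ h : H, μ h = ν h := by
  haveI : IsMulCommutative A := ⟨⟨hA⟩⟩
  haveI : NeZero (Monoid.exponent A) := ⟨Monoid.exponent_ne_zero_of_finite⟩
  obtain ⟨μ, hμ⟩ := MonoidHom.domRestrict_surjective (M := ℂ) H ν
  refine ⟨μ, fun h => ?_⟩
  rw [← hμ]
  rfl

/-- homomorphisms to `ℂˣ` extend along injective homomorphisms into finite abelian groups -/
theorem h7_ext_hom_extend_of_injective {A B : Type*} [Group A] [Finite A] [Group B]
    (hA : ∀ a b : A, a * b = b * a) (ι : B →* A) (hι : Function.Injective ι) (ν : B →* ℂˣ) :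
    ∃ μ : A →* ℂˣ, ∀ b : B, μ (ι b) = ν b := by
  let e : B ≃* ι.range := MonoidHom.ofInjective hι
  obtain ⟨μ, hμ⟩ := h7_ext_hom_extend_of_comm hA ι.range (ν.comp e.symm.toMonoidHom)
  refine ⟨μ, fun b => ?_⟩
  have h1 := hμ (e b)
  have h2 : ((e b : ι.range) : A) = ι b := rfl
  rw [h2] at h1
  rw [h1]
  simp

theorem h7_ext_transfer {G : Type*} [Group G] [Fintype G] (p : ℕ) [Fact p.Prime]
    (N : Subgroup G) [hN : N.Normal] (P : Sylow p G)
    (hcent : ∀ x ∈ (P : Subgroup G) ⊓ N, ∀ y ∈ (P : Subgroup G), x * y = y * x)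
    (hlin : ∀ lam : ↥((P : Subgroup G) ⊓ N) → ℂ,
      Cfsg.IsCharacter ↥((P : Subgroup G) ⊓ N) lam → lam 1 = 1 →
      ∃ μ : ↥(P : Subgroup G) → ℂ, Cfsg.IsCharacter ↥(P : Subgroup G) μ ∧ μ 1 = 1 ∧
        ∀ x : ↥((P : Subgroup G) ⊓ N), μ ⟨(x : G), x.2.1⟩ = lam x)
    {R : Type*} [Group R] [Finite R] (hR : IsPGroup p R) (f : R →* G)
    (hf : Function.Injective f) :
    (∀ y ∈ N.comap f, ∀ z : R, y * z = z * y) ∧
    (∀ ν : ↥(N.comap f) →* ℂˣ, ∃ μ : R →* ℂˣ, ∀ y : ↥(N.comap f), μ y = ν y) := by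
  classical
  have hrange : IsPGroup p f.range :=
    IsPGroup.of_surjective hR f.rangeRestrict f.rangeRestrict_surjective
  obtain ⟨P', hP'⟩ := hrange.exists_le_sylow
  obtain ⟨g, hg⟩ := MulAction.exists_smul_eq G P' P
  -- conjugated homomorphism
  let f' : R →* G := (MulAut.conj g).toMonoidHom.comp f
  have hf'app : ∀ r, f' r = g * f r * g⁻¹ := fun r => rfl
  have hf'inj : Function.Injective f' := by
    intro a b hab
    apply hf
    have : g * f a * g⁻¹ = g * f b * g⁻¹ := hab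
    simpa using this
  have hf'P : ∀ r, f' r ∈ (P : Subgroup G) := by
    intro r
    have h1 : f r ∈ (P' : Subgroup G) := hP' ⟨r, rfl⟩
    rw [← hg, Sylow.coe_subgroup_smul]
    rw [hf'app]
    exact Subgroup.smul_mem_pointwise_smul (f r) (MulAut.conj g) _ h1
  have hf'N : ∀ r, r ∈ N.comap f → f' r ∈ N := by
    intro r hr
    rw [hf'app]
    exact hN.conj_mem _ hr g
  refine ⟨?_, ?_⟩
  · intro y hy z
    apply hf'inj
    rw [map_mul, map_mul]
    exact hcent (f' y) ⟨hf'P y, hf'N y hy⟩ (f' z) (hf'P z)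
  · intro ν
    -- the abelian group `P ⊓ N`
    have hA : ∀ a b : ↥((P : Subgroup G) ⊓ N), a * b = b * a := by
      intro a b
      apply Subtype.ext
      exact hcent a a.2 b b.2.1
    let ι : ↥(N.comap f) →* ↥((P : Subgroup G) ⊓ N) :=
      MonoidHom.codRestrict (f'.comp (N.comap f).subtype) ((P : Subgroup G) ⊓ N)
        (fun y => ⟨hf'P y, hf'N y y.2⟩)
    have hι : Function.Injective ι := by
      intro a b hab
      apply Subtype.ext
      apply hf'inj
      exact congrArg Subtype.val hab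
    obtain ⟨lh, hlh⟩ := h7_ext_hom_extend_of_injective hA ι hι ν
    obtain ⟨h1, h2⟩ := h7_linear_of_hom lh
    obtain ⟨μ, hμ, hμ1, hμx⟩ := hlin _ h1 h2
    let μh : ↥(P : Subgroup G) →* ℂˣ := h7_homOfLinear ⟨hμ, hμ1⟩
    let fP : R →* ↥(P : Subgroup G) := MonoidHom.codRestrict f' (P : Subgroup G) hf'P
    refine ⟨μh.comp fP, fun y => ?_⟩
    apply Units.ext
    change ((h7_homOfLinear ⟨hμ, hμ1⟩ (fP y) : ℂˣ) : ℂ) = _
    rw [h7_homOfLinear_apply]
    have h3 := hμx (ι y)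
    have h4 : (⟨((ι y : ↥((P : Subgroup G) ⊓ N)) : G), (ι y).2.1⟩ : ↥(P : Subgroup G)) = fP y := rfl
    rw [h4] at h3
    rw [h3]
    change ((lh (ι y) : ℂˣ) : ℂ) = _
    rw [hlh]

end Cfsg.Agent.Lib.helper7
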