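import Mathlib
import Cfsg.Prelude.Def_Characters
import Cfsg.Agent.Lib.helper7.BlockCover3

set_option autoImplicit false

/-! # Extension of invariant characters, part F: a `p`-elementary group is the direct product
of a central `p'`-group and a Sylow `p`-subgroup; extension of homomorphisms -/

namespace Cfsg.Agent.Lib.helper7

theorem h7_ext_elementary {E : Type*} [Group E] [Finite E] (p : ℕ) [hp : Fact p.Prime]
    (hE : Cfsg.IsElementary p E) (U : Subgroup E) [hUn : U.Normal] (hU : ∃ k : ℕ, U.index = p ^ k)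
    (Q : Sylow p E)
    (h1 : ∀ y ∈ U.comap (Q : Subgroup E).subtype, ∀ z : ↥(Q : Subgroup E), y * z = z * y)
    (h2 : ∀ ν : ↥(U.comap (Q : Subgroup E).subtype) →* ℂˣ, ∃ μ : ↥(Q : Subgroup E) →* ℂˣ,
      ∀ y : ↥(U.comap (Q : Subgroup E).subtype), μ y = ν y) :
    (∀ a ∈ U, ∀ b ∈ U, a * b = b * a) ∧
    (∀ ξ : U →* ℂˣ, ∃ μ : E →* ℂˣ, ∀ u : U, μ u = ξ u) := by
  classical
  obtain ⟨x, hxc, hxo, j, hxj⟩ := hE
  set C : Subgroup E := Subgroup.zpowers x with hC
  have hxU : x ∈ U := by
    apply h7_pregular_mem_of_index_pow p U hU x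
    intro hdvd
    have := Nat.Coprime.eq_one_of_dvd hxo.symm hdvd
    exact hp.out.one_lt.ne' this
  have hCU : C ≤ U := by
    rw [hC, Subgroup.zpowers_le]
    exact hxU
  have hCcard : Nat.card C = orderOf x := Nat.card_zpowers x
  have hCcent : ∀ c ∈ C, ∀ e : E, c * e = e * c := by
    intro c hc e
    obtain ⟨n, rfl⟩ := Subgroup.mem_zpowers_iff.mp hc
    have : Commute x e := (Subgroup.mem_center_iff.mp hxc e).symm
    exact (this.zpow_left n)
  -- cardinalities
  have hEcard : Nat.card C * p ^ j = Nat.card E := by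
    rw [← hxj, mul_comm]
    exact Subgroup.index_mul_card C
  have hQcard : Nat.card (Q : Subgroup E) = p ^ j := by
    rw [Sylow.card_eq_multiplicity Q, ← hEcard]
    congr 1
    have hC0 : Nat.card C ≠ 0 := Nat.card_pos.ne'
    have hp0 : p ^ j ≠ 0 := pow_ne_zero _ hp.out.ne_zero
    rw [Nat.factorization_mul hC0 hp0]
    have h3 : (Nat.card C).factorization p = 0 := by
      apply Nat.factorization_eq_zero_of_not_dvd
      rw [hCcard]
      intro hdvd
      have := Nat.Coprime.eq_one_of_dvd hxo.symm hdvd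
      exact hp.out.one_lt.ne' this
    simp [h3, hp.out.factorization_pow]
  -- the product map
  have comm : ∀ (c : C) (q : (Q : Subgroup E)),
      Commute (C.subtype c) ((Q : Subgroup E).subtype q) := fun c q => hCcent c c.2 q
  let Φ : ↥C × ↥(Q : Subgroup E) →* E :=
    MonoidHom.noncommCoprod C.subtype (Q : Subgroup E).subtype comm
  have hΦapp : ∀ cq, Φ cq = (cq.1 : E) * (cq.2 : E) := fun cq => rfl
  have hdisj : Disjoint C.subtype.range ((Q : Subgroup E).subtype.range) := by
    rw [Subgroup.range_subtype, Subgroup.range_subtype]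
    apply Subgroup.disjoint_of_coprime_natCard
    rw [hCcard, hQcard]
    exact Nat.Coprime.pow_right j hxo
  have hΦinj : Function.Injective Φ := by
    rw [MonoidHom.noncommCoprod_injective]
    exact ⟨C.subtype_injective, (Q : Subgroup E).subtype_injective, hdisj⟩
  have hΦbij : Function.Bijective Φ := by
    rw [Nat.bijective_iff_injective_and_card]
    refine ⟨hΦinj, ?_⟩
    rw [Nat.card_prod, hQcard, hEcard]
  let e : ↥C × ↥(Q : Subgroup E) ≃* E := MulEquiv.ofBijective Φ hΦbij
  have he : ∀ u : E, ((e.symm u).1 : E) * ((e.symm u).2 : E) = u := by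
    intro u
    have : e (e.symm u) = u := e.apply_symm_apply u
    exact this
  have hq_mem : ∀ u ∈ U, ((e.symm u).2 : E) ∈ U := by
    intro u hu
    have h3 : ((e.symm u).2 : E) = ((e.symm u).1 : E)⁻¹ * u := by
      rw [eq_inv_mul_iff_mul_eq]
      exact he u
    rw [h3]
    exact U.mul_mem (U.inv_mem (hCU (e.symm u).1.2)) hu
  refine ⟨?_, ?_⟩
  · intro a ha b hb
    rw [← he a, ← he b]
    set c1 := (e.symm a).1
    set q1 := (e.symm a).2
    set c2 := (e.symm b).1
    set q2 := (e.symm b).2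
    have hq12 : (q1 : E) * (q2 : E) = (q2 : E) * (q1 : E) := by
      have := h1 q1 (hq_mem a ha) q2
      exact congrArg Subtype.val this
    have hc1 := hCcent c1 c1.2
    have hc2 := hCcent c2 c2.2
    calc (c1 : E) * q1 * (c2 * q2) = c1 * (q1 * c2) * q2 := by group
      _ = c1 * (c2 * q1) * q2 := by rw [hc2 q1]
      _ = (c1 * c2) * (q1 * q2) := by group
      _ = (c2 * c1) * (q2 * q1) := by rw [hq12, hc1 c2]
      _ = c2 * (c1 * q2) * q1 := by group
      _ = c2 * (q2 * c1) * q1 := by rw [hc1 q2]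
      _ = (c2 : E) * q2 * (c1 * q1) := by group
  · intro ξ
    let incC : ↥C →* ↥U := Subgroup.inclusion hCU
    let incQ : ↥(U.comap (Q : Subgroup E).subtype) →* ↥U :=
      MonoidHom.codRestrict ((Q : Subgroup E).subtype.comp (U.comap (Q : Subgroup E).subtype).subtype)
        U (fun y => y.2)
    obtain ⟨νh, hνh⟩ := h2 (ξ.comp incQ)
    refine ⟨((ξ.comp incC).coprod νh).comp e.symm.toMonoidHom, fun u => ?_⟩
    change (ξ.comp incC) (e.symm (u : E)).1 * νh (e.symm (u : E)).2 = ξ u
    have hqU := hq_mem u u.2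
    have h3 := hνh ⟨(e.symm (u : E)).2, hqU⟩
    change νh (e.symm (u : E)).2 = _ at h3
    rw [h3]
    change ξ (incC (e.symm (u : E)).1) * ξ (incQ ⟨(e.symm (u : E)).2, hqU⟩) = ξ u
    rw [← map_mul]
    congr 1
    apply Subtype.ext
    exact he u

end Cfsg.Agent.Lib.helper7
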