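import Mathlib
import Cfsg.Prelude.Def_Characters
import Cfsg.Agent.Lib.helper7.ExtB
import Cfsg.Agent.Lib.helper7.ExtD
import Cfsg.Agent.Lib.helper7.ExtE
import Cfsg.Agent.Lib.helper7.ExtF
import Cfsg.Agent.Lib.Helper24.GaloisNorm

set_option autoImplicit false

/-! # Extension of invariant characters, part G: final assembly -/

namespace Cfsg.Agent.Lib.helper7

open scoped ComplexConjugate
open Cfsg.Agent.Lib.helper2 Cfsg.Agent.Lib.Helper25 Cfsg.Agent.Lib.Helper11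

/-- if `[a t, t]` is prime to `p`, some irreducible constituent of `t` has multiplicity prime
to `p` -/
theorem h7_ext_pick {U : Type*} [Group U] [Fintype U] (p : ℕ) (a t : U → ℂ)
    (ha : Cfsg.IsCharacter U a) (ht : Cfsg.IsCharacter U t) (m : ℕ)
    (hm : Cfsg.classInner (fun u => a u * t u) t = (m : ℂ)) (hpm : ¬ p ∣ m) :
    ∃ (ξ : Cfsg.IrrCharacter U) (c : ℕ), Cfsg.classInner t (ξ : U → ℂ) = (c : ℂ) ∧ ¬ p ∣ c := by
  classical
  haveI : Fintype (Cfsg.IrrCharacter U) := Fintype.ofFinite _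
  obtain ⟨c, hc, hexp⟩ := isCharacter_expansion ht
  by_contra hno
  push Not at hno
  have hdiv : ∀ ξ : Cfsg.IrrCharacter U, p ∣ c ξ := fun ξ => hno ξ (c ξ) (hc ξ)
  have hn : ∀ ξ : Cfsg.IrrCharacter U, ∃ n : ℕ,
      Cfsg.classInner (a * (ξ : U → ℂ)) t = (n : ℂ) := fun ξ =>
    classInner_character_nat (h7_isCharacter_mul ha (isCharacter_of_irr ξ)) ht
  choose n hn using hn
  have hfun : (fun u => a u * t u) = ∑ ξ : Cfsg.IrrCharacter U, (c ξ : ℂ) • (a * (ξ : U → ℂ)) := by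
    funext u
    conv_lhs => rw [hexp]
    simp only [Finset.sum_apply, Pi.smul_apply, Pi.mul_apply, smul_eq_mul, Finset.mul_sum]
    apply Finset.sum_congr rfl
    intro ξ _
    ring
  have hsum : (m : ℂ) = ∑ ξ : Cfsg.IrrCharacter U, ((c ξ * n ξ : ℕ) : ℂ) := by
    rw [← hm, hfun, classInner_sum_left]
    apply Finset.sum_congr rfl
    intro ξ _
    rw [classInner_smul_left, hn]
    push_cast
    ring
  have hsum' : m = ∑ ξ : Cfsg.IrrCharacter U, c ξ * n ξ := by exact_mod_cast hsum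
  apply hpm
  rw [hsum']
  apply Finset.dvd_sum
  intro ξ _
  exact Dvd.dvd.mul_right (hdiv ξ) _

/-- if `[Ψ_N, θ]` is prime to `p`, some irreducible constituent `χ` of `Ψ` has `[χ_N, θ]` prime
to `p` -/
theorem h7_ext_pick_up {G : Type*} [Group G] [Fintype G] (p : ℕ) (N : Subgroup G) [Fintype N]
    (Ψ : G → ℂ) (hΨ : Cfsg.IsCharacter G Ψ) (θ : N → ℂ) (hθ : Cfsg.IsCharacter N θ) (c : ℕ)
    (hc : Cfsg.classInner (fun n : N => Ψ n) θ = (c : ℂ)) (hpc : ¬ p ∣ c) :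
    ∃ (χ : Cfsg.IrrCharacter G) (e : ℕ),
      Cfsg.classInner (fun n : N => (χ : G → ℂ) n) θ = (e : ℂ) ∧ ¬ p ∣ e := by
  classical
  haveI : Fintype (Cfsg.IrrCharacter G) := Fintype.ofFinite _
  obtain ⟨m, hm, hexp⟩ := isCharacter_expansion hΨ
  by_contra hno
  push Not at hno
  have hn : ∀ χ : Cfsg.IrrCharacter G, ∃ e : ℕ,
      Cfsg.classInner (fun n : N => (χ : G → ℂ) n) θ = (e : ℂ) := fun χ =>
    classInner_character_nat (isCharacter_restrict (isCharacter_of_irr χ) N) hθ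
  choose e he using hn
  have hdiv : ∀ χ : Cfsg.IrrCharacter G, p ∣ e χ := fun χ => hno χ (e χ) (he χ)
  have hfun : (fun n : N => Ψ n) =
      ∑ χ : Cfsg.IrrCharacter G, (m χ : ℂ) • (fun n : N => (χ : G → ℂ) n) := by
    funext n
    conv_lhs => rw [hexp]
    simp only [Finset.sum_apply, Pi.smul_apply, smul_eq_mul]
  have hsum : (c : ℂ) = ∑ χ : Cfsg.IrrCharacter G, ((m χ * e χ : ℕ) : ℂ) := by
    rw [← hc, hfun, classInner_sum_left]
    apply Finset.sum_congr rfl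
    intro χ _
    rw [classInner_smul_left, he]
    push_cast
    ring
  have hsum' : c = ∑ χ : Cfsg.IrrCharacter G, m χ * e χ := by exact_mod_cast hsum
  apply hpc
  rw [hsum']
  apply Finset.dvd_sum
  intro χ _
  exact Dvd.dvd.mul_left (hdiv χ) _

theorem h7_ext_main {G : Type*} [Group G] [Fintype G] (p : ℕ) [hp : Fact p.Prime]
    (N : Subgroup G) [hN : N.Normal] (hind : ∃ k : ℕ, N.index = p ^ k) (P : Sylow p G)
    (hcent : ∀ x ∈ (P : Subgroup G) ⊓ N, ∀ y ∈ (P : Subgroup G), x * y = y * x)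
    (hlin : ∀ lam : ↥((P : Subgroup G) ⊓ N) → ℂ,
      Cfsg.IsCharacter ↥((P : Subgroup G) ⊓ N) lam → lam 1 = 1 →
      ∃ μ : ↥(P : Subgroup G) → ℂ, Cfsg.IsCharacter ↥(P : Subgroup G) μ ∧ μ 1 = 1 ∧
        ∀ x : ↥((P : Subgroup G) ⊓ N), μ ⟨(x : G), x.2.1⟩ = lam x)
    (ϑ : N → ℂ) (hϑ : Cfsg.IsIrrCharacter N ϑ)
    (hinv : ∀ (g : G) (n : N), ϑ ⟨g * n * g⁻¹, hN.conj_mem (n : G) n.2 g⟩ = ϑ n) :
    ∃ χ : G → ℂ, Cfsg.IsIrrCharacter G χ ∧ ∀ n : N, χ n = ϑ n := by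
  classical
  letI : Fintype N := Fintype.ofFinite N
  obtain ⟨k, hk⟩ := hind
  have hinv' : ∀ g : G, cj N ϑ g = ϑ := fun g => funext (fun n => hinv g n)
  have hϑc := h7_irr_isCharacter hϑ
  obtain ⟨E, φ, m, hE, hφ, hfull, hpm, hm⟩ := h7_ext_select p N k hk ϑ hϑ hinv'
  letI : Fintype E := Fintype.ofFinite E
  letI : Fintype (N.subgroupOf E) := Fintype.ofFinite _
  have htc : Cfsg.IsCharacter (N.subgroupOf E) (h7_extResU N E ϑ) :=
    h7_extResU_isCharacter N E ϑ hϑc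
  -- step 2: a constituent of multiplicity prime to `p`
  obtain ⟨ξ, c, hc, hpc⟩ := h7_ext_pick p (fun u : N.subgroupOf E => φ u) (h7_extResU N E ϑ)
    (isCharacter_comp_hom hφ (N.subgroupOf E).subtype) htc m hm hpm
  -- step 3: structure of `E`
  obtain ⟨Q⟩ : Nonempty (Sylow p E) := inferInstance
  have hUidx : ∃ k : ℕ, (N.subgroupOf E).index = p ^ k := ⟨k, by
    rw [← hk, ← hfull]; rfl⟩
  have hfinj : Function.Injective (E.subtype.comp (Q : Subgroup E).subtype) := by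
    intro a b hab
    apply Subtype.ext
    apply Subtype.ext
    exact hab
  obtain ⟨ht1, ht2⟩ := h7_ext_transfer p N P hcent hlin (R := ↥(Q : Subgroup E)) Q.2
    (E.subtype.comp (Q : Subgroup E).subtype) hfinj
  obtain ⟨habel, hext⟩ := h7_ext_elementary p hE (N.subgroupOf E) hUidx Q ht1 ht2
  haveI : IsMulCommutative ↥(N.subgroupOf E) :=
    ⟨⟨fun a b => Subtype.ext (habel a a.2 b b.2)⟩⟩
  have hξ1 : (ξ : N.subgroupOf E → ℂ) 1 = 1 :=
    Cfsg.Agent.Lib.Helper24.gn_irr_one_of_isMulCommutative ξ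
  obtain ⟨μ, hμ⟩ := hext (h7_homOfLinear ⟨isCharacter_of_irr ξ, hξ1⟩)
  obtain ⟨hμc, -⟩ := h7_linear_of_hom μ
  have hμU : (fun u : N.subgroupOf E => ((μ (u : E) : ℂˣ) : ℂ)) = (ξ : N.subgroupOf E → ℂ) := by
    funext u
    rw [hμ u, h7_homOfLinear_apply]
  -- step 5: the induced character
  have hΨ : Cfsg.IsCharacter G (Cfsg.indFun E (fun e => ((μ e : ℂˣ) : ℂ))) :=
    isCharacter_indFun E _ hμc
  have hinner := h7_ext_inner_indFun N ϑ hinv' E (fun e => ((μ e : ℂˣ) : ℂ))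
  have hc' : Cfsg.classInner (ξ : N.subgroupOf E → ℂ) (h7_extResU N E ϑ) = (c : ℂ) := by
    rw [Cfsg.Agent.Lib.helper2.classInner_conj_symm, hc, Complex.conj_natCast]
  rw [hμU, hc'] at hinner
  have hcardE : N.index * Nat.card (N.subgroupOf E) = Nat.card E := by
    rw [← hfull]
    exact Subgroup.index_mul_card (N.subgroupOf E)
  have hone : (N.index : ℂ) * ((Nat.card (N.subgroupOf E) : ℂ) / (Nat.card E : ℂ)) = 1 := by
    have hEc : (Nat.card E : ℂ) ≠ 0 := by exact_mod_cast Nat.card_pos.ne'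
    have h2 : (N.index : ℂ) * (Nat.card (N.subgroupOf E) : ℂ) = (Nat.card E : ℂ) := by
      exact_mod_cast hcardE
    rw [← mul_div_assoc, h2, div_self hEc]
  rw [hone, one_mul] at hinner
  -- step 6: a constituent of the induced character
  obtain ⟨χ, e, he, hpe⟩ := h7_ext_pick_up p N _ hΨ ϑ hϑc c hinner hpc
  have he0 : e ≠ 0 := fun h => hpe (h ▸ dvd_zero p)
  have hcon : Cfsg.classInner (fun n : N => (χ : G → ℂ) n) ϑ ≠ 0 := by
    rw [he]
    exact_mod_cast he0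
  obtain ⟨e', -, he', hres⟩ := h7_clifford_invariant N (χ : G → ℂ) χ.2 ϑ hϑ hcon hinv'
  have hee : e' = e := by
    have : (e' : ℂ) = (e : ℂ) := by rw [← he', he]
    exact_mod_cast this
  subst hee
  have h1 : e' = 1 :=
    h7_ext_ram_aux hp.out (Nat.card G) G N rfl ⟨k, hk⟩ ϑ hϑ hinv' (χ : G → ℂ) χ.2 e' hres hpe
  refine ⟨(χ : G → ℂ), χ.2, fun n => ?_⟩
  have := congrFun hres n
  rw [h1] at this
  simpa using this

end Cfsg.Agent.Lib.helper7
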