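import Mathlib
import Cfsg.Agent.Lib.Helper25.SubsectionBound
import Cfsg.Agent.Lib.helper7.HKS5
import Cfsg.Agent.Lib.helper7.HKS6

/-!
The contribution data of a major subsection `(y, b)` of a 2-block `B`, packaged in the abstract form
used by `h7_hk_abstract`.
-/

set_option autoImplicit false
set_option linter.style.haveILetI false
set_option linter.unusedVariables false
set_option warn.classDefReducibility false
set_option maxHeartbeats 3200000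

namespace Cfsg.Agent.Lib.helper7
open scoped ComplexConjugate
open Polynomial
open Cfsg.Agent.Lib.helper2
open Cfsg.Agent.Lib.Helper25
open Cfsg.Agent.Lib.Helper24

theorem h7_hk_package {G : Type*} [Group G] [Fintype G]
    (M : Ideal Cfsg.AlgInt) (hM : Cfsg.IsPModular 2 M) (B : Set (Cfsg.IrrCharacter G))
    (y : G) (k : ℕ) (hk : orderOf y = 2 ^ k)
    (H : Subgroup G) [Fintype H] (hH : H = Subgroup.centralizer ({y} : Set G))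
    (b : Set (Cfsg.IrrCharacter H))
    (hind : Cfsg.IsInducedBlock M H b B)
    (hdef : Cfsg.blockDefect 2 b = Cfsg.blockDefect 2 B)
    (Bf : Finset (Cfsg.IrrCharacter G)) (hBf : ∀ χ, χ ∈ Bf ↔ χ ∈ B) :
    ∃ (ζ : ℂ) (f : Cfsg.IrrCharacter G → Cfsg.IrrCharacter G → ℤ[X])
      (N : Cfsg.IrrCharacter G → ℤ),
      IsPrimitiveRoot ζ (2 ^ k) ∧
      (∀ j : ℕ, (2 ^ k).Coprime j → ∀ χ ∈ Bf,
        ((∑ ψ ∈ Bf, ‖aeval (ζ ^ j) (f χ ψ)‖ ^ 2 : ℝ) : ℂ) =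
          (2 : ℂ) ^ Cfsg.blockDefect 2 B * aeval (ζ ^ j) (f χ χ)) ∧
      (∀ j : ℕ, (2 ^ k).Coprime j →
        ∑ χ ∈ Bf, aeval (ζ ^ j) (f χ χ) =
          (2 : ℂ) ^ Cfsg.blockDefect 2 B * (Cfsg.blockRank 2 b : ℂ)) ∧
      (∀ j : ℕ, (2 ^ k).Coprime j → ∀ χ ∈ Bf, ∀ ψ ∈ Bf, ∀ ψ' ∈ Bf,
        Cfsg.MemLocalRing M (aeval (ζ ^ j) (f χ ψ) /
          (2 : ℂ) ^ Cfsg.blockHeight 2 B (ψ : G → ℂ)) ∧
        (Cfsg.MemLocalIdeal M (aeval (ζ ^ j) (f χ ψ) /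
          (2 : ℂ) ^ Cfsg.blockHeight 2 B (ψ : G → ℂ)) →
          Cfsg.MemLocalIdeal M (aeval (ζ ^ j) (f χ ψ') /
            (2 : ℂ) ^ Cfsg.blockHeight 2 B (ψ' : G → ℂ)))) ∧
      (∀ χ ∈ Bf, ∀ ψ ∈ Bf, Cfsg.blockHeight 2 B (χ : G → ℂ) = 0 →
        Cfsg.blockHeight 2 B (ψ : G → ℂ) = 0 → ∀ j : ℕ, (2 ^ k).Coprime j →
        ¬ Cfsg.MemLocalIdeal M (aeval (ζ ^ j) (f χ ψ))) ∧
      (∀ (χ ψ : Cfsg.IrrCharacter G) (j : ℕ),
        aeval (ζ ^ j) (f ψ χ) = conj (aeval (ζ ^ j) (f χ ψ))) ∧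
      (∀ χ ∈ Bf,
        ∑ j ∈ (Finset.range (2 ^ k)).filter (Nat.Coprime (2 ^ k)), aeval (ζ ^ j) (f χ χ) =
          (((Finset.range (2 ^ k)).filter (Nat.Coprime (2 ^ k))).card : ℂ) * (N χ : ℂ)) ∧
      (∀ χ ∈ Bf, Cfsg.blockHeight 2 B (χ : G → ℂ) = 0 → Odd (N χ)) ∧
      (∃ χ₀ ∈ Bf, Cfsg.blockHeight 2 B (χ₀ : G → ℂ) = 0) := by
  classical
  haveI hp : Fact (Nat.Prime 2) := ⟨Nat.prime_two⟩
  have hMp := hM.2.1.isPrime
  haveI : Fintype (Cfsg.IrrCharacter H) := Fintype.ofFinite _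
  haveI : Fintype (Cfsg.IrrCharacter G) := Fintype.ofFinite _
  obtain ⟨ζ, f, N, hζ, hf, hN, hodd, hsymm⟩ := h7_hk_data M hM B y k hk H hH b hind
  rw [hdef] at hf
  set n := 2 ^ k with hn
  set d := Cfsg.blockDefect 2 B with hd
  have hyH : y ∈ H := by
    rw [hH]
    exact Subgroup.mem_centralizer_singleton_iff.mpr rfl
  have hcent : ∀ h ∈ H, h * y = y * h := fun h hh =>
    Subgroup.mem_centralizer_singleton_iff.mp (hH ▸ hh)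
  have hyk : y ^ n = 1 := by rw [← hk]; exact pow_orderOf_eq_one y
  have hpow : ∀ j : ℕ, n.Coprime j → y ^ j ∈ H ∧ (∀ h ∈ H, h * y ^ j = y ^ j * h) ∧
      (∀ g : G, g * y ^ j = y ^ j * g → g ∈ H) ∧ (∃ k' : ℕ, orderOf (y ^ j) = 2 ^ k') := by
    intro j hj
    have h0 := su_pow_hyp 2 y k hk j (by rw [hk]; exact hj)
    rw [← hH] at h0
    exact h0
  have hBfeq : Bf = Finset.univ.filter (· ∈ B) := by
    ext χ
    simp [hBf]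
  have hfs : ∀ g : Cfsg.IrrCharacter G → ℂ, ∑ᶠ χ ∈ B, g χ = ∑ χ ∈ Bf, g χ := by
    intro g
    rw [h7_finsum_mem_fintype B, hBfeq, Finset.sum_filter]
  have hDconj : conj ((2 : ℂ) ^ d) = (2 : ℂ) ^ d := by rw [map_pow, Complex.conj_ofNat]
  refine ⟨ζ, f, N, hζ, ?_, ?_, ?_, ?_, hsymm, fun χ _ => hN χ,
    fun χ hχ h0 => hodd χ ((hBf χ).mp hχ) h0, ?_⟩
  · -- (F1)
    intro j hj χ _
    obtain ⟨h1, h2, h3, h4⟩ := hpow j hj
    have h6 := su_idem 2 M hM H (y ^ j) h1 h2 h3 h4 b B hind χ χ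
    rw [hfs] at h6
    have h6' : ∑ ψ ∈ Bf, h7_hk_W H b (y ^ j) χ ψ * conj (h7_hk_W H b (y ^ j) χ ψ) =
        h7_hk_W H b (y ^ j) χ χ := h6
    rw [hf χ χ j, ← h6', Finset.mul_sum, Finset.mul_sum, Complex.ofReal_sum]
    refine Finset.sum_congr rfl fun ψ _ => ?_
    rw [hf χ ψ j]
    have e : (((‖(2 : ℂ) ^ d * h7_hk_W H b (y ^ j) χ ψ‖ ^ 2 : ℝ)) : ℂ) =
        ((2 : ℂ) ^ d * h7_hk_W H b (y ^ j) χ ψ) * conj ((2 : ℂ) ^ d * h7_hk_W H b (y ^ j) χ ψ) := by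
      rw [Complex.mul_conj, Complex.normSq_eq_norm_sq]
    rw [e, map_mul, hDconj]
    ring
  · -- (F2)
    intro j hj
    obtain ⟨h1, h2, h3, h4⟩ := hpow j hj
    have h5 := st_trace 2 M hM H (y ^ j) h1 h2 h3 h4 b B hind
    rw [hfs] at h5
    have h5' : ∑ χ ∈ Bf, h7_hk_W H b (y ^ j) χ χ = (Cfsg.blockRank 2 b : ℂ) := h5
    rw [← h5', Finset.mul_sum]
    exact Finset.sum_congr rfl fun χ _ => hf χ χ j
  · -- congruences
    intro j hj χ _ ψ hψ ψ' hψ'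
    obtain ⟨h1, h2, h3, h4⟩ := hpow j hj
    rw [hf χ ψ j, hf χ ψ' j]
    have := h7_hk_cong M hM H (y ^ j) h1 h2 h3 h4 b B hind hdef χ ψ ψ' ((hBf ψ).mp hψ)
      ((hBf ψ').mp hψ')
    rw [hdef] at this
    exact this
  · -- units
    intro χ hχ ψ hψ hχ0 hψ0 j _
    have h1 := su_unit 2 M hM H y hyH hcent k hyk b B hind χ ψ ((hBf χ).mp hχ) ((hBf ψ).mp hψ)
      hχ0 hψ0 j
    rw [hf χ ψ j]
    have e : (2 : ℂ) ^ d * h7_hk_W H b (y ^ j) χ ψ =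
        ((2 : ℕ) : ℂ) ^ Cfsg.blockDefect 2 b * Cfsg.classInner
      (Cfsg.pRegularPart 2 (Cfsg.blockPart b (fun c : H => (χ : G → ℂ) (y ^ j * (c : G)))))
      (Cfsg.blockPart b (fun c : H => (ψ : G → ℂ) (y ^ j * (c : G)))) := by
      rw [hdef]
      push_cast
      rfl
    rw [e]
    exact h1
  · obtain ⟨χ₁, hB₁⟩ := hind.2.1
    have hχ₁ : χ₁ ∈ B := by
      rw [hB₁]
      exact h7_sameBlock_refl hMp _
    obtain ⟨χ₀, hχ₀B, hχ₀0⟩ := bf_exists_height_zero 2 B ⟨χ₁, hχ₁⟩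
    exact ⟨χ₀, (hBf χ₀).mpr hχ₀B, hχ₀0⟩

end Cfsg.Agent.Lib.helper7
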