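import Mathlib
import Cfsg.Agent.Lib.Helper25.SubsectionBound
import Cfsg.Agent.Lib.helper7.HKS6

/-!
The abstract form of the major subsection bound: a family of integer polynomials `f χ ψ` whose
values at `ζ^j` form `2^d` times a hermitian idempotent of trace `l ≤ 3`, with the congruence and
unit properties of contributions, gives `3 k₀ + 2 Σ_{h > 0} 2^h ≤ 3 · 2^d`.
-/

set_option autoImplicit false
set_option linter.style.haveILetI false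
set_option linter.unusedVariables false
set_option warn.classDefReducibility false
set_option maxHeartbeats 3200000

namespace Cfsg.Agent.Lib.helper7
open scoped ComplexConjugate
open Polynomial
open Cfsg.Agent.Lib.helper2
open Cfsg.Agent.Lib.Helper25
open Cfsg.Agent.Lib.Helper24

theorem h7_hk_abstract {ι : Type*} {M : Ideal Cfsg.AlgInt} (hM : Cfsg.IsPModular 2 M) (k : ℕ)
    (ζ : ℂ) (hζ : IsPrimitiveRoot ζ (2 ^ k))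
    (Bf : Finset ι) (ht : ι → ℕ) (f : ι → ι → ℤ[X]) (N : ι → ℤ) (d l : ℕ) (hl : l ≤ 3)
    (hF1 : ∀ j : ℕ, (2 ^ k).Coprime j → ∀ χ ∈ Bf,
      ((∑ ψ ∈ Bf, ‖aeval (ζ ^ j) (f χ ψ)‖ ^ 2 : ℝ) : ℂ) = (2 : ℂ) ^ d * aeval (ζ ^ j) (f χ χ))
    (hF2 : ∀ j : ℕ, (2 ^ k).Coprime j →
      ∑ χ ∈ Bf, aeval (ζ ^ j) (f χ χ) = (2 : ℂ) ^ d * (l : ℂ))
    (hcong : ∀ j : ℕ, (2 ^ k).Coprime j → ∀ χ ∈ Bf, ∀ ψ ∈ Bf, ∀ ψ' ∈ Bf,
      Cfsg.MemLocalRing M (aeval (ζ ^ j) (f χ ψ) / (2 : ℂ) ^ ht ψ) ∧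
      (Cfsg.MemLocalIdeal M (aeval (ζ ^ j) (f χ ψ) / (2 : ℂ) ^ ht ψ) →
        Cfsg.MemLocalIdeal M (aeval (ζ ^ j) (f χ ψ') / (2 : ℂ) ^ ht ψ')))
    (hunit : ∀ χ ∈ Bf, ∀ ψ ∈ Bf, ht χ = 0 → ht ψ = 0 → ∀ j : ℕ, (2 ^ k).Coprime j →
      ¬ Cfsg.MemLocalIdeal M (aeval (ζ ^ j) (f χ ψ)))
    (hsymm : ∀ (χ ψ : ι) (j : ℕ), aeval (ζ ^ j) (f ψ χ) = conj (aeval (ζ ^ j) (f χ ψ)))
    (hN : ∀ χ ∈ Bf,
      ∑ j ∈ (Finset.range (2 ^ k)).filter (Nat.Coprime (2 ^ k)), aeval (ζ ^ j) (f χ χ) =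
        (((Finset.range (2 ^ k)).filter (Nat.Coprime (2 ^ k))).card : ℂ) * (N χ : ℂ))
    (hodd : ∀ χ ∈ Bf, ht χ = 0 → Odd (N χ))
    (hex : ∃ χ₀ ∈ Bf, ht χ₀ = 0) :
    3 * (Bf.filter (fun χ : ι => ht χ = 0)).card +
      2 * ∑ χ ∈ Bf.filter (fun χ : ι => 1 ≤ ht χ), 2 ^ ht χ ≤ 3 * 2 ^ d := by
  classical
  haveI hp : Fact (Nat.Prime 2) := ⟨Nat.prime_two⟩
  have hMp := hM.2.1.isPrime
  set n := 2 ^ k with hn
  have hn0 : 0 < n := pow_pos (by norm_num) k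
  set J := (Finset.range n).filter (Nat.Coprime n) with hJ
  have hJpos : 0 < J.card := by
    have : J.card = Nat.totient n := (Nat.totient_eq_card_coprime n).symm
    rw [this]
    exact Nat.totient_pos.mpr hn0
  have hJpos' : (0 : ℝ) < J.card := by exact_mod_cast hJpos
  have hJne : (J.card : ℂ) ≠ 0 := by exact_mod_cast hJpos.ne'
  have hJcop : ∀ j ∈ J, n.Coprime j := fun j hj => (Finset.mem_filter.mp hj).2
  have h1cop : n.Coprime 1 := Nat.coprime_one_right n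
  have hG1 : ∀ j : ℕ, n.Coprime j → ∀ χ ∈ Bf, ht χ = 0 → ∀ ψ ∈ Bf,
      ¬ Cfsg.MemLocalIdeal M (aeval (ζ ^ j) (f χ ψ) / (2 : ℂ) ^ ht ψ) := by
    intro j hj χ hχ hχ0 ψ hψ hmem
    have h1 := (hcong j hj χ hχ ψ hψ χ hχ).2 hmem
    rw [hχ0, pow_zero, div_one] at h1
    exact hunit χ hχ χ hχ hχ0 hχ0 j hj h1
  have hswap : ∀ (χ ψ : ι) (j : ℕ),
      aeval (ζ ^ j) (f ψ χ) = aeval (ζ ^ ((n - 1) * j)) (f χ ψ) := by
    intro χ ψ j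
    rw [hsymm χ ψ j, h7_hk_conj_pow k ζ hζ.pow_eq_one]
  obtain ⟨χ₀, hχ₀f, hχ₀0'⟩ := hex
  have h2mem : ∀ h : ℕ, 1 ≤ h → Cfsg.MemLocalIdeal M ((2 : ℂ) ^ h) := by
    intro h hh
    have h1 : Cfsg.MemLocalIdeal M ((2 : ℕ) : ℂ) := h7_memLocalIdeal_p hM
    have h2 : (2 : ℂ) ^ h = ((2 : ℕ) : ℂ) * ((2 ^ (h - 1) : ℕ) : ℂ) := by
      push_cast
      rw [← pow_succ']
      congr 1
      omega
    rw [h2]
    exact h7_memLocalIdeal_mul_right hMp h1 (h7_memLocalRing_natCast hMp _)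
  have hG2 : ∀ j : ℕ, n.Coprime j → ∀ ψ ∈ Bf, 1 ≤ ht ψ →
      Cfsg.MemLocalIdeal M (aeval (ζ ^ j) (f ψ ψ) / (2 : ℂ) ^ ht ψ) := by
    intro j hj ψ hψ hψ1
    have hj' : n.Coprime ((n - 1) * j) := h7_hk_coprime_neg k j hj
    have h1 := (hcong _ hj' χ₀ hχ₀f ψ hψ ψ hψ).1
    have h2 : Cfsg.MemLocalIdeal M (aeval (ζ ^ j) (f ψ χ₀)) := by
      rw [hswap χ₀ ψ j]
      have h2h : (2 : ℂ) ^ ht ψ ≠ 0 := pow_ne_zero _ two_ne_zero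
      have e : aeval (ζ ^ ((n - 1) * j)) (f χ₀ ψ) =
          (2 : ℂ) ^ ht ψ * (aeval (ζ ^ ((n - 1) * j)) (f χ₀ ψ) / (2 : ℂ) ^ ht ψ) := by
        field_simp
      rw [e]
      exact h7_memLocalIdeal_mul_right hMp (h2mem _ hψ1) h1
    have h3 : Cfsg.MemLocalIdeal M (aeval (ζ ^ j) (f ψ χ₀) / (2 : ℂ) ^ ht χ₀) := by
      rw [hχ₀0', pow_zero, div_one]
      exact h2
    exact (hcong j hj ψ hψ χ₀ hχ₀f ψ hψ).2 h3
  -- positivity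
  have hG3 : ∀ j : ℕ, n.Coprime j → ∀ ψ ∈ Bf,
      ∃ x : ℝ, 0 < x ∧ aeval (ζ ^ j) (f ψ ψ) = (x : ℂ) := by
    intro j hj ψ hψ
    have h1 := hF1 j hj ψ hψ
    have h2d0 : (2 : ℂ) ^ d ≠ 0 := pow_ne_zero _ two_ne_zero
    refine ⟨(∑ φ ∈ Bf, ‖aeval (ζ ^ j) (f ψ φ)‖ ^ 2) / (2 : ℝ) ^ d, ?_, ?_⟩
    · apply div_pos _ (by positivity)
      have hne : aeval (ζ ^ j) (f ψ χ₀) ≠ 0 := by
        rw [hswap χ₀ ψ j]
        intro h0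
        apply hG1 _ (h7_hk_coprime_neg k j hj) χ₀ hχ₀f hχ₀0' ψ hψ
        rw [h0, zero_div]
        exact h7_memLocalIdeal_zero hMp
      calc (0 : ℝ) < ‖aeval (ζ ^ j) (f ψ χ₀)‖ ^ 2 := by positivity
        _ ≤ ∑ φ ∈ Bf, ‖aeval (ζ ^ j) (f ψ φ)‖ ^ 2 :=
            Finset.single_le_sum (f := fun φ => ‖aeval (ζ ^ j) (f ψ φ)‖ ^ 2)
              (fun _ _ => by positivity) hχ₀f
    · rw [Complex.ofReal_div, h1]
      push_cast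
      field_simp
  -- the double sums
  have hE : ∀ χ ∈ Bf, ∑ j ∈ J, ∑ ψ ∈ Bf, ‖aeval (ζ ^ j) (f χ ψ)‖ ^ 2 =
      (2 : ℝ) ^ d * ((J.card : ℝ) * (N χ : ℝ)) := by
    intro χ hχ
    have h1 : ((∑ j ∈ J, ∑ ψ ∈ Bf, ‖aeval (ζ ^ j) (f χ ψ)‖ ^ 2 : ℝ) : ℂ) =
        (((2 : ℝ) ^ d * ((J.card : ℝ) * (N χ : ℝ)) : ℝ) : ℂ) := by
      rw [Complex.ofReal_sum, Finset.sum_congr rfl (fun j hj => hF1 j (hJcop j hj) χ hχ),
        ← Finset.mul_sum, hN χ hχ]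
      push_cast
      ring
    exact_mod_cast h1
  -- height zero characters
  have hP3 : ∀ χ ∈ Bf, ht χ = 0 → ∑ ψ ∈ Bf, (4 : ℤ) ^ ht ψ ≤ (2 : ℤ) ^ d * N χ := by
    intro χ hχ hχ0
    have hterm : ∀ ψ ∈ Bf, (4 : ℝ) ^ ht ψ * (J.card : ℝ) ≤
        ∑ j ∈ J, ‖aeval (ζ ^ j) (f χ ψ)‖ ^ 2 := by
      intro ψ hψ
      have h1 := (hcong 1 h1cop χ hχ ψ hψ ψ hψ).1
      rw [pow_one] at h1
      obtain ⟨g, hg⟩ := h7_hk_div hM k ζ hζ (ht ψ) (f χ ψ) h1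
      have hgne : aeval ζ g ≠ 0 := by
        intro h0
        apply hG1 1 h1cop χ hχ hχ0 ψ hψ
        have h2 := hg 1 h1cop
        rw [pow_one] at h2 ⊢
        rw [h2, h0, mul_zero, zero_div]
        exact h7_memLocalIdeal_zero hMp
      have h2 := gn_sum_sq n hn0 g ζ hζ hgne
      calc (4 : ℝ) ^ ht ψ * (J.card : ℝ) ≤ (4 : ℝ) ^ ht ψ * ∑ j ∈ J, ‖aeval (ζ ^ j) g‖ ^ 2 :=
            mul_le_mul_of_nonneg_left h2 (by positivity)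
        _ = ∑ j ∈ J, ‖aeval (ζ ^ j) (f χ ψ)‖ ^ 2 := by
            rw [Finset.mul_sum]
            refine Finset.sum_congr rfl fun j hj => ?_
            rw [hg j (hJcop j hj), norm_mul, mul_pow, norm_pow, Complex.norm_ofNat, ← pow_mul,
              mul_comm (ht ψ) 2, pow_mul]
            norm_num
    have key : (∑ ψ ∈ Bf, (4 : ℝ) ^ ht ψ) * (J.card : ℝ) ≤
        ((2 : ℝ) ^ d * (N χ : ℝ)) * (J.card : ℝ) := by
      calc (∑ ψ ∈ Bf, (4 : ℝ) ^ ht ψ) * (J.card : ℝ)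
          = ∑ ψ ∈ Bf, (4 : ℝ) ^ ht ψ * (J.card : ℝ) := Finset.sum_mul _ _ _
        _ ≤ ∑ ψ ∈ Bf, ∑ j ∈ J, ‖aeval (ζ ^ j) (f χ ψ)‖ ^ 2 := Finset.sum_le_sum hterm
        _ = ∑ j ∈ J, ∑ ψ ∈ Bf, ‖aeval (ζ ^ j) (f χ ψ)‖ ^ 2 := Finset.sum_comm
        _ = (2 : ℝ) ^ d * ((J.card : ℝ) * (N χ : ℝ)) := hE χ hχ
        _ = _ := by ring
    have key2 := le_of_mul_le_mul_right key hJpos'
    have key3 : ((∑ ψ ∈ Bf, (4 : ℤ) ^ ht ψ : ℤ) : ℝ) ≤ (((2 : ℤ) ^ d * N χ : ℤ) : ℝ) := by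
      push_cast
      exact key2
    exact_mod_cast key3
  -- positive height characters
  have hP5 : ∀ ψ ∈ Bf, 1 ≤ ht ψ → (2 : ℤ) ^ (ht ψ + 1) ≤ N ψ := by
    intro ψ hψ hψ1
    have h1 := (hcong 1 h1cop ψ hψ ψ hψ ψ hψ).1
    rw [pow_one] at h1
    obtain ⟨g, hg⟩ := h7_hk_div hM k ζ hζ (ht ψ) (f ψ ψ) h1
    have h2h : (2 : ℂ) ^ ht ψ ≠ 0 := pow_ne_zero _ two_ne_zero
    have hgval : ∀ j : ℕ, n.Coprime j →
        aeval (ζ ^ j) g = aeval (ζ ^ j) (f ψ ψ) / (2 : ℂ) ^ ht ψ := by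
      intro j hj
      rw [hg j hj]
      field_simp
    have hposg : ∀ j ∈ J, ∃ x : ℝ, 0 < x ∧ aeval (ζ ^ j) g = (x : ℂ) := by
      intro j hj
      obtain ⟨x, hx0, hx⟩ := hG3 j (hJcop j hj) ψ hψ
      refine ⟨x / (2 : ℝ) ^ ht ψ, by positivity, ?_⟩
      rw [hgval j (hJcop j hj), hx]
      push_cast
      rfl
    have hmemg : ∀ j ∈ J, Cfsg.MemLocalIdeal M (aeval (ζ ^ j) g) := by
      intro j hj
      rw [hgval j (hJcop j hj)]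
      exact hG2 j (hJcop j hj) ψ hψ hψ1
    obtain ⟨t, ht2, htsum⟩ := h7_hk_pos_step hM k ζ hζ g hposg hmemg
    have h3 : (J.card : ℂ) * (N ψ : ℂ) = (J.card : ℂ) * ((2 : ℂ) ^ ht ψ * (t : ℂ)) := by
      rw [← hN ψ hψ, Finset.sum_congr rfl (fun j hj => hg j (hJcop j hj)), ← Finset.mul_sum]
      have htsum' : ∑ j ∈ J, aeval (ζ ^ j) g = (J.card : ℂ) * (t : ℂ) := htsum
      rw [htsum']
      ring
    have h4 : (N ψ : ℂ) = (2 : ℂ) ^ ht ψ * (t : ℂ) := mul_left_cancel₀ hJne h3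
    have h5 : N ψ = (2 : ℤ) ^ ht ψ * t := by exact_mod_cast h4
    rw [h5, pow_succ]
    exact mul_le_mul_of_nonneg_left ht2 (by positivity)
  -- the sum of the `N χ`
  have hsumN : ∑ χ ∈ Bf, N χ = (2 : ℤ) ^ d * (l : ℤ) := by
    have h1 : (J.card : ℂ) * ((∑ χ ∈ Bf, N χ : ℤ) : ℂ) =
        (J.card : ℂ) * (((2 : ℤ) ^ d * (l : ℤ) : ℤ) : ℂ) := by
      push_cast
      rw [Finset.mul_sum, Finset.sum_congr rfl (fun χ hχ => (hN χ hχ).symm), Finset.sum_comm,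
        Finset.sum_congr rfl (fun j hj => hF2 j (hJcop j hj)), Finset.sum_const, nsmul_eq_mul]
    have h2 := mul_left_cancel₀ hJne h1
    exact_mod_cast h2
  exact h7_hk_arith2 Bf ht N d l hsumN hl hodd hP3 hP5

end Cfsg.Agent.Lib.helper7
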