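import Mathlib
import Cfsg.Agent.Lib.Helper25.SubsectionBound
import Cfsg.Agent.Lib.helper7.HKS9

/-!
The abstract bound applied to the complementary idempotent `2^d - m`: if the contribution matrix
`m` has trace `2^d l` with `k(B) ≤ l + 3`, the same inequality holds.
-/

set_option autoImplicit false
set_option linter.style.haveILetI false
set_option linter.unusedVariables false
set_option warn.classDefReducibility false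
set_option maxHeartbeats 3200000

namespace Cfsg.Agent.Lib.helper7
open scoped ComplexConjugate
open Polynomial
open Cfsg.Agent.Lib.helper2
open Cfsg.Agent.Lib.Helper25
open Cfsg.Agent.Lib.Helper24

theorem h7_hk_abstract_compl {ι : Type*} [DecidableEq ι] {M : Ideal Cfsg.AlgInt}
    (hM : Cfsg.IsPModular 2 M) (k : ℕ)
    (ζ : ℂ) (hζ : IsPrimitiveRoot ζ (2 ^ k))
    (Bf : Finset ι) (ht : ι → ℕ) (f : ι → ι → ℤ[X]) (N : ι → ℤ) (d l : ℕ)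
    (hd1 : 1 ≤ d) (hhtd : ∀ χ ∈ Bf, ht χ < d) (hl : Bf.card ≤ l + 3)
    (hF1 : ∀ j : ℕ, (2 ^ k).Coprime j → ∀ χ ∈ Bf,
      ((∑ ψ ∈ Bf, ‖aeval (ζ ^ j) (f χ ψ)‖ ^ 2 : ℝ) : ℂ) = (2 : ℂ) ^ d * aeval (ζ ^ j) (f χ χ))
    (hF2 : ∀ j : ℕ, (2 ^ k).Coprime j →
      ∑ χ ∈ Bf, aeval (ζ ^ j) (f χ χ) = (2 : ℂ) ^ d * (l : ℂ))
    (hcong : ∀ j : ℕ, (2 ^ k).Coprime j → ∀ χ ∈ Bf, ∀ ψ ∈ Bf, ∀ ψ' ∈ Bf,
      Cfsg.MemLocalRing M (aeval (ζ ^ j) (f χ ψ) / (2 : ℂ) ^ ht ψ) ∧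
      (Cfsg.MemLocalIdeal M (aeval (ζ ^ j) (f χ ψ) / (2 : ℂ) ^ ht ψ) →
        Cfsg.MemLocalIdeal M (aeval (ζ ^ j) (f χ ψ') / (2 : ℂ) ^ ht ψ')))
    (hunit : ∀ χ ∈ Bf, ∀ ψ ∈ Bf, ht χ = 0 → ht ψ = 0 → ∀ j : ℕ, (2 ^ k).Coprime j →
      ¬ Cfsg.MemLocalIdeal M (aeval (ζ ^ j) (f χ ψ)))
    (hsymm : ∀ (χ ψ : ι) (j : ℕ), aeval (ζ ^ j) (f ψ χ) = conj (aeval (ζ ^ j) (f χ ψ)))
    (hN : ∀ χ ∈ Bf,
      ∑ j ∈ (Finset.range (2 ^ k)).filter (Nat.Coprime (2 ^ k)), aeval (ζ ^ j) (f χ χ) =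
        (((Finset.range (2 ^ k)).filter (Nat.Coprime (2 ^ k))).card : ℂ) * (N χ : ℂ))
    (hodd : ∀ χ ∈ Bf, ht χ = 0 → Odd (N χ))
    (hex : ∃ χ₀ ∈ Bf, ht χ₀ = 0) :
    3 * (Bf.filter (fun χ : ι => ht χ = 0)).card +
      2 * ∑ χ ∈ Bf.filter (fun χ : ι => 1 ≤ ht χ), 2 ^ ht χ ≤ 3 * 2 ^ d := by
  haveI hp : Fact (Nat.Prime 2) := ⟨Nat.prime_two⟩
  have hMp := hM.2.1.isPrime
  set δ : ι → ι → ℤ := fun χ ψ => if χ = ψ then (2 : ℤ) ^ d else 0 with hδ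
  set f' : ι → ι → ℤ[X] := fun χ ψ => C (δ χ ψ) - f χ ψ with hf'def
  have hf' : ∀ (χ ψ : ι) (x : ℂ), aeval x (f' χ ψ) = (δ χ ψ : ℂ) - aeval x (f χ ψ) := by
    intro χ ψ x
    show aeval x (C (δ χ ψ) - f χ ψ) = _
    rw [map_sub, aeval_C]
    simp
  have hδself : ∀ χ : ι, (δ χ χ : ℂ) = (2 : ℂ) ^ d := by
    intro χ
    show (((if χ = χ then (2 : ℤ) ^ d else 0 : ℤ)) : ℂ) = _
    rw [if_pos rfl]
    push_cast
    rfl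
  have hδne : ∀ χ ψ : ι, χ ≠ ψ → (δ χ ψ : ℂ) = 0 := by
    intro χ ψ h
    show (((if χ = ψ then (2 : ℤ) ^ d else 0 : ℤ)) : ℂ) = _
    rw [if_neg h]
    simp
  have hδsymm : ∀ χ ψ : ι, δ ψ χ = δ χ ψ := by
    intro χ ψ
    show (if ψ = χ then (2 : ℤ) ^ d else 0) = (if χ = ψ then (2 : ℤ) ^ d else 0)
    by_cases h : χ = ψ
    · rw [if_pos h, if_pos h.symm]
    · rw [if_neg h, if_neg (fun h' => h h'.symm)]
  have hδsum : ∀ χ ∈ Bf, ∀ g : ι → ℂ, ∑ ψ ∈ Bf, (δ χ ψ : ℂ) * g ψ = (2 : ℂ) ^ d * g χ := by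
    intro χ hχ g
    rw [Finset.sum_eq_single χ]
    · rw [hδself]
    · intro ψ _ hne
      rw [hδne χ ψ (fun h => hne h.symm), zero_mul]
    · intro h
      exact absurd hχ h
  have hz : ∀ z : ℂ, ((‖z‖ ^ 2 : ℝ) : ℂ) = z * conj z := fun z => by
    rw [Complex.mul_conj, Complex.normSq_eq_norm_sq]
  have hreal : ∀ (χ : ι) (j : ℕ), conj (aeval (ζ ^ j) (f χ χ)) = aeval (ζ ^ j) (f χ χ) :=
    fun χ j => (hsymm χ χ j).symm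
  have h2mem : ∀ h : ℕ, 1 ≤ h → Cfsg.MemLocalIdeal M ((2 : ℂ) ^ h) := by
    intro h hh
    have h1 : Cfsg.MemLocalIdeal M ((2 : ℕ) : ℂ) := h7_memLocalIdeal_p hM
    have h2 : (2 : ℂ) ^ h = ((2 : ℕ) : ℂ) * ((2 ^ (h - 1) : ℕ) : ℂ) := by
      push_cast
      rw [← pow_succ']
      congr 1
      omega
    rw [h2]
    exact h7_memLocalIdeal_mul_right hMp h1 (h7_memLocalRing_natCast hMp _)
  have hδmem : ∀ χ ∈ Bf, ∀ ψ : ι, Cfsg.MemLocalIdeal M ((δ χ ψ : ℂ) / (2 : ℂ) ^ ht ψ) := by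
    intro χ hχ ψ
    by_cases h : χ = ψ
    · subst h
      rw [hδself]
      have h1 := hhtd χ hχ
      have e : (2 : ℂ) ^ d / (2 : ℂ) ^ ht χ = (2 : ℂ) ^ (d - ht χ) := by
        rw [eq_comm, pow_sub₀ _ two_ne_zero h1.le, div_eq_mul_inv]
      rw [e]
      exact h2mem _ (by omega)
    · rw [hδne χ ψ h, zero_div]
      exact h7_memLocalIdeal_zero hMp
  have hsplit : ∀ (χ ψ : ι) (j : ℕ), aeval (ζ ^ j) (f' χ ψ) / (2 : ℂ) ^ ht ψ =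
      (δ χ ψ : ℂ) / (2 : ℂ) ^ ht ψ - aeval (ζ ^ j) (f χ ψ) / (2 : ℂ) ^ ht ψ := by
    intro χ ψ j
    rw [hf', sub_div]
  -- (F1')
  have hF1' : ∀ j : ℕ, (2 ^ k).Coprime j → ∀ χ ∈ Bf,
      ((∑ ψ ∈ Bf, ‖aeval (ζ ^ j) (f' χ ψ)‖ ^ 2 : ℝ) : ℂ) =
        (2 : ℂ) ^ d * aeval (ζ ^ j) (f' χ χ) := by
    intro j hj χ hχ
    have hF1c : ∑ ψ ∈ Bf, aeval (ζ ^ j) (f χ ψ) * conj (aeval (ζ ^ j) (f χ ψ)) =
        (2 : ℂ) ^ d * aeval (ζ ^ j) (f χ χ) := by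
      rw [← hF1 j hj χ hχ, Complex.ofReal_sum]
      exact Finset.sum_congr rfl fun ψ _ => (hz _).symm
    rw [Complex.ofReal_sum]
    have h1 : ∀ ψ ∈ Bf, ((‖aeval (ζ ^ j) (f' χ ψ)‖ ^ 2 : ℝ) : ℂ) =
        (δ χ ψ : ℂ) * ((δ χ ψ : ℂ) - aeval (ζ ^ j) (f χ ψ) - conj (aeval (ζ ^ j) (f χ ψ))) +
          aeval (ζ ^ j) (f χ ψ) * conj (aeval (ζ ^ j) (f χ ψ)) := by
      intro ψ _
      rw [hz, hf', map_sub, map_intCast]
      ring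
    rw [Finset.sum_congr rfl h1, Finset.sum_add_distrib, hδsum χ hχ, hF1c, hf', hδself, hreal]
    ring
  -- `l ≤ |Bf|`
  have h1cop : (2 ^ k).Coprime 1 := Nat.coprime_one_right _
  have hsumF' : ∀ j : ℕ, (2 ^ k).Coprime j → ∑ χ ∈ Bf, aeval (ζ ^ j) (f' χ χ) =
      (2 : ℂ) ^ d * ((Bf.card : ℂ) - (l : ℂ)) := by
    intro j hj
    rw [Finset.sum_congr rfl (fun χ _ => hf' χ χ (ζ ^ j)), Finset.sum_sub_distrib, hF2 j hj,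
      Finset.sum_congr rfl (fun χ _ => hδself χ), Finset.sum_const, nsmul_eq_mul]
    ring
  have hle : l ≤ Bf.card := by
    have h1 : ((∑ χ ∈ Bf, ∑ ψ ∈ Bf, ‖aeval (ζ ^ 1) (f' χ ψ)‖ ^ 2 : ℝ) : ℂ) =
        (((2 : ℝ) ^ d * ((2 : ℝ) ^ d * ((Bf.card : ℝ) - (l : ℝ))) : ℝ) : ℂ) := by
      rw [Complex.ofReal_sum, Finset.sum_congr rfl (fun χ hχ => hF1' 1 h1cop χ hχ),
        ← Finset.mul_sum, hsumF' 1 h1cop]
      push_cast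
      ring
    have h2 : ∑ χ ∈ Bf, ∑ ψ ∈ Bf, ‖aeval (ζ ^ 1) (f' χ ψ)‖ ^ 2 =
        (2 : ℝ) ^ d * ((2 : ℝ) ^ d * ((Bf.card : ℝ) - (l : ℝ))) := by exact_mod_cast h1
    have h3 : (0 : ℝ) ≤ ∑ χ ∈ Bf, ∑ ψ ∈ Bf, ‖aeval (ζ ^ 1) (f' χ ψ)‖ ^ 2 :=
      Finset.sum_nonneg fun χ _ => Finset.sum_nonneg fun ψ _ => by positivity
    rw [h2] at h3
    have h4 : (0 : ℝ) < (2 : ℝ) ^ d := by positivity
    have h5 : (0 : ℝ) ≤ (Bf.card : ℝ) - (l : ℝ) := by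
      by_contra hneg
      rw [not_le] at hneg
      have : (2 : ℝ) ^ d * ((2 : ℝ) ^ d * ((Bf.card : ℝ) - (l : ℝ))) < 0 :=
        mul_neg_of_pos_of_neg h4 (mul_neg_of_pos_of_neg h4 hneg)
      linarith
    have h6 : (l : ℝ) ≤ (Bf.card : ℝ) := by linarith
    exact_mod_cast h6
  obtain ⟨l', hl'⟩ := Nat.exists_eq_add_of_le hle
  have hl'3 : l' ≤ 3 := by omega
  have hd2 : (2 : ℤ) ^ d = 2 * (2 : ℤ) ^ (d - 1) := by
    rw [← pow_succ']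
    congr 1
    omega
  refine h7_hk_abstract hM k ζ hζ Bf ht f' (fun χ => (2 : ℤ) ^ d - N χ) d l' hl'3 hF1' ?_ ?_ ?_ ?_
    ?_ ?_ hex
  · -- (F2')
    intro j hj
    rw [hsumF' j hj, hl']
    push_cast
    ring
  · -- congruences
    intro j hj χ hχ ψ hψ ψ' hψ'
    obtain ⟨hc1, hc2⟩ := hcong j hj χ hχ ψ hψ ψ' hψ'
    constructor
    · rw [hsplit]
      exact h7_memLocalRing_sub hMp (h7_memLocalRing_of_memLocalIdeal (hδmem χ hχ ψ)) hc1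
    · intro hmem
      rw [hsplit] at hmem ⊢
      have h1 : Cfsg.MemLocalIdeal M (aeval (ζ ^ j) (f χ ψ) / (2 : ℂ) ^ ht ψ) := by
        have := h7_memLocalIdeal_sub hMp (hδmem χ hχ ψ) hmem
        rwa [sub_sub_cancel] at this
      exact h7_memLocalIdeal_sub hMp (hδmem χ hχ ψ') (hc2 h1)
  · -- units
    intro χ hχ ψ hψ hχ0 hψ0 j hj hmem
    apply hunit χ hχ ψ hψ hχ0 hψ0 j hj
    rw [hf'] at hmem
    have h1 : Cfsg.MemLocalIdeal M (δ χ ψ : ℂ) := by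
      have := hδmem χ hχ ψ
      rwa [hψ0, pow_zero, div_one] at this
    have := h7_memLocalIdeal_sub hMp h1 hmem
    rwa [sub_sub_cancel] at this
  · -- symmetry
    intro χ ψ j
    rw [hf', hf', map_sub, map_intCast, hsymm χ ψ j, hδsymm]
  · -- traces
    intro χ hχ
    rw [Finset.sum_congr rfl (fun j _ => hf' χ χ (ζ ^ j)), Finset.sum_sub_distrib, hN χ hχ,
      Finset.sum_congr rfl (fun j _ => hδself χ), Finset.sum_const, nsmul_eq_mul]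
    push_cast
    ring
  · -- parity
    intro χ hχ hχ0
    have h1 := hodd χ hχ hχ0
    have h2 : Even ((2 : ℤ) ^ d) := by
      rw [hd2]
      exact even_two_mul _
    exact h2.sub_odd h1

end Cfsg.Agent.Lib.helper7
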