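import Mathlib
import Cfsg.Agent.Lib.Helper25.BrauerFeit4
import Cfsg.Agent.Lib.helper7.HKS8
import Cfsg.Agent.Lib.helper7.HKS10
import Cfsg.Agent.Lib.helper7.HKS11

/-!
`k(B) ≤ 2^d` for a 2-block `B` with a major subsection `(z, b)` such that `k(B) ≤ l(b) + 3`.
-/

set_option autoImplicit false
set_option linter.style.haveILetI false
set_option linter.unusedVariables false
set_option warn.classDefReducibility false
set_option maxHeartbeats 1600000

namespace Cfsg.Agent.Lib.helper7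
open scoped ComplexConjugate
open Cfsg.Agent.Lib.helper2
open Cfsg.Agent.Lib.Helper25
open Cfsg.Agent.Lib.Helper24

theorem h7_hk_compl_final {G : Type*} [Group G] [Finite G] (M : Ideal Cfsg.AlgInt)
    (hM : Cfsg.IsPModular 2 M) (B : Set (Cfsg.IrrCharacter G)) (hB : Cfsg.IsPBlock M B)
    (D : Subgroup G) (hD : Cfsg.IsDefectGroup 2 M B D) (z : G) (hzD : z ∈ D)
    (hzc : ∀ d ∈ D, d * z = z * d)
    (b : Set (Cfsg.IrrCharacter ↥(Subgroup.centralizer ({z} : Set G))))
    (hb : Cfsg.IsInducedBlock M (Subgroup.centralizer ({z} : Set G)) b B)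
    (hbD : Cfsg.IsDefectGroup 2 M b (D.subgroupOf (Subgroup.centralizer ({z} : Set G))))
    (h : Nat.card B ≤ Cfsg.blockRank 2 b + 3) :
    Nat.card B ≤ 2 ^ Cfsg.blockDefect 2 B := by
  classical
  haveI hp : Fact (Nat.Prime 2) := ⟨Nat.prime_two⟩
  haveI : Fintype G := Fintype.ofFinite _
  haveI : Fintype (Cfsg.IrrCharacter G) := Fintype.ofFinite _
  haveI : Fintype ↥(Subgroup.centralizer ({z} : Set G)) := Fintype.ofFinite _
  have hcD := h7_hk_defect_card 2 M hM B hB D hD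
  have hcb := h7_hk_defect_card 2 M hM b hb.1 _ hbD
  have hDle : D ≤ Subgroup.centralizer ({z} : Set G) := by
    intro d hd
    exact Subgroup.mem_centralizer_singleton_iff.mpr (hzc d hd)
  have hcard : Nat.card (D.subgroupOf (Subgroup.centralizer ({z} : Set G))) = Nat.card D :=
    Nat.card_congr (Subgroup.subgroupOfEquivOfLe hDle).toEquiv
  have hdef : Cfsg.blockDefect 2 b = Cfsg.blockDefect 2 B := by
    rw [hcard, hcD] at hcb
    exact (Nat.pow_right_injective (le_refl 2) hcb).symm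
  have hzord : orderOf z ∣ 2 ^ Cfsg.blockDefect 2 B := by
    rw [← hcD]
    have h1 : orderOf (⟨z, hzD⟩ : D) ∣ Nat.card D := orderOf_dvd_natCard _
    rwa [← Subgroup.orderOf_coe] at h1
  obtain ⟨k, -, hk⟩ := (Nat.dvd_prime_pow Nat.prime_two).mp hzord
  set Bf : Finset (Cfsg.IrrCharacter G) := Finset.univ.filter (· ∈ B) with hBfdef
  have hBf : ∀ χ, χ ∈ Bf ↔ χ ∈ B := fun χ => by simp [hBfdef]
  have hcardB : Nat.card B = Bf.card := by
    rw [Nat.card_eq_fintype_card, Fintype.card_subtype]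
  set d := Cfsg.blockDefect 2 B with hd
  set ht : Cfsg.IrrCharacter G → ℕ := fun χ => Cfsg.blockHeight 2 B (χ : G → ℂ) with hht
  have hbfw := bf_weighted 2 M hM B hB D hD
  have hfs : (∑ᶠ χ ∈ B, 2 ^ (2 * Cfsg.blockHeight 2 B (χ : G → ℂ))) =
      ∑ χ ∈ Bf, 2 ^ (2 * ht χ) := by
    rw [h7_finsum_mem_fintype B, hBfdef, Finset.sum_filter]
  rw [hfs, hcD] at hbfw
  rw [hcardB]
  by_cases hd0 : d = 0
  · rw [hd0] at hbfw ⊢
    have h1 : Bf.card ≤ ∑ χ ∈ Bf, 2 ^ (2 * ht χ) := by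
      rw [Finset.card_eq_sum_ones]
      exact Finset.sum_le_sum fun χ _ => Nat.one_le_two_pow
    have h2 : (2 ^ 0) ^ 2 / 4 + 1 = 1 := by norm_num
    rw [h2] at hbfw
    simpa using h1.trans hbfw
  · have hd1 : 1 ≤ d := Nat.one_le_iff_ne_zero.mpr hd0
    have hhtd : ∀ χ ∈ Bf, ht χ < d := by
      intro χ hχ
      by_contra hge
      rw [not_lt] at hge
      have h1 : 2 ^ (2 * ht χ) ≤ ∑ χ ∈ Bf, 2 ^ (2 * ht χ) :=
        Finset.single_le_sum (f := fun χ => 2 ^ (2 * ht χ)) (fun _ _ => Nat.zero_le _) hχ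
      have h2 : 2 ^ (2 * d) ≤ 2 ^ (2 * ht χ) := Nat.pow_le_pow_right (by norm_num) (by omega)
      have h3 : (2 ^ d) ^ 2 = 4 * 4 ^ (d - 1) := by
        rw [← pow_mul, mul_comm d 2, pow_mul]
        norm_num
        rw [← pow_succ']
        congr 1
        omega
      have h4 : 2 ^ (2 * d) = 4 * 4 ^ (d - 1) := by
        rw [← h3, ← pow_mul, mul_comm]
      rw [h3, Nat.mul_div_cancel_left _ (by norm_num : 0 < 4)] at hbfw
      have h5 : 1 ≤ 4 ^ (d - 1) := Nat.one_le_pow _ _ (by norm_num)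
      omega
    obtain ⟨ζ, f, N, hζ, hF1, hF2, hcong, hunit, hsymm, hN, hodd, hex⟩ :=
      h7_hk_package M hM B z k hk (Subgroup.centralizer ({z} : Set G)) rfl b hb hdef Bf hBf
    have hl : Bf.card ≤ Cfsg.blockRank 2 b + 3 := by
      rw [← hcardB]
      exact h
    have hmain := h7_hk_abstract_compl hM k ζ hζ Bf ht f N d (Cfsg.blockRank 2 b) hd1 hhtd hl
      hF1 hF2 hcong hunit hsymm hN hodd hex
    set A := Bf.filter (fun χ : Cfsg.IrrCharacter G => ht χ = 0) with hA
    set C := Bf.filter (fun χ : Cfsg.IrrCharacter G => 1 ≤ ht χ) with hC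
    have hcardAC : Bf.card = A.card + C.card := by
      rw [← Finset.card_filter_add_card_filter_not (s := Bf)
        (fun χ : Cfsg.IrrCharacter G => ht χ = 0)]
      congr 2
      apply Finset.filter_congr
      intro χ _
      omega
    have h3 : 3 * C.card ≤ 2 * ∑ χ ∈ C, 2 ^ ht χ := by
      rw [Finset.mul_sum]
      have : 3 * C.card = ∑ χ ∈ C, 3 := by
        rw [Finset.sum_const, smul_eq_mul, mul_comm]
      rw [this]
      apply Finset.sum_le_sum
      intro χ hχ
      have h1 : 1 ≤ ht χ := (Finset.mem_filter.mp hχ).2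
      have h2 : 2 ^ 1 ≤ 2 ^ ht χ := Nat.pow_le_pow_right (by norm_num) h1
      omega
    omega

end Cfsg.Agent.Lib.helper7
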