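import Mathlib
import Cfsg.Agent.Lib.Helper25.SubsectionBound
import Cfsg.Agent.Lib.helper7.HKS1

/-!
The Héthelyi–Külshammer–Sambale integral quadratic form attached to a subsection `(y, b)` of a
2-block `B`: odd integers `N χ` (χ of height zero) with `k₀(B) ≤ 2^d N χ` and `Σ N χ ≤ 2^d l(b)`.
-/

set_option autoImplicit false
set_option linter.style.haveILetI false
set_option linter.unusedVariables false
set_option warn.classDefReducibility false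
set_option maxHeartbeats 3200000

namespace Cfsg.Agent.Lib.helper7
open scoped ComplexConjugate
open Polynomial
open Cfsg.Agent.Lib.helper2
open Cfsg.Agent.Lib.Helper25
open Cfsg.Agent.Lib.Helper24

theorem h7_hk_main {G : Type*} [Group G] [Fintype G]
    (M : Ideal Cfsg.AlgInt) (hM : Cfsg.IsPModular 2 M) (B : Set (Cfsg.IrrCharacter G))
    (y : G) (hy : ∃ k : ℕ, orderOf y = 2 ^ k)
    (H : Subgroup G) (hH : H = Subgroup.centralizer ({y} : Set G))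
    (b : Set (Cfsg.IrrCharacter H))
    (hind : Cfsg.IsInducedBlock M H b B)
    (s : Finset (Cfsg.IrrCharacter G))
    (hs : ∀ χ, χ ∈ s ↔ χ ∈ B ∧ Cfsg.blockHeight 2 B (χ : G → ℂ) = 0) :
    ∃ N : Cfsg.IrrCharacter G → ℤ, (∀ χ ∈ s, Odd (N χ)) ∧
      (∀ χ ∈ s, (s.card : ℤ) ≤ ((2 ^ Cfsg.blockDefect 2 b : ℕ) : ℤ) * N χ) ∧
      ∑ χ ∈ s, N χ ≤ ((2 ^ Cfsg.blockDefect 2 b : ℕ) : ℤ) * ((Cfsg.blockRank 2 b : ℕ) : ℤ) := by
  classical
  haveI hp : Fact (Nat.Prime 2) := ⟨Nat.prime_two⟩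
  have hMp := hM.2.1.isPrime
  haveI : Fintype H := Fintype.ofFinite _
  haveI : Fintype (Cfsg.IrrCharacter H) := Fintype.ofFinite _
  haveI : Fintype (Cfsg.IrrCharacter G) := Fintype.ofFinite _
  obtain ⟨k, hk⟩ := hy
  have hyH : y ∈ H := by
    rw [hH]
    exact Subgroup.mem_centralizer_singleton_iff.mpr rfl
  have hcent : ∀ h ∈ H, h * y = y * h := fun h hh =>
    Subgroup.mem_centralizer_singleton_iff.mp (hH ▸ hh)
  have hyk : y ^ (2 ^ k) = 1 := by rw [← hk]; exact pow_orderOf_eq_one y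
  set d := Cfsg.blockDefect 2 b with hd
  set n := 2 ^ k with hn
  have hn0 : n ≠ 0 := pow_ne_zero _ (by norm_num)
  haveI : NeZero n := ⟨hn0⟩
  obtain ⟨ψ₀, hb⟩ := hind.1
  -- the central element
  have hyc : (⟨y, hyH⟩ : H) ∈ Subgroup.center H := by
    rw [Subgroup.mem_center_iff]
    intro h
    apply Subtype.ext
    show (h : G) * y = y * (h : G)
    exact hcent h h.2
  have hyn : (⟨y, hyH⟩ : H) ^ n = 1 := by
    apply Subtype.ext
    show y ^ n = 1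
    exact hyk
  have hlamex : ∀ ψ' : Cfsg.IrrCharacter H, ∃ lam : ℂ,
      (∀ c : H, (ψ' : H → ℂ) ((⟨y, hyH⟩ : H) * c) = lam * (ψ' : H → ℂ) c) ∧ lam ^ n = 1 :=
    fun ψ' => bp_central_shift ψ' _ hyc _ hyn
  choose lam hlam1 hlam2 using hlamex
  set ζ : ℂ := Complex.exp (2 * Real.pi * Complex.I / n) with hζdef
  have hζ : IsPrimitiveRoot ζ n := Complex.isPrimitiveRoot_exp n hn0
  have hex : ∀ ψ' : Cfsg.IrrCharacter H, ∃ i < n, ζ ^ i = lam ψ' :=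
    fun ψ' => hζ.eq_pow_of_pow_eq_one (hlam2 ψ')
  choose ex hex1 hex2 using hex
  -- multiplicities
  have hnat : ∀ (χ : Cfsg.IrrCharacter G) (ψ' : Cfsg.IrrCharacter H), ∃ m : ℕ,
      Cfsg.classInner (fun h : H => (χ : G → ℂ) (h : G)) (ψ' : H → ℂ) = (m : ℂ) := fun χ ψ' =>
    classInner_character_nat (isCharacter_restrict (isCharacter_of_irr χ) H) (isCharacter_of_irr ψ')
  choose mult hmult using hnat
  -- the matrices
  set W : ℕ → Cfsg.IrrCharacter G → Cfsg.IrrCharacter G → ℂ := fun j χ ψ =>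
    Cfsg.classInner
      (Cfsg.pRegularPart 2 (Cfsg.blockPart b (fun c : H => (χ : G → ℂ) (y ^ j * (c : G)))))
      (Cfsg.blockPart b (fun c : H => (ψ : G → ℂ) (y ^ j * (c : G)))) with hW
  -- polynomials
  have hpoly : ∀ χ ψ : Cfsg.IrrCharacter G, ∃ f : ℤ[X], ∀ j : ℕ,
      aeval (ζ ^ j) f = ((2 : ℕ) : ℂ) ^ d * W j χ ψ := by
    intro χ ψ
    obtain ⟨f, hf⟩ := su_poly b n hn0 ζ hζ.pow_eq_one (mult χ) (mult ψ)
      (fun ψ' ψ'' => bf_z 2 b ψ' ψ'') ex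
    refine ⟨f, fun j => ?_⟩
    rw [hf j]
    show _ = ((2 : ℕ) : ℂ) ^ d * Cfsg.classInner
      (Cfsg.pRegularPart 2 (Cfsg.blockPart b (fun c : H => (χ : G → ℂ) (y ^ j * (c : G)))))
      (Cfsg.blockPart b (fun c : H => (ψ : G → ℂ) (y ^ j * (c : G))))
    rw [su_W_formula 2 H y hyH hcent b χ ψ lam hlam1 j, Finset.mul_sum]
    refine Finset.sum_congr rfl fun ψ' _ => ?_
    rw [Finset.mul_sum]
    refine Finset.sum_congr rfl fun ψ'' _ => ?_
    split_ifs with h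
    · have hspec := bf_z_spec 2 M hM ψ₀ ψ' ψ'' (hb ▸ h.1) (hb ▸ h.2)
      rw [← hb] at hspec
      rw [hex2 ψ', hex2 ψ'', ← hmult χ ψ', ← hmult ψ ψ'', ← hspec]
      ring
    · rw [mul_zero]
  choose f hf using hpoly
  have hne : ∀ χ ∈ s, ∀ ψ ∈ s, aeval ζ (f χ ψ) ≠ 0 := by
    intro χ hχ ψ hψ h0
    have hχ' := (hs χ).mp hχ
    have hψ' := (hs ψ).mp hψ
    have h1 := su_unit 2 M hM H y hyH hcent k hyk b B hind χ ψ hχ'.1 hψ'.1 hχ'.2 hψ'.2 1
    apply h1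
    have h2 := hf χ ψ 1
    rw [pow_one, h0] at h2
    show Cfsg.MemLocalIdeal M (((2 : ℕ) : ℂ) ^ d * W 1 χ ψ)
    rw [← h2]
    exact h7_memLocalIdeal_zero hMp
  set J := (Finset.range n).filter (Nat.Coprime n) with hJ
  have hJpos : 0 < J.card := by
    have : J.card = Nat.totient n := (Nat.totient_eq_card_coprime n).symm
    rw [this]
    exact Nat.totient_pos.mpr (Nat.pos_of_ne_zero hn0)
  have hJpos' : (0 : ℝ) < J.card := by exact_mod_cast hJpos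
  set Bf : Finset (Cfsg.IrrCharacter G) := Finset.univ.filter (· ∈ B) with hBf
  have hmemBf : ∀ χ, χ ∈ Bf ↔ χ ∈ B := fun χ => by simp [hBf]
  have hsB : s ⊆ Bf := fun χ hχ => (hmemBf χ).mpr ((hs χ).mp hχ).1
  have hfs : ∀ g : Cfsg.IrrCharacter G → ℂ, ∑ᶠ χ ∈ B, g χ = ∑ χ ∈ Bf, g χ := by
    intro g
    rw [h7_finsum_mem_fintype B, hBf, Finset.sum_filter]
  -- the real row sums
  set R : ℕ → Cfsg.IrrCharacter G → ℝ := fun j χ => ∑ ψ ∈ Bf, ‖W j χ ψ‖ ^ 2 with hR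
  have hR0 : ∀ j χ, 0 ≤ R j χ := fun j χ => Finset.sum_nonneg fun ψ _ => by positivity
  have hpowhyp : ∀ j ∈ J, y ^ j ∈ H ∧ (∀ h ∈ H, h * y ^ j = y ^ j * h) ∧
      (∀ g : G, g * y ^ j = y ^ j * g → g ∈ H) ∧ (∃ k' : ℕ, orderOf (y ^ j) = 2 ^ k') := by
    intro j hj
    have hj' : (orderOf y).Coprime j := by
      rw [hk]
      exact (Finset.mem_filter.mp hj).2
    have h0 := su_pow_hyp 2 y k hk j hj'
    rw [← hH] at h0
    exact h0
  have hRW : ∀ j ∈ J, ∀ χ, ((R j χ : ℝ) : ℂ) = W j χ χ := by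
    intro j hj χ
    obtain ⟨h1, h2, h3, h4⟩ := hpowhyp j hj
    have h6 : ∑ ψ ∈ Bf, W j χ ψ * conj (W j χ ψ) = W j χ χ := by
      have h6 := su_idem 2 M hM H (y ^ j) h1 h2 h3 h4 b B hind χ χ
      rw [hfs] at h6
      exact h6
    rw [← h6]
    show ((∑ ψ ∈ Bf, ‖W j χ ψ‖ ^ 2 : ℝ) : ℂ) = _
    rw [Complex.ofReal_sum]
    refine Finset.sum_congr rfl fun ψ _ => ?_
    rw [Complex.mul_conj, Complex.normSq_eq_norm_sq]
  have hRtr : ∀ j ∈ J, ∑ χ ∈ Bf, R j χ = (Cfsg.blockRank 2 b : ℝ) := by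
    intro j hj
    obtain ⟨h1, h2, h3, h4⟩ := hpowhyp j hj
    have h5 : ∑ χ ∈ Bf, W j χ χ = (Cfsg.blockRank 2 b : ℂ) := by
      have h5 := st_trace 2 M hM H (y ^ j) h1 h2 h3 h4 b B hind
      rw [hfs] at h5
      exact h5
    have h7 : ((∑ χ ∈ Bf, R j χ : ℝ) : ℂ) = ((Cfsg.blockRank 2 b : ℝ) : ℂ) := by
      rw [Complex.ofReal_natCast, ← h5, Complex.ofReal_sum]
      exact Finset.sum_congr rfl fun χ _ => hRW j hj χ
    exact_mod_cast h7
  -- integer data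
  set c : Cfsg.IrrCharacter G → Cfsg.IrrCharacter H → Cfsg.IrrCharacter H → ℤ :=
    fun χ ψ' ψ'' => if ψ' ∈ b ∧ ψ'' ∈ b then
      (mult χ ψ' : ℤ) * (mult χ ψ'' : ℤ) * bf_z 2 b ψ' ψ'' else 0 with hc
  set μ : Cfsg.IrrCharacter H → Cfsg.IrrCharacter H → ℂ :=
    fun ψ' ψ'' => lam ψ' * conj (lam ψ'') with hμ
  have hμn : ∀ ψ' ψ'', μ ψ' ψ'' ^ (2 ^ k) = 1 := by
    intro ψ' ψ''
    show (lam ψ' * conj (lam ψ'')) ^ n = 1
    rw [mul_pow, ← map_pow, hlam2, hlam2, map_one, mul_one]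
  have hμconj : ∀ ψ' ψ'', μ ψ'' ψ' = conj (μ ψ' ψ'') := by
    intro ψ' ψ''
    show lam ψ'' * conj (lam ψ') = conj (lam ψ' * conj (lam ψ''))
    rw [map_mul, Complex.conj_conj, mul_comm]
  have hμdiag : ∀ ψ', μ ψ' ψ' = 1 := by
    intro ψ'
    show lam ψ' * conj (lam ψ') = 1
    have h1 : ‖lam ψ'‖ = 1 := Complex.norm_eq_one_of_pow_eq_one (hlam2 ψ') hn0
    rw [Complex.mul_conj, Complex.normSq_eq_norm_sq, h1]
    simp
  have hcsymm : ∀ χ ψ' ψ'', c χ ψ' ψ'' = c χ ψ'' ψ' := by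
    intro χ ψ' ψ''
    show (if ψ' ∈ b ∧ ψ'' ∈ b then
      (mult χ ψ' : ℤ) * (mult χ ψ'' : ℤ) * bf_z 2 b ψ' ψ'' else 0) =
      (if ψ'' ∈ b ∧ ψ' ∈ b then
      (mult χ ψ'' : ℤ) * (mult χ ψ' : ℤ) * bf_z 2 b ψ'' ψ' else 0)
    by_cases h : ψ' ∈ b ∧ ψ'' ∈ b
    · rw [if_pos h, if_pos ⟨h.2, h.1⟩]
      have h1 := bf_z_symm 2 M hM ψ₀ ψ' ψ'' (hb ▸ h.1) (hb ▸ h.2)
      rw [← hb] at h1
      rw [h1]
      ring
    · rw [if_neg h, if_neg (fun h' => h ⟨h'.2, h'.1⟩)]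
  -- (I1)
  have hI1 : ∀ χ j, ((2 : ℕ) : ℂ) ^ d * W j χ χ =
      ∑ ψ' : Cfsg.IrrCharacter H, ∑ ψ'' : Cfsg.IrrCharacter H,
        (c χ ψ' ψ'' : ℂ) * (μ ψ' ψ'') ^ j := by
    intro χ j
    show ((2 : ℕ) : ℂ) ^ d * Cfsg.classInner
      (Cfsg.pRegularPart 2 (Cfsg.blockPart b (fun c : H => (χ : G → ℂ) (y ^ j * (c : G)))))
      (Cfsg.blockPart b (fun c : H => (χ : G → ℂ) (y ^ j * (c : G)))) = _
    rw [su_W_formula 2 H y hyH hcent b χ χ lam hlam1 j, Finset.mul_sum]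
    refine Finset.sum_congr rfl fun ψ' _ => ?_
    rw [Finset.mul_sum]
    refine Finset.sum_congr rfl fun ψ'' _ => ?_
    show _ = ((if ψ' ∈ b ∧ ψ'' ∈ b then
      (mult χ ψ' : ℤ) * (mult χ ψ'' : ℤ) * bf_z 2 b ψ' ψ'' else 0 : ℤ) : ℂ) *
      (lam ψ' * conj (lam ψ'')) ^ j
    split_ifs with h
    · have hspec := bf_z_spec 2 M hM ψ₀ ψ' ψ'' (hb ▸ h.1) (hb ▸ h.2)
      rw [← hb] at hspec
      rw [hmult χ ψ', hmult χ ψ'', map_mul, Complex.conj_natCast, map_pow]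
      push_cast
      rw [← hspec, mul_pow]
      push_cast
      ring
    · simp
  -- (I3)
  set N : Cfsg.IrrCharacter G → ℤ := fun χ =>
    ∑ ψ' : Cfsg.IrrCharacter H, ∑ ψ'' : Cfsg.IrrCharacter H,
      c χ ψ' ψ'' * h7_hk_r (μ ψ' ψ'') with hN
  have hI3 : ∀ χ, ∑ j ∈ J, ((2 : ℕ) : ℂ) ^ d * W j χ χ = (J.card : ℂ) * (N χ : ℂ) := by
    intro χ
    rw [Finset.sum_congr rfl fun j _ => hI1 χ j, Finset.sum_comm]
    rw [hN]
    push_cast
    rw [Finset.mul_sum]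
    refine Finset.sum_congr rfl fun ψ' _ => ?_
    rw [Finset.sum_comm, Finset.mul_sum]
    refine Finset.sum_congr rfl fun ψ'' _ => ?_
    rw [← Finset.mul_sum, h7_hk_root_sum k (μ ψ' ψ'') (hμn ψ' ψ'')]
    ring
  have hI6 : ∀ χ, ∑ j ∈ J, (2 : ℝ) ^ d * R j χ = (J.card : ℝ) * (N χ : ℝ) := by
    intro χ
    have h1 : ((∑ j ∈ J, (2 : ℝ) ^ d * R j χ : ℝ) : ℂ) = (((J.card : ℝ) * (N χ : ℝ) : ℝ) : ℂ) := by
      rw [Complex.ofReal_sum]
      push_cast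
      rw [← hI3 χ]
      refine Finset.sum_congr rfl fun j hj => ?_
      rw [hRW j hj χ]
      push_cast
      ring
    exact_mod_cast h1
  refine ⟨N, ?_, ?_, ?_⟩
  · -- parity
    intro χ hχ
    have hχ' := (hs χ).mp hχ
    have hM0 := su_M0 2 M hM H b B hind χ χ hχ'.1 hχ'.1 hχ'.2 hχ'.2
    set S : ℤ := ∑ ψ' : Cfsg.IrrCharacter H, ∑ ψ'' : Cfsg.IrrCharacter H, c χ ψ' ψ'' with hS
    have hScast : (∑ ψ' : Cfsg.IrrCharacter H, ∑ ψ'' : Cfsg.IrrCharacter H,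
      if ψ' ∈ b ∧ ψ'' ∈ b then
        Cfsg.classInner (fun h : H => (χ : G → ℂ) (h : G)) (ψ' : H → ℂ) *
        Cfsg.classInner (fun h : H => (χ : G → ℂ) (h : G)) (ψ'' : H → ℂ) *
        (((2 : ℕ) : ℂ) ^ Cfsg.blockDefect 2 b *
          Cfsg.classInner (Cfsg.pRegularPart 2 (ψ' : H → ℂ)) (ψ'' : H → ℂ)) else 0) = (S : ℂ) := by
      rw [hS]
      push_cast
      refine Finset.sum_congr rfl fun ψ' _ => ?_
      refine Finset.sum_congr rfl fun ψ'' _ => ?_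
      show _ = ((if ψ' ∈ b ∧ ψ'' ∈ b then
        (mult χ ψ' : ℤ) * (mult χ ψ'' : ℤ) * bf_z 2 b ψ' ψ'' else 0 : ℤ) : ℂ)
      split_ifs with h
      · have hspec := bf_z_spec 2 M hM ψ₀ ψ' ψ'' (hb ▸ h.1) (hb ▸ h.2)
        rw [← hb] at hspec
        push_cast at hspec
        rw [hmult χ ψ', hmult χ ψ'', hspec]
        push_cast
        ring
      · simp
    rw [hScast] at hM0
    have hSodd : Odd S := by
      rw [← Int.not_even_iff_odd]
      rintro ⟨t, ht⟩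
      apply hM0
      rw [ht]
      push_cast
      rw [← two_mul]
      have h2 : Cfsg.MemLocalIdeal M ((2 : ℕ) : ℂ) := h7_memLocalIdeal_p hM
      have h3 : Cfsg.MemLocalRing M (t : ℂ) := by
        have := h7_memLocalRing_of_algInt hMp (t : Cfsg.AlgInt)
        simpa using this
      have h4 := h7_memLocalIdeal_mul_right hMp h2 h3
      simpa using h4
    have hev : Even (∑ ψ' : Cfsg.IrrCharacter H, ∑ ψ'' : Cfsg.IrrCharacter H,
        c χ ψ' ψ'' * (1 - h7_hk_r (μ ψ' ψ''))) := by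
      apply h7_hk_even_symm
      · intro ψ' ψ''
        rw [hcsymm χ ψ' ψ'', hμconj ψ' ψ'', h7_hk_r_conj]
      · intro ψ'
        rw [hμdiag ψ', h7_hk_r_one]
        ring
    have hNS : N χ = S - ∑ ψ' : Cfsg.IrrCharacter H, ∑ ψ'' : Cfsg.IrrCharacter H,
        c χ ψ' ψ'' * (1 - h7_hk_r (μ ψ' ψ'')) := by
      rw [hN, hS, ← Finset.sum_sub_distrib]
      refine Finset.sum_congr rfl fun ψ' _ => ?_
      rw [← Finset.sum_sub_distrib]
      refine Finset.sum_congr rfl fun ψ'' _ => ?_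
      ring
    rw [hNS]
    exact hSodd.sub_even hev
  · -- the bound for each height zero character
    intro χ hχ
    have key : (s.card : ℝ) * J.card ≤ ((2 : ℝ) ^ d * (N χ : ℝ)) * J.card := by
      calc (s.card : ℝ) * J.card = ∑ ψ ∈ s, (J.card : ℝ) := by
            rw [Finset.sum_const, nsmul_eq_mul]
        _ ≤ ∑ ψ ∈ s, ∑ j ∈ J, ‖aeval (ζ ^ j) (f χ ψ)‖ ^ 2 :=
            Finset.sum_le_sum fun ψ hψ =>
              gn_sum_sq n (Nat.pos_of_ne_zero hn0) (f χ ψ) ζ hζ (hne χ hχ ψ hψ)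
        _ ≤ ∑ ψ ∈ Bf, ∑ j ∈ J, ‖aeval (ζ ^ j) (f χ ψ)‖ ^ 2 :=
            Finset.sum_le_sum_of_subset_of_nonneg hsB fun ψ _ _ =>
              Finset.sum_nonneg fun j _ => by positivity
        _ = ∑ j ∈ J, (2 : ℝ) ^ d * ((2 : ℝ) ^ d * R j χ) := by
            rw [Finset.sum_comm]
            refine Finset.sum_congr rfl fun j _ => ?_
            rw [hR]
            simp only []
            rw [Finset.mul_sum, Finset.mul_sum]
            refine Finset.sum_congr rfl fun ψ _ => ?_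
            rw [hf χ ψ j, norm_mul, mul_pow, norm_pow, Complex.norm_natCast]
            push_cast
            ring
        _ = ((2 : ℝ) ^ d * (N χ : ℝ)) * J.card := by
            rw [← Finset.mul_sum, hI6 χ]
            ring
    have key2 := le_of_mul_le_mul_right key hJpos'
    have key3 : ((s.card : ℤ) : ℝ) ≤ ((((2 ^ d : ℕ) : ℤ) * N χ : ℤ) : ℝ) := by
      push_cast
      exact key2
    exact_mod_cast key3
  · -- the sum
    have key : (J.card : ℝ) * ∑ χ ∈ s, (N χ : ℝ) ≤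
        (J.card : ℝ) * ((2 : ℝ) ^ d * (Cfsg.blockRank 2 b : ℝ)) := by
      calc (J.card : ℝ) * ∑ χ ∈ s, (N χ : ℝ) = ∑ χ ∈ s, ∑ j ∈ J, (2 : ℝ) ^ d * R j χ := by
            rw [Finset.mul_sum]
            exact Finset.sum_congr rfl fun χ _ => (hI6 χ).symm
        _ ≤ ∑ χ ∈ Bf, ∑ j ∈ J, (2 : ℝ) ^ d * R j χ :=
            Finset.sum_le_sum_of_subset_of_nonneg hsB fun χ _ _ =>
              Finset.sum_nonneg fun j _ => mul_nonneg (by positivity) (hR0 j χ)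
        _ = ∑ j ∈ J, (2 : ℝ) ^ d * (Cfsg.blockRank 2 b : ℝ) := by
            rw [Finset.sum_comm]
            refine Finset.sum_congr rfl fun j hj => ?_
            rw [← Finset.mul_sum, hRtr j hj]
        _ = (J.card : ℝ) * ((2 : ℝ) ^ d * (Cfsg.blockRank 2 b : ℝ)) := by
            rw [Finset.sum_const, nsmul_eq_mul]
    have key2 := le_of_mul_le_mul_left key hJpos'
    have key3 : ((∑ χ ∈ s, N χ : ℤ) : ℝ) ≤
        ((((2 ^ d : ℕ) : ℤ) * ((Cfsg.blockRank 2 b : ℕ) : ℤ) : ℤ) : ℝ) := by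
      push_cast
      exact key2
    exact_mod_cast key3

end Cfsg.Agent.Lib.helper7
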