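import Mathlib
import Cfsg.Agent.Lib.Helper25.BrauerPairAbelian
import Cfsg.Agent.Lib.Helper25.BrauerPairExtension
import Cfsg.Agent.Lib.Helper25.ThirdMainPair
import Cfsg.Agent.Lib.Helper24.ExtFirstMain3
import Cfsg.Agent.Lib.helper7.SecondMain3

/-!
Bridge between blocks of `D C_G(D)` inducing `B` and Brauer pairs `(D, e)` of `B`.
-/

set_option autoImplicit false
set_option linter.style.haveILetI false
set_option linter.unusedVariables false
set_option linter.unusedSectionVars false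
set_option maxHeartbeats 1600000

namespace Cfsg.Agent.Lib.helper7
open scoped ComplexConjugate
open Cfsg.Agent.Lib.helper2
open Cfsg.Agent.Lib.Helper25
open Cfsg.Agent.Lib.Helper24

/-- a block of `C_G(P)` inducing `B` gives a Brauer pair of `B` -/
theorem h7_ii_pair_of_induced {G : Type*} [Group G] [Fintype G] (p : ℕ) [hp : Fact p.Prime]
    (M : Ideal Cfsg.AlgInt) (hM : Cfsg.IsPModular p M) (P : Subgroup G) (hP : IsPGroup p P)
    (B : Set (Cfsg.IrrCharacter G))
    (e : Set (Cfsg.IrrCharacter (Subgroup.centralizer (P : Set G))))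
    (h : Cfsg.IsInducedBlock M (Subgroup.centralizer (P : Set G)) e B) :
    Cfsg.IsBrauerPairOf p M B P e := by
  classical
  haveI : Fintype (Cfsg.IrrCharacter G) := Fintype.ofFinite _
  haveI : Fintype (Subgroup.centralizer (P : Set G)) := Fintype.ofFinite _
  haveI : Fintype (Cfsg.IrrCharacter (Subgroup.centralizer (P : Set G))) := Fintype.ofFinite _
  have hMp := hM.2.1.isPrime
  obtain ⟨ξ₀, he⟩ := h.1
  obtain ⟨χ', hB⟩ := h.2.1
  have hCN : Subgroup.centralizer (P : Set G) ≤ Subgroup.normalizer (P : Set G) :=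
    Subgroup.centralizer_le_normalizer (P : Set G)
  obtain ⟨χ₀, hχ₀⟩ := h7_brauer_hom_block P (Subgroup.centralizer (P : Set G)) hM hP le_rfl hCN ξ₀
  have hind := tp_induced_centralizer hM P hP ξ₀ χ₀ hχ₀
  rw [← he] at hind
  have hBB : B = Cfsg.blockOf M (χ₀ : G → ℂ) := h7_induced_unique hMp _ e B _ h hind
  have h1 := hχ₀ _ (h7_block_indicator_mem hMp χ₀)
  have hmem : χ₀ ∈ Cfsg.blockOf M (χ₀ : G → ℂ) := h7_sameBlock_refl hMp _
  simp only [if_pos hmem] at h1
  rw [he, hBB]
  apply bq_pair_of_omega p M hM P hP _ ⟨χ₀, rfl⟩ ξ₀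
  rw [br_omega_eq_eval]
  exact h1

/-- a block of `C_G(P)` covered by a block of `H` inducing `B` induces `B` -/
theorem h7_ii_cover_induced {G : Type*} [Group G] [Fintype G] (p : ℕ) [hp : Fact p.Prime]
    (M : Ideal Cfsg.AlgInt) (hM : Cfsg.IsPModular p M) (P H : Subgroup G) (hP : IsPGroup p P)
    (hPH : P ≤ H) (hCH : Subgroup.centralizer (P : Set G) ≤ H)
    (hHN : H ≤ Subgroup.normalizer (P : Set G))
    (b : Set (Cfsg.IrrCharacter H)) (B : Set (Cfsg.IrrCharacter G))
    (hind : Cfsg.IsInducedBlock M H b B)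
    (e : Set (Cfsg.IrrCharacter (Subgroup.centralizer (P : Set G)))) (he : Cfsg.IsPBlock M e)
    (hcov : bq_coversG H (Subgroup.centralizer (P : Set G)) hCH b e) :
    Cfsg.IsInducedBlock M (Subgroup.centralizer (P : Set G)) e B := by
  classical
  haveI : Fintype (Cfsg.IrrCharacter G) := Fintype.ofFinite _
  haveI : Fintype H := Fintype.ofFinite _
  haveI : Fintype (Subgroup.centralizer (P : Set G)) := Fintype.ofFinite _
  haveI : Fintype ((Subgroup.centralizer (P : Set G)).subgroupOf H) := Fintype.ofFinite _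
  haveI : Fintype (Cfsg.IrrCharacter (Subgroup.centralizer (P : Set G))) := Fintype.ofFinite _
  have hMp := hM.2.1.isPrime
  have hHNC : H ≤ Subgroup.normalizer
      ((Subgroup.centralizer (P : Set G) : Subgroup G) : Set G) :=
    fun x hx => bm_normalizer_centralizer P x (hHN hx)
  haveI hn : ((Subgroup.centralizer (P : Set G)).subgroupOf H).Normal :=
    (Subgroup.normal_subgroupOf_iff_le_normalizer hCH).mpr hHNC
  obtain ⟨θ, hθ, ξ, hξ, hne⟩ := hcov
  refine ⟨he, hind.2.1, ?_⟩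
  intro ζ hζ χ hχ g
  have hsb : Cfsg.SameBlock M (ξ : Subgroup.centralizer (P : Set G) → ℂ)
      (ζ : Subgroup.centralizer (P : Set G) → ℂ) := by
    obtain ⟨ξ₀, rfl⟩ := he
    exact h7_sameBlock_trans hMp (h7_sameBlock_symm hξ) hζ
  have h1 := h7_icc_congr' (Subgroup.centralizer (P : Set G)) hMp ξ ζ hsb g
  have hcon : Cfsg.classInner (fun n : (Subgroup.centralizer (P : Set G)).subgroupOf H =>
      (θ : H → ℂ) n)
      ((ef_tr (Subgroup.subgroupOfEquivOfLe hCH) ξ :
        Cfsg.IrrCharacter ((Subgroup.centralizer (P : Set G)).subgroupOf H)) :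
        (Subgroup.centralizer (P : Set G)).subgroupOf H → ℂ) ≠ 0 := by
    have := bq_classInner_sub H (Subgroup.centralizer (P : Set G)) hCH (θ : H → ℂ) ξ
    intro h0
    apply hne
    rw [← this]
    convert h0 using 2
    rfl
  have h2 := ef_bcc_eq P (Subgroup.centralizer (P : Set G)) H hCH le_rfl hHN ξ θ hcon g
  have h3 := h7_icc_sub_bcc hM P H hP hPH hHN θ g
  have h4 := hind.2.2 θ hθ χ hχ g
  rw [h2, ← tp_icc_eq_bcc] at h3
  have e1 : Cfsg.inducedCentralChar (Subgroup.centralizer (P : Set G))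
        (ζ : Subgroup.centralizer (P : Set G) → ℂ) g - Cfsg.centralChar (χ : G → ℂ) g =
      -(Cfsg.inducedCentralChar (Subgroup.centralizer (P : Set G))
          (ξ : Subgroup.centralizer (P : Set G) → ℂ) g -
        Cfsg.inducedCentralChar (Subgroup.centralizer (P : Set G))
          (ζ : Subgroup.centralizer (P : Set G) → ℂ) g) -
      (Cfsg.inducedCentralChar H (θ : H → ℂ) g -
        Cfsg.inducedCentralChar (Subgroup.centralizer (P : Set G))
          (ξ : Subgroup.centralizer (P : Set G) → ℂ) g) +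
      (Cfsg.inducedCentralChar H (θ : H → ℂ) g - Cfsg.centralChar (χ : G → ℂ) g) := by ring
  rw [e1]
  exact h7_memLocalIdeal_add hMp (h7_memLocalIdeal_sub hMp (h7_memLocalIdeal_neg h1) h3) h4

/-- there is a maximal Brauer pair `(D, e)` of `B` with `e` covered by `b` -/
theorem h7_ii_exists_pair {G : Type*} [Group G] [Fintype G] (p : ℕ) [hp : Fact p.Prime]
    (M : Ideal Cfsg.AlgInt) (hM : Cfsg.IsPModular p M) (B : Set (Cfsg.IrrCharacter G))
    (D H : Subgroup G) (hBD : Cfsg.IsDefectGroup p M B D)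
    (hDH : D ≤ H) (hCH : Subgroup.centralizer (D : Set G) ≤ H)
    (hHN : H ≤ Subgroup.normalizer (D : Set G))
    (b : Set (Cfsg.IrrCharacter H))
    (hind : Cfsg.IsInducedBlock M H b B) :
    ∃ e : Set (Cfsg.IrrCharacter (Subgroup.centralizer (D : Set G))),
      Cfsg.IsPBlock M e ∧ bq_coversG H (Subgroup.centralizer (D : Set G)) hCH b e ∧
      Cfsg.IsMaximalBrauerPair p M B D e := by
  have hMp := hM.2.1.isPrime
  have hP : IsPGroup p D := ef_isPGroup_of_defect hBD
  obtain ⟨e, he, hcov⟩ := bq_coversG_exists_under hMp H (Subgroup.centralizer (D : Set G)) hCH b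
    hind.1
  have hI := h7_ii_cover_induced p M hM D H hP hDH hCH hHN b B hind e he hcov
  have hpair := h7_ii_pair_of_induced p M hM D hP B e hI
  exact ⟨e, he, hcov, bq_max_of_defect p M hM B D e hpair hBD⟩

/-- the index of `C` in `D C` is a power of `p` -/
theorem h7_ii_index_pow {G : Type*} [Group G] [Finite G] (p : ℕ) [hp : Fact p.Prime]
    (D C H : Subgroup G) (hD : IsPGroup p D) (hH : H = D ⊔ C)
    (hDN : D ≤ Subgroup.normalizer (C : Set G)) :
    ∃ k : ℕ, (C.subgroupOf H).index = p ^ k := by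
  subst hH
  have hDH : D ≤ D ⊔ C := le_sup_left
  have hCH : C ≤ D ⊔ C := le_sup_right
  have hHN : D ⊔ C ≤ Subgroup.normalizer (C : Set G) := sup_le hDN Subgroup.le_normalizer
  haveI hn : (C.subgroupOf (D ⊔ C)).Normal :=
    (Subgroup.normal_subgroupOf_iff_le_normalizer hCH).mpr hHN
  have htop : C.subgroupOf (D ⊔ C) ⊔ D.subgroupOf (D ⊔ C) = ⊤ := by
    rw [← Subgroup.subgroupOf_sup hCH hDH, sup_comm, Subgroup.subgroupOf_self]
  have h1 := Subgroup.relIndex_sup_left (D.subgroupOf (D ⊔ C)) (C.subgroupOf (D ⊔ C))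
  rw [htop, Subgroup.relIndex_top_right] at h1
  rw [h1]
  have hD' : IsPGroup p (D.subgroupOf (D ⊔ C)) := hD.comap_subtype
  obtain ⟨n, hn⟩ := IsPGroup.iff_card.mp hD'
  have h2 : (C.subgroupOf (D ⊔ C)).relIndex (D.subgroupOf (D ⊔ C)) ∣ p ^ n := by
    rw [← hn]
    exact Subgroup.relIndex_dvd_card _ _
  obtain ⟨k, _, hk⟩ := (Nat.dvd_prime_pow hp.out).mp h2
  exact ⟨k, hk⟩

/-- an element of `N_G(D)` stabilizing `e` lies in the stabilizer `T` of `b` -/
theorem h7_ii_stab_mem_T {G : Type*} [Group G] [Fintype G] (p : ℕ) [hp : Fact p.Prime]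
    (M : Ideal Cfsg.AlgInt) (hM : Cfsg.IsPModular p M)
    (D H : Subgroup G) (hD : IsPGroup p D)
    (hH : H = D ⊔ Subgroup.centralizer (D : Set G))
    (hCH : Subgroup.centralizer (D : Set G) ≤ H)
    (b : Set (Cfsg.IrrCharacter H)) (hb : Cfsg.IsPBlock M b)
    (e : Set (Cfsg.IrrCharacter (Subgroup.centralizer (D : Set G)))) (he : Cfsg.IsPBlock M e)
    (hcov : bq_coversG H (Subgroup.centralizer (D : Set G)) hCH b e)
    (T : Subgroup G)
    (hT : ∀ g : G, g ∈ T ↔ (g ∈ Subgroup.normalizer (D : Set G) ∧ ∀ θ ∈ b,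
      ∀ θ' : Cfsg.IrrCharacter H, (∀ h h' : H, (h' : G) = g * h * g⁻¹ →
        (θ' : H → ℂ) h' = (θ : H → ℂ) h) → θ' ∈ b))
    (t : G) (htN : t ∈ Subgroup.normalizer (D : Set G))
    (hst : Cfsg.StabilizesBlock (Subgroup.centralizer (D : Set G)) e t) : t ∈ T := by
  have hNC : ∀ x : G, x ∈ Subgroup.normalizer (D : Set G) → x ∈ Subgroup.normalizer
      ((Subgroup.centralizer (D : Set G) : Subgroup G) : Set G) :=
    fun x hx => bm_normalizer_centralizer D x hx
  have hHN : H ≤ Subgroup.normalizer (D : Set G) := by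
    rw [hH]
    exact sup_le Subgroup.le_normalizer (Subgroup.centralizer_le_normalizer _)
  have hn : H ≤ Subgroup.normalizer
      ((Subgroup.centralizer (D : Set G) : Subgroup G) : Set G) := fun x hx => hNC x (hHN hx)
  have hidx := h7_ii_index_pow p D (Subgroup.centralizer (D : Set G)) H hD hH
    (fun x hx => hNC x (Subgroup.le_normalizer hx))
  have htH : t ∈ Subgroup.normalizer (H : Set G) := by
    rw [hH]
    exact ef_normalizer_le D htN
  have hstH := bq_stab_up p M hM H (Subgroup.centralizer (D : Set G)) hCH hn hidx t htH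
    (hNC t htN) b hb e he hcov hst
  rw [hT]
  refine ⟨htN, ?_⟩
  intro θ hθ θ' hθ'
  obtain ⟨χ', hχ', hconj⟩ := hstH.2 θ hθ
  have : θ' = χ' := by
    apply Subtype.ext
    funext h'
    have hmem : t⁻¹ * (h' : G) * t ∈ H := by
      have := (Subgroup.mem_normalizer_iff'.mp htH (t⁻¹ * (h' : G))).mpr (by
        have e1 : t * (t⁻¹ * (h' : G)) = (h' : G) := by group
        rw [e1]
        exact h'.2)
      exact this
    have e2 : (h' : G) = t * ((⟨t⁻¹ * (h' : G) * t, hmem⟩ : H) : G) * t⁻¹ := by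
      show (h' : G) = t * (t⁻¹ * (h' : G) * t) * t⁻¹
      group
    rw [hθ' ⟨t⁻¹ * (h' : G) * t, hmem⟩ h' e2, hconj ⟨t⁻¹ * (h' : G) * t, hmem⟩ h' e2]
  rw [this]
  exact hχ'

end Cfsg.Agent.Lib.helper7
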