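import Mathlib
import Cfsg.Agent.Lib.helper7.IIA
import Cfsg.Agent.Lib.helper7.HKS8
import Cfsg.Agent.Lib.helper7.BlockDefGrp

/-!
Major subsections: for `Q ≤ Z(D)` the subpair `(Q, f) ≤ (D, e)` has `f^G = B` and `f` of defect
`d`.
-/

set_option autoImplicit false
set_option linter.style.haveILetI false
set_option linter.unusedVariables false
set_option linter.unusedSectionVars false
set_option maxHeartbeats 1600000

namespace Cfsg.Agent.Lib.helper7
open scoped ComplexConjugate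
open Cfsg.Agent.Lib.helper2
open Cfsg.Agent.Lib.Helper25
open Cfsg.Agent.Lib.Helper24

theorem h7_ii_major {G : Type*} [Group G] [Fintype G] (p : ℕ) [hp : Fact p.Prime]
    (M : Ideal Cfsg.AlgInt) (hM : Cfsg.IsPModular p M) (B : Set (Cfsg.IrrCharacter G))
    (D : Subgroup G) (hBD : Cfsg.IsDefectGroup p M B D)
    (e : Set (Cfsg.IrrCharacter (Subgroup.centralizer (D : Set G))))
    (hmax : Cfsg.IsMaximalBrauerPair p M B D e)
    (Q : Subgroup G) (hQD : Q ≤ D) (hDC : D ≤ Subgroup.centralizer (Q : Set G)) :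
    ∃ f : Set (Cfsg.IrrCharacter (Subgroup.centralizer (Q : Set G))),
      Cfsg.IsNormalSubpair p M Q f D e ∧
      Cfsg.IsInducedBlock M (Subgroup.centralizer (Q : Set G)) f B ∧
      Cfsg.blockDefect p f = Cfsg.blockDefect p B := by
  classical
  haveI : Fintype (Cfsg.IrrCharacter G) := Fintype.ofFinite _
  haveI : Fintype (Subgroup.centralizer (Q : Set G)) := Fintype.ofFinite _
  haveI : Fintype (Cfsg.IrrCharacter (Subgroup.centralizer (Q : Set G))) := Fintype.ofFinite _
  have hMp := hM.2.1.isPrime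
  have hPe : Cfsg.IsBrauerPair p M D e := hmax.1.1
  have hB : Cfsg.IsPBlock M B := hmax.1.2.1
  have hPN : D ≤ Subgroup.normalizer (Q : Set G) :=
    hDC.trans (Subgroup.centralizer_le_normalizer _)
  obtain ⟨f, hf, -⟩ := bq_normal_subpair p M hM D Q e hPe hQD hPN
  have hle : Cfsg.SubpairLE p M Q f D e := Relation.ReflTransGen.single hf
  have hBQ : Cfsg.IsBrauerPairOf p M B Q f := (bq_pairOf_le p M hM D Q e f hle B).mp hmax.1
  have hI := tp_pair_induced p M hM Q B f hBQ
  refine ⟨f, hf, hI, ?_⟩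
  have hfb : Cfsg.IsPBlock M f := hf.1.2
  obtain ⟨D', h', -, hdefD', hSD'⟩ := bq_cent_le_defect p M hM D Q e f hPe hQD hle
  have hc1 := h7_hk_defect_card p M hM f hfb D' hdefD'
  have hc2 := h7_hk_defect_card p M hM B hB D hBD
  have hc3 : Nat.card ((D ⊓ Subgroup.centralizer (Q : Set G)).subgroupOf
      (Subgroup.centralizer (Q : Set G))) = Nat.card D := by
    rw [inf_eq_left.mpr hDC]
    exact Nat.card_congr (Subgroup.subgroupOfEquivOfLe hDC).toEquiv
  have hle1 : p ^ Cfsg.blockDefect p B ≤ p ^ Cfsg.blockDefect p f := by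
    rw [← hc1, ← hc2, ← hc3]
    exact Subgroup.card_le_of_le hSD'
  -- the other direction
  obtain ⟨ξ₀, hfeq⟩ := hfb
  obtain ⟨χ₀, hBeq⟩ := hB
  have hξ₀ : ξ₀ ∈ f := by
    rw [hfeq]
    exact h7_sameBlock_refl hMp _
  have hχ₀ : χ₀ ∈ B := by
    rw [hBeq]
    exact h7_sameBlock_refl hMp _
  have hcong := fun g => hI.2.2 ξ₀ hξ₀ χ₀ hχ₀ g
  rw [hfeq] at hdefD'
  obtain ⟨E, hE, hDE⟩ := h7_induced_defect_le hM (Subgroup.centralizer (Q : Set G)) ξ₀ χ₀ hcong
    D' hdefD'
  rw [← hBeq] at hE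
  have hc4 := h7_hk_defect_card p M hM B ⟨χ₀, hBeq⟩ E hE
  have hle2 : p ^ Cfsg.blockDefect p f ≤ p ^ Cfsg.blockDefect p B := by
    rw [← hc1, ← hc4, ← Subgroup.card_map_of_injective
      (Subgroup.subtype_injective (Subgroup.centralizer (Q : Set G)))]
    exact Subgroup.card_le_of_le hDE
  have h1 := (Nat.pow_le_pow_iff_right hp.out.one_lt).mp hle1
  have h2 := (Nat.pow_le_pow_iff_right hp.out.one_lt).mp hle2
  omega

end Cfsg.Agent.Lib.helper7
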