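import Mathlib
import Cfsg.Agent.Lib.helper7.IIB

/-!
Fusion of major subsections is controlled by the stabilizer of the maximal pair.
-/

set_option autoImplicit false
set_option linter.style.haveILetI false
set_option linter.unusedVariables false
set_option linter.unusedSectionVars false
set_option maxHeartbeats 1600000

namespace Cfsg.Agent.Lib.helper7
open scoped ComplexConjugate
open Cfsg.Agent.Lib.helper2
open Cfsg.Agent.Lib.Helper25
open Cfsg.Agent.Lib.Helper24

theorem h7_ii_fusion {G : Type*} [Group G] [Fintype G] (p : ℕ) [hp : Fact p.Prime]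
    (M : Ideal Cfsg.AlgInt) (hM : Cfsg.IsPModular p M) (B : Set (Cfsg.IrrCharacter G))
    (D : Subgroup G)
    (e : Set (Cfsg.IrrCharacter (Subgroup.centralizer (D : Set G))))
    (hmax : Cfsg.IsMaximalBrauerPair p M B D e)
    (Q Q' : Subgroup G) (hQ'D : Q' ≤ D)
    (hDC : D ≤ Subgroup.centralizer (Q : Set G)) (hDC' : D ≤ Subgroup.centralizer (Q' : Set G))
    (f : Set (Cfsg.IrrCharacter (Subgroup.centralizer (Q : Set G))))
    (f' : Set (Cfsg.IrrCharacter (Subgroup.centralizer (Q' : Set G))))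
    (hf : Cfsg.IsNormalSubpair p M Q f D e) (hf' : Cfsg.IsNormalSubpair p M Q' f' D e)
    (g : G) (hg : bq_conjIdx g ⟨Q, f⟩ = (⟨Q', f'⟩ : Cfsg.BrauerPairIdx G)) :
    ∃ c ∈ Subgroup.centralizer (Q' : Set G), c * g ∈ Subgroup.normalizer (D : Set G) ∧
      Cfsg.StabilizesBlock (Subgroup.centralizer (D : Set G)) e (c * g) := by
  have hPr := hM.2.1.isPrime
  have hPe : Cfsg.IsBrauerPair p M D e := hmax.1.1
  have hnx := bq_conj_normalSubpair p M Q D g f e hf
  have hnx' : Cfsg.NormalSubpairRel p M (bq_conjIdx g ⟨Q, f⟩) (bq_conjIdx g ⟨D, e⟩) := hnx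
  rw [hg] at hnx'
  have hn₂ : Cfsg.IsNormalSubpair p M Q' f' (D.map (MulAut.conj g).toMonoidHom)
      (Cfsg.conjBlock D g e) := hnx'
  have hQmap : Q.map (MulAut.conj g).toMonoidHom = Q' := congrArg Sigma.fst hg
  have hP₂C : D.map (MulAut.conj g).toMonoidHom ≤ Subgroup.centralizer (Q' : Set G) := by
    rintro _ ⟨u, hu, rfl⟩
    rw [Subgroup.mem_centralizer_iff]
    intro q' hq'
    rw [SetLike.mem_coe, ← hQmap] at hq'
    obtain ⟨q, hq, rfl⟩ := hq'
    have h1 := Subgroup.mem_centralizer_iff.mp (hDC hu) q hq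
    simp only [MulEquiv.coe_toMonoidHom, MulAut.conj_apply]
    calc g * q * g⁻¹ * (g * u * g⁻¹) = g * (q * u) * g⁻¹ := by group
      _ = g * (u * q) * g⁻¹ := by rw [h1]
      _ = g * u * g⁻¹ * (g * q * g⁻¹) := by group
  obtain ⟨c, hcC, hc⟩ := bq_over_conj p M hM B D e hmax Q' f' hQ'D hDC' hf' _ _ hn₂.2.2.1 hP₂C hn₂
    (le_of_eq (Subgroup.card_map_of_injective (MulAut.conj g).injective).symm)
  refine ⟨c, hcC, ?_⟩
  have hc' : bq_conjIdx (c * g) ⟨D, e⟩ = (⟨D, e⟩ : Cfsg.BrauerPairIdx G) := by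
    rw [← bq_conjIdx_mul]
    exact hc
  exact bq_stab_of_conjIdx hPr D e hPe.2 _ hc'

end Cfsg.Agent.Lib.helper7
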