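import Mathlib
import Cfsg.Agent.Lib.helper7.IIC
import Cfsg.Agent.Lib.helper7.IIE

/-!
Assembly: heights, inertial index and the centre of the defect group.
-/

set_option autoImplicit false
set_option linter.style.haveILetI false
set_option linter.unusedVariables false
set_option linter.unusedSectionVars false
set_option warn.classDefReducibility false
set_option maxHeartbeats 1600000

namespace Cfsg.Agent.Lib.helper7
open scoped ComplexConjugate
open Cfsg.Agent.Lib.helper2
open Cfsg.Agent.Lib.Helper25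
open Cfsg.Agent.Lib.Helper24

/-- the centralizer of a cyclic subgroup is the centralizer of its generator -/
theorem h7_ii_cent_zpowers {G : Type*} [Group G] (z : G) :
    Subgroup.centralizer ((Subgroup.zpowers z : Subgroup G) : Set G) =
      Subgroup.centralizer ({z} : Set G) := by
  ext g
  rw [Subgroup.mem_centralizer_iff, Subgroup.mem_centralizer_singleton_iff]
  constructor
  · intro h
    exact (h z (Subgroup.mem_zpowers z)).symm
  · intro h w hw
    obtain ⟨n, rfl⟩ := Subgroup.mem_zpowers_iff.mp hw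
    have hc : Commute g z := h
    exact (hc.zpow_right n).eq.symm

/-- from a transport relation to conjugacy of Brauer pairs -/
theorem h7_ii_conjIdx_of_tr {G : Type*} [Group G] (Q Q' : Subgroup G)
    (f : Set (Cfsg.IrrCharacter (Subgroup.centralizer (Q : Set G))))
    (f' : Set (Cfsg.IrrCharacter (Subgroup.centralizer (Q' : Set G)))) (x : G)
    (hQ : Q.map (MulAut.conj x⁻¹).toMonoidHom = Q')
    (h : ∀ σ : Subgroup.centralizer (Q : Set G) ≃* Subgroup.centralizer (Q' : Set G),
      (∀ s : Subgroup.centralizer (Q : Set G),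
        ((σ s : Subgroup.centralizer (Q' : Set G)) : G) = x⁻¹ * (s : G) * x) →
      bq_trSet σ f' = f) :
    bq_conjIdx x⁻¹ ⟨Q, f⟩ = (⟨Q', f'⟩ : Cfsg.BrauerPairIdx G) := by
  subst hQ
  have h1 := h (bq_centConj Q x⁻¹) (fun s => by rw [bq_centConj_apply, inv_inv])
  show (⟨Q.map (MulAut.conj x⁻¹).toMonoidHom, Cfsg.conjBlock Q x⁻¹ f⟩ : Cfsg.BrauerPairIdx G) = _
  rw [bq_conjBlock_eq_trSet, ← h1]
  congr 1
  have := bq_trSet_symm (bq_centConj Q x⁻¹).symm f'
  rw [MulEquiv.symm_symm] at this
  exact this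

/-- orbits of a group `T` acting by conjugation, with a subgroup `H` fixing the point, have at
most `|T : H|` elements -/
theorem h7_ii_orbit_count {G : Type*} [Group G] [Fintype G] (H T : Subgroup G) (hHT : H ≤ T)
    (z : G) (hz : ∀ h ∈ H, h * z = z * h) (S : Finset G)
    (hS : ∀ w ∈ S, ∃ t ∈ T, t * z * t⁻¹ = w) : S.card ≤ H.relIndex T := by
  classical
  haveI : Fintype (T ⧸ H.subgroupOf T) := Fintype.ofFinite _
  set φ : T ⧸ H.subgroupOf T → G := fun q => Quotient.liftOn' q
    (fun t : T => (t : G) * z * (t : G)⁻¹) (by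
      intro a b hab
      rw [QuotientGroup.leftRel_apply, Subgroup.mem_subgroupOf] at hab
      have h1 := hz _ hab
      have e : ((a⁻¹ * b : T) : G) = (a : G)⁻¹ * (b : G) := by simp
      rw [e] at h1
      show (a : G) * z * (a : G)⁻¹ = (b : G) * z * (b : G)⁻¹
      have h2 : (b : G) * z * (b : G)⁻¹ =
          (a : G) * ((a : G)⁻¹ * (b : G) * z) * ((a : G)⁻¹ * (b : G))⁻¹ * (a : G)⁻¹ := by group
      rw [h2, h1]
      group) with hφ
  have hsub : S ⊆ Finset.univ.image φ := by
    intro w hw
    obtain ⟨t, ht, rfl⟩ := hS w hw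
    rw [Finset.mem_image]
    exact ⟨QuotientGroup.mk (⟨t, ht⟩ : T), Finset.mem_univ _, rfl⟩
  calc S.card ≤ (Finset.univ.image φ).card := Finset.card_le_card hsub
    _ ≤ (Finset.univ : Finset (T ⧸ H.subgroupOf T)).card := Finset.card_image_le
    _ = H.relIndex T := by
      rw [Finset.card_univ, ← Nat.card_eq_fintype_card]
      rfl

/-- coprime powers generate the same cyclic subgroup -/
theorem h7_ii_zpowers_pow {G : Type*} [Group G] [Finite G] (z : G) (j : ℕ)
    (hj : (orderOf z).Coprime j) : Subgroup.zpowers (z ^ j) = Subgroup.zpowers z := by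
  apply le_antisymm
  · rw [Subgroup.zpowers_le]
    exact Subgroup.pow_mem _ (Subgroup.mem_zpowers z) j
  · rw [Subgroup.zpowers_le]
    obtain ⟨m, hm⟩ := exists_pow_eq_self_of_coprime hj.symm
    have := Subgroup.pow_mem _ (Subgroup.mem_zpowers (z ^ j)) m
    rwa [hm] at this

/-- the generators of a cyclic subgroup are the coprime powers of a generator -/
theorem h7_ii_generators {G : Type*} [Group G] [Fintype G] [DecidableEq G] (z₀ : G)
    (g : G → ℝ) [DecidablePred (fun z : G => Subgroup.zpowers z = Subgroup.zpowers z₀)] :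
    ∑ z ∈ Finset.univ.filter (fun z : G => Subgroup.zpowers z = Subgroup.zpowers z₀), g z =
      ∑ j ∈ (Finset.range (orderOf z₀)).filter (Nat.Coprime (orderOf z₀)), g (z₀ ^ j) := by
  symm
  apply Finset.sum_bij (fun j _ => z₀ ^ j)
  · intro j hj
    rw [Finset.mem_filter] at hj ⊢
    exact ⟨Finset.mem_univ _, h7_ii_zpowers_pow z₀ j hj.2⟩
  · intro j hj j' hj' h
    rw [Finset.mem_filter, Finset.mem_range] at hj hj'
    exact pow_injOn_Iio_orderOf hj.1 hj'.1 h
  · intro z hz
    rw [Finset.mem_filter] at hz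
    have hmem : z ∈ Subgroup.zpowers z₀ := by
      rw [← hz.2]
      exact Subgroup.mem_zpowers z
    rw [mem_zpowers_iff_mem_range_orderOf, Finset.mem_image] at hmem
    obtain ⟨j, hj, rfl⟩ := hmem
    refine ⟨j, ?_, rfl⟩
    rw [Finset.mem_filter]
    refine ⟨hj, ?_⟩
    have hord : orderOf (z₀ ^ j) = orderOf z₀ := by
      rw [← Nat.card_zpowers, ← Nat.card_zpowers, hz.2]
    rw [orderOf_pow] at hord
    have hpos : 0 < orderOf z₀ := orderOf_pos z₀
    have hgpos : 0 < Nat.gcd (orderOf z₀) j := Nat.gcd_pos_of_pos_left _ hpos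
    have hdvd : Nat.gcd (orderOf z₀) j ∣ orderOf z₀ := Nat.gcd_dvd_left _ _
    obtain ⟨q, hq⟩ := hdvd
    have h1 : orderOf z₀ / Nat.gcd (orderOf z₀) j = q :=
      Nat.div_eq_of_eq_mul_right hgpos hq
    rw [h1] at hord
    have h2 : Nat.gcd (orderOf z₀) j * q = 1 * q := by rw [← hq, hord, one_mul]
    have hq0 : 0 < q := by
      rw [hord]
      exact hpos
    exact Nat.eq_of_mul_eq_mul_right hq0 h2
  · intro j _
    rfl

end Cfsg.Agent.Lib.helper7
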