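import Mathlib
import Cfsg.Agent.Lib.helper7.IIF

set_option autoImplicit false
set_option linter.style.haveILetI false
set_option linter.unusedVariables false
set_option linter.unusedSectionVars false
set_option warn.classDefReducibility false
set_option maxHeartbeats 3200000

namespace Cfsg.Agent.Lib.helper7
open scoped ComplexConjugate
open Cfsg.Agent.Lib.helper2
open Cfsg.Agent.Lib.Helper25
open Cfsg.Agent.Lib.Helper24

theorem h7_ii_main {G : Type*} [Group G] [Fintype G] (p : ℕ) [hp : Fact p.Prime]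
    (M : Ideal Cfsg.AlgInt) (hM : Cfsg.IsPModular p M) (B : Set (Cfsg.IrrCharacter G))
    (hB : Cfsg.IsPBlock M B) (D : Subgroup G) (hBD : Cfsg.IsDefectGroup p M B D) (d : ℕ)
    (hDd : Nat.card D = p ^ d) (H : Subgroup G)
    (hH : H = D ⊔ Subgroup.centralizer (D : Set G)) (b : Set (Cfsg.IrrCharacter H))
    (hind : Cfsg.IsInducedBlock M H b B) (T : Subgroup G)
    (hT : ∀ g : G, g ∈ T ↔ (g ∈ Subgroup.normalizer (D : Set G) ∧ ∀ θ ∈ b,
      ∀ θ' : Cfsg.IrrCharacter H, (∀ h h' : H, (h' : G) = g * h * g⁻¹ →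
        (θ' : H → ℂ) h' = (θ : H → ℂ) h) → θ' ∈ b))
    (e : ℕ) (he : H.relIndex T = e) (n : ℕ) (hn : p ^ n ≤ e ∧ e < p ^ (n + 1)) (c : ℕ)
    (hc : Nat.card (Subgroup.center D) = p ^ c) :
    ∀ χ ∈ B, Cfsg.blockHeight p B (χ : G → ℂ) + c ≤ n + d := by
  classical
  intro χ hχ
  have hMp := hM.2.1.isPrime
  have hDp : IsPGroup p D := ef_isPGroup_of_defect hBD
  have hDH : D ≤ H := by rw [hH]; exact le_sup_left
  have hCH : Subgroup.centralizer (D : Set G) ≤ H := by rw [hH]; exact le_sup_right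
  have hHN : H ≤ Subgroup.normalizer (D : Set G) := by
    rw [hH]
    exact sup_le Subgroup.le_normalizer (Subgroup.centralizer_le_normalizer _)
  obtain ⟨eD, heD, hcov, hmax⟩ := h7_ii_exists_pair p M hM B D H hBD hDH hCH hHN b hind
  have hHT : H ≤ T := si_H_le_T D H T b hHN hT
  have hd : d = Cfsg.blockDefect p B := by
    have h1 := h7_hk_defect_card p M hM B hB D hBD
    rw [hDd] at h1
    exact Nat.pow_right_injective hp.out.two_le h1
  -- the central elements of `D`
  set Zc : Finset G := Finset.univ.filter (fun z : G => z ∈ D ∧ ∀ x ∈ D, x * z = z * x) with hZc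
  have hZc_mem : ∀ z : G, z ∈ Zc ↔ (z ∈ D ∧ ∀ x ∈ D, x * z = z * x) := by
    intro z
    rw [hZc, Finset.mem_filter]
    exact ⟨fun h => h.2, fun h => ⟨Finset.mem_univ _, h⟩⟩
  have hZc_card : Zc.card = p ^ c := by
    rw [← hc, ← Subgroup.card_map_of_injective (Subgroup.subtype_injective D),
      Nat.card_eq_fintype_card, Fintype.card_subtype]
    congr 1
    ext z
    rw [hZc_mem, Finset.mem_filter]
    constructor
    · rintro ⟨hzD, hz⟩
      refine ⟨Finset.mem_univ _, ⟨z, hzD⟩, ?_, rfl⟩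
      rw [SetLike.mem_coe, Subgroup.mem_center_iff]
      intro x
      apply Subtype.ext
      exact hz x x.2
    · rintro ⟨-, w, hw, rfl⟩
      refine ⟨w.2, fun x hx => ?_⟩
      have := Subgroup.mem_center_iff.mp hw ⟨x, hx⟩
      exact congrArg Subtype.val this
  have hQD : ∀ z ∈ Zc, Subgroup.zpowers z ≤ D ∧
      D ≤ Subgroup.centralizer ((Subgroup.zpowers z : Subgroup G) : Set G) := by
    intro z hz
    rw [hZc_mem] at hz
    refine ⟨Subgroup.zpowers_le.mpr hz.1, ?_⟩
    rw [h7_ii_cent_zpowers]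
    intro x hx
    rw [Subgroup.mem_centralizer_singleton_iff]
    exact hz.2 x hx
  -- the blocks
  have hex : ∀ Q : Subgroup G, ∃ f : Set (Cfsg.IrrCharacter (Subgroup.centralizer (Q : Set G))),
      (Q ≤ D ∧ D ≤ Subgroup.centralizer (Q : Set G)) →
      (Cfsg.IsNormalSubpair p M Q f D eD ∧
      Cfsg.IsInducedBlock M (Subgroup.centralizer (Q : Set G)) f B ∧
      Cfsg.blockDefect p f = Cfsg.blockDefect p B) := by
    intro Q
    by_cases h : Q ≤ D ∧ D ≤ Subgroup.centralizer (Q : Set G)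
    · obtain ⟨f, hf⟩ := h7_ii_major p M hM B D hBD eD hmax Q h.1 h.2
      exact ⟨f, fun _ => hf⟩
    · exact ⟨∅, fun h' => absurd h' h⟩
  choose FQ hFQ using hex
  set W : Subgroup G → G → ℂ := fun q u =>
    @h7_gk_W G _ p (Subgroup.centralizer (q : Set G)) (Fintype.ofFinite _) (FQ q) u χ χ with hW
  have hWex : ∀ (q : Subgroup G) (u : G), ∃ m : ℝ, 0 ≤ m ∧ (m : ℂ) = W q u := fun q u =>
    @h7_ii_W_nonneg G _ p (Subgroup.centralizer (q : Set G)) (Fintype.ofFinite _) (FQ q) u χ
  choose mm hmm0 hmm using hWex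
  -- upper bound
  have hord : ∀ z ∈ Zc, ∃ k : ℕ, orderOf z = p ^ k := by
    intro z hz
    rw [hZc_mem] at hz
    obtain ⟨k, hk⟩ := (IsPGroup.iff_orderOf.mp hDp) ⟨z, hz.1⟩
    exact ⟨k, by rw [← hk]; exact (Subgroup.orderOf_mk z hz.1).symm⟩
  have hHcent : ∀ z ∈ Zc, ∀ h ∈ H, h * z = z * h := by
    intro z hz
    rw [hZc_mem] at hz
    have : H ≤ Subgroup.centralizer ({z} : Set G) := by
      rw [hH]
      apply sup_le
      · intro x hx
        rw [Subgroup.mem_centralizer_singleton_iff]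
        exact hz.2 x hx
      · intro x hx
        rw [Subgroup.mem_centralizer_singleton_iff]
        exact (Subgroup.mem_centralizer_iff.mp hx z hz.1).symm
    intro h hh
    exact Subgroup.mem_centralizer_singleton_iff.mp (this hh)
  have hupper : ∑ z ∈ Zc, mm (Subgroup.zpowers z) z ≤ e := by
    have key := h7_ii_upper p M hM χ (ι := {z // z ∈ Zc}) (fun i => (i : G))
      (fun i => Subgroup.centralizer ((Subgroup.zpowers (i : G) : Subgroup G) : Set G))
      (hKfin := fun i => Fintype.ofFinite _)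
      (fun i => FQ (Subgroup.zpowers (i : G))) ?hzK ?hcent ?hcentc ?hz ?hf
      (fun i j => ∃ t ∈ T, t * (i : G) * t⁻¹ = (j : G)) e ?hR ?hcount
      (fun i => mm (Subgroup.zpowers (i : G)) (i : G)) (fun i => hmm0 _ _) (fun i => hmm _ _)
    · rw [← Finset.sum_coe_sort Zc (fun z => mm (Subgroup.zpowers z) z)]
      exact key
    case hzK =>
      intro i
      rw [h7_ii_cent_zpowers]
      exact Subgroup.mem_centralizer_singleton_iff.mpr rfl
    case hcent =>
      intro i h hh
      rw [h7_ii_cent_zpowers] at hh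
      exact Subgroup.mem_centralizer_singleton_iff.mp hh
    case hcentc =>
      intro i g hg
      rw [h7_ii_cent_zpowers]
      exact Subgroup.mem_centralizer_singleton_iff.mpr hg
    case hz =>
      intro i
      exact hord i i.2
    case hf =>
      intro i
      exact (hFQ _ (hQD i i.2)).1.1.2
    case hR =>
      intro i j x hx hσ
      have hQmap : (Subgroup.zpowers (i : G)).map (MulAut.conj x⁻¹).toMonoidHom =
          Subgroup.zpowers (j : G) := by
        rw [MonoidHom.map_zpowers]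
        congr 1
        simp only [MulEquiv.coe_toMonoidHom, MulAut.conj_apply, inv_inv]
        exact hx
      have hconj := h7_ii_conjIdx_of_tr (Subgroup.zpowers (i : G)) (Subgroup.zpowers (j : G))
        (FQ _) (FQ _) x hQmap hσ
      obtain ⟨c', hcC, hcN, hcst⟩ := h7_ii_fusion p M hM B D eD hmax (Subgroup.zpowers (i : G))
        (Subgroup.zpowers (j : G)) (hQD j j.2).1 (hQD i i.2).2 (hQD j j.2).2 _ _
        (hFQ _ (hQD i i.2)).1 (hFQ _ (hQD j j.2)).1 x⁻¹ hconj
      have htT : c' * x⁻¹ ∈ T :=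
        h7_ii_stab_mem_T p M hM D H hDp hH hCH b hind.1 eD heD hcov T hT _ hcN hcst
      refine ⟨c' * x⁻¹, htT, ?_⟩
      rw [h7_ii_cent_zpowers] at hcC
      have hcj := Subgroup.mem_centralizer_singleton_iff.mp hcC
      have e1 : c' * x⁻¹ * (i : G) * (c' * x⁻¹)⁻¹ = c' * (x⁻¹ * (i : G) * x) * c'⁻¹ := by group
      rw [e1, hx, hcj]
      group
    case hcount =>
      intro i S hS
      rw [← Finset.card_image_of_injective S Subtype.val_injective, ← he]
      apply h7_ii_orbit_count H T hHT (i : G) (hHcent i i.2)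
      intro w hw
      rw [Finset.mem_image] at hw
      obtain ⟨j, hj, rfl⟩ := hw
      exact hS j hj
  -- lower bound
  have hlower : (Zc.card : ℝ) * (p : ℝ) ^ Cfsg.blockHeight p B (χ : G → ℂ) ≤
      (p : ℝ) ^ Cfsg.blockDefect p B * ∑ z ∈ Zc, mm (Subgroup.zpowers z) z := by
    -- the fibres of `z ↦ ⟨z⟩`
    have hfibre : ∀ z₀ ∈ Zc, Zc.filter (fun z => Subgroup.zpowers z = Subgroup.zpowers z₀) =
        Finset.univ.filter (fun z : G => Subgroup.zpowers z = Subgroup.zpowers z₀) := by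
      intro z₀ hz₀
      ext z
      constructor
      · intro h
        exact Finset.mem_filter.mpr ⟨Finset.mem_univ _, (Finset.mem_filter.mp h).2⟩
      · intro h'
        have h := Finset.mem_filter.mp h'
        refine Finset.mem_filter.mpr ⟨?_, h.2⟩
        have hmem : z ∈ Subgroup.zpowers z₀ := by
          rw [← h.2]
          exact Subgroup.mem_zpowers z
        rw [hZc_mem] at hz₀ ⊢
        refine ⟨Subgroup.zpowers_le.mpr hz₀.1 hmem, ?_⟩
        intro x hx
        obtain ⟨n', rfl⟩ := Subgroup.mem_zpowers_iff.mp hmem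
        have hcm : Commute x z₀ := hz₀.2 x hx
        exact (hcm.zpow_right n').eq
    have hfib : ∀ z₀ ∈ Zc,
        ((Zc.filter (fun z => Subgroup.zpowers z = Subgroup.zpowers z₀)).card : ℝ) *
          (p : ℝ) ^ Cfsg.blockHeight p B (χ : G → ℂ) ≤
        (p : ℝ) ^ Cfsg.blockDefect p B *
          ∑ z ∈ Zc.filter (fun z => Subgroup.zpowers z = Subgroup.zpowers z₀),
            mm (Subgroup.zpowers z) z := by
      intro z₀ hz₀
      obtain ⟨k, hk⟩ := hord z₀ hz₀
      rw [hfibre z₀ hz₀]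
      have hcard : (Finset.univ.filter
          (fun z : G => Subgroup.zpowers z = Subgroup.zpowers z₀)).card =
          ((Finset.range (p ^ k)).filter (Nat.Coprime (p ^ k))).card := by
        have h1 := h7_ii_generators z₀ (fun _ => (1 : ℝ))
        rw [Finset.sum_const, Finset.sum_const, nsmul_eq_mul, nsmul_eq_mul, mul_one, mul_one,
          hk] at h1
        exact_mod_cast h1
      have hsum : ∑ z ∈ Finset.univ.filter
          (fun z : G => Subgroup.zpowers z = Subgroup.zpowers z₀), mm (Subgroup.zpowers z) z =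
          ∑ j ∈ (Finset.range (p ^ k)).filter (Nat.Coprime (p ^ k)),
            mm (Subgroup.zpowers z₀) (z₀ ^ j) := by
        rw [h7_ii_generators z₀ (fun z => mm (Subgroup.zpowers z) z), hk]
        refine Finset.sum_congr rfl fun j hj => ?_
        have hj' : (orderOf z₀).Coprime j := by
          rw [hk]
          exact (Finset.mem_filter.mp hj).2
        show mm (Subgroup.zpowers (z₀ ^ j)) (z₀ ^ j) = mm (Subgroup.zpowers z₀) (z₀ ^ j)
        rw [h7_ii_zpowers_pow z₀ j hj']
      rw [hcard, hsum]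
      have hFz := hFQ _ (hQD z₀ hz₀)
      exact @h7_ii_lower G _ _ p hp M hM B z₀ k hk
        (Subgroup.centralizer ((Subgroup.zpowers z₀ : Subgroup G) : Set G)) (Fintype.ofFinite _)
        (h7_ii_cent_zpowers z₀) (FQ (Subgroup.zpowers z₀)) hFz.2.1 hFz.2.2 χ hχ
        (fun j => mm (Subgroup.zpowers z₀) (z₀ ^ j)) (fun j => hmm _ _)
    have hmaps : ∀ z ∈ Zc, Subgroup.zpowers z ∈ Zc.image (fun z => Subgroup.zpowers z) :=
      fun z hz => Finset.mem_image_of_mem _ hz
    rw [Finset.card_eq_sum_card_fiberwise hmaps,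
      ← Finset.sum_fiberwise_of_maps_to hmaps (fun z => mm (Subgroup.zpowers z) z)]
    push_cast
    rw [Finset.sum_mul, Finset.mul_sum]
    apply Finset.sum_le_sum
    intro q hq
    rw [Finset.mem_image] at hq
    obtain ⟨z₀, hz₀, rfl⟩ := hq
    exact hfib z₀ hz₀
  -- arithmetic
  have hpR : (0 : ℝ) < p := by exact_mod_cast hp.out.pos
  have h1 : (p : ℝ) ^ (c + Cfsg.blockHeight p B (χ : G → ℂ)) ≤ (p : ℝ) ^ d * e := by
    rw [pow_add, hd]
    calc (p : ℝ) ^ c * (p : ℝ) ^ Cfsg.blockHeight p B (χ : G → ℂ)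
        = (Zc.card : ℝ) * (p : ℝ) ^ Cfsg.blockHeight p B (χ : G → ℂ) := by
          rw [hZc_card]; push_cast; rfl
      _ ≤ (p : ℝ) ^ Cfsg.blockDefect p B * ∑ z ∈ Zc, mm (Subgroup.zpowers z) z := hlower
      _ ≤ (p : ℝ) ^ Cfsg.blockDefect p B * e :=
          mul_le_mul_of_nonneg_left hupper (pow_nonneg hpR.le _)
  have h2 : (p : ℝ) ^ d * e < (p : ℝ) ^ d * (p : ℝ) ^ (n + 1) := by
    apply mul_lt_mul_of_pos_left _ (pow_pos hpR _)
    exact_mod_cast hn.2
  have h3 : (p : ℝ) ^ (c + Cfsg.blockHeight p B (χ : G → ℂ)) < (p : ℝ) ^ (d + (n + 1)) := by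
    rw [pow_add (p : ℝ) d]
    exact lt_of_le_of_lt h1 h2
  have h4 : p ^ (c + Cfsg.blockHeight p B (χ : G → ℂ)) < p ^ (d + (n + 1)) := by
    exact_mod_cast h3
  have h5 := (Nat.pow_lt_pow_iff_right hp.out.one_lt).mp h4
  omega

end Cfsg.Agent.Lib.helper7
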