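import Mathlib

/-!
Chains of `p`-subgroups: toggling a canonically attached subgroup in a chain (h7_kr_toggle_sum),
normalizer lemmas, extremal members of finite chains of subgroups.
-/

set_option autoImplicit false
set_option linter.style.haveILetI false
set_option linter.unusedSectionVars false
set_option linter.unusedVariables false

namespace Cfsg.Agent.Lib.helper7

section toggle

variable {α : Type*} [DecidableEq α]

/-- toggle the membership of `R` in `s` -/
def h7_kr_tog (R : α) (s : Finset α) : Finset α :=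
  if R ∈ s then s.erase R else insert R s

theorem h7_kr_tog_of_mem {R : α} {s : Finset α} (h : R ∈ s) : h7_kr_tog R s = s.erase R := by
  unfold h7_kr_tog
  rw [if_pos h]

theorem h7_kr_tog_of_not_mem {R : α} {s : Finset α} (h : R ∉ s) :
    h7_kr_tog R s = insert R s := by
  unfold h7_kr_tog
  rw [if_neg h]

theorem h7_kr_tog_tog (R : α) (s : Finset α) : h7_kr_tog R (h7_kr_tog R s) = s := by
  by_cases h : R ∈ s
  · rw [h7_kr_tog_of_mem h, h7_kr_tog_of_not_mem (Finset.notMem_erase R s), Finset.insert_erase h]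
  · rw [h7_kr_tog_of_not_mem h, h7_kr_tog_of_mem (Finset.mem_insert_self R s),
      Finset.erase_insert h]

theorem h7_kr_tog_ne (R : α) (s : Finset α) : h7_kr_tog R s ≠ s := by
  by_cases h : R ∈ s
  · rw [h7_kr_tog_of_mem h]
    intro e
    have := Finset.notMem_erase R s
    rw [e] at this
    exact this h
  · rw [h7_kr_tog_of_not_mem h]
    intro e
    apply h
    rw [← e]
    exact Finset.mem_insert_self R s

theorem h7_kr_tog_sign (R : α) (s : Finset α) :
    (-1 : ℤ) ^ (h7_kr_tog R s).card = -(-1 : ℤ) ^ s.card := by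
  by_cases h : R ∈ s
  · rw [h7_kr_tog_of_mem h]
    have h1 : s.card = (s.erase R).card + 1 := by
      rw [Finset.card_erase_of_mem h]
      have := Finset.card_pos.mpr ⟨R, h⟩
      omega
    rw [h1, pow_succ]
    ring
  · rw [h7_kr_tog_of_not_mem h, Finset.card_insert_of_notMem h, pow_succ]
    ring

/-- a sign-reversing involution given by toggling a canonically attached element -/
theorem h7_kr_toggle_sum (F : Finset (Finset α)) (R : Finset α → α) (f : Finset α → ℤ)
    (h1 : ∀ s ∈ F, h7_kr_tog (R s) s ∈ F)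
    (h2 : ∀ s ∈ F, R (h7_kr_tog (R s) s) = R s)
    (h3 : ∀ s ∈ F, f (h7_kr_tog (R s) s) = f s) :
    ∑ s ∈ F, (-1 : ℤ) ^ s.card * f s = 0 := by
  apply Finset.sum_involution (fun s _ => h7_kr_tog (R s) s)
  · intro s hs
    rw [h7_kr_tog_sign, h3 s hs]
    ring
  · intro s hs _
    exact h7_kr_tog_ne (R s) s
  · intro s hs
    exact h1 s hs
  · intro s hs
    show h7_kr_tog (R (h7_kr_tog (R s) s)) (h7_kr_tog (R s) s) = s
    rw [h2 s hs, h7_kr_tog_tog]

end toggle

section normalizer

variable {G : Type*} [Group G]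

theorem h7_kr_map_conj_of_mem_normalizer (H : Subgroup G) (g : G)
    (hg : g ∈ Subgroup.normalizer (H : Set G)) :
    H.map (MulAut.conj g).toMonoidHom = H := by
  ext y
  rw [Subgroup.mem_map]
  constructor
  · rintro ⟨h, hh, rfl⟩
    exact (Subgroup.mem_normalizer_iff.mp hg h).mp hh
  · intro hy
    refine ⟨g⁻¹ * y * g, ?_, ?_⟩
    · rw [Subgroup.mem_normalizer_iff.mp hg (g⁻¹ * y * g)]
      have : g * (g⁻¹ * y * g) * g⁻¹ = y := by group
      rw [this]
      exact hy
    · show g * (g⁻¹ * y * g) * g⁻¹ = y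
      group

theorem h7_kr_mem_normalizer_of_map_conj (H : Subgroup G) (g : G)
    (hg : H.map (MulAut.conj g).toMonoidHom = H) :
    g ∈ Subgroup.normalizer (H : Set G) := by
  rw [Subgroup.mem_normalizer_iff]
  intro h
  constructor
  · intro hh
    rw [← hg]
    exact ⟨h, hh, rfl⟩
  · intro hh
    rw [← hg] at hh
    obtain ⟨h', hh', e⟩ := hh
    have e' : g * h' * g⁻¹ = g * h * g⁻¹ := e
    have : h' = h := by
      have := congrArg (fun z => g⁻¹ * z * g) e'
      simpa [mul_assoc] using this
    rw [← this]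
    exact hh'

theorem h7_kr_normalizer_sup (A B : Subgroup G) (g : G)
    (hA : g ∈ Subgroup.normalizer (A : Set G)) (hB : g ∈ Subgroup.normalizer (B : Set G)) :
    g ∈ Subgroup.normalizer ((A ⊔ B : Subgroup G) : Set G) := by
  apply h7_kr_mem_normalizer_of_map_conj
  rw [Subgroup.map_sup, h7_kr_map_conj_of_mem_normalizer A g hA,
    h7_kr_map_conj_of_mem_normalizer B g hB]

theorem h7_kr_normalizer_inf (A B : Subgroup G) (g : G)
    (hA : g ∈ Subgroup.normalizer (A : Set G)) (hB : g ∈ Subgroup.normalizer (B : Set G)) :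
    g ∈ Subgroup.normalizer ((A ⊓ B : Subgroup G) : Set G) := by
  rw [Subgroup.mem_normalizer_iff]
  intro h
  rw [Subgroup.mem_inf, Subgroup.mem_inf, ← Subgroup.mem_normalizer_iff.mp hA h,
    ← Subgroup.mem_normalizer_iff.mp hB h]

theorem h7_kr_normalizer_bot (g : G) :
    g ∈ Subgroup.normalizer ((⊥ : Subgroup G) : Set G) := by
  rw [Subgroup.mem_normalizer_iff]
  intro h
  rw [Subgroup.mem_bot, Subgroup.mem_bot]
  constructor
  · intro e
    rw [e]
    group
  · intro e
    have := congrArg (fun z => g⁻¹ * z * g) e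
    simpa [mul_assoc] using this

theorem h7_kr_normalizer_top (g : G) :
    g ∈ Subgroup.normalizer ((⊤ : Subgroup G) : Set G) := by
  rw [Subgroup.mem_normalizer_iff]
  intro h
  simp

theorem h7_kr_normalizer_normalizer (A : Subgroup G) (g : G)
    (hA : g ∈ Subgroup.normalizer (A : Set G)) :
    g ∈ Subgroup.normalizer ((Subgroup.normalizer (A : Set G) : Subgroup G) : Set G) :=
  Subgroup.le_normalizer hA

open Classical in
theorem h7_kr_normalizer_finset_sup {ι : Type*} (t : Finset ι) (f : ι → Subgroup G) (g : G)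
    (h : ∀ i ∈ t, g ∈ Subgroup.normalizer ((f i : Subgroup G) : Set G)) :
    g ∈ Subgroup.normalizer ((t.sup f : Subgroup G) : Set G) := by
  induction t using Finset.induction_on with
  | empty =>
    rw [Finset.sup_empty]
    exact h7_kr_normalizer_bot g
  | insert a t ha ih =>
    rw [Finset.sup_insert]
    exact h7_kr_normalizer_sup _ _ g (h a (Finset.mem_insert_self a t))
      (ih fun i hi => h i (Finset.mem_insert_of_mem hi))

open Classical in
theorem h7_kr_normalizer_finset_inf {ι : Type*} (t : Finset ι) (f : ι → Subgroup G) (g : G)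
    (h : ∀ i ∈ t, g ∈ Subgroup.normalizer ((f i : Subgroup G) : Set G)) :
    g ∈ Subgroup.normalizer ((t.inf f : Subgroup G) : Set G) := by
  induction t using Finset.induction_on with
  | empty =>
    rw [Finset.inf_empty]
    exact h7_kr_normalizer_top g
  | insert a t ha ih =>
    rw [Finset.inf_insert]
    exact h7_kr_normalizer_inf _ _ g (h a (Finset.mem_insert_self a t))
      (ih fun i hi => h i (Finset.mem_insert_of_mem hi))

theorem h7_kr_normalizer_zpowers (x g : G) (h : g * x = x * g) :
    g ∈ Subgroup.normalizer ((Subgroup.zpowers x : Subgroup G) : Set G) := by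
  have hc : g ∈ Subgroup.centralizer ((Subgroup.zpowers x : Subgroup G) : Set G) := by
    rw [Subgroup.mem_centralizer_iff]
    intro q hq
    obtain ⟨k, rfl⟩ := Subgroup.mem_zpowers_iff.mp hq
    exact ((Commute.zpow_right (show Commute g x from h) k).eq).symm
  exact Subgroup.centralizer_le_normalizer _ hc

/-- in a finite `p`-group normalizers grow -/
theorem h7_kr_normalizer_grow [Finite G] (p : ℕ) [hp : Fact p.Prime] (J R : Subgroup G)
    (hJ : IsPGroup p J) (hRJ : R < J) :
    ∃ g ∈ J, g ∈ Subgroup.normalizer (R : Set G) ∧ g ∉ R := by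
  haveI : Group.IsNilpotent J := hJ.isNilpotent
  have hnc := Group.normalizerCondition_of_isNilpotent (G := J)
  have hlt : R.subgroupOf J < ⊤ := by
    rw [lt_top_iff_ne_top]
    intro h
    rw [Subgroup.subgroupOf_eq_top] at h
    exact (not_le_of_gt hRJ) h
  have h1 := hnc (R.subgroupOf J) hlt
  obtain ⟨⟨g, hgJ⟩, hgN, hgR⟩ := SetLike.exists_of_lt h1
  refine ⟨g, hgJ, ?_, ?_⟩
  · rw [Subgroup.mem_normalizer_iff]
    intro h
    rw [Subgroup.mem_normalizer_iff] at hgN
    constructor
    · intro hh
      have hhJ : h ∈ J := hRJ.le hh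
      have := (hgN ⟨h, hhJ⟩).mp (Subgroup.mem_subgroupOf.mpr hh)
      exact Subgroup.mem_subgroupOf.mp this
    · intro hh
      have hhJ : h ∈ J := by
        have h2 : g * h * g⁻¹ ∈ J := hRJ.le hh
        have h3 : h = g⁻¹ * (g * h * g⁻¹) * g := by group
        rw [h3]
        exact J.mul_mem (J.mul_mem (J.inv_mem hgJ) h2) hgJ
      have := (hgN ⟨h, hhJ⟩).mpr (Subgroup.mem_subgroupOf.mpr hh)
      exact Subgroup.mem_subgroupOf.mp this
  · intro hg
    exact hgR (Subgroup.mem_subgroupOf.mpr hg)

end normalizer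

section chains

variable {G : Type*} [Group G]

open Classical in
/-- the supremum of a nonempty finite chain is a member -/
theorem h7_kr_sup_mem (s : Finset (Subgroup G))
    (hch : ∀ Q ∈ s, ∀ R ∈ s, Q ≤ R ∨ R ≤ Q) (hne : s.Nonempty) : s.sup id ∈ s := by
  induction s using Finset.induction_on with
  | empty => exact absurd hne (by simp)
  | insert a t ha ih =>
    rw [Finset.sup_insert]
    by_cases ht : t.Nonempty
    · have hm := ih (fun Q hQ R hR => hch Q (Finset.mem_insert_of_mem hQ) R
        (Finset.mem_insert_of_mem hR)) ht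
      rcases hch a (Finset.mem_insert_self a t) _ (Finset.mem_insert_of_mem hm) with h | h
      · have : id a ⊔ t.sup id = t.sup id := sup_eq_right.mpr h
        rw [this]
        exact Finset.mem_insert_of_mem hm
      · have : id a ⊔ t.sup id = a := sup_eq_left.mpr h
        rw [this]
        exact Finset.mem_insert_self a t
    · rw [Finset.not_nonempty_iff_eq_empty] at ht
      subst ht
      rw [Finset.sup_empty, sup_bot_eq]
      exact Finset.mem_insert_self a ∅

open Classical in
/-- the infimum of a nonempty finite chain is a member -/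
theorem h7_kr_inf_mem (s : Finset (Subgroup G))
    (hch : ∀ Q ∈ s, ∀ R ∈ s, Q ≤ R ∨ R ≤ Q) (hne : s.Nonempty) : s.inf id ∈ s := by
  induction s using Finset.induction_on with
  | empty => exact absurd hne (by simp)
  | insert a t ha ih =>
    rw [Finset.inf_insert]
    by_cases ht : t.Nonempty
    · have hm := ih (fun Q hQ R hR => hch Q (Finset.mem_insert_of_mem hQ) R
        (Finset.mem_insert_of_mem hR)) ht
      rcases hch a (Finset.mem_insert_self a t) _ (Finset.mem_insert_of_mem hm) with h | h
      · have : id a ⊓ t.inf id = a := inf_eq_left.mpr h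
        rw [this]
        exact Finset.mem_insert_self a t
      · have : id a ⊓ t.inf id = t.inf id := inf_eq_right.mpr h
        rw [this]
        exact Finset.mem_insert_of_mem hm
    · rw [Finset.not_nonempty_iff_eq_empty] at ht
      subst ht
      rw [Finset.inf_empty, inf_top_eq]
      exact Finset.mem_insert_self a ∅

/-- the stabilizer of a set of subgroups -/
def h7_kr_stab (s : Finset (Subgroup G)) : Subgroup G :=
  ⨅ Q ∈ s, Subgroup.normalizer ((Q : Subgroup G) : Set G)

theorem h7_kr_mem_stab (s : Finset (Subgroup G)) (g : G) :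
    g ∈ h7_kr_stab s ↔ ∀ Q ∈ s, g ∈ Subgroup.normalizer ((Q : Subgroup G) : Set G) := by
  unfold h7_kr_stab
  simp only [Subgroup.mem_iInf]

theorem h7_kr_stab_empty : h7_kr_stab (∅ : Finset (Subgroup G)) = ⊤ := by
  ext g
  rw [h7_kr_mem_stab]
  simp

open Classical in
theorem h7_kr_stab_insert (R : Subgroup G) (s : Finset (Subgroup G)) :
    h7_kr_stab (insert R s) = Subgroup.normalizer (R : Set G) ⊓ h7_kr_stab s := by
  ext g
  rw [Subgroup.mem_inf, h7_kr_mem_stab, h7_kr_mem_stab]
  constructor
  · intro h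
    exact ⟨h R (Finset.mem_insert_self R s), fun Q hQ => h Q (Finset.mem_insert_of_mem hQ)⟩
  · rintro ⟨h1, h2⟩ Q hQ
    rcases Finset.mem_insert.mp hQ with rfl | hQ
    · exact h1
    · exact h2 Q hQ

theorem h7_kr_stab_mono {s t : Finset (Subgroup G)} (h : s ⊆ t) :
    h7_kr_stab t ≤ h7_kr_stab s := by
  intro g hg
  rw [h7_kr_mem_stab] at hg ⊢
  exact fun Q hQ => hg Q (h hQ)

end chains

end Cfsg.Agent.Lib.helper7
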