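import Mathlib
import Cfsg.Agent.Lib.helper7.KRA

/-!
The Quillen toggle `Q_i X` on `x`-stable chains of `p`-subgroups (h7_kr_quillen).
-/

set_option autoImplicit false
set_option linter.style.haveILetI false
set_option linter.unusedSectionVars false
set_option linter.unusedVariables false
set_option maxHeartbeats 800000

namespace Cfsg.Agent.Lib.helper7

variable {G : Type*} [Group G]

/-- a chain of nontrivial `p`-subgroups -/
def h7_kr_isChain (p : ℕ) (s : Finset (Subgroup G)) : Prop :=
  (∀ Q ∈ s, ∀ R ∈ s, Q ≤ R ∨ R ≤ Q) ∧ (∀ Q ∈ s, Q ≠ ⊥ ∧ IsPGroup p Q)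

theorem h7_kr_isChain_subset {p : ℕ} {s t : Finset (Subgroup G)} (h : s ⊆ t)
    (ht : h7_kr_isChain p t) : h7_kr_isChain p s :=
  ⟨fun Q hQ R hR => ht.1 Q (h hQ) R (h hR), fun Q hQ => ht.2 Q (h hQ)⟩

open Classical in
theorem h7_kr_isChain_insert {p : ℕ} {s : Finset (Subgroup G)} (R : Subgroup G)
    (hs : h7_kr_isChain p s) (hR1 : R ≠ ⊥) (hRp : IsPGroup p R)
    (hcmp : ∀ Q ∈ s, Q ≤ R ∨ R ≤ Q) : h7_kr_isChain p (insert R s) := by
  constructor
  · intro Q hQ Q' hQ'
    rcases Finset.mem_insert.mp hQ with h1 | h1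
    · rcases Finset.mem_insert.mp hQ' with h2 | h2
      · rw [h1, h2]
        exact Or.inl le_rfl
      · rw [h1]
        exact (hcmp Q' h2).symm
    · rcases Finset.mem_insert.mp hQ' with h2 | h2
      · rw [h2]
        exact hcmp Q h1
      · exact hs.1 Q h1 Q' h2
  · intro Q hQ
    rcases Finset.mem_insert.mp hQ with h1 | h1
    · rw [h1]
      exact ⟨hR1, hRp⟩
    · exact hs.2 Q h1

open Classical in
/-- the subgroup toggled by the Quillen pairing -/
noncomputable def h7_kr_R1 (x : G) (s : Finset (Subgroup G)) : Subgroup G :=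
  (s.filter (fun Q => ¬ Subgroup.zpowers x ≤ Q)).sup id ⊔ Subgroup.zpowers x

open Classical in
theorem h7_kr_R1_normalized (x : G) (s : Finset (Subgroup G)) (g : G)
    (hg : ∀ Q ∈ s, ¬ Subgroup.zpowers x ≤ Q → g ∈ Subgroup.normalizer ((Q : Subgroup G) : Set G))
    (hgx : g * x = x * g) :
    g ∈ Subgroup.normalizer ((h7_kr_R1 x s : Subgroup G) : Set G) := by
  unfold h7_kr_R1
  apply h7_kr_normalizer_sup
  · apply h7_kr_normalizer_finset_sup
    intro Q hQ
    rw [Finset.mem_filter] at hQ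
    exact hg Q hQ.1 hQ.2
  · exact h7_kr_normalizer_zpowers x g hgx

open Classical in
theorem h7_kr_quillen [Finite G] (p : ℕ) [hp : Fact p.Prime] (x : G)
    (hx : ∃ k : ℕ, orderOf x = p ^ k) (hx1 : x ≠ 1) (s : Finset (Subgroup G))
    (hs : h7_kr_isChain p s) (hxs : x ∈ h7_kr_stab s) :
    h7_kr_isChain p (h7_kr_tog (h7_kr_R1 x s) s) ∧
    x ∈ h7_kr_stab (h7_kr_tog (h7_kr_R1 x s) s) ∧
    h7_kr_R1 x (h7_kr_tog (h7_kr_R1 x s) s) = h7_kr_R1 x s ∧
    h7_kr_stab (h7_kr_tog (h7_kr_R1 x s) s) ⊓ Subgroup.centralizer ({x} : Set G) =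
      h7_kr_stab s ⊓ Subgroup.centralizer ({x} : Set G) := by
  set X : Subgroup G := Subgroup.zpowers x with hX
  have hXne : X ≠ ⊥ := by
    intro h
    apply hx1
    have : x ∈ X := Subgroup.mem_zpowers x
    rw [h, Subgroup.mem_bot] at this
    exact this
  have hXp : IsPGroup p X := by
    obtain ⟨k, hk⟩ := hx
    apply IsPGroup.of_card (n := k)
    rw [hX, Nat.card_zpowers, hk]
  set A : Finset (Subgroup G) := s.filter (fun Q => ¬ X ≤ Q) with hA
  set m : Subgroup G := A.sup id with hm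
  have hR : h7_kr_R1 x s = m ⊔ X := rfl
  have hxs' := (h7_kr_mem_stab s x).mp hxs
  have hAs : A ⊆ s := Finset.filter_subset _ _
  -- properties of m
  have hma : m = ⊥ ∨ (m ∈ s ∧ ¬ X ≤ m) := by
    by_cases hne : A.Nonempty
    · right
      have := h7_kr_sup_mem A (fun Q hQ R hR => hs.1 Q (hAs hQ) R (hAs hR)) hne
      rw [← hm, hA, Finset.mem_filter] at this
      exact this
    · left
      rw [Finset.not_nonempty_iff_eq_empty] at hne
      rw [hm, hne, Finset.sup_empty]
  have hmX : ¬ X ≤ m := by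
    rcases hma with h | h
    · rw [h]
      intro h'
      exact hXne (le_bot_iff.mp h')
    · exact h.2
  have hmb : ∀ Q ∈ s, ¬ X ≤ Q → Q ≤ m := by
    intro Q hQ hXQ
    have : Q ∈ A := Finset.mem_filter.mpr ⟨hQ, hXQ⟩
    exact Finset.le_sup (f := id) this
  have hmc : ∀ Q ∈ s, X ≤ Q → m ≤ Q := by
    intro Q hQ hXQ
    rcases hma with h | h
    · rw [h]
      exact bot_le
    · rcases hs.1 Q hQ m h.1 with h' | h'
      · exact absurd (hXQ.trans h') h.2
      · exact h'
  have hmp : IsPGroup p m := by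
    rcases hma with h | h
    · rw [h]
      exact IsPGroup.of_bot
    · exact (hs.2 m h.1).2
  have hxm : x ∈ Subgroup.normalizer ((m : Subgroup G) : Set G) := by
    rcases hma with h | h
    · rw [h]
      exact h7_kr_normalizer_bot x
    · exact hxs' m h.1
  -- properties of R
  set R : Subgroup G := m ⊔ X with hRdef
  have hXR : X ≤ R := le_sup_right
  have hRne : R ≠ ⊥ := by
    intro h
    rw [h] at hXR
    exact hXne (le_bot_iff.mp hXR)
  have hRp : IsPGroup p R := by
    apply IsPGroup.to_sup_of_normal_left' hmp hXp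
    rw [hX, Subgroup.zpowers_le]
    exact hxm
  have hRcmp : ∀ Q ∈ s, Q ≤ R ∨ R ≤ Q := by
    intro Q hQ
    by_cases hXQ : X ≤ Q
    · right
      exact sup_le (hmc Q hQ hXQ) hXQ
    · left
      exact (hmb Q hQ hXQ).trans le_sup_left
  have hxR : x ∈ Subgroup.normalizer ((R : Subgroup G) : Set G) :=
    h7_kr_normalizer_sup _ _ x hxm (h7_kr_normalizer_zpowers x x rfl)
  have hmR : m ≠ R := by
    intro h
    apply hmX
    rw [h]
    exact hXR
  rw [hR]
  by_cases hRs : R ∈ s
  · -- erase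
    rw [h7_kr_tog_of_mem hRs]
    have hsub : s.erase R ⊆ s := Finset.erase_subset _ _
    have hfilt : (s.erase R).filter (fun Q => ¬ X ≤ Q) = A := by
      rw [Finset.filter_erase]
      apply Finset.erase_eq_of_notMem
      intro h
      exact (Finset.mem_filter.mp h).2 hXR
    refine ⟨h7_kr_isChain_subset hsub hs, h7_kr_stab_mono hsub hxs, ?_, ?_⟩
    · show (Finset.filter (fun Q => ¬ X ≤ Q) (s.erase R)).sup id ⊔ X = R
      rw [hfilt]
    · apply le_antisymm
      · intro g hg
        rw [Subgroup.mem_inf] at hg ⊢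
        refine ⟨?_, hg.2⟩
        have hgs := (h7_kr_mem_stab _ g).mp hg.1
        have hgx : g * x = x * g := Subgroup.mem_centralizer_singleton_iff.mp hg.2
        have hgR : g ∈ Subgroup.normalizer ((R : Subgroup G) : Set G) := by
          have := h7_kr_R1_normalized x s g (fun Q hQ hXQ => by
            apply hgs Q
            rw [Finset.mem_erase]
            refine ⟨?_, hQ⟩
            intro h
            rw [h] at hXQ
            exact hXQ hXR) hgx
          exact this
        rw [h7_kr_mem_stab]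
        intro Q hQ
        by_cases hQR : Q = R
        · rw [hQR]
          exact hgR
        · exact hgs Q (Finset.mem_erase.mpr ⟨hQR, hQ⟩)
      · exact inf_le_inf_right _ (h7_kr_stab_mono hsub)
  · -- insert
    rw [h7_kr_tog_of_not_mem hRs]
    have hfilt : (insert R s).filter (fun Q => ¬ X ≤ Q) = A := by
      rw [Finset.filter_insert, if_neg (not_not.mpr hXR)]
    refine ⟨h7_kr_isChain_insert R hs hRne hRp hRcmp, ?_, ?_, ?_⟩
    · rw [h7_kr_stab_insert, Subgroup.mem_inf]
      exact ⟨hxR, hxs⟩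
    · show (Finset.filter (fun Q => ¬ X ≤ Q) (insert R s)).sup id ⊔ X = R
      rw [hfilt]
    · rw [h7_kr_stab_insert]
      apply le_antisymm
      · intro g hg
        rw [Subgroup.mem_inf, Subgroup.mem_inf] at hg
        exact Subgroup.mem_inf.mpr ⟨hg.1.2, hg.2⟩
      · intro g hg
        rw [Subgroup.mem_inf] at hg
        have hgs := (h7_kr_mem_stab _ g).mp hg.1
        have hgx : g * x = x * g := Subgroup.mem_centralizer_singleton_iff.mp hg.2
        have hgR : g ∈ Subgroup.normalizer ((R : Subgroup G) : Set G) :=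
          h7_kr_R1_normalized x s g (fun Q hQ _ => hgs Q hQ) hgx
        exact Subgroup.mem_inf.mpr ⟨Subgroup.mem_inf.mpr ⟨hgR, hg.1⟩, hg.2⟩

end Cfsg.Agent.Lib.helper7
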