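import Mathlib
import Cfsg.Agent.Lib.helper7.KRB

/-!
The Knörr–Robinson toggle `N_{Q_j}(Q_0, …, Q_{j-1})` on non-normal chains of `p`-subgroups
(h7_kr_kr).
-/

set_option autoImplicit false
set_option linter.style.haveILetI false
set_option linter.unusedSectionVars false
set_option linter.unusedVariables false
set_option maxHeartbeats 800000

namespace Cfsg.Agent.Lib.helper7

variable {G : Type*} [Group G]

open Classical in
/-- the members of `s` not normalizing some smaller member -/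
noncomputable def h7_kr_bad (s : Finset (Subgroup G)) : Finset (Subgroup G) :=
  s.filter (fun Q' => ∃ Q ∈ s, Q < Q' ∧ ¬ Q' ≤ Subgroup.normalizer ((Q : Subgroup G) : Set G))

theorem h7_kr_mem_bad (s : Finset (Subgroup G)) (Q' : Subgroup G) :
    Q' ∈ h7_kr_bad s ↔ Q' ∈ s ∧
      ∃ Q ∈ s, Q < Q' ∧ ¬ Q' ≤ Subgroup.normalizer ((Q : Subgroup G) : Set G) := by
  classical
  unfold h7_kr_bad
  rw [Finset.mem_filter]

/-- the least bad member -/
noncomputable def h7_kr_J (s : Finset (Subgroup G)) : Subgroup G := (h7_kr_bad s).inf id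

open Classical in
/-- the subgroup toggled by the Knörr–Robinson pairing -/
noncomputable def h7_kr_R2 (s : Finset (Subgroup G)) : Subgroup G :=
  h7_kr_J s ⊓ (s.filter (fun Q => Q < h7_kr_J s)).inf
    (fun Q => Subgroup.normalizer ((Q : Subgroup G) : Set G))

theorem h7_kr_bad_subset (s : Finset (Subgroup G)) : h7_kr_bad s ⊆ s := by
  classical
  exact Finset.filter_subset _ _

theorem h7_kr_J_unique (s : Finset (Subgroup G)) (hch : ∀ Q ∈ s, ∀ R ∈ s, Q ≤ R ∨ R ≤ Q)
    (J₀ : Subgroup G) (hJ₀ : J₀ ∈ h7_kr_bad s)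
    (hmin : ∀ Q' ∈ s, Q' < J₀ → Q' ∉ h7_kr_bad s) : h7_kr_J s = J₀ := by
  have h1 : h7_kr_J s ≤ J₀ := Finset.inf_le (f := id) hJ₀
  have h2 : h7_kr_J s ∈ h7_kr_bad s :=
    h7_kr_inf_mem (h7_kr_bad s) (fun Q hQ R hR => hch Q (h7_kr_bad_subset s hQ) R
      (h7_kr_bad_subset s hR)) ⟨J₀, hJ₀⟩
  by_contra hne
  exact hmin _ (h7_kr_bad_subset s h2) (lt_of_le_of_ne h1 hne) h2

open Classical in
theorem h7_kr_R2_normalized (s : Finset (Subgroup G)) (g : G) (hg : g ∈ h7_kr_stab s) :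
    g ∈ Subgroup.normalizer ((h7_kr_R2 s : Subgroup G) : Set G) := by
  have hg' := (h7_kr_mem_stab s g).mp hg
  unfold h7_kr_R2
  apply h7_kr_normalizer_inf
  · unfold h7_kr_J
    apply h7_kr_normalizer_finset_inf
    intro Q hQ
    exact hg' Q (h7_kr_bad_subset s hQ)
  · apply h7_kr_normalizer_finset_inf
    intro Q hQ
    exact h7_kr_normalizer_normalizer Q g (hg' Q (Finset.mem_filter.mp hQ).1)

open Classical in
theorem h7_kr_kr [Finite G] (p : ℕ) [hp : Fact p.Prime] (s : Finset (Subgroup G))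
    (hs : h7_kr_isChain p s) (hbad : (h7_kr_bad s).Nonempty) :
    h7_kr_isChain p (h7_kr_tog (h7_kr_R2 s) s) ∧
    (h7_kr_bad (h7_kr_tog (h7_kr_R2 s) s)).Nonempty ∧
    h7_kr_R2 (h7_kr_tog (h7_kr_R2 s) s) = h7_kr_R2 s ∧
    h7_kr_stab (h7_kr_tog (h7_kr_R2 s) s) = h7_kr_stab s := by
  set J : Subgroup G := h7_kr_J s with hJdef
  set Lw : Finset (Subgroup G) := s.filter (fun Q => Q < J) with hLw
  set N : Subgroup G → Subgroup G := fun Q => Subgroup.normalizer ((Q : Subgroup G) : Set G)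
    with hN
  set R : Subgroup G := J ⊓ Lw.inf N with hRdef
  have hR : h7_kr_R2 s = R := rfl
  have hJbad : J ∈ h7_kr_bad s :=
    h7_kr_inf_mem (h7_kr_bad s) (fun Q hQ R hR => hs.1 Q (h7_kr_bad_subset s hQ) R
      (h7_kr_bad_subset s hR)) hbad
  obtain ⟨hJs, Q₀, hQ₀s, hQ₀J, hQ₀N⟩ := (h7_kr_mem_bad s J).mp hJbad
  have hQ₀Lw : Q₀ ∈ Lw := Finset.mem_filter.mpr ⟨hQ₀s, hQ₀J⟩
  have hminJ : ∀ Q' ∈ h7_kr_bad s, J ≤ Q' := fun Q' hQ' => Finset.inf_le (f := id) hQ'
  have hgood : ∀ Q' ∈ s, Q' < J → ∀ Q ∈ s, Q < Q' → Q' ≤ N Q := by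
    intro Q' hQ' hQ'J Q hQ hQQ'
    by_contra hn
    have : Q' ∈ h7_kr_bad s := (h7_kr_mem_bad s Q').mpr ⟨hQ', Q, hQ, hQQ', hn⟩
    exact absurd (hminJ Q' this) (not_le_of_gt hQ'J)
  have hLR : ∀ Q ∈ Lw, Q ≤ R := by
    intro Q hQ
    obtain ⟨hQs, hQJ⟩ := Finset.mem_filter.mp hQ
    refine le_inf hQJ.le (Finset.le_inf fun Q'' hQ'' => ?_)
    obtain ⟨hQ''s, hQ''J⟩ := Finset.mem_filter.mp hQ''
    rcases hs.1 Q hQs Q'' hQ''s with h | h
    · exact h.trans Subgroup.le_normalizer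
    · rcases eq_or_lt_of_le h with h' | h'
      · rw [h']
        exact Subgroup.le_normalizer
      · exact hgood Q hQs hQJ Q'' hQ''s h'
  have hRleJ : R ≤ J := inf_le_left
  have hRJ : R < J := by
    refine lt_of_le_of_ne hRleJ ?_
    intro h
    apply hQ₀N
    have h1 : R ≤ N Q₀ := inf_le_right.trans (Finset.inf_le hQ₀Lw)
    rw [h] at h1
    exact h1
  have hRcmp : ∀ Q ∈ s, Q ≤ R ∨ R ≤ Q := by
    intro Q hQ
    by_cases hQJ : Q < J
    · exact Or.inl (hLR Q (Finset.mem_filter.mpr ⟨hQ, hQJ⟩))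
    · right
      rcases hs.1 Q hQ J hJs with h | h
      · rcases eq_or_lt_of_le h with h' | h'
        · rw [h']
          exact hRleJ
        · exact absurd h' hQJ
      · exact hRleJ.trans h
  have hRne : R ≠ ⊥ := by
    intro h
    have := hLR Q₀ hQ₀Lw
    rw [h] at this
    exact (hs.2 Q₀ hQ₀s).1 (le_bot_iff.mp this)
  have hJp : IsPGroup p J := (hs.2 J hJs).2
  have hRp : IsPGroup p R := hJp.to_le hRleJ
  rw [hR]
  by_cases hRs : R ∈ s
  · -- erase
    rw [h7_kr_tog_of_mem hRs]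
    have hsub : s.erase R ⊆ s := Finset.erase_subset _ _
    have hRLw : R ∈ Lw := Finset.mem_filter.mpr ⟨hRs, hRJ⟩
    have hJs' : J ∈ s.erase R := Finset.mem_erase.mpr ⟨(ne_of_gt hRJ), hJs⟩
    have hch' : h7_kr_isChain p (s.erase R) := h7_kr_isChain_subset hsub hs
    -- J is still bad
    have hJbad' : J ∈ h7_kr_bad (s.erase R) := by
      rw [h7_kr_mem_bad]
      refine ⟨hJs', ?_⟩
      by_contra hno
      push Not at hno
      have h1 : J ⊓ N R ≤ R := by
        refine le_inf inf_le_left (Finset.le_inf fun Q hQ => ?_)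
        obtain ⟨hQs, hQJ⟩ := Finset.mem_filter.mp hQ
        by_cases hQR : Q = R
        · rw [hQR]
          exact inf_le_right
        · exact inf_le_left.trans (hno Q (Finset.mem_erase.mpr ⟨hQR, hQs⟩) hQJ)
      obtain ⟨g, hgJ, hgN, hgR⟩ := h7_kr_normalizer_grow p J R hJp hRJ
      exact hgR (h1 (Subgroup.mem_inf.mpr ⟨hgJ, hgN⟩))
    have hgood' : ∀ Q' ∈ s.erase R, Q' < J → Q' ∉ h7_kr_bad (s.erase R) := by
      intro Q' hQ' hQ'J hb
      obtain ⟨-, Q, hQ, hQQ', hn⟩ := (h7_kr_mem_bad _ Q').mp hb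
      exact hn (hgood Q' (hsub hQ') hQ'J Q (hsub hQ) hQQ')
    have hJ' : h7_kr_J (s.erase R) = J := h7_kr_J_unique _ hch'.1 J hJbad' hgood'
    have hLw' : (s.erase R).filter (fun Q => Q < J) = Lw.erase R := by
      rw [Finset.filter_erase]
    have hins : Lw = insert R (Lw.erase R) := (Finset.insert_erase hRLw).symm
    set R' : Subgroup G := J ⊓ (Lw.erase R).inf N with hR'def
    have hR2' : h7_kr_R2 (s.erase R) = R' := by
      unfold h7_kr_R2
      rw [hJ', hLw']
    have hRR' : R = R' ⊓ N R := by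
      rw [hRdef, hR'def]
      conv_lhs => rw [hins, Finset.inf_insert]
      rw [inf_comm (N R), inf_assoc]
    have hRleR' : R ≤ R' := by
      rw [hRR']
      exact inf_le_left
    have hReq : R' = R := by
      by_contra hne
      have hlt : R < R' := lt_of_le_of_ne hRleR' (Ne.symm hne)
      have hR'p : IsPGroup p R' := hJp.to_le inf_le_left
      obtain ⟨g, hgR', hgN, hgR⟩ := h7_kr_normalizer_grow p R' R hR'p hlt
      apply hgR
      rw [hRR']
      exact Subgroup.mem_inf.mpr ⟨hgR', hgN⟩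
    refine ⟨hch', ⟨J, hJbad'⟩, ?_, ?_⟩
    · rw [hR2', hReq]
    · apply le_antisymm
      · intro g hg
        have hgR : g ∈ Subgroup.normalizer ((R : Subgroup G) : Set G) := by
          have := h7_kr_R2_normalized (s.erase R) g hg
          rw [hR2', hReq] at this
          exact this
        have hgs := (h7_kr_mem_stab _ g).mp hg
        rw [h7_kr_mem_stab]
        intro Q hQ
        by_cases hQR : Q = R
        · rw [hQR]
          exact hgR
        · exact hgs Q (Finset.mem_erase.mpr ⟨hQR, hQ⟩)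
      · exact h7_kr_stab_mono hsub
  · -- insert
    rw [h7_kr_tog_of_not_mem hRs]
    have hsub : s ⊆ insert R s := Finset.subset_insert _ _
    have hch' : h7_kr_isChain p (insert R s) := h7_kr_isChain_insert R hs hRne hRp hRcmp
    have hJbad' : J ∈ h7_kr_bad (insert R s) := by
      rw [h7_kr_mem_bad]
      exact ⟨hsub hJs, Q₀, hsub hQ₀s, hQ₀J, hQ₀N⟩
    have hgood' : ∀ Q' ∈ insert R s, Q' < J → Q' ∉ h7_kr_bad (insert R s) := by
      intro Q' hQ' hQ'J hb
      obtain ⟨-, Q, hQ, hQQ', hn⟩ := (h7_kr_mem_bad _ Q').mp hb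
      rcases Finset.mem_insert.mp hQ' with h1 | h1
      · -- Q' = R
        rw [h1] at hQQ' hn
        rcases Finset.mem_insert.mp hQ with h2 | h2
        · rw [h2] at hQQ'
          exact lt_irrefl _ hQQ'
        · apply hn
          have hQLw : Q ∈ Lw := Finset.mem_filter.mpr ⟨h2, hQQ'.trans hRJ⟩
          exact inf_le_right.trans (Finset.inf_le hQLw)
      · -- Q' ∈ s
        rcases Finset.mem_insert.mp hQ with h2 | h2
        · rw [h2] at hQQ'
          have : Q' ≤ R := hLR Q' (Finset.mem_filter.mpr ⟨h1, hQ'J⟩)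
          exact absurd hQQ' (not_lt_of_ge this)
        · exact hn (hgood Q' h1 hQ'J Q h2 hQQ')
    have hJ' : h7_kr_J (insert R s) = J := h7_kr_J_unique _ hch'.1 J hJbad' hgood'
    have hLw' : (insert R s).filter (fun Q => Q < J) = insert R Lw := by
      rw [Finset.filter_insert, if_pos hRJ]
    have hR2' : h7_kr_R2 (insert R s) = R := by
      unfold h7_kr_R2
      rw [hJ', hLw', Finset.inf_insert]
      apply le_antisymm
      · exact le_inf inf_le_left (inf_le_right.trans inf_le_right)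
      · exact le_inf hRleJ (le_inf Subgroup.le_normalizer inf_le_right)
    refine ⟨hch', ⟨J, hJbad'⟩, hR2', ?_⟩
    rw [h7_kr_stab_insert]
    apply le_antisymm inf_le_right
    intro g hg
    refine Subgroup.mem_inf.mpr ⟨?_, hg⟩
    have := h7_kr_R2_normalized s g hg
    rw [hR] at this
    exact this

end Cfsg.Agent.Lib.helper7
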