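import Mathlib
import Cfsg.Agent.Lib.helper7.KRC

/-!
The cancellation over `x`-stable normal chains of `p`-subgroups (h7_kr_cancel).
-/

set_option autoImplicit false
set_option linter.style.haveILetI false
set_option linter.unusedSectionVars false
set_option linter.unusedVariables false
set_option maxHeartbeats 800000

namespace Cfsg.Agent.Lib.helper7

variable {G : Type*} [Group G]

/-- a nonempty chain of nontrivial `p`-subgroups all normal in the largest one -/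
def h7_kr_isNormalChain (p : ℕ) (s : Finset (Subgroup G)) : Prop :=
  s.Nonempty ∧ (∀ Q ∈ s, ∀ R ∈ s, Q ≤ R ∨ R ≤ Q) ∧ (∀ Q ∈ s, Q ≠ ⊥ ∧ IsPGroup p Q) ∧
    ∃ T ∈ s, ∀ Q ∈ s, Q ≤ T ∧ T ≤ Subgroup.normalizer ((Q : Subgroup G) : Set G)

theorem h7_kr_isNormalChain_iff (p : ℕ) (s : Finset (Subgroup G)) :
    h7_kr_isNormalChain p s ↔ s.Nonempty ∧ h7_kr_isChain p s ∧ ¬ (h7_kr_bad s).Nonempty := by
  constructor
  · rintro ⟨hne, hch, hp, T, hT, hTs⟩
    refine ⟨hne, ⟨hch, hp⟩, ?_⟩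
    rintro ⟨Q', hQ'⟩
    obtain ⟨hQ's, Q, hQ, hQQ', hn⟩ := (h7_kr_mem_bad s Q').mp hQ'
    exact hn ((hTs Q' hQ's).1.trans (hTs Q hQ).2)
  · rintro ⟨hne, ⟨hch, hp⟩, hbad⟩
    refine ⟨hne, hch, hp, s.sup id, h7_kr_sup_mem s hch hne, ?_⟩
    intro Q hQ
    have hQT : Q ≤ s.sup id := Finset.le_sup (f := id) hQ
    refine ⟨hQT, ?_⟩
    rcases eq_or_lt_of_le hQT with h | h
    · rw [← h]
      exact Subgroup.le_normalizer
    · by_contra hn
      exact hbad ⟨s.sup id, (h7_kr_mem_bad s _).mpr ⟨h7_kr_sup_mem s hch hne, Q, hQ, h, hn⟩⟩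

open Classical in
theorem h7_kr_cancel [Finite G] (p : ℕ) [hp : Fact p.Prime] (x : G)
    (hx : ∃ k : ℕ, orderOf x = p ^ k) (hx1 : x ≠ 1) (w : Subgroup G → ℤ) :
    ∑ᶠ s ∈ {s : Finset (Subgroup G) | h7_kr_isNormalChain p s ∧ x ∈ h7_kr_stab s},
      (-1 : ℤ) ^ (s.card - 1) * w (h7_kr_stab s ⊓ Subgroup.centralizer ({x} : Set G)) =
    w (Subgroup.centralizer ({x} : Set G)) := by
  haveI : Fintype (Subgroup G) := Fintype.ofFinite _
  set f : Finset (Subgroup G) → ℤ :=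
    fun s => w (h7_kr_stab s ⊓ Subgroup.centralizer ({x} : Set G)) with hf
  set F₁ : Finset (Finset (Subgroup G)) :=
    Finset.univ.filter (fun s => h7_kr_isChain p s ∧ x ∈ h7_kr_stab s) with hF₁
  have hS₁ : ∑ s ∈ F₁, (-1 : ℤ) ^ s.card * f s = 0 := by
    apply h7_kr_toggle_sum F₁ (h7_kr_R1 x) f
    · intro s hs
      obtain ⟨-, hch, hxs⟩ := Finset.mem_filter.mp hs
      obtain ⟨h1, h2, -, -⟩ := h7_kr_quillen p x hx hx1 s hch hxs
      exact Finset.mem_filter.mpr ⟨Finset.mem_univ _, h1, h2⟩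
    · intro s hs
      obtain ⟨-, hch, hxs⟩ := Finset.mem_filter.mp hs
      exact (h7_kr_quillen p x hx hx1 s hch hxs).2.2.1
    · intro s hs
      obtain ⟨-, hch, hxs⟩ := Finset.mem_filter.mp hs
      show w _ = w _
      rw [(h7_kr_quillen p x hx hx1 s hch hxs).2.2.2]
  set F₂ : Finset (Finset (Subgroup G)) :=
    F₁.filter (fun s => (h7_kr_bad s).Nonempty) with hF₂
  have hS₂ : ∑ s ∈ F₂, (-1 : ℤ) ^ s.card * f s = 0 := by
    apply h7_kr_toggle_sum F₂ h7_kr_R2 f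
    · intro s hs
      obtain ⟨hs1, hbad⟩ := Finset.mem_filter.mp hs
      obtain ⟨-, hch, hxs⟩ := Finset.mem_filter.mp hs1
      obtain ⟨h1, h2, -, h4⟩ := h7_kr_kr p s hch hbad
      refine Finset.mem_filter.mpr ⟨Finset.mem_filter.mpr ⟨Finset.mem_univ _, h1, ?_⟩, h2⟩
      rw [h4]
      exact hxs
    · intro s hs
      obtain ⟨hs1, hbad⟩ := Finset.mem_filter.mp hs
      obtain ⟨-, hch, hxs⟩ := Finset.mem_filter.mp hs1
      exact (h7_kr_kr p s hch hbad).2.2.1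
    · intro s hs
      obtain ⟨hs1, hbad⟩ := Finset.mem_filter.mp hs
      obtain ⟨-, hch, hxs⟩ := Finset.mem_filter.mp hs1
      show w _ = w _
      rw [(h7_kr_kr p s hch hbad).2.2.2]
  set F₃ : Finset (Finset (Subgroup G)) :=
    F₁.filter (fun s => ¬ (h7_kr_bad s).Nonempty) with hF₃
  have hS₃ : ∑ s ∈ F₃, (-1 : ℤ) ^ s.card * f s = 0 := by
    have := Finset.sum_filter_add_sum_filter_not F₁ (fun s => (h7_kr_bad s).Nonempty)
      (fun s => (-1 : ℤ) ^ s.card * f s)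
    rw [hS₁, hS₂, zero_add] at this
    exact this
  have hempty : (∅ : Finset (Subgroup G)) ∈ F₃ := by
    refine Finset.mem_filter.mpr ⟨Finset.mem_filter.mpr ⟨Finset.mem_univ _, ?_, ?_⟩, ?_⟩
    · exact ⟨fun Q hQ => absurd hQ (Finset.notMem_empty Q),
        fun Q hQ => absurd hQ (Finset.notMem_empty Q)⟩
    · rw [h7_kr_stab_empty]
      exact Subgroup.mem_top x
    · rintro ⟨Q, hQ⟩
      exact absurd (h7_kr_bad_subset _ hQ) (Finset.notMem_empty Q)
  rw [← Finset.add_sum_erase F₃ _ hempty] at hS₃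
  have hfe : f ∅ = w (Subgroup.centralizer ({x} : Set G)) := by
    show w _ = w _
    rw [h7_kr_stab_empty, top_inf_eq]
  rw [Finset.card_empty, pow_zero, one_mul, hfe] at hS₃
  have hset : F₃.erase ∅ = Finset.univ.filter
      (fun s => h7_kr_isNormalChain p s ∧ x ∈ h7_kr_stab s) := by
    ext s
    rw [Finset.mem_erase, Finset.mem_filter, Finset.mem_filter, Finset.mem_filter,
      h7_kr_isNormalChain_iff]
    constructor
    · rintro ⟨h1, ⟨-, h2, h3⟩, h4⟩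
      exact ⟨Finset.mem_univ _, ⟨Finset.nonempty_iff_ne_empty.mpr h1, h2, h4⟩, h3⟩
    · rintro ⟨-, ⟨h1, h2, h4⟩, h3⟩
      exact ⟨Finset.nonempty_iff_ne_empty.mp h1, ⟨Finset.mem_univ _, h2, h3⟩, h4⟩
  rw [hset] at hS₃
  rw [finsum_mem_eq_finite_toFinset_sum _ (Set.toFinite _)]
  have hset2 : (Set.toFinite {s : Finset (Subgroup G) |
      h7_kr_isNormalChain p s ∧ x ∈ h7_kr_stab s}).toFinset =
      Finset.univ.filter (fun s => h7_kr_isNormalChain p s ∧ x ∈ h7_kr_stab s) := by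
    ext s
    simp
  rw [hset2]
  have hsgn : ∀ s ∈ Finset.univ.filter
      (fun s : Finset (Subgroup G) => h7_kr_isNormalChain p s ∧ x ∈ h7_kr_stab s),
      (-1 : ℤ) ^ (s.card - 1) * f s = -((-1 : ℤ) ^ s.card * f s) := by
    intro s hs
    have hne : s.Nonempty := (Finset.mem_filter.mp hs).2.1.1
    have hc : s.card = (s.card - 1) + 1 := by
      have := Finset.card_pos.mpr hne
      omega
    conv_rhs => rw [hc, pow_succ]
    ring
  rw [Finset.sum_congr rfl hsgn, Finset.sum_neg_distrib]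
  linarith

end Cfsg.Agent.Lib.helper7
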