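import Mathlib
import Cfsg.Prelude.Def_BlockRank
import Cfsg.Agent.Lib.Helper25.BlockRankTrace
import Cfsg.Agent.Lib.Helper25.BrauerPairCover

/-!
The `p`-regular rank of a union of blocks as a trace (h7_kr_rank_trace), its additivity over the
blocks (h7_kr_rank_union, h7_kr_card_union) and its invariance under transport (h7_kr_rank_tr).
-/

set_option autoImplicit false
set_option linter.style.haveILetI false
set_option linter.unusedSectionVars false
set_option linter.unusedVariables false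
set_option maxHeartbeats 1600000

namespace Cfsg.Agent.Lib.helper7

open Cfsg.Agent.Lib.helper2 Cfsg.Agent.Lib.Helper25 Cfsg.Agent.Lib.Helper24
open scoped ComplexConjugate

section trace

variable {G : Type*} [Group G] [Fintype G] [Fintype (Cfsg.IrrCharacter G)]

theorem h7_kr_proj_fix (p : ℕ) (S : Set (Cfsg.IrrCharacter G)) [DecidablePred (· ∈ S)]
    (hS : ∀ x y : G, ¬ p ∣ orderOf x → p ∣ orderOf y →
      ∑ χ : Cfsg.IrrCharacter G, (if χ ∈ S then (χ : G → ℂ) x * conj ((χ : G → ℂ) y) else 0) = 0)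
    (ψ : Cfsg.IrrCharacter G) (hψ : ψ ∈ S) :
    br_proj p S (Cfsg.pRegularPart p (ψ : G → ℂ)) = Cfsg.pRegularPart p (ψ : G → ℂ) := by
  have hG : (Nat.card G : ℂ) ≠ 0 := by exact_mod_cast Nat.card_pos.ne'
  rw [br_proj_apply]
  funext y
  rw [Finset.sum_apply]
  by_cases hy : p ∣ orderOf y
  · rw [br_pRegularPart_sing p _ y hy]
    refine Finset.sum_eq_zero fun χ _ => ?_
    split_ifs
    · rw [Pi.smul_apply, br_pRegularPart_sing p _ y hy, smul_zero]
    · rfl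
  · rw [br_pRegularPart_reg p _ y hy]
    have h1 : (ψ : G → ℂ) y = ∑ χ : Cfsg.IrrCharacter G,
        if χ ∈ S then Cfsg.classInner (ψ : G → ℂ) (χ : G → ℂ) * (χ : G → ℂ) y else 0 := by
      rw [Finset.sum_eq_single ψ]
      · rw [if_pos hψ, irr_classInner, if_pos rfl, one_mul]
      · intro χ _ hne
        split_ifs
        · rw [irr_classInner, if_neg (Ne.symm hne), zero_mul]
        · rfl
      · intro h
        exact absurd (Finset.mem_univ ψ) h
    rw [h1, ← sub_eq_zero, ← Finset.sum_sub_distrib]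
    have h2 : ∀ χ : Cfsg.IrrCharacter G,
        ((if χ ∈ S then Cfsg.classInner (Cfsg.pRegularPart p (ψ : G → ℂ)) (χ : G → ℂ) •
            Cfsg.pRegularPart p (χ : G → ℂ) else 0 : G → ℂ) y -
          (if χ ∈ S then Cfsg.classInner (ψ : G → ℂ) (χ : G → ℂ) * (χ : G → ℂ) y else 0)) =
        -((Nat.card G : ℂ)⁻¹ * ∑ x : G, (if p ∣ orderOf x then (ψ : G → ℂ) x else 0) *
          (if χ ∈ S then (χ : G → ℂ) y * conj ((χ : G → ℂ) x) else 0)) := by
      intro χ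
      by_cases hχ : χ ∈ S
      · simp only [if_pos hχ, Pi.smul_apply, smul_eq_mul]
        rw [br_pRegularPart_reg p _ y hy]
        unfold Cfsg.classInner
        rw [← sub_mul, ← mul_sub, ← Finset.sum_sub_distrib, mul_assoc, Finset.sum_mul, ← mul_neg,
          ← Finset.sum_neg_distrib]
        congr 1
        refine Finset.sum_congr rfl fun x _ => ?_
        by_cases hx : p ∣ orderOf x
        · rw [br_pRegularPart_sing p _ x hx, if_pos hx]
          ring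
        · rw [br_pRegularPart_reg p _ x hx, if_neg hx]
          ring
      · simp only [if_neg hχ, Pi.zero_apply, sub_zero, mul_zero, Finset.sum_const_zero, neg_zero]
    rw [Finset.sum_congr rfl fun χ _ => h2 χ, Finset.sum_neg_distrib, neg_eq_zero, ← Finset.mul_sum,
      Finset.sum_comm]
    simp_rw [← Finset.mul_sum]
    rw [Finset.sum_eq_zero, mul_zero]
    intro x _
    by_cases hx : p ∣ orderOf x
    · rw [hS y x hy hx, mul_zero]
    · rw [if_neg hx, zero_mul]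

theorem h7_kr_proj_isProj (p : ℕ) (S : Set (Cfsg.IrrCharacter G)) [DecidablePred (· ∈ S)]
    (hS : ∀ x y : G, ¬ p ∣ orderOf x → p ∣ orderOf y →
      ∑ χ : Cfsg.IrrCharacter G, (if χ ∈ S then (χ : G → ℂ) x * conj ((χ : G → ℂ) y) else 0) = 0) :
    LinearMap.IsProj (Submodule.span ℂ ((fun χ : Cfsg.IrrCharacter G =>
      Cfsg.pRegularPart p (χ : G → ℂ)) '' S)) (br_proj p S) := by
  constructor
  · intro f
    rw [br_proj_apply]
    refine Submodule.sum_mem _ fun χ _ => ?_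
    split_ifs with h
    · exact Submodule.smul_mem _ _ (Submodule.subset_span ⟨χ, h, rfl⟩)
    · exact Submodule.zero_mem _
  · intro f hf
    have : Set.EqOn (br_proj p S) (LinearMap.id : (G → ℂ) →ₗ[ℂ] (G → ℂ))
        ((fun χ : Cfsg.IrrCharacter G => Cfsg.pRegularPart p (χ : G → ℂ)) '' S) := by
      rintro _ ⟨ψ, hψ, rfl⟩
      exact h7_kr_proj_fix p S hS ψ hψ
    exact LinearMap.eqOn_span this hf

/-- the `p`-regular rank of a set of characters satisfying weak block orthogonality is a trace -/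
theorem h7_kr_rank_trace (p : ℕ) (S : Set (Cfsg.IrrCharacter G)) [DecidablePred (· ∈ S)]
    (hS : ∀ x y : G, ¬ p ∣ orderOf x → p ∣ orderOf y →
      ∑ χ : Cfsg.IrrCharacter G, (if χ ∈ S then (χ : G → ℂ) x * conj ((χ : G → ℂ) y) else 0) = 0) :
    (Cfsg.blockRank p S : ℂ) = ∑ χ : Cfsg.IrrCharacter G, if χ ∈ S then
      Cfsg.classInner (Cfsg.pRegularPart p (χ : G → ℂ)) (χ : G → ℂ) else 0 := by
  rw [← br_proj_trace, (h7_kr_proj_isProj p S hS).trace]
  rfl

end trace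

end Cfsg.Agent.Lib.helper7

namespace Cfsg.Agent.Lib.helper7

open Cfsg.Agent.Lib.helper2 Cfsg.Agent.Lib.Helper25 Cfsg.Agent.Lib.Helper24
open scoped ComplexConjugate

section union

variable {G : Type*} [Group G] [Fintype G] [Fintype (Cfsg.IrrCharacter G)]

/-- finsum form of the trace formula -/
theorem h7_kr_rank_trace' (p : ℕ) (S : Set (Cfsg.IrrCharacter G))
    (hS : ∀ x y : G, ¬ p ∣ orderOf x → p ∣ orderOf y →
      ∑ᶠ χ ∈ S, (χ : G → ℂ) x * conj ((χ : G → ℂ) y) = 0) :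
    (Cfsg.blockRank p S : ℂ) = ∑ᶠ χ ∈ S,
      Cfsg.classInner (Cfsg.pRegularPart p (χ : G → ℂ)) (χ : G → ℂ) := by
  classical
  rw [h7_finsum_mem_fintype]
  apply h7_kr_rank_trace p S
  intro x y hx hy
  rw [← h7_finsum_mem_fintype]
  exact hS x y hx hy

theorem h7_kr_mem_union_iff {M : Ideal Cfsg.AlgInt} (hPr : M.IsPrime)
    (P : Set (Cfsg.IrrCharacter G) → Prop) (hP : ∀ β, P β → Cfsg.IsPBlock M β)
    (χ : Cfsg.IrrCharacter G) :
    (∃ β, P β ∧ χ ∈ β) ↔ P (Cfsg.blockOf M (χ : G → ℂ)) := by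
  constructor
  · rintro ⟨β, hβ, hχ⟩
    obtain ⟨χ₀, rfl⟩ := hP β hβ
    rw [← h7_blockOf_eq_of_mem hPr χ₀ χ hχ]
    exact hβ
  · intro h
    exact ⟨_, h, h7_sameBlock_refl hPr _⟩

/-- a sum over a union of blocks, block by block -/
theorem h7_kr_sum_union {M : Ideal Cfsg.AlgInt} (hPr : M.IsPrime)
    (P : Set (Cfsg.IrrCharacter G) → Prop) (hP : ∀ β, P β → Cfsg.IsPBlock M β)
    (f : Cfsg.IrrCharacter G → ℂ) :
    ∑ᶠ χ ∈ {χ : Cfsg.IrrCharacter G | ∃ β, P β ∧ χ ∈ β}, f χ =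
    ∑ᶠ β ∈ {β : Set (Cfsg.IrrCharacter G) | P β}, ∑ᶠ χ ∈ β, f χ := by
  classical
  obtain ⟨S, hS⟩ : ∃ S : Set (Cfsg.IrrCharacter G), S = {χ | ∃ β, P β ∧ χ ∈ β} := ⟨_, rfl⟩
  obtain ⟨T, hT⟩ : ∃ T : Set (Set (Cfsg.IrrCharacter G)), T = {β | P β} := ⟨_, rfl⟩
  rw [← hS, ← hT]
  have hSm : ∀ χ, χ ∈ S ↔ P (Cfsg.blockOf M (χ : G → ℂ)) := by
    intro χ
    rw [hS]
    exact h7_kr_mem_union_iff hPr P hP χ
  have hTm : ∀ β, β ∈ T ↔ P β := by
    intro β
    rw [hT]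
    rfl
  rw [h7_finsum_mem_fintype S, h7_finsum_mem_fintype T]
  have h1 : ∀ β : Set (Cfsg.IrrCharacter G), (if β ∈ T then ∑ᶠ χ ∈ β, f χ else 0) =
      ∑ χ : Cfsg.IrrCharacter G, (if β ∈ T ∧ χ ∈ β then f χ else 0) := by
    intro β
    by_cases hβ : β ∈ T
    · rw [if_pos hβ, h7_finsum_mem_fintype β]
      refine Finset.sum_congr rfl fun χ _ => ?_
      by_cases hχ : χ ∈ β
      · rw [if_pos hχ, if_pos ⟨hβ, hχ⟩]
      · rw [if_neg hχ, if_neg (fun h => hχ h.2)]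
    · rw [if_neg hβ]
      symm
      exact Finset.sum_eq_zero fun χ _ => if_neg (fun h => hβ h.1)
  rw [Finset.sum_congr rfl (fun β _ => h1 β), Finset.sum_comm]
  refine Finset.sum_congr rfl fun χ _ => ?_
  rw [Finset.sum_eq_single (Cfsg.blockOf M (χ : G → ℂ))]
  · by_cases h : P (Cfsg.blockOf M (χ : G → ℂ))
    · rw [if_pos ((hSm χ).mpr h), if_pos ⟨(hTm _).mpr h, h7_sameBlock_refl hPr _⟩]
    · rw [if_neg (fun h' => h ((hSm χ).mp h')), if_neg (fun h' => h ((hTm _).mp h'.1))]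
  · intro β _ hne
    rw [if_neg]
    rintro ⟨hβ, hχ⟩
    obtain ⟨χ₀, rfl⟩ := hP β ((hTm _).mp hβ)
    exact hne (h7_blockOf_eq_of_mem hPr χ₀ χ hχ)
  · intro h
    exact absurd (Finset.mem_univ _) h

/-- weak block orthogonality for a union of blocks -/
theorem h7_kr_weak_orth_union {p : ℕ} [hp : Fact p.Prime] {M : Ideal Cfsg.AlgInt}
    (hM : Cfsg.IsPModular p M)
    (P : Set (Cfsg.IrrCharacter G) → Prop) (hP : ∀ β, P β → Cfsg.IsPBlock M β)
    (x y : G) (hx : ¬ p ∣ orderOf x) (hy : p ∣ orderOf y) :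
    ∑ᶠ χ ∈ {χ : Cfsg.IrrCharacter G | ∃ β, P β ∧ χ ∈ β},
      (χ : G → ℂ) x * conj ((χ : G → ℂ) y) = 0 := by
  rw [h7_kr_sum_union hM.2.1.isPrime P hP]
  apply finsum_mem_eq_zero_of_forall_eq_zero
  intro β hβ
  obtain ⟨χ₀, rfl⟩ := hP β hβ
  exact h7_weak_block_orth hM χ₀ x y hx hy

theorem h7_kr_card_union {M : Ideal Cfsg.AlgInt} (hPr : M.IsPrime)
    (P : Set (Cfsg.IrrCharacter G) → Prop) (hP : ∀ β, P β → Cfsg.IsPBlock M β) :
    Nat.card {χ : Cfsg.IrrCharacter G | ∃ β, P β ∧ χ ∈ β} =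
      ∑ᶠ β ∈ {β : Set (Cfsg.IrrCharacter G) | P β}, Nat.card β := by
  classical
  have hc : ∀ (A : Set (Cfsg.IrrCharacter G)), ((Nat.card A : ℕ) : ℂ) = ∑ᶠ χ ∈ A, (1 : ℂ) := by
    intro A
    rw [h7_finsum_mem_fintype A, Finset.sum_boole, Nat.card_eq_fintype_card,
      Fintype.card_subtype]
  have key : ((Nat.card {χ : Cfsg.IrrCharacter G | ∃ β, P β ∧ χ ∈ β} : ℕ) : ℂ) =
      ((∑ᶠ β ∈ {β : Set (Cfsg.IrrCharacter G) | P β}, Nat.card β : ℕ) : ℂ) := by
    rw [hc, h7_kr_sum_union hPr P hP (fun _ => (1 : ℂ))]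
    rw [finsum_mem_eq_finite_toFinset_sum _ (Set.toFinite _),
      finsum_mem_eq_finite_toFinset_sum _ (Set.toFinite _), Nat.cast_sum]
    exact Finset.sum_congr rfl fun β _ => (hc β).symm
  exact_mod_cast key

theorem h7_kr_rank_union {p : ℕ} [hp : Fact p.Prime] {M : Ideal Cfsg.AlgInt}
    (hM : Cfsg.IsPModular p M)
    (P : Set (Cfsg.IrrCharacter G) → Prop) (hP : ∀ β, P β → Cfsg.IsPBlock M β) :
    Cfsg.blockRank p {χ : Cfsg.IrrCharacter G | ∃ β, P β ∧ χ ∈ β} =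
      ∑ᶠ β ∈ {β : Set (Cfsg.IrrCharacter G) | P β}, Cfsg.blockRank p β := by
  classical
  have key : ((Cfsg.blockRank p {χ : Cfsg.IrrCharacter G | ∃ β, P β ∧ χ ∈ β} : ℕ) : ℂ) =
      ((∑ᶠ β ∈ {β : Set (Cfsg.IrrCharacter G) | P β}, Cfsg.blockRank p β : ℕ) : ℂ) := by
    rw [h7_kr_rank_trace' p _ (fun x y hx hy => h7_kr_weak_orth_union hM P hP x y hx hy),
      h7_kr_sum_union hM.2.1.isPrime P hP]
    rw [finsum_mem_eq_finite_toFinset_sum _ (Set.toFinite _),
      finsum_mem_eq_finite_toFinset_sum _ (Set.toFinite _), Nat.cast_sum]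
    refine Finset.sum_congr rfl fun β hβ => ?_
    have hβ' : P β := by simpa using hβ
    obtain ⟨χ₀, rfl⟩ := hP β hβ'
    rw [h7_kr_rank_trace' p _ (fun x y hx hy => h7_weak_block_orth hM χ₀ x y hx hy)]
  exact_mod_cast key

end union

section transport

/-- the `p`-regular rank is invariant under transport along a group isomorphism -/
theorem h7_kr_rank_tr {A B : Type*} [Group A] [Group B] (p : ℕ) (σ : A ≃* B)
    (b : Set (Cfsg.IrrCharacter B)) :
    Cfsg.blockRank p (bq_trSet σ b) = Cfsg.blockRank p b := by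
  classical
  unfold Cfsg.blockRank
  set e : (B → ℂ) ≃ₗ[ℂ] (A → ℂ) := LinearEquiv.funCongrLeft ℂ ℂ σ.toEquiv with he
  have hreg : ∀ θ : B → ℂ, e (Cfsg.pRegularPart p θ) = Cfsg.pRegularPart p (fun a => θ (σ a)) := by
    intro θ
    funext a
    show Cfsg.pRegularPart p θ (σ a) = _
    have ho : orderOf (σ a) = orderOf a := MulEquiv.orderOf_eq σ a
    unfold Cfsg.pRegularPart Cfsg.IsPRegular
    rw [ho]
  have himg : (fun χ : Cfsg.IrrCharacter A => Cfsg.pRegularPart p (χ : A → ℂ)) '' (bq_trSet σ b) =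
      e '' ((fun χ : Cfsg.IrrCharacter B => Cfsg.pRegularPart p (χ : B → ℂ)) '' b) := by
    ext f
    constructor
    · rintro ⟨χ, hχ, rfl⟩
      refine ⟨_, ⟨bq_trIrr σ.symm χ, hχ, rfl⟩, ?_⟩
      rw [hreg]
      congr 1
      funext a
      rw [bq_trIrr_apply, MulEquiv.symm_apply_apply]
    · rintro ⟨_, ⟨θ, hθ, rfl⟩, rfl⟩
      refine ⟨bq_trIrr σ θ, (bq_mem_trSet σ b θ).mpr hθ, ?_⟩
      rw [hreg]
      rfl
  have h2 : Submodule.span ℂ (⇑e ''
      ((fun χ : Cfsg.IrrCharacter B => Cfsg.pRegularPart p (χ : B → ℂ)) '' b)) =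
      (Submodule.span ℂ ((fun χ : Cfsg.IrrCharacter B => Cfsg.pRegularPart p (χ : B → ℂ)) '' b)).map
        (e : (B → ℂ) →ₗ[ℂ] (A → ℂ)) := by
    rw [Submodule.map_span]
    rfl
  rw [himg, h2]
  exact LinearEquiv.finrank_map_eq e _

end transport

end Cfsg.Agent.Lib.helper7
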