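import Mathlib
import Cfsg.Prelude.Def_Blocks
import Cfsg.Prelude.Def_BlockRank
import Cfsg.Agent.Lib.helper7.KleinDef8
import Cfsg.Agent.Lib.helper7.KRE

/-!
Brauer's formula summed over all `p`-elements:
`|G| k(B) = |G| l(B) + Σ_{x ≠ 1 a p-element} |C_G(x)| n(x)` (h7_kr_count').
-/

set_option autoImplicit false
set_option linter.style.haveILetI false
set_option linter.unusedSectionVars false
set_option linter.unusedVariables false
set_option maxHeartbeats 1600000

namespace Cfsg.Agent.Lib.helper7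

open Cfsg.Agent.Lib.helper2 Cfsg.Agent.Lib.Helper25 Cfsg.Agent.Lib.Helper24
open scoped ComplexConjugate

variable {G : Type*} [Group G]

theorem h7_kr_conj_sum [Fintype G] (a : G) (c : G → ℂ)
    (hc : ∀ x : G, c x = (Nat.card (Subgroup.centralizer ({x} : Set G)) : ℂ))
    [DecidablePred (fun x : G => IsConj a x)] :
    ∑ x : G, (if IsConj a x then c x else 0) = (Nat.card G : ℂ) := by
  classical
  have h1 : ∀ x : G, (if IsConj a x then c x else 0) =
      ((Finset.univ.filter (fun t : G => t⁻¹ * a * t = x)).card : ℂ) := by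
    intro x
    rw [sc_conj_count a x]
    by_cases h : IsConj a x
    · rw [if_pos h, if_pos h, hc]
    · rw [if_neg h, if_neg h]
  rw [Finset.sum_congr rfl (fun x _ => h1 x), ← Nat.cast_sum]
  have h2 : ∑ x : G, (Finset.univ.filter (fun t : G => t⁻¹ * a * t = x)).card =
      (Finset.univ : Finset G).card :=
    (Finset.card_eq_sum_card_fiberwise (f := fun t : G => t⁻¹ * a * t) (s := Finset.univ)
      (t := Finset.univ) (fun _ _ => Finset.mem_univ _)).symm
  rw [h2, Finset.card_univ, Nat.card_eq_fintype_card]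

theorem h7_kr_count [Fintype G] (p : ℕ) [hp : Fact p.Prime]
    (M : Ideal Cfsg.AlgInt) (hM : Cfsg.IsPModular p M) (B : Set (Cfsg.IrrCharacter G))
    (hB : Cfsg.IsPBlock M B) :
    ∑ᶠ x ∈ {x : G | ∃ k : ℕ, orderOf x = p ^ k},
      (Nat.card (Subgroup.centralizer ({x} : Set G)) : ℂ) * (h7_kd_n p M B x : ℂ) =
      (Nat.card G : ℂ) * (Nat.card B : ℂ) := by
  classical
  haveI : Fintype (Cfsg.IrrCharacter G) := Fintype.ofFinite _
  have hGne : (Nat.card G : ℂ) ≠ 0 := by exact_mod_cast Nat.card_pos.ne'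
  set c : G → ℂ := fun x => (Nat.card (Subgroup.centralizer ({x} : Set G)) : ℂ) with hc
  set t : Cfsg.IrrCharacter G → G → ℂ := fun χ g => (χ : G → ℂ) g * conj ((χ : G → ℂ) g) with ht
  set m : G → ℂ := fun x => ∑ χ : Cfsg.IrrCharacter G, (if χ ∈ B then (Nat.card G : ℂ)⁻¹ *
      ∑ g : G, (if IsConj (sc_pp p g) x then t χ g else 0) else 0) with hm
  have h1 : ∀ x : G, (∃ k : ℕ, orderOf x = p ^ k) → ((h7_kd_n p M B x : ℕ) : ℂ) = m x := by
    intro x hx
    exact sc_per_x p M hM B hB x hx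
  have hord : ∀ a b : G, IsConj a b → orderOf b = orderOf a := by
    intro a b h
    obtain ⟨u, hu⟩ := isConj_iff.mp h
    rw [← hu]
    exact orderOf_injective (MulAut.conj u).toMonoidHom (MulAut.conj u).injective a
  have h2 : ∀ x : G, ¬ (∃ k : ℕ, orderOf x = p ^ k) → m x = 0 := by
    intro x hx
    simp only [hm]
    refine Finset.sum_eq_zero fun χ _ => ?_
    split_ifs with hχ
    · rw [Finset.sum_eq_zero, mul_zero]
      intro g _
      rw [if_neg]
      intro hcj
      apply hx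
      obtain ⟨k, hk⟩ := sc_pp_order p g
      exact ⟨k, by rw [hord _ _ hcj, hk]⟩
    · rfl
  rw [h7_finsum_mem_fintype]
  have h3 : ∀ x : G, (if x ∈ {x : G | ∃ k : ℕ, orderOf x = p ^ k} then
      c x * (h7_kd_n p M B x : ℂ) else 0) = c x * m x := by
    intro x
    by_cases hx : ∃ k : ℕ, orderOf x = p ^ k
    · rw [if_pos (show x ∈ {x : G | ∃ k : ℕ, orderOf x = p ^ k} from hx), h1 x hx]
    · rw [if_neg (show x ∉ {x : G | ∃ k : ℕ, orderOf x = p ^ k} from hx), h2 x hx, mul_zero]
  rw [Finset.sum_congr rfl (fun x _ => h3 x)]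
  -- rearrange
  have h4 : ∑ x : G, c x * m x = ∑ χ : Cfsg.IrrCharacter G, (if χ ∈ B then
      (Nat.card G : ℂ)⁻¹ * ∑ g : G, t χ g * ∑ x : G, (if IsConj (sc_pp p g) x then c x else 0)
      else 0) := by
    simp only [hm]
    simp_rw [Finset.mul_sum]
    rw [Finset.sum_comm]
    refine Finset.sum_congr rfl fun χ _ => ?_
    by_cases hχ : χ ∈ B
    · simp only [if_pos hχ]
      simp_rw [Finset.mul_sum]
      rw [Finset.sum_comm]
      refine Finset.sum_congr rfl fun g _ => ?_
      refine Finset.sum_congr rfl fun x _ => ?_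
      split_ifs
      · ring
      · ring
    · simp only [if_neg hχ, mul_zero, Finset.sum_const_zero]
  rw [h4]
  have h5 : ∀ g : G, ∑ x : G, (if IsConj (sc_pp p g) x then c x else 0) = (Nat.card G : ℂ) :=
    fun g => h7_kr_conj_sum (sc_pp p g) c (fun x => rfl)
  simp_rw [h5]
  have h6 : ∀ χ : Cfsg.IrrCharacter G, (Nat.card G : ℂ)⁻¹ * ∑ g : G, t χ g * (Nat.card G : ℂ) =
      (Nat.card G : ℂ) := by
    intro χ
    have := irr_classInner χ χ
    rw [if_pos rfl] at this
    unfold Cfsg.classInner at this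
    rw [← Finset.sum_mul, ← mul_assoc, this, one_mul]
  simp_rw [h6]
  rw [← Finset.sum_filter, Finset.sum_const, nsmul_eq_mul, mul_comm, Nat.card_eq_fintype_card (α := B),
    Fintype.card_subtype]

theorem h7_kr_count' [Finite G] (p : ℕ) [hp : Fact p.Prime]
    (M : Ideal Cfsg.AlgInt) (hM : Cfsg.IsPModular p M) (B : Set (Cfsg.IrrCharacter G))
    (hB : Cfsg.IsPBlock M B) :
    Nat.card G * Nat.card B = Nat.card G * Cfsg.blockRank p B +
      ∑ᶠ x ∈ {x : G | (∃ k : ℕ, orderOf x = p ^ k) ∧ x ≠ 1},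
        Nat.card (Subgroup.centralizer ({x} : Set G)) * h7_kd_n p M B x := by
  classical
  haveI : Fintype G := Fintype.ofFinite _
  have h0 := h7_kr_count p M hM B hB
  have hset : {x : G | ∃ k : ℕ, orderOf x = p ^ k} =
      insert 1 {x : G | (∃ k : ℕ, orderOf x = p ^ k) ∧ x ≠ 1} := by
    ext x
    simp only [Set.mem_ofPred_eq, Set.mem_insert_iff]
    constructor
    · intro h
      by_cases hx : x = 1
      · exact Or.inl hx
      · exact Or.inr ⟨h, hx⟩
    · rintro (h | h)
      · rw [h]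
        exact ⟨0, by rw [orderOf_one, pow_zero]⟩
      · exact h.1
  have h1n : (1 : G) ∉ {x : G | (∃ k : ℕ, orderOf x = p ^ k) ∧ x ≠ 1} := fun h => h.2 rfl
  rw [hset, finsum_mem_insert _ h1n (Set.toFinite _)] at h0
  have hc1 : Subgroup.centralizer ({1} : Set G) = ⊤ := by
    ext g
    simp [Subgroup.mem_centralizer_singleton_iff]
  have hcard1 : Nat.card (Subgroup.centralizer ({1} : Set G)) = Nat.card G := by
    rw [hc1]
    exact Subgroup.card_top
  rw [hcard1, h7_kd_n_one p M hM B hB] at h0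
  rw [finsum_mem_eq_finite_toFinset_sum _ (Set.toFinite _)] at h0 ⊢
  have key : ((Nat.card G * Nat.card B : ℕ) : ℂ) = ((Nat.card G * Cfsg.blockRank p B +
      ∑ x ∈ (Set.toFinite {x : G | (∃ k : ℕ, orderOf x = p ^ k) ∧ x ≠ 1}).toFinset,
        Nat.card (Subgroup.centralizer ({x} : Set G)) * h7_kd_n p M B x : ℕ) : ℂ) := by
    push_cast
    rw [← h0]
  exact_mod_cast key

end Cfsg.Agent.Lib.helper7
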