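import Mathlib
import Cfsg.Prelude.Def_Blocks
import Cfsg.Prelude.Def_BlockRank
import Cfsg.Agent.Lib.Helper25.InducedNested
import Cfsg.Agent.Lib.helper7.KRF

/-!
Transitivity of block induction through an intermediate subgroup (h7_kr_induced_trans') and the
subsection counts of a subgroup `H` in terms of blocks of `H ⊓ C_G(x)` (h7_kr_local).
-/

set_option autoImplicit false
set_option linter.style.haveILetI false
set_option linter.unusedSectionVars false
set_option linter.unusedVariables false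
set_option maxHeartbeats 1600000

namespace Cfsg.Agent.Lib.helper7

open Cfsg.Agent.Lib.helper2 Cfsg.Agent.Lib.Helper25 Cfsg.Agent.Lib.Helper24
open scoped ComplexConjugate

variable {G : Type*} [Group G]

/-- if `e₀^H = β` and `β^G = B` then `e₀^G = B` -/
theorem h7_kr_induced_trans' [Fintype G] {M : Ideal Cfsg.AlgInt}
    (hPr : M.IsPrime) (H : Subgroup G) (K' : Subgroup H)
    (K : Subgroup G) (σ : K' ≃* K) (hσ : ∀ y : K', ((σ y : K) : G) = ((y : H) : G))
    (e₀ : Set (Cfsg.IrrCharacter K')) (β : Set (Cfsg.IrrCharacter H))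
    (B : Set (Cfsg.IrrCharacter G))
    (h1 : Cfsg.IsInducedBlock M K' e₀ β) (h2 : Cfsg.IsInducedBlock M H β B) :
    Cfsg.IsInducedBlock M K (bq_trSet σ.symm e₀) B := by
  classical
  haveI : Fintype H := Fintype.ofFinite _
  haveI : Fintype (ConjClasses H) := Fintype.ofFinite _
  haveI : Fintype (Cfsg.IrrCharacter K') := Fintype.ofFinite _
  haveI : Fintype (Cfsg.IrrCharacter H) := Fintype.ofFinite _
  refine ⟨bq_trSet_isBlock M σ.symm e₀ h1.1, h2.2.1, ?_⟩
  intro θ' hθ' χ hχ g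
  set θ₁ : Cfsg.IrrCharacter K' := bq_trIrr σ θ' with hθ₁
  have hθ₁e : θ₁ ∈ e₀ := hθ'
  have hθ'eq : θ' = bq_trIrr σ.symm θ₁ := (bq_trIrr_symm σ θ').symm
  obtain ⟨ξ₀, hβ⟩ := h1.2.1
  have hξ₀ : ξ₀ ∈ β := by
    rw [hβ]
    exact h7_sameBlock_refl hPr _
  have h3 := h2.2.2 ξ₀ hξ₀ χ hχ g
  have h4 : Cfsg.MemLocalIdeal M (Cfsg.inducedCentralChar K (θ' : K → ℂ) g -
      Cfsg.inducedCentralChar H (ξ₀ : H → ℂ) g) := by
    rw [hθ'eq, bq_icc_trans H K' K σ hσ θ₁ g, h7_icc_expand' H ξ₀ g, ← Finset.sum_sub_distrib]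
    apply h7_memLocalIdeal_sum hPr
    intro L _
    rw [← mul_sub]
    have h5 := h1.2.2 θ₁ hθ₁e ξ₀ hξ₀ (Quotient.out L)
    by_cases hc : IsConj g ((Quotient.out L : H) : G)
    · rw [if_pos hc, one_mul]
      exact h5
    · rw [if_neg hc, zero_mul]
      exact h7_memLocalIdeal_zero hPr
  have h7 := h7_memLocalIdeal_add hPr h4 h3
  rwa [sub_add_sub_cancel] at h7

/-- the sum of the `p`-regular ranks of the blocks of `K` inducing `b` -/
noncomputable def h7_kr_L (p : ℕ) (M : Ideal Cfsg.AlgInt) (b : Set (Cfsg.IrrCharacter G))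
    (K : Subgroup G) : ℕ :=
  ∑ᶠ c ∈ {c : Set (Cfsg.IrrCharacter K) | Cfsg.IsInducedBlock M K c b}, Cfsg.blockRank p c

/-- `C_H(x)` as a subgroup of `H` and as a subgroup of `G` -/
def h7_kr_centEquiv (H : Subgroup G) (x : G) (hxH : x ∈ H) :
    ↥(Subgroup.centralizer ({(⟨x, hxH⟩ : H)} : Set H)) ≃*
      ↥(H ⊓ Subgroup.centralizer ({x} : Set G)) where
  toFun y := ⟨((y : H) : G), Subgroup.mem_inf.mpr ⟨(y : H).2, by
    rw [Subgroup.mem_centralizer_singleton_iff]
    have := Subgroup.mem_centralizer_singleton_iff.mp y.2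
    exact congrArg Subtype.val this⟩⟩
  invFun z := ⟨⟨(z : G), (Subgroup.mem_inf.mp z.2).1⟩, by
    rw [Subgroup.mem_centralizer_singleton_iff]
    apply Subtype.ext
    exact Subgroup.mem_centralizer_singleton_iff.mp (Subgroup.mem_inf.mp z.2).2⟩
  left_inv y := Subtype.ext (Subtype.ext rfl)
  right_inv z := Subtype.ext rfl
  map_mul' y y' := Subtype.ext rfl

theorem h7_kr_centEquiv_coe (H : Subgroup G) (x : G) (hxH : x ∈ H)
    (y : ↥(Subgroup.centralizer ({(⟨x, hxH⟩ : H)} : Set H))) :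
    ((h7_kr_centEquiv H x hxH y : ↥(H ⊓ Subgroup.centralizer ({x} : Set G))) : G) =
      ((y : H) : G) := rfl

theorem h7_kr_local_iff [Finite G] (p : ℕ) [hp : Fact p.Prime]
    (M : Ideal Cfsg.AlgInt) (hM : Cfsg.IsPModular p M) (b : Set (Cfsg.IrrCharacter G))
    (H : Subgroup G) (x : G) (hxH : x ∈ H) (hx : ∃ k : ℕ, orderOf x = p ^ k)
    (c' : Set (Cfsg.IrrCharacter ↥(Subgroup.centralizer ({(⟨x, hxH⟩ : H)} : Set H)))) :
    (∃ β : Set (Cfsg.IrrCharacter H),
      Cfsg.IsInducedBlock M (Subgroup.centralizer ({(⟨x, hxH⟩ : H)} : Set H)) c' β ∧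
        Cfsg.IsInducedBlock M H β b) ↔
    Cfsg.IsInducedBlock M (H ⊓ Subgroup.centralizer ({x} : Set G))
      (bq_trSet (h7_kr_centEquiv H x hxH).symm c') b := by
  classical
  haveI : Fintype G := Fintype.ofFinite _
  have hPr := hM.2.1.isPrime
  constructor
  · rintro ⟨β, h1, h2⟩
    exact h7_kr_induced_trans' hPr H _ _ (h7_kr_centEquiv H x hxH)
      (h7_kr_centEquiv_coe H x hxH) c' β b h1 h2
  · intro h2
    have hc' : Cfsg.IsPBlock M c' := by
      have := bq_trSet_isBlock M (h7_kr_centEquiv H x hxH) _ h2.1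
      rwa [bq_trSet_symm] at this
    have hx' : ∃ k : ℕ, orderOf (⟨x, hxH⟩ : H) = p ^ k := by
      obtain ⟨k, hk⟩ := hx
      exact ⟨k, by rw [Subgroup.orderOf_mk, hk]⟩
    obtain ⟨hP, hPH, hCH, hHN⟩ := h7_centralizer_brauer_hyps p (⟨x, hxH⟩ : H) hx'
    obtain ⟨β, hβ⟩ := Cfsg.Agent.S0919.result p M hM (Subgroup.zpowers (⟨x, hxH⟩ : H)) _
      hP hPH hCH hHN c' hc'
    exact ⟨β, hβ, bq_induced_trans hPr H _ _ (h7_kr_centEquiv H x hxH)
      (h7_kr_centEquiv_coe H x hxH) c' β b hβ h2⟩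

theorem h7_kr_local [Finite G] (p : ℕ) [hp : Fact p.Prime]
    (M : Ideal Cfsg.AlgInt) (hM : Cfsg.IsPModular p M) (b : Set (Cfsg.IrrCharacter G))
    (H : Subgroup G) (x : G) (hxH : x ∈ H) (hx : ∃ k : ℕ, orderOf x = p ^ k) :
    ∑ᶠ β ∈ {β : Set (Cfsg.IrrCharacter H) | Cfsg.IsInducedBlock M H β b},
      h7_kd_n p M β (⟨x, hxH⟩ : H) =
    h7_kr_L p M b (H ⊓ Subgroup.centralizer ({x} : Set G)) := by
  classical
  haveI : Fintype G := Fintype.ofFinite _
  haveI : Fintype H := Fintype.ofFinite _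
  haveI : Fintype (Cfsg.IrrCharacter H) := Fintype.ofFinite _
  haveI : Fintype (Cfsg.IrrCharacter ↥(H ⊓ Subgroup.centralizer ({x} : Set G))) :=
    Fintype.ofFinite _
  haveI : Fintype (Cfsg.IrrCharacter ↥(Subgroup.centralizer ({(⟨x, hxH⟩ : H)} : Set H))) :=
    Fintype.ofFinite _
  have hPr := hM.2.1.isPrime
  set σ := h7_kr_centEquiv H x hxH with hσ
  unfold h7_kr_L h7_kd_n
  rw [h7_finsum_mem_fintype {β : Set (Cfsg.IrrCharacter H) | Cfsg.IsInducedBlock M H β b},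
    h7_finsum_mem_fintype {c : Set (Cfsg.IrrCharacter ↥(H ⊓ Subgroup.centralizer ({x} : Set G))) |
      Cfsg.IsInducedBlock M (H ⊓ Subgroup.centralizer ({x} : Set G)) c b}]
  -- merge the conditions
  have h1 : ∀ β : Set (Cfsg.IrrCharacter H),
      (if β ∈ {β : Set (Cfsg.IrrCharacter H) | Cfsg.IsInducedBlock M H β b} then
        ∑ᶠ c' ∈ {c' : Set (Cfsg.IrrCharacter
            ↥(Subgroup.centralizer ({(⟨x, hxH⟩ : H)} : Set H))) | Cfsg.IsInducedBlock M
            (Subgroup.centralizer ({(⟨x, hxH⟩ : H)} : Set H)) c' β},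
            Cfsg.blockRank p c' else 0) =
      ∑ c' : Set (Cfsg.IrrCharacter ↥(Subgroup.centralizer ({(⟨x, hxH⟩ : H)} : Set H))),
        (if Cfsg.IsInducedBlock M (Subgroup.centralizer ({(⟨x, hxH⟩ : H)} : Set H)) c' β ∧
          Cfsg.IsInducedBlock M H β b then Cfsg.blockRank p c' else 0) := by
    intro β
    by_cases hβ : Cfsg.IsInducedBlock M H β b
    · rw [if_pos (show β ∈ {β : Set (Cfsg.IrrCharacter H) | Cfsg.IsInducedBlock M H β b} from hβ),
        h7_finsum_mem_fintype]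
      refine Finset.sum_congr rfl fun c' _ => ?_
      by_cases hc : Cfsg.IsInducedBlock M (Subgroup.centralizer ({(⟨x, hxH⟩ : H)} : Set H)) c' β
      · rw [if_pos (show c' ∈ {c' | Cfsg.IsInducedBlock M
            (Subgroup.centralizer ({(⟨x, hxH⟩ : H)} : Set H)) c' β} from hc), if_pos ⟨hc, hβ⟩]
      · rw [if_neg (show c' ∉ {c' | Cfsg.IsInducedBlock M
            (Subgroup.centralizer ({(⟨x, hxH⟩ : H)} : Set H)) c' β} from hc),
          if_neg (fun h => hc h.1)]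
    · rw [if_neg (show β ∉ {β : Set (Cfsg.IrrCharacter H) | Cfsg.IsInducedBlock M H β b}
        from hβ)]
      symm
      exact Finset.sum_eq_zero fun c' _ => if_neg (fun h => hβ h.2)
  rw [Finset.sum_congr rfl (fun β _ => h1 β), Finset.sum_comm]
  -- the inner sum over β
  have h2 : ∀ c' : Set (Cfsg.IrrCharacter ↥(Subgroup.centralizer ({(⟨x, hxH⟩ : H)} : Set H))),
      ∑ β : Set (Cfsg.IrrCharacter H),
        (if Cfsg.IsInducedBlock M (Subgroup.centralizer ({(⟨x, hxH⟩ : H)} : Set H)) c' β ∧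
          Cfsg.IsInducedBlock M H β b then Cfsg.blockRank p c' else 0) =
      (if Cfsg.IsInducedBlock M (H ⊓ Subgroup.centralizer ({x} : Set G))
        (bq_trSet σ.symm c') b then Cfsg.blockRank p c' else 0) := by
    intro c'
    by_cases hc : Cfsg.IsInducedBlock M (H ⊓ Subgroup.centralizer ({x} : Set G))
        (bq_trSet σ.symm c') b
    · rw [if_pos hc]
      obtain ⟨β₀, hβ₀1, hβ₀2⟩ := (h7_kr_local_iff p M hM b H x hxH hx c').mpr hc
      rw [Finset.sum_eq_single β₀]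
      · rw [if_pos ⟨hβ₀1, hβ₀2⟩]
      · intro β _ hne
        rw [if_neg]
        rintro ⟨h3, -⟩
        exact hne (h7_induced_unique hPr _ c' β β₀ h3 hβ₀1)
      · intro h
        exact absurd (Finset.mem_univ _) h
    · rw [if_neg hc]
      refine Finset.sum_eq_zero fun β _ => ?_
      rw [if_neg]
      rintro ⟨h3, h4⟩
      exact hc ((h7_kr_local_iff p M hM b H x hxH hx c').mp ⟨β, h3, h4⟩)
  rw [Finset.sum_congr rfl (fun c' _ => h2 c')]
  -- reindex
  set Φ : Set (Cfsg.IrrCharacter ↥(Subgroup.centralizer ({(⟨x, hxH⟩ : H)} : Set H))) ≃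
      Set (Cfsg.IrrCharacter ↥(H ⊓ Subgroup.centralizer ({x} : Set G))) :=
    { toFun := bq_trSet σ.symm
      invFun := bq_trSet σ
      left_inv := fun c' => bq_trSet_symm σ c'
      right_inv := fun c => bq_trSet_symm σ.symm c } with hΦ
  refine Fintype.sum_equiv Φ _ _ fun c' => ?_
  show _ = (if Φ c' ∈ {c | Cfsg.IsInducedBlock M (H ⊓ Subgroup.centralizer ({x} : Set G)) c b}
    then Cfsg.blockRank p (Φ c') else 0)
  have hΦc : Φ c' = bq_trSet σ.symm c' := rfl
  rw [hΦc, h7_kr_rank_tr p σ.symm c']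
  by_cases hc : Cfsg.IsInducedBlock M (H ⊓ Subgroup.centralizer ({x} : Set G))
      (bq_trSet σ.symm c') b
  · rw [if_pos hc, if_pos (show bq_trSet σ.symm c' ∈ {c | Cfsg.IsInducedBlock M
      (H ⊓ Subgroup.centralizer ({x} : Set G)) c b} from hc)]
  · rw [if_neg hc, if_neg (show bq_trSet σ.symm c' ∉ {c | Cfsg.IsInducedBlock M
      (H ⊓ Subgroup.centralizer ({x} : Set G)) c b} from hc)]

theorem h7_kr_local_card (H : Subgroup G) (x : G) (hxH : x ∈ H) :
    Nat.card ↥(Subgroup.centralizer ({(⟨x, hxH⟩ : H)} : Set H)) =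
      Nat.card ↥(H ⊓ Subgroup.centralizer ({x} : Set G)) :=
  Nat.card_congr (h7_kr_centEquiv H x hxH).toEquiv

end Cfsg.Agent.Lib.helper7
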