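import Mathlib
import Cfsg.Prelude.Def_Blocks
import Cfsg.Prelude.Def_BlockRank
import Cfsg.Agent.Lib.helper7.KRG
import Cfsg.Agent.Lib.helper7.KRD

/-!
`|H| (k - l)(H | b)` as a sum over the nontrivial `p`-elements of `H` (h7_kr_countH) and the
Knörr–Robinson alternating sum (h7_kr_main).
-/

set_option autoImplicit false
set_option linter.style.haveILetI false
set_option linter.unusedSectionVars false
set_option linter.unusedVariables false
set_option maxHeartbeats 1600000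

namespace Cfsg.Agent.Lib.helper7

open Cfsg.Agent.Lib.helper2 Cfsg.Agent.Lib.Helper25 Cfsg.Agent.Lib.Helper24
open scoped ComplexConjugate

variable {G : Type*} [Group G]

theorem h7_kr_finsum_subtype [Finite G] (H : Subgroup G) (Q : G → Prop) (F : G → ℕ) :
    ∑ᶠ x' ∈ {x' : H | Q (x' : G)}, F (x' : G) = ∑ᶠ x ∈ {x : G | x ∈ H ∧ Q x}, F x := by
  have himg : {x : G | x ∈ H ∧ Q x} = (Subtype.val : H → G) '' {x' : H | Q (x' : G)} := by
    ext x
    constructor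
    · rintro ⟨h1, h2⟩
      exact ⟨⟨x, h1⟩, h2, rfl⟩
    · rintro ⟨x', h2, rfl⟩
      exact ⟨x'.2, h2⟩
  rw [himg, finsum_mem_image (Set.injOn_of_injective Subtype.val_injective)]

theorem h7_kr_countH [Finite G] (p : ℕ) [hp : Fact p.Prime]
    (M : Ideal Cfsg.AlgInt) (hM : Cfsg.IsPModular p M) (b : Set (Cfsg.IrrCharacter G))
    (H : Subgroup G) :
    Nat.card H * Nat.card {ψ : Cfsg.IrrCharacter H | ∃ β : Set (Cfsg.IrrCharacter H),
        ψ ∈ β ∧ Cfsg.IsInducedBlock M H β b} =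
      Nat.card H * Cfsg.blockRank p {ψ : Cfsg.IrrCharacter H |
        ∃ β : Set (Cfsg.IrrCharacter H), ψ ∈ β ∧ Cfsg.IsInducedBlock M H β b} +
      ∑ᶠ x ∈ {x : G | x ∈ H ∧ (∃ k : ℕ, orderOf x = p ^ k) ∧ x ≠ 1},
        Nat.card ↥(H ⊓ Subgroup.centralizer ({x} : Set G)) *
          h7_kr_L p M b (H ⊓ Subgroup.centralizer ({x} : Set G)) := by
  classical
  haveI : Fintype H := Fintype.ofFinite _
  haveI : Fintype (Cfsg.IrrCharacter H) := Fintype.ofFinite _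
  have hPr := hM.2.1.isPrime
  set P : Set (Cfsg.IrrCharacter H) → Prop := fun β => Cfsg.IsInducedBlock M H β b with hPdef
  have hP : ∀ β, P β → Cfsg.IsPBlock M β := fun β h => h.1
  have hset : {ψ : Cfsg.IrrCharacter H | ∃ β : Set (Cfsg.IrrCharacter H),
      ψ ∈ β ∧ Cfsg.IsInducedBlock M H β b} =
      {ψ : Cfsg.IrrCharacter H | ∃ β, P β ∧ ψ ∈ β} := by
    ext ψ
    constructor
    · rintro ⟨β, h1, h2⟩
      exact ⟨β, h2, h1⟩
    · rintro ⟨β, h1, h2⟩
      exact ⟨β, h2, h1⟩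
  rw [hset, h7_kr_card_union hPr P hP, h7_kr_rank_union hM P hP]
  set T : Finset (Set (Cfsg.IrrCharacter H)) :=
    (Set.toFinite {β : Set (Cfsg.IrrCharacter H) | P β}).toFinset with hT
  have hTmem : ∀ β ∈ T, P β := by
    intro β hβ
    simpa [hT] using hβ
  rw [finsum_mem_eq_finite_toFinset_sum _ (Set.toFinite {β : Set (Cfsg.IrrCharacter H) | P β}),
    finsum_mem_eq_finite_toFinset_sum _ (Set.toFinite {β : Set (Cfsg.IrrCharacter H) | P β}),
    Finset.mul_sum, Finset.mul_sum]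
  have each : ∀ β ∈ T, Nat.card H * Nat.card β = Nat.card H * Cfsg.blockRank p β +
      ∑ᶠ x' ∈ {x' : H | (∃ k : ℕ, orderOf x' = p ^ k) ∧ x' ≠ 1},
        Nat.card (Subgroup.centralizer ({x'} : Set H)) * h7_kd_n p M β x' :=
    fun β hβ => h7_kr_count' p M hM β (hP β (hTmem β hβ))
  rw [Finset.sum_congr rfl each, Finset.sum_add_distrib]
  congr 1
  set S' : Finset H :=
    (Set.toFinite {x' : H | (∃ k : ℕ, orderOf x' = p ^ k) ∧ x' ≠ 1}).toFinset with hS'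
  have hS'mem : ∀ x' ∈ S', (∃ k : ℕ, orderOf x' = p ^ k) ∧ x' ≠ 1 := by
    intro x' hx'
    simpa [hS'] using hx'
  have h1 : ∀ β ∈ T, ∑ᶠ x' ∈ {x' : H | (∃ k : ℕ, orderOf x' = p ^ k) ∧ x' ≠ 1},
        Nat.card (Subgroup.centralizer ({x'} : Set H)) * h7_kd_n p M β x' =
      ∑ x' ∈ S', Nat.card (Subgroup.centralizer ({x'} : Set H)) * h7_kd_n p M β x' :=
    fun β _ => finsum_mem_eq_finite_toFinset_sum _ (Set.toFinite _)
  rw [Finset.sum_congr rfl h1, Finset.sum_comm]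
  simp_rw [← Finset.mul_sum]
  have h2 : ∀ x' ∈ S', Nat.card (Subgroup.centralizer ({x'} : Set H)) *
      ∑ β ∈ T, h7_kd_n p M β x' =
      Nat.card ↥(H ⊓ Subgroup.centralizer ({(x' : G)} : Set G)) *
        h7_kr_L p M b (H ⊓ Subgroup.centralizer ({(x' : G)} : Set G)) := by
    intro x' hx'
    obtain ⟨⟨k, hk⟩, -⟩ := hS'mem x' hx'
    have hxG : ∃ k : ℕ, orderOf (x' : G) = p ^ k := ⟨k, by rw [Subgroup.orderOf_coe, hk]⟩
    have h3 := h7_kr_local p M hM b H (x' : G) x'.2 hxG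
    rw [finsum_mem_eq_finite_toFinset_sum _
      (Set.toFinite {β : Set (Cfsg.IrrCharacter H) | P β})] at h3
    have h4 := h7_kr_local_card H (x' : G) x'.2
    have e : (⟨(x' : G), x'.2⟩ : H) = x' := rfl
    rw [e] at h3 h4
    rw [h4, ← h3]
  rw [Finset.sum_congr rfl h2]
  rw [← finsum_mem_eq_finite_toFinset_sum (fun x' : H =>
    Nat.card ↥(H ⊓ Subgroup.centralizer ({(x' : G)} : Set G)) *
        h7_kr_L p M b (H ⊓ Subgroup.centralizer ({(x' : G)} : Set G))) (Set.toFinite _)]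
  have h5 : {x' : H | (∃ k : ℕ, orderOf x' = p ^ k) ∧ x' ≠ 1} =
      {x' : H | (∃ k : ℕ, orderOf (x' : G) = p ^ k) ∧ (x' : G) ≠ 1} := by
    ext x'
    simp only [Set.mem_ofPred_eq, Subgroup.orderOf_coe, ne_eq, OneMemClass.coe_eq_one]
  rw [h5]
  exact h7_kr_finsum_subtype H (fun x => (∃ k : ℕ, orderOf x = p ^ k) ∧ x ≠ 1)
    (fun x => Nat.card ↥(H ⊓ Subgroup.centralizer ({x} : Set G)) *
        h7_kr_L p M b (H ⊓ Subgroup.centralizer ({x} : Set G)))

/-- the integer form of `h7_kr_countH` -/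
theorem h7_kr_countH_int [Finite G] (p : ℕ) [hp : Fact p.Prime]
    (M : Ideal Cfsg.AlgInt) (hM : Cfsg.IsPModular p M) (b : Set (Cfsg.IrrCharacter G))
    (H : Subgroup G) :
    (Nat.card H : ℤ) * ((Nat.card {ψ : Cfsg.IrrCharacter H | ∃ β : Set (Cfsg.IrrCharacter H),
        ψ ∈ β ∧ Cfsg.IsInducedBlock M H β b} : ℤ) -
      (Cfsg.blockRank p {ψ : Cfsg.IrrCharacter H |
        ∃ β : Set (Cfsg.IrrCharacter H), ψ ∈ β ∧ Cfsg.IsInducedBlock M H β b} : ℤ)) =
      ∑ᶠ x ∈ {x : G | x ∈ H ∧ (∃ k : ℕ, orderOf x = p ^ k) ∧ x ≠ 1},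
        ((Nat.card ↥(H ⊓ Subgroup.centralizer ({x} : Set G)) *
          h7_kr_L p M b (H ⊓ Subgroup.centralizer ({x} : Set G)) : ℕ) : ℤ) := by
  have h := h7_kr_countH p M hM b H
  have h' := congrArg (fun n : ℕ => (n : ℤ)) h
  simp only [Nat.cast_add, Nat.cast_mul] at h'
  rw [mul_sub, h', add_sub_cancel_left]
  rw [finsum_mem_eq_finite_toFinset_sum _ (Set.toFinite _),
    finsum_mem_eq_finite_toFinset_sum _ (Set.toFinite _), Nat.cast_sum]

theorem h7_kr_main [Finite G] (p : ℕ) [hp : Fact p.Prime] (M : Ideal Cfsg.AlgInt)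
    (hM : Cfsg.IsPModular p M) (b : Set (Cfsg.IrrCharacter G)) (hb : Cfsg.IsPBlock M b) :
    (Nat.card G : ℤ) * ((Nat.card b : ℤ) - (Cfsg.blockRank p b : ℤ)) =
    ∑ᶠ s ∈ {s : Finset (Subgroup G) | s.Nonempty ∧ (∀ Q ∈ s, ∀ R ∈ s, Q ≤ R ∨ R ≤ Q) ∧
      (∀ Q ∈ s, Q ≠ ⊥ ∧ IsPGroup p Q) ∧
      ∃ T ∈ s, ∀ Q ∈ s, Q ≤ T ∧ T ≤ Subgroup.normalizer ((Q : Subgroup G) : Set G)},
      (-1 : ℤ) ^ (s.card - 1) *
        (Nat.card (((⨅ Q ∈ s, Subgroup.normalizer ((Q : Subgroup G) : Set G) : Subgroup G))) : ℤ) *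
        ((Nat.card {ψ : Cfsg.IrrCharacter
            (((⨅ Q ∈ s, Subgroup.normalizer ((Q : Subgroup G) : Set G) : Subgroup G))) |
          ∃ β : Set (Cfsg.IrrCharacter
            (((⨅ Q ∈ s, Subgroup.normalizer ((Q : Subgroup G) : Set G) : Subgroup G)))),
            ψ ∈ β ∧ Cfsg.IsInducedBlock M
              (((⨅ Q ∈ s, Subgroup.normalizer ((Q : Subgroup G) : Set G) : Subgroup G))) β b} : ℤ) -
          (Cfsg.blockRank p {ψ : Cfsg.IrrCharacter
            (((⨅ Q ∈ s, Subgroup.normalizer ((Q : Subgroup G) : Set G) : Subgroup G))) |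
          ∃ β : Set (Cfsg.IrrCharacter
            (((⨅ Q ∈ s, Subgroup.normalizer ((Q : Subgroup G) : Set G) : Subgroup G)))),
            ψ ∈ β ∧ Cfsg.IsInducedBlock M
              (((⨅ Q ∈ s, Subgroup.normalizer ((Q : Subgroup G) : Set G) : Subgroup G))) β b} : ℤ)) := by
  classical
  haveI : Fintype G := Fintype.ofFinite _
  haveI : Fintype (Subgroup G) := Fintype.ofFinite _
  set w : Subgroup G → ℤ := fun K => ((Nat.card ↥K * h7_kr_L p M b K : ℕ) : ℤ) with hw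
  -- the right hand side, term by term
  have hterm : ∀ s : Finset (Subgroup G),
      (-1 : ℤ) ^ (s.card - 1) *
        (Nat.card (((⨅ Q ∈ s, Subgroup.normalizer ((Q : Subgroup G) : Set G) : Subgroup G))) : ℤ) *
        ((Nat.card {ψ : Cfsg.IrrCharacter
            (((⨅ Q ∈ s, Subgroup.normalizer ((Q : Subgroup G) : Set G) : Subgroup G))) |
          ∃ β : Set (Cfsg.IrrCharacter
            (((⨅ Q ∈ s, Subgroup.normalizer ((Q : Subgroup G) : Set G) : Subgroup G)))),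
            ψ ∈ β ∧ Cfsg.IsInducedBlock M
              (((⨅ Q ∈ s, Subgroup.normalizer ((Q : Subgroup G) : Set G) : Subgroup G))) β b} : ℤ) -
          (Cfsg.blockRank p {ψ : Cfsg.IrrCharacter
            (((⨅ Q ∈ s, Subgroup.normalizer ((Q : Subgroup G) : Set G) : Subgroup G))) |
          ∃ β : Set (Cfsg.IrrCharacter
            (((⨅ Q ∈ s, Subgroup.normalizer ((Q : Subgroup G) : Set G) : Subgroup G)))),
            ψ ∈ β ∧ Cfsg.IsInducedBlock M
              (((⨅ Q ∈ s, Subgroup.normalizer ((Q : Subgroup G) : Set G) : Subgroup G))) β b} : ℤ)) =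
      ∑ x : G, (if (∃ k : ℕ, orderOf x = p ^ k) ∧ x ≠ 1 then
        (if x ∈ h7_kr_stab s then
          (-1 : ℤ) ^ (s.card - 1) * w (h7_kr_stab s ⊓ Subgroup.centralizer ({x} : Set G))
          else 0) else 0) := by
    intro s
    rw [mul_assoc, h7_kr_countH_int p M hM b
      (((⨅ Q ∈ s, Subgroup.normalizer ((Q : Subgroup G) : Set G) : Subgroup G))),
      h7_finsum_mem_fintype, Finset.mul_sum]
    refine Finset.sum_congr rfl fun x _ => ?_
    by_cases h1 : (∃ k : ℕ, orderOf x = p ^ k) ∧ x ≠ 1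
    · rw [if_pos h1]
      by_cases h2 : x ∈ h7_kr_stab s
      · rw [if_pos h2, if_pos (show x ∈ {x : G | x ∈ (⨅ Q ∈ s,
          Subgroup.normalizer ((Q : Subgroup G) : Set G) : Subgroup G) ∧
          (∃ k : ℕ, orderOf x = p ^ k) ∧ x ≠ 1} from ⟨h2, h1⟩)]
        rfl
      · rw [if_neg h2, if_neg (show x ∉ {x : G | x ∈ (⨅ Q ∈ s,
          Subgroup.normalizer ((Q : Subgroup G) : Set G) : Subgroup G) ∧
          (∃ k : ℕ, orderOf x = p ^ k) ∧ x ≠ 1} from fun h => h2 h.1), mul_zero]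
    · rw [if_neg h1, if_neg (show x ∉ {x : G | x ∈ (⨅ Q ∈ s,
          Subgroup.normalizer ((Q : Subgroup G) : Set G) : Subgroup G) ∧
          (∃ k : ℕ, orderOf x = p ^ k) ∧ x ≠ 1} from fun h => h1 h.2), mul_zero]
  rw [finsum_mem_congr rfl (fun s _ => hterm s)]
  -- swap the sums
  rw [h7_finsum_mem_fintype]
  have hpush : ∀ a : Finset (Subgroup G),
      (if a ∈ {s : Finset (Subgroup G) | s.Nonempty ∧ (∀ Q ∈ s, ∀ R ∈ s, Q ≤ R ∨ R ≤ Q) ∧
        (∀ Q ∈ s, Q ≠ ⊥ ∧ IsPGroup p Q) ∧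
        ∃ T ∈ s, ∀ Q ∈ s, Q ≤ T ∧ T ≤ Subgroup.normalizer ((Q : Subgroup G) : Set G)} then
        ∑ x : G, (if (∃ k : ℕ, orderOf x = p ^ k) ∧ x ≠ 1 then
          (if x ∈ h7_kr_stab a then
            (-1 : ℤ) ^ (a.card - 1) * w (h7_kr_stab a ⊓ Subgroup.centralizer ({x} : Set G))
            else 0) else 0) else 0) =
      ∑ x : G, (if (∃ k : ℕ, orderOf x = p ^ k) ∧ x ≠ 1 then
        (if h7_kr_isNormalChain p a ∧ x ∈ h7_kr_stab a then
          (-1 : ℤ) ^ (a.card - 1) * w (h7_kr_stab a ⊓ Subgroup.centralizer ({x} : Set G))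
          else 0) else 0) := by
    intro a
    by_cases ha : h7_kr_isNormalChain p a
    · rw [if_pos (show a ∈ {s : Finset (Subgroup G) | s.Nonempty ∧
        (∀ Q ∈ s, ∀ R ∈ s, Q ≤ R ∨ R ≤ Q) ∧ (∀ Q ∈ s, Q ≠ ⊥ ∧ IsPGroup p Q) ∧
        ∃ T ∈ s, ∀ Q ∈ s, Q ≤ T ∧ T ≤ Subgroup.normalizer ((Q : Subgroup G) : Set G)} from ha)]
      refine Finset.sum_congr rfl fun x _ => ?_
      by_cases h1 : (∃ k : ℕ, orderOf x = p ^ k) ∧ x ≠ 1
      · rw [if_pos h1, if_pos h1]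
        by_cases h2 : x ∈ h7_kr_stab a
        · rw [if_pos h2, if_pos ⟨ha, h2⟩]
        · rw [if_neg h2, if_neg (fun h => h2 h.2)]
      · rw [if_neg h1, if_neg h1]
    · rw [if_neg (show a ∉ {s : Finset (Subgroup G) | s.Nonempty ∧
        (∀ Q ∈ s, ∀ R ∈ s, Q ≤ R ∨ R ≤ Q) ∧ (∀ Q ∈ s, Q ≠ ⊥ ∧ IsPGroup p Q) ∧
        ∃ T ∈ s, ∀ Q ∈ s, Q ≤ T ∧ T ≤ Subgroup.normalizer ((Q : Subgroup G) : Set G)} from ha)]
      symm
      refine Finset.sum_eq_zero fun x _ => ?_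
      by_cases h1 : (∃ k : ℕ, orderOf x = p ^ k) ∧ x ≠ 1
      · rw [if_pos h1, if_neg (fun h => ha h.1)]
      · rw [if_neg h1]
  rw [Finset.sum_congr rfl (fun a _ => hpush a), Finset.sum_comm]
  -- cancellation for each x
  have hx : ∀ x : G, ∑ a : Finset (Subgroup G),
      (if (∃ k : ℕ, orderOf x = p ^ k) ∧ x ≠ 1 then
        (if h7_kr_isNormalChain p a ∧ x ∈ h7_kr_stab a then
          (-1 : ℤ) ^ (a.card - 1) * w (h7_kr_stab a ⊓ Subgroup.centralizer ({x} : Set G))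
          else 0) else 0) =
      (if (∃ k : ℕ, orderOf x = p ^ k) ∧ x ≠ 1 then
        w (Subgroup.centralizer ({x} : Set G)) else 0) := by
    intro x
    by_cases h1 : (∃ k : ℕ, orderOf x = p ^ k) ∧ x ≠ 1
    · simp only [if_pos h1]
      have := h7_kr_cancel p x h1.1 h1.2 w
      rw [h7_finsum_mem_fintype] at this
      rw [← this]
      refine Finset.sum_congr rfl fun a _ => ?_
      by_cases h2 : h7_kr_isNormalChain p a ∧ x ∈ h7_kr_stab a
      · rw [if_pos h2, if_pos (show a ∈ {s : Finset (Subgroup G) |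
          h7_kr_isNormalChain p s ∧ x ∈ h7_kr_stab s} from h2)]
      · rw [if_neg h2, if_neg (show a ∉ {s : Finset (Subgroup G) |
          h7_kr_isNormalChain p s ∧ x ∈ h7_kr_stab s} from h2)]
    · simp only [if_neg h1, Finset.sum_const_zero]
  rw [Finset.sum_congr rfl (fun x _ => hx x)]
  -- Brauer's formula for `G`
  have h0 := h7_kr_count' p M hM b hb
  have h0' := congrArg (fun n : ℕ => (n : ℤ)) h0
  simp only [Nat.cast_add, Nat.cast_mul] at h0'
  rw [mul_sub, h0', add_sub_cancel_left, finsum_mem_eq_finite_toFinset_sum _ (Set.toFinite _),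
    Nat.cast_sum, ← Finset.sum_filter]
  refine Finset.sum_congr ?_ fun x _ => ?_
  · ext x
    simp
  · rfl

end Cfsg.Agent.Lib.helper7
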