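import Mathlib
import Cfsg.Prelude.Def_Blocks
import Cfsg.Prelude.Def_BlockRank
import Cfsg.Agent.Lib.helper7.KleinIso4

/-!
Perfect isometries for Klein four defect groups, part 5: `h7_ki_star` (the columns of a
non-trivial subsection are orthogonal to the `p`-regular values).
-/

set_option autoImplicit false
set_option linter.style.haveILetI false
set_option linter.unusedSectionVars false
set_option linter.unusedVariables false
set_option maxHeartbeats 1600000

namespace Cfsg.Agent.Lib.helper7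

open scoped ComplexConjugate
open Cfsg.Agent.Lib.helper2 Cfsg.Agent.Lib.Helper25 Cfsg.Agent.Lib.Helper24

variable {G : Type*} [Group G]

/-- the `b`-parts of the functions `c ↦ χ(y c)`, `χ ∈ B`, are orthogonal to the values at a
`p`-regular element when `y ≠ 1` is a `p`-element -/
theorem h7_ki_star [Fintype G] (p : ℕ) [hp : Fact p.Prime] (M : Ideal Cfsg.AlgInt)
    (hM : Cfsg.IsPModular p M) (B : Set (Cfsg.IrrCharacter G)) (hB : Cfsg.IsPBlock M B)
    (y : G) (hy : ∃ k : ℕ, orderOf y = p ^ k) (hy1 : y ≠ 1) (H : Subgroup G)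
    (hH : H = Subgroup.centralizer ({y} : Set G)) (b : Set (Cfsg.IrrCharacter H))
    (hb : Cfsg.IsPBlock M b) (s₀ : G) (hs₀ : ¬ p ∣ orderOf s₀) (s : H) (hs : ¬ p ∣ orderOf s) :
    ∑ᶠ χ ∈ B, Cfsg.blockPart b (fun c : H => (χ : G → ℂ) (y * (c : G))) s *
      (χ : G → ℂ) s₀⁻¹ = 0 := by
  classical
  haveI : Fintype H := Fintype.ofFinite _
  haveI : Fintype (Cfsg.IrrCharacter H) := Fintype.ofFinite _
  haveI : Fintype (Cfsg.IrrCharacter G) := Fintype.ofFinite _
  obtain ⟨ξ₀, rfl⟩ := hb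
  have horth := (Cfsg.Agent.S0925.result (G := G) p M hM).2
  have hcomm : ∀ c : H, Commute y (c : G) := by
    intro c
    have hc : (c : G) ∈ Subgroup.centralizer ({y} : Set G) := hH ▸ c.2
    exact (Subgroup.mem_centralizer_singleton_iff.mp hc).symm
  rw [h7_finsum_mem_fintype]
  have h1 : ∀ χ : Cfsg.IrrCharacter G,
      (if χ ∈ B then Cfsg.blockPart (Cfsg.blockOf M (ξ₀ : H → ℂ))
        (fun c : H => (χ : G → ℂ) (y * (c : G))) s * (χ : G → ℂ) s₀⁻¹ else 0) =
      ∑ c : H, st_E (Cfsg.blockOf M (ξ₀ : H → ℂ)) c s *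
        (if χ ∈ B then (χ : G → ℂ) (y * (c : G)) * (χ : G → ℂ) s₀⁻¹ else 0) := by
    intro χ
    split_ifs with h
    · rw [st_F_kernel, Finset.sum_mul]
      refine Finset.sum_congr rfl fun c _ => ?_
      ring
    · simp
  rw [Finset.sum_congr rfl (fun χ _ => h1 χ), Finset.sum_comm]
  apply Finset.sum_eq_zero
  intro c _
  rw [← Finset.mul_sum]
  by_cases hc : p ∣ orderOf c
  · have : st_E (Cfsg.blockOf M (ξ₀ : H → ℂ)) c s = 0 := by
      unfold st_E
      rw [st_E_sing hM ξ₀ s c hs hc, mul_zero]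
    rw [this, zero_mul]
  · have hc' : ¬ p ∣ orderOf (c : G) := by rwa [Subgroup.orderOf_coe]
    have hpp1 : Cfsg.IsPPart p (y * (c : G)) y := ⟨(c : G), rfl, hcomm c, hy, hc'⟩
    have hpp2 : Cfsg.IsPPart p s₀ 1 :=
      ⟨s₀, one_mul _, Commute.one_left _, ⟨0, by rw [orderOf_one, pow_zero]⟩, hs₀⟩
    have hnc : ¬ IsConj y 1 := fun h => hy1 (isConj_one_left.mp h)
    have h2 := horth (y * (c : G)) s₀ y 1 hpp1 hpp2 hnc B hB
    rw [h7_finsum_mem_fintype] at h2
    rw [h2, mul_zero]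

end Cfsg.Agent.Lib.helper7
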