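import Mathlib
import Cfsg.Prelude.Def_Blocks
import Cfsg.Prelude.Def_BlockRank
import Cfsg.Agent.Lib.helper7.KleinIso5

/-!
Perfect isometries for Klein four defect groups, part 6: `h7_ki_sub_package`, the sign vector and
the values on the `2`-regular elements attached to a subsection at an involution of a `2`-block of
defect two.
-/

set_option autoImplicit false
set_option linter.style.haveILetI false
set_option linter.unusedSectionVars false
set_option linter.unusedVariables false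
set_option maxHeartbeats 1600000

namespace Cfsg.Agent.Lib.helper7

open scoped ComplexConjugate
open Cfsg.Agent.Lib.helper2 Cfsg.Agent.Lib.Helper25 Cfsg.Agent.Lib.Helper24

variable {G : Type*} [Group G]

/-- the multiplicities of `c ↦ χ(y c)`, `y` a central involution of `H`, are integers -/
theorem h7_ki_sub_int [Fintype G] (y : G) (hy : orderOf y = 2) (H : Subgroup G) [Fintype H]
    [Fintype (Cfsg.IrrCharacter H)] (hyH : y ∈ H) (hcent : ∀ h ∈ H, h * y = y * h)
    (χ : Cfsg.IrrCharacter G) (θ : Cfsg.IrrCharacter H) :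
    ∃ k : ℤ, Cfsg.classInner (fun c : H => (χ : G → ℂ) (y * (c : G))) (θ : H → ℂ) = (k : ℂ) := by
  classical
  have hyc : (⟨y, hyH⟩ : H) ∈ Subgroup.center H := by
    rw [Subgroup.mem_center_iff]
    intro g
    apply Subtype.ext
    rw [Subgroup.coe_mul, Subgroup.coe_mul]
    exact hcent g g.2
  have hex : ∀ ψ : Cfsg.IrrCharacter H, ∃ c : ℂ, ∀ x : H,
      (ψ : H → ℂ) ((⟨y, hyH⟩ : H) * x) = c * (ψ : H → ℂ) x :=
    fun ψ => h7_central_char ψ.2 _ hyc
  choose lam hlam using hex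
  have hsq : lam θ ^ 2 = 1 := by
    have h1 := su_shift_pow θ (⟨y, hyH⟩ : H) (lam θ) (hlam θ) 2 1
    have h2 : (⟨y, hyH⟩ : H) ^ 2 = 1 := by
      apply Subtype.ext
      show y ^ 2 = 1
      rw [← hy]
      exact pow_orderOf_eq_one y
    rw [h2, one_mul] at h1
    have h3 := irr_one_ne_zero θ
    have h4 : (lam θ ^ 2 - 1) * (θ : H → ℂ) 1 = 0 := by
      rw [sub_mul, one_mul, ← h1, sub_self]
    rcases mul_eq_zero.mp h4 with h | h
    · exact sub_eq_zero.mp h
    · exact absurd h h3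
  have h5 := su_theta_inner H y hyH hcent χ lam hlam 1 θ
  simp only [pow_one] at h5
  obtain ⟨n, hn⟩ := classInner_character_nat
    (isCharacter_restrict (isCharacter_of_irr χ) H) (isCharacter_of_irr θ)
  rw [h5, hn]
  have h6 : lam θ = 1 ∨ lam θ = -1 := by
    have : (lam θ - 1) * (lam θ + 1) = 0 := by ring_nf; rw [hsq]; ring
    rcases mul_eq_zero.mp this with h | h
    · left; exact sub_eq_zero.mp h
    · right; exact eq_neg_of_add_eq_zero_left h
  rcases h6 with h | h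
  · exact ⟨(n : ℤ), by rw [h]; push_cast; ring⟩
  · exact ⟨-(n : ℤ), by rw [h]; push_cast; ring⟩

/-- the sign vector and the `2`-regular values of a subsection at an involution -/
theorem h7_ki_sub_package [Fintype G] (M : Ideal Cfsg.AlgInt) (hM : Cfsg.IsPModular 2 M)
    (B : Set (Cfsg.IrrCharacter G)) (hB : Cfsg.IsPBlock M B) (hd : Cfsg.blockDefect 2 B = 2)
    (y : G) (hy : orderOf y = 2) (H : Subgroup G) (hH : H = Subgroup.centralizer ({y} : Set G))
    (b : Set (Cfsg.IrrCharacter H)) (hind : Cfsg.IsInducedBlock M H b B) :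
    ∃ (δ : Cfsg.IrrCharacter G → ℤ) (φ : H → ℂ),
      (∀ χ ∈ B, δ χ = 1 ∨ δ χ = -1) ∧
      (∀ χ : Cfsg.IrrCharacter G, ∀ s : H, ¬ 2 ∣ orderOf s →
        Cfsg.blockPart b (fun c : H => (χ : G → ℂ) (y * (c : G))) s = (δ χ : ℂ) * φ s) ∧
      (∀ s₀ : G, ¬ 2 ∣ orderOf s₀ → ∑ᶠ χ ∈ B, (δ χ : ℂ) * (χ : G → ℂ) s₀ = 0) ∧
      (∀ s : H, ¬ 2 ∣ orderOf s → Cfsg.MemLocalRing M
        (4 * φ s / (Nat.card (Subgroup.centralizer ({y * (s : G)} : Set G)) : ℂ))) ∧
      (∀ s : H, IsIntegral ℤ (φ s)) := by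
  classical
  haveI : Fact (Nat.Prime 2) := ⟨Nat.prime_two⟩
  haveI : Fintype H := Fintype.ofFinite _
  haveI : Fintype (Cfsg.IrrCharacter H) := Fintype.ofFinite _
  haveI : Fintype (Cfsg.IrrCharacter G) := Fintype.ofFinite _
  have hPr := hM.2.1.isPrime
  obtain ⟨hrank, hdb⟩ := h7_ki_sub_basic M hM B hB hd y hy H hH b hind
  obtain ⟨hreg, hinner⟩ := h7_ki_rank_one_reg M hM b hind.1 hdb hrank
  obtain ⟨θ₀, hbθ₀⟩ := hind.1
  have hθ₀ : θ₀ ∈ b := by
    rw [hbθ₀]
    exact h7_sameBlock_refl hPr _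
  have hyH : y ∈ H := by
    rw [hH]
    exact Subgroup.mem_centralizer_singleton_iff.mpr rfl
  have hcent : ∀ h ∈ H, h * y = y * h := by
    intro h hh
    rw [hH] at hh
    exact Subgroup.mem_centralizer_singleton_iff.mp hh
  have hcent' : ∀ g : G, g * y = y * g → g ∈ H := by
    intro g hg
    rw [hH]
    exact Subgroup.mem_centralizer_singleton_iff.mpr hg
  have hy2 : ∃ k : ℕ, orderOf y = 2 ^ k := ⟨1, by rw [hy, pow_one]⟩
  have hy1 : y ≠ 1 := by
    intro h
    rw [h, orderOf_one] at hy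
    norm_num at hy
  -- the integer multiplicities
  have hex : ∀ χ : Cfsg.IrrCharacter G, ∃ d : ℤ, (d : ℂ) =
      ∑ θ : Cfsg.IrrCharacter H, if θ ∈ b then
        Cfsg.classInner (fun c : H => (χ : G → ℂ) (y * (c : G))) (θ : H → ℂ) else 0 := by
    intro χ
    have h1 : ∀ θ : Cfsg.IrrCharacter H, ∃ k : ℤ,
        Cfsg.classInner (fun c : H => (χ : G → ℂ) (y * (c : G))) (θ : H → ℂ) = (k : ℂ) :=
      fun θ => h7_ki_sub_int y hy H hyH hcent χ θ
    choose k hk using h1
    refine ⟨∑ θ : Cfsg.IrrCharacter H, if θ ∈ b then k θ else 0, ?_⟩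
    push_cast
    refine Finset.sum_congr rfl fun θ _ => ?_
    split_ifs
    · exact (hk θ).symm
    · rfl
  choose δ hδ using hex
  set φ : H → ℂ := (θ₀ : H → ℂ) with hφ
  -- the block parts on the regular elements
  have hpart : ∀ χ : Cfsg.IrrCharacter G, ∀ s : H, ¬ 2 ∣ orderOf s →
      Cfsg.blockPart b (fun c : H => (χ : G → ℂ) (y * (c : G))) s = (δ χ : ℂ) * φ s := by
    intro χ s hs
    rw [ib_blockPart_apply, h7_finsum_mem_fintype, hδ χ, Finset.sum_mul]
    refine Finset.sum_congr rfl fun θ _ => ?_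
    split_ifs with h
    · rw [hreg θ h θ₀ hθ₀ s hs]
    · rw [zero_mul]
  -- orthogonality to the regular values
  have hstar : ∀ s₀ : G, ¬ 2 ∣ orderOf s₀ → ∑ᶠ χ ∈ B, (δ χ : ℂ) * (χ : G → ℂ) s₀ = 0 := by
    intro s₀ hs₀
    have hs₀' : ¬ 2 ∣ orderOf s₀⁻¹ := by rwa [orderOf_inv]
    have h1 := h7_ki_star 2 M hM B hB y hy2 hy1 H hH b hind.1 s₀⁻¹ hs₀' 1
      (by rw [orderOf_one]; norm_num)
    rw [inv_inv] at h1
    have h2 : ∀ χ : Cfsg.IrrCharacter G,
        Cfsg.blockPart b (fun c : H => (χ : G → ℂ) (y * (c : G))) 1 * (χ : G → ℂ) s₀ =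
        φ 1 * ((δ χ : ℂ) * (χ : G → ℂ) s₀) := by
      intro χ
      rw [hpart χ 1 (by rw [orderOf_one]; norm_num)]
      ring
    rw [finsum_mem_congr rfl (fun χ _ => h2 χ), ← mul_finsum_mem] at h1
    rcases mul_eq_zero.mp h1 with h | h
    · exact absurd h (irr_one_ne_zero θ₀)
    · exact h
  -- the norm
  have hnorm : ∀ χ : Cfsg.IrrCharacter G, Cfsg.classInner
      (Cfsg.pRegularPart 2 (Cfsg.blockPart b (fun c : H => (χ : G → ℂ) (y * (c : G)))))
      (Cfsg.blockPart b (fun c : H => (χ : G → ℂ) (y * (c : G)))) = (δ χ : ℂ) ^ 2 / 4 := by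
    intro χ
    have h1 := hinner θ₀ hθ₀ θ₀ hθ₀
    unfold Cfsg.classInner at h1 ⊢
    have h2 : ∑ s : H, Cfsg.pRegularPart 2
        (Cfsg.blockPart b (fun c : H => (χ : G → ℂ) (y * (c : G)))) s *
        conj (Cfsg.blockPart b (fun c : H => (χ : G → ℂ) (y * (c : G))) s) =
        (δ χ : ℂ) ^ 2 * ∑ s : H, Cfsg.pRegularPart 2 (θ₀ : H → ℂ) s * conj ((θ₀ : H → ℂ) s) := by
      rw [Finset.mul_sum]
      refine Finset.sum_congr rfl fun s _ => ?_
      by_cases hs : 2 ∣ orderOf s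
      · rw [br_pRegularPart_sing 2 _ s hs, br_pRegularPart_sing 2 _ s hs]
        ring
      · rw [br_pRegularPart_reg 2 _ s hs, br_pRegularPart_reg 2 _ s hs, hpart χ s hs, map_mul,
          map_intCast]
        ring
    rw [h2, ← mul_assoc, mul_comm _ ((δ χ : ℂ) ^ 2), mul_assoc, h1]
    ring
  have htrace := st_trace 2 M hM H y hyH hcent hcent' hy2 b B hind
  rw [finsum_mem_congr rfl (fun χ _ => hnorm χ), hrank] at htrace
  -- nonvanishing
  have hne : ∀ χ ∈ B, δ χ ≠ 0 := by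
    intro χ hχ h0
    have hh := h7_ki_heights_zero M hM B hB hd χ hχ
    have hunit := su_unit 2 M hM H y hyH hcent 1
      (by rw [pow_one, ← hy]; exact pow_orderOf_eq_one y) b B hind χ χ hχ hχ hh hh 1
    apply hunit
    simp only [pow_one]
    rw [hnorm χ, h0]
    simp only [Int.cast_zero, ne_eq, OfNat.ofNat_ne_zero, not_false_eq_true, zero_pow, zero_div,
      mul_zero]
    exact h7_memLocalIdeal_zero hPr
  have hcard := h7_kd_card_four M hM B hB hd
  set Bf := Finset.univ.filter (· ∈ B) with hBf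
  have hBfcard : Bf.card = 4 := by
    rw [← hcard, Nat.card_eq_fintype_card, Fintype.card_subtype]
  have hsumsq : ∑ χ ∈ Bf, (δ χ) ^ 2 = 4 := by
    rw [h7_finsum_mem_fintype] at htrace
    have h2 : ((∑ χ ∈ Bf, (δ χ) ^ 2 : ℤ) : ℂ) = ((4 : ℤ) : ℂ) := by
      push_cast
      rw [Finset.sum_filter]
      have h3 : (4 : ℂ) = 4 * ((1 : ℕ) : ℂ) := by norm_num
      rw [h3, ← htrace, Finset.mul_sum]
      refine Finset.sum_congr rfl fun χ _ => ?_
      split_ifs
      · ring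
      · rw [mul_zero]
    exact_mod_cast h2
  have hone : ∀ χ ∈ B, (δ χ) ^ 2 = 1 := by
    intro χ hχ
    refine h7_ki_four_ones Bf hBfcard (fun χ => (δ χ) ^ 2) ?_ hsumsq χ (by simp [hBf, hχ])
    intro ψ hψ
    have hψB : ψ ∈ B := by simpa [hBf] using hψ
    have := hne ψ hψB
    have : 0 < (δ ψ) ^ 2 := by positivity
    omega
  refine ⟨δ, φ, ?_, hpart, hstar, ?_, ?_⟩
  · intro χ hχ
    have h2 := hone χ hχ
    have : (δ χ - 1) * (δ χ + 1) = 0 := by ring_nf; rw [h2]; ring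
    rcases mul_eq_zero.mp this with h | h
    · left; omega
    · right; omega
  · intro s hs
    have h1 := h7_ki_val_bound 2 M hM b θ₀ hθ₀ s
    rw [hdb, h7_ki_card_centralizer y hy2 H hH s hs] at h1
    convert h1 using 2
    rw [hφ]
    norm_num
  · intro s
    exact irr_integral θ₀ s

end Cfsg.Agent.Lib.helper7
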