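import Mathlib
import Cfsg.Prelude.Def_Blocks
import Cfsg.Prelude.Def_BlockRank
import Cfsg.Agent.Lib.helper7.KleinIso6
import Cfsg.Agent.Lib.Helper25.BrauerPairExtMain
import Cfsg.Agent.S0908

/-!
Perfect isometries for Klein four defect groups, part 7: `h7_ki_defect_two`, `h7_ki_order_two`
(non-trivial subsections of a block with a Klein four defect group sit at involutions),
`h7_ki_kernel_line`, `h7_ki_struct_three` (the structure of the character values when `l(B) = 3`).
-/

set_option autoImplicit false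
set_option linter.style.haveILetI false
set_option linter.unusedSectionVars false
set_option linter.unusedVariables false
set_option maxHeartbeats 1600000

namespace Cfsg.Agent.Lib.helper7

open scoped ComplexConjugate
open Cfsg.Agent.Lib.helper2 Cfsg.Agent.Lib.Helper25 Cfsg.Agent.Lib.Helper24

variable {G : Type*} [Group G]

/-- a block with a Klein four defect group has defect two -/
theorem h7_ki_defect_two [Finite G] (M : Ideal Cfsg.AlgInt) (hM : Cfsg.IsPModular 2 M)
    (B : Set (Cfsg.IrrCharacter G)) (hB : Cfsg.IsPBlock M B) (P : Subgroup G)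
    (hPD : Cfsg.IsDefectGroup 2 M B P) (hV : IsKleinFour P) : Cfsg.blockDefect 2 B = 2 := by
  haveI : Fact (Nat.Prime 2) := ⟨Nat.prime_two⟩
  have hcardP : Nat.card P = 4 := IsKleinFour.card_four
  have h1 := Cfsg.Agent.S0908.result 2 M hM B hB P hPD
  rw [hcardP] at h1
  have h2 : (2 : ℕ) ^ 2 = 2 ^ Cfsg.blockDefect 2 B := by rw [← h1]; norm_num
  exact (Nat.pow_right_injective (le_refl 2) h2).symm

theorem h7_ki_induced_transport (M : Ideal Cfsg.AlgInt) (B : Set (Cfsg.IrrCharacter G))
    (H K : Subgroup G) (h : H = K) (b : Set (Cfsg.IrrCharacter H))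
    (hb : Cfsg.IsInducedBlock M H b B) :
    ∃ b' : Set (Cfsg.IrrCharacter K), Cfsg.IsInducedBlock M K b' B := by
  subst h
  exact ⟨b, hb⟩

/-- a non-trivial subsection of a block with a Klein four defect group sits at an involution -/
theorem h7_ki_order_two [Fintype G] (M : Ideal Cfsg.AlgInt) (hM : Cfsg.IsPModular 2 M)
    (B : Set (Cfsg.IrrCharacter G)) (hB : Cfsg.IsPBlock M B) (P : Subgroup G)
    (hPD : Cfsg.IsDefectGroup 2 M B P) (hV : IsKleinFour P) (y : G)
    (hy : ∃ k : ℕ, orderOf y = 2 ^ k) (hy1 : y ≠ 1) (H : Subgroup G)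
    (hH : H = Subgroup.centralizer ({y} : Set G)) (b : Set (Cfsg.IrrCharacter H))
    (hind : Cfsg.IsInducedBlock M H b B) : orderOf y = 2 := by
  classical
  haveI : Fact (Nat.Prime 2) := ⟨Nat.prime_two⟩
  have hPp : IsPGroup 2 P := by
    obtain ⟨g, hg, S, hS⟩ := hPD
    rw [hS]
    exact S.isPGroup'.map _
  obtain ⟨e, he⟩ := bq_pair_at_defect 2 M hM P hPp B hB hPD
  have hmax := bq_max_of_defect 2 M hM B P e he hPD
  obtain ⟨f, hf⟩ := h7_ki_induced_transport M B H _
    (hH.trans (h7_kd_centralizer_zpowers y)) b hind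
  have hpair := h7_kd_pair_of_induced 2 M hM (Subgroup.zpowers y)
    (h7_kd_isPGroup_zpowers 2 y hy) B f hf
  obtain ⟨x, hx⟩ := h7_kd_conj_into 2 M hM B P e hmax y f hpair
  have h1 : x * y * x⁻¹ ≠ 1 := h7_kd_conj_ne_one y x hy1
  have h2 := ks_order_two P hV hx h1
  have h3 : orderOf (x * y * x⁻¹) = orderOf y := by
    have := orderOf_injective (MulAut.conj x).toMonoidHom (MulAut.conj x).injective y
    simpa using this
  rw [← h3]
  exact h2

/-- if the span of `v` has codimension one in the coefficient space, the relations form a line -/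
theorem h7_ki_kernel_line {ι : Type*} [Fintype ι] {V : Type*} [AddCommGroup V] [Module ℂ V]
    (v : ι → V)
    (hrank : Module.finrank ℂ (Submodule.span ℂ (Set.range v)) + 1 = Fintype.card ι)
    (d a : ι → ℂ) (hd : ∑ i, d i • v i = 0) (hd0 : d ≠ 0) (ha : ∑ i, a i • v i = 0) :
    ∃ c : ℂ, a = c • d := by
  set L := Fintype.linearCombination ℂ v with hL
  have h1 := LinearMap.finrank_range_add_finrank_ker L
  rw [hL, Fintype.range_linearCombination, Module.finrank_fintype_fun_eq_card, ← hrank] at h1
  have h2 : Module.finrank ℂ (LinearMap.ker (Fintype.linearCombination ℂ v)) = 1 := by omega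
  have hdk : d ∈ LinearMap.ker (Fintype.linearCombination ℂ v) := by
    rw [LinearMap.mem_ker, Fintype.linearCombination_apply]
    exact hd
  have hak : a ∈ LinearMap.ker (Fintype.linearCombination ℂ v) := by
    rw [LinearMap.mem_ker, Fintype.linearCombination_apply]
    exact ha
  have hne : (⟨d, hdk⟩ : LinearMap.ker (Fintype.linearCombination ℂ v)) ≠ 0 := by
    intro h
    apply hd0
    exact congrArg Subtype.val h
  obtain ⟨c, hc⟩ := (finrank_eq_one_iff_of_nonzero' _ hne).mp h2 ⟨a, hak⟩
  refine ⟨c, ?_⟩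
  have := congrArg Subtype.val hc
  exact this.symm

end Cfsg.Agent.Lib.helper7
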