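import Mathlib
import Cfsg.Prelude.Def_Blocks
import Cfsg.Prelude.Def_BlockRank
import Cfsg.Agent.Lib.helper7.KleinIso7

/-!
Perfect isometries for Klein four defect groups, part 8: `h7_ki_struct_three` (the structure of
the character values of a block with a Klein four defect group and `l(B) = 3`).
-/

set_option autoImplicit false
set_option linter.style.haveILetI false
set_option linter.unusedSectionVars false
set_option linter.unusedVariables false
set_option maxHeartbeats 1600000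

namespace Cfsg.Agent.Lib.helper7

open scoped ComplexConjugate
open Cfsg.Agent.Lib.helper2 Cfsg.Agent.Lib.Helper25 Cfsg.Agent.Lib.Helper24

variable {G : Type*} [Group G]

/-- block orthogonality between a `p`-regular and a `p`-singular element -/
theorem h7_ki_orth_reg_sing [Finite G] (p : ℕ) [hp : Fact p.Prime] (M : Ideal Cfsg.AlgInt)
    (hM : Cfsg.IsPModular p M) (B : Set (Cfsg.IrrCharacter G)) (hB : Cfsg.IsPBlock M B)
    (g x : G) (hg : ¬ p ∣ orderOf g) (hx : p ∣ orderOf x) :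
    ∑ᶠ χ ∈ B, (χ : G → ℂ) g * (χ : G → ℂ) x = 0 := by
  have horth := (Cfsg.Agent.S0925.result (G := G) p M hM).2
  have hpp1 : Cfsg.IsPPart p g 1 :=
    ⟨g, one_mul _, Commute.one_left _, ⟨0, by rw [orderOf_one, pow_zero]⟩, hg⟩
  have hpp2 : Cfsg.IsPPart p x⁻¹ (sc_pp p x⁻¹) := sc_pp_spec p x⁻¹
  have hnc : ¬ IsConj 1 (sc_pp p x⁻¹) := by
    intro h
    have := (h7_kd_pp_eq_one_iff p x⁻¹).mp h.symm
    rw [orderOf_inv] at this
    exact this hx
  have := horth g x⁻¹ 1 (sc_pp p x⁻¹) hpp1 hpp2 hnc B hB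
  rwa [inv_inv] at this

/-- the structure of the character values when `l(B) = 3` -/
theorem h7_ki_struct_three [Fintype G] (M : Ideal Cfsg.AlgInt) (hM : Cfsg.IsPModular 2 M)
    (B : Set (Cfsg.IrrCharacter G)) (hB : Cfsg.IsPBlock M B) (P : Subgroup G)
    (hPD : Cfsg.IsDefectGroup 2 M B P) (hV : IsKleinFour P) (h3 : Cfsg.blockRank 2 B = 3) :
    ∃ δ : Cfsg.IrrCharacter G → ℤ, (∀ χ ∈ B, δ χ = 1 ∨ δ χ = -1) ∧
      (∀ s₀ : G, ¬ 2 ∣ orderOf s₀ → ∑ᶠ χ ∈ B, (δ χ : ℂ) * (χ : G → ℂ) s₀ = 0) ∧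
      (∀ x : G, 2 ∣ orderOf x → ∀ χ ∈ B, ∀ χ' ∈ B,
        (δ χ : ℂ) * (χ : G → ℂ) x = (δ χ' : ℂ) * (χ' : G → ℂ) x) := by
  classical
  haveI : Fact (Nat.Prime 2) := ⟨Nat.prime_two⟩
  haveI : Fintype (Cfsg.IrrCharacter G) := Fintype.ofFinite _
  have hPr := hM.2.1.isPrime
  have hd := h7_ki_defect_two M hM B hB P hPD hV
  have hcard := h7_kd_card_four M hM B hB hd
  obtain ⟨X, h1X, hXp, hXrep, hform⟩ := h7_kd_brauer 2 M hM B hB
  rw [hcard, h3] at hform
  have hsum : ∑ x ∈ X.erase 1, h7_kd_n 2 M B x ≠ 0 := by omega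
  obtain ⟨y, hyX, hny⟩ := Finset.exists_ne_zero_of_sum_ne_zero hsum
  obtain ⟨hy1, hyX'⟩ := Finset.mem_erase.mp hyX
  have hyp := hXp y hyX'
  have hexb : ∃ b : Set (Cfsg.IrrCharacter (Subgroup.centralizer ({y} : Set G))),
      Cfsg.IsInducedBlock M (Subgroup.centralizer ({y} : Set G)) b B := by
    by_contra hcon
    push Not at hcon
    apply hny
    unfold h7_kd_n
    have : {b : Set (Cfsg.IrrCharacter (Subgroup.centralizer ({y} : Set G))) |
        Cfsg.IsInducedBlock M (Subgroup.centralizer ({y} : Set G)) b B} = ∅ :=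
      Set.eq_empty_iff_forall_notMem.mpr hcon
    rw [this, finsum_mem_empty]
  obtain ⟨b, hb⟩ := hexb
  have hy2 := h7_ki_order_two M hM B hB P hPD hV y hyp hy1 _ rfl b hb
  obtain ⟨δ, φ, hpm, hpart, hstar, -, -⟩ := h7_ki_sub_package M hM B hB hd y hy2 _ rfl b hb
  refine ⟨δ, hpm, hstar, ?_⟩
  haveI : Fintype ↥B := Fintype.ofFinite _
  set v : ↥B → (G → ℂ) := fun χ => Cfsg.pRegularPart 2 ((χ : Cfsg.IrrCharacter G) : G → ℂ)
    with hv
  have hrange : Set.range v =
      (fun χ : Cfsg.IrrCharacter G => Cfsg.pRegularPart 2 (χ : G → ℂ)) '' B := by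
    ext f
    constructor
    · rintro ⟨χ, rfl⟩
      exact ⟨χ.1, χ.2, rfl⟩
    · rintro ⟨χ, hχ, rfl⟩
      exact ⟨⟨χ, hχ⟩, rfl⟩
  have hrank : Module.finrank ℂ (Submodule.span ℂ (Set.range v)) + 1 = Fintype.card ↥B := by
    rw [hrange]
    show Cfsg.blockRank 2 B + 1 = _
    rw [h3, ← Nat.card_eq_fintype_card, hcard]
  have hsub : ∀ f : Cfsg.IrrCharacter G → ℂ, ∑ᶠ χ ∈ B, f χ = ∑ χ : ↥B, f χ := by
    intro f
    rw [← finsum_set_coe_eq_finsum_mem, finsum_eq_sum_of_fintype]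
  set d : ↥B → ℂ := fun χ => (δ χ : ℂ) with hdd
  have hdker : ∑ χ : ↥B, d χ • v χ = 0 := by
    funext g
    rw [Finset.sum_apply]
    simp only [Pi.smul_apply, smul_eq_mul, Pi.zero_apply]
    by_cases hg : 2 ∣ orderOf g
    · apply Finset.sum_eq_zero
      intro χ _
      rw [hv]
      simp only
      rw [br_pRegularPart_sing 2 _ g hg, mul_zero]
    · have := hstar g hg
      rw [hsub] at this
      rw [← this]
      refine Finset.sum_congr rfl fun χ _ => ?_
      rw [hv]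
      simp only
      rw [br_pRegularPart_reg 2 _ g hg]
  obtain ⟨χ₀', hχ₀'⟩ := hB
  have hχ₀ : χ₀' ∈ B := by
    rw [hχ₀']
    exact h7_sameBlock_refl hPr _
  have hd0 : d ≠ 0 := by
    intro h
    have h1 := congrFun h ⟨χ₀', hχ₀⟩
    simp only [hdd, Pi.zero_apply] at h1
    rcases hpm χ₀' hχ₀ with h2 | h2
    · rw [h2] at h1
      norm_num at h1
    · rw [h2] at h1
      norm_num at h1
  intro x hx
  set a : ↥B → ℂ := fun χ => ((χ : Cfsg.IrrCharacter G) : G → ℂ) x with haa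
  have haker : ∑ χ : ↥B, a χ • v χ = 0 := by
    funext g
    rw [Finset.sum_apply]
    simp only [Pi.smul_apply, smul_eq_mul, Pi.zero_apply]
    by_cases hg : 2 ∣ orderOf g
    · apply Finset.sum_eq_zero
      intro χ _
      rw [hv]
      simp only
      rw [br_pRegularPart_sing 2 _ g hg, mul_zero]
    · have := h7_ki_orth_reg_sing 2 M hM B ⟨χ₀', hχ₀'⟩ g x hg hx
      rw [hsub] at this
      rw [← this]
      refine Finset.sum_congr rfl fun χ _ => ?_
      rw [hv]
      simp only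
      rw [br_pRegularPart_reg 2 _ g hg, mul_comm]
  obtain ⟨c, hc⟩ := h7_ki_kernel_line v hrank d a hdker hd0 haker
  have hval : ∀ χ ∈ B, (δ χ : ℂ) * (χ : G → ℂ) x = c := by
    intro χ hχ
    have h1 := congrFun hc ⟨χ, hχ⟩
    simp only [haa, hdd, Pi.smul_apply, smul_eq_mul] at h1
    rw [h1]
    rcases hpm χ hχ with h2 | h2
    · rw [h2]
      push_cast
      ring
    · rw [h2]
      push_cast
      ring
  intro χ hχ χ' hχ'
  rw [hval χ hχ, hval χ' hχ']

end Cfsg.Agent.Lib.helper7
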