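import Mathlib
import Cfsg.Prelude.Def_Blocks
import Cfsg.Prelude.Def_BlockRank
import Cfsg.Agent.Lib.helper7.KleinIso8

/-!
Perfect isometries for Klein four defect groups, part 9: `h7_ki_struct_one` (the structure of
the character values of a block with a Klein four defect group and `l(B) = 1`).
-/

set_option autoImplicit false
set_option linter.style.haveILetI false
set_option linter.unusedSectionVars false
set_option linter.unusedVariables false
set_option maxHeartbeats 1600000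

namespace Cfsg.Agent.Lib.helper7

open scoped ComplexConjugate
open Cfsg.Agent.Lib.helper2 Cfsg.Agent.Lib.Helper25 Cfsg.Agent.Lib.Helper24

universe u

/-- the structure of the character values when `l(B) = 1` -/
theorem h7_ki_struct_one {G : Type u} [Group G] [Fintype G] (M : Ideal Cfsg.AlgInt)
    (hM : Cfsg.IsPModular 2 M)
    (B : Set (Cfsg.IrrCharacter G)) (hB : Cfsg.IsPBlock M B) (P : Subgroup G)
    (hPD : Cfsg.IsDefectGroup 2 M B P) (hV : IsKleinFour P) (h1 : Cfsg.blockRank 2 B = 1) :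
    (∀ s₀ : G, ¬ 2 ∣ orderOf s₀ → ∀ χ ∈ B, ∀ χ' ∈ B, (χ : G → ℂ) s₀ = (χ' : G → ℂ) s₀) ∧
    (∀ x : G, 2 ∣ orderOf x → ∃ (ι : Type u) (_ : Fintype ι) (α : ι → ℂ)
      (δ : ι → Cfsg.IrrCharacter G → ℤ),
      (∀ j, ∀ χ ∈ B, δ j χ = 1 ∨ δ j χ = -1) ∧ (∀ j, ∑ᶠ χ ∈ B, δ j χ = 0) ∧
      (∀ j, Cfsg.MemLocalRing M
        (4 * α j / (Nat.card (Subgroup.centralizer ({x} : Set G)) : ℂ))) ∧
      (∀ j, IsIntegral ℤ (α j)) ∧
      ∀ χ ∈ B, (χ : G → ℂ) x = ∑ j, α j * (δ j χ : ℂ)) := by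
  classical
  haveI : Fact (Nat.Prime 2) := ⟨Nat.prime_two⟩
  haveI : Fintype (Cfsg.IrrCharacter G) := Fintype.ofFinite _
  have hPr := hM.2.1.isPrime
  have hd := h7_ki_defect_two M hM B hB P hPD hV
  have hreg := (h7_ki_rank_one_reg M hM B hB hd h1).1
  obtain ⟨χ₀, hχ₀'⟩ := hB
  have hB : Cfsg.IsPBlock M B := ⟨χ₀, hχ₀'⟩
  have hχ₀ : χ₀ ∈ B := by
    rw [hχ₀']
    exact h7_sameBlock_refl hPr _
  refine ⟨fun s₀ hs₀ χ hχ χ' hχ' => hreg χ hχ χ' hχ' s₀ hs₀, ?_⟩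
  intro x hx
  obtain ⟨s, hys, hcomm, hy2, hs⟩ := sc_pp_spec 2 x
  set y := sc_pp 2 x with hy
  have hy1 : y ≠ 1 := by
    intro h
    rw [h, one_mul] at hys
    rw [hys] at hs
    exact hs hx
  have hsmem : s ∈ Subgroup.centralizer ({y} : Set G) :=
    Subgroup.mem_centralizer_singleton_iff.mpr hcomm.eq.symm
  have hsH : ¬ 2 ∣ orderOf (⟨s, hsmem⟩ : Subgroup.centralizer ({y} : Set G)) := by
    rw [← Subgroup.orderOf_coe]
    exact hs
  haveI : Fintype ↥{b : Set (Cfsg.IrrCharacter (Subgroup.centralizer ({y} : Set G))) |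
      Cfsg.IsInducedBlock M (Subgroup.centralizer ({y} : Set G)) b B} := Fintype.ofFinite _
  have pk : ∀ j : ↥{b : Set (Cfsg.IrrCharacter (Subgroup.centralizer ({y} : Set G))) |
      Cfsg.IsInducedBlock M (Subgroup.centralizer ({y} : Set G)) b B},
      ∃ (δ : Cfsg.IrrCharacter G → ℤ) (φ : Subgroup.centralizer ({y} : Set G) → ℂ),
      (∀ χ ∈ B, δ χ = 1 ∨ δ χ = -1) ∧
      (∀ χ : Cfsg.IrrCharacter G, ∀ s : Subgroup.centralizer ({y} : Set G), ¬ 2 ∣ orderOf s →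
        Cfsg.blockPart j.1 (fun c : Subgroup.centralizer ({y} : Set G) =>
          (χ : G → ℂ) (y * (c : G))) s = (δ χ : ℂ) * φ s) ∧
      (∀ s₀ : G, ¬ 2 ∣ orderOf s₀ → ∑ᶠ χ ∈ B, (δ χ : ℂ) * (χ : G → ℂ) s₀ = 0) ∧
      (∀ s : Subgroup.centralizer ({y} : Set G), ¬ 2 ∣ orderOf s → Cfsg.MemLocalRing M
        (4 * φ s / (Nat.card (Subgroup.centralizer ({y * (s : G)} : Set G)) : ℂ))) ∧
      (∀ s : Subgroup.centralizer ({y} : Set G), IsIntegral ℤ (φ s)) := fun j =>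
    h7_ki_sub_package M hM B hB hd y
      (h7_ki_order_two M hM B hB P hPD hV y hy2 hy1 _ rfl j.1 j.2) _ rfl j.1 j.2
  choose δ φ hpm hpart hstar hloc hint using pk
  refine ⟨_, inferInstance, fun j => φ j ⟨s, hsmem⟩, δ, hpm, ?_, ?_, ?_, ?_⟩
  · intro j
    have h2 := hstar j 1 (by rw [orderOf_one]; norm_num)
    have h3 : ∀ χ ∈ B, (δ j χ : ℂ) * (χ : G → ℂ) 1 = (χ₀ : G → ℂ) 1 * (δ j χ : ℂ) := by
      intro χ hχ
      rw [hreg χ hχ χ₀ hχ₀ 1 (by rw [orderOf_one]; norm_num), mul_comm]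
    rw [finsum_mem_congr rfl h3, ← mul_finsum_mem] at h2
    rcases mul_eq_zero.mp h2 with h | h
    · exact absurd h (irr_one_ne_zero χ₀)
    · rw [h7_finsum_mem_fintype] at h ⊢
      have h4 : ((∑ χ : Cfsg.IrrCharacter G, (if χ ∈ B then δ j χ else 0) : ℤ) : ℂ) = 0 := by
        refine Eq.trans ?_ h
        push_cast
        refine Finset.sum_congr rfl fun χ _ => ?_
        split_ifs
        · rfl
        · rfl
      exact_mod_cast h4
  · intro j
    have := hloc j ⟨s, hsmem⟩ hsH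
    have hys' : y * ((⟨s, hsmem⟩ : Subgroup.centralizer ({y} : Set G)) : G) = x := hys
    rwa [hys'] at this
  · intro j
    exact hint j _
  · intro χ hχ
    have h2 := h7_ki_expansion 2 M hM B hB y hy2 _ rfl χ hχ ⟨s, hsmem⟩ hsH
    have hys' : y * ((⟨s, hsmem⟩ : Subgroup.centralizer ({y} : Set G)) : G) = x := hys
    rw [hys'] at h2
    rw [h2, ← finsum_set_coe_eq_finsum_mem, finsum_eq_sum_of_fintype]
    refine Finset.sum_congr rfl fun j _ => ?_
    rw [hpart j χ ⟨s, hsmem⟩ hsH, mul_comm]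

end Cfsg.Agent.Lib.helper7
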