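import Mathlib
import Cfsg.Prelude.Def_Blocks
import Cfsg.Prelude.Def_BlockRank
import Cfsg.Prelude.Def_BlockLocal
import Cfsg.Agent.Lib.helper7.KleinIso9

/-!
Perfect isometries for Klein four defect groups, part 10: `h7_ki_sign_dvd`,
`h7_ki_perfect_one` (any bijection between two blocks with Klein-four-type character values and
`l = 1` is a perfect isometry with all signs `+1`).
-/

set_option autoImplicit false
set_option linter.style.haveILetI false
set_option linter.unusedSectionVars false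
set_option linter.unusedVariables false
set_option maxHeartbeats 1600000

namespace Cfsg.Agent.Lib.helper7

open scoped ComplexConjugate
open Cfsg.Agent.Lib.helper2 Cfsg.Agent.Lib.Helper25 Cfsg.Agent.Lib.Helper24

universe u v

/-- the inner product of two zero-sum sign vectors on a four-element set is divisible by four -/
theorem h7_ki_sign_dvd {α : Type*} [Finite α] (c : Set α) (hc : Nat.card c = 4) (a b : α → ℤ)
    (ha : ∀ η ∈ c, a η = 1 ∨ a η = -1) (hb : ∀ η ∈ c, b η = 1 ∨ b η = -1)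
    (hsa : ∑ᶠ η ∈ c, a η = 0) (hsb : ∑ᶠ η ∈ c, b η = 0) :
    ∃ m : ℤ, ∑ᶠ η ∈ c, a η * b η = 4 * m := by
  classical
  haveI : Fintype α := Fintype.ofFinite _
  set cf := Finset.univ.filter (· ∈ c) with hcf
  have hconv : ∀ f : α → ℤ, ∑ᶠ η ∈ c, f η = ∑ η ∈ cf, f η := by
    intro f
    rw [h7_finsum_mem_fintype, hcf, Finset.sum_filter]
  have hcard : cf.card = 4 := by
    rw [← hc, Nat.card_eq_fintype_card, Fintype.card_subtype]
  rw [hconv] at hsa hsb ⊢
  have hmem : ∀ η ∈ cf, η ∈ c := fun η h => by simpa [hcf] using h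
  have ht : ∀ η ∈ cf, ∃ t : ℤ, (1 - a η) * (1 - b η) = 4 * t := by
    intro η hη
    rcases ha η (hmem η hη) with h1 | h1 <;> rcases hb η (hmem η hη) with h2 | h2 <;>
      rw [h1, h2]
    · exact ⟨0, by norm_num⟩
    · exact ⟨0, by norm_num⟩
    · exact ⟨0, by norm_num⟩
    · exact ⟨1, by norm_num⟩
  have hdvd : (4 : ℤ) ∣ ∑ η ∈ cf, (1 - a η) * (1 - b η) := by
    apply Finset.dvd_sum
    intro η hη
    obtain ⟨t, ht⟩ := ht η hη
    exact ⟨t, ht⟩
  obtain ⟨t, ht⟩ := hdvd
  have hsplit : ∑ η ∈ cf, a η * b η =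
      ∑ η ∈ cf, a η + ∑ η ∈ cf, b η - ∑ η ∈ cf, (1 : ℤ) + ∑ η ∈ cf, (1 - a η) * (1 - b η) := by
    rw [← Finset.sum_add_distrib, ← Finset.sum_sub_distrib, ← Finset.sum_add_distrib]
    refine Finset.sum_congr rfl fun η _ => ?_
    ring
  rw [hsplit, hsa, hsb, ht, Finset.sum_const, hcard]
  exact ⟨t - 1, by norm_num; ring⟩

/-- a finite sum of columns with zero-sum sign vectors has zero sum -/
theorem h7_ki_sum_zero {α : Type*} [Finite α] (B : Set α) {ι : Type*} [Fintype ι] (β : ι → ℂ)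
    (δ : ι → α → ℤ) (hzero : ∀ j, ∑ᶠ χ ∈ B, δ j χ = 0) :
    ∑ᶠ χ ∈ B, ∑ j, β j * (δ j χ : ℂ) = 0 := by
  classical
  haveI : Fintype α := Fintype.ofFinite _
  rw [h7_finsum_mem_fintype]
  have h1 : ∀ χ : α, (if χ ∈ B then ∑ j, β j * (δ j χ : ℂ) else 0) =
      ∑ j, β j * (if χ ∈ B then (δ j χ : ℂ) else 0) := by
    intro χ
    split_ifs
    · rfl
    · simp
  rw [Finset.sum_congr rfl (fun χ _ => h1 χ), Finset.sum_comm]
  apply Finset.sum_eq_zero
  intro j _
  rw [← Finset.mul_sum]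
  have h2 := hzero j
  rw [h7_finsum_mem_fintype] at h2
  have h3 : ((∑ χ : α, (if χ ∈ B then δ j χ else 0) : ℤ) : ℂ) = 0 := by
    rw [h2]
    simp
  push_cast at h3
  rw [h3, mul_zero]

end Cfsg.Agent.Lib.helper7
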