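import Mathlib
import Cfsg.Prelude.Def_Blocks
import Cfsg.Prelude.Def_BlockRank
import Cfsg.Prelude.Def_BlockLocal
import Cfsg.Agent.Lib.helper7.KleinIso10

/-!
Perfect isometries for Klein four defect groups, part 11:
`h7_ki_perfect_one` (any bijection between two blocks with Klein-four-type character values and
`l = 1` is a perfect isometry with all signs `+1`).
-/

set_option autoImplicit false
set_option linter.style.haveILetI false
set_option linter.unusedSectionVars false
set_option linter.unusedVariables false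
set_option maxHeartbeats 1600000

namespace Cfsg.Agent.Lib.helper7

open scoped ComplexConjugate
open Cfsg.Agent.Lib.helper2 Cfsg.Agent.Lib.Helper25 Cfsg.Agent.Lib.Helper24

universe u v

theorem h7_ki_four_val {G : Type*} [Group G] [Finite G] (M : Ideal Cfsg.AlgInt)
    (hM : Cfsg.IsPModular 2 M) (B : Set (Cfsg.IrrCharacter G)) (hd : Cfsg.blockDefect 2 B = 2)
    (χ : Cfsg.IrrCharacter G) (hχ : χ ∈ B) (g : G) :
    Cfsg.MemLocalRing M (4 * (χ : G → ℂ) g /
      (Nat.card (Subgroup.centralizer ({g} : Set G)) : ℂ)) := by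
  haveI : Fact (Nat.Prime 2) := ⟨Nat.prime_two⟩
  have h1 := h7_ki_val_bound 2 M hM B χ hχ g
  rw [hd] at h1
  convert h1 using 2
  norm_num

theorem h7_ki_perfect_one {G : Type u} [Group G] [Fintype G] {N : Type v} [Group N] [Fintype N]
    (M : Ideal Cfsg.AlgInt) (hM : Cfsg.IsPModular 2 M)
    (B : Set (Cfsg.IrrCharacter G)) (hB : Cfsg.IsPBlock M B) (hdB : Cfsg.blockDefect 2 B = 2)
    (c : Set (Cfsg.IrrCharacter N)) (hc : Cfsg.IsPBlock M c) (hdc : Cfsg.blockDefect 2 c = 2)
    (hregB : ∀ s₀ : G, ¬ 2 ∣ orderOf s₀ → ∀ χ ∈ B, ∀ χ' ∈ B,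
      (χ : G → ℂ) s₀ = (χ' : G → ℂ) s₀)
    (hsingB : ∀ x : G, 2 ∣ orderOf x → ∃ (ι : Type u) (_ : Fintype ι) (α : ι → ℂ)
      (δ : ι → Cfsg.IrrCharacter G → ℤ),
      (∀ j, ∀ χ ∈ B, δ j χ = 1 ∨ δ j χ = -1) ∧ (∀ j, ∑ᶠ χ ∈ B, δ j χ = 0) ∧
      (∀ j, Cfsg.MemLocalRing M
        (4 * α j / (Nat.card (Subgroup.centralizer ({x} : Set G)) : ℂ))) ∧
      (∀ j, IsIntegral ℤ (α j)) ∧
      ∀ χ ∈ B, (χ : G → ℂ) x = ∑ j, α j * (δ j χ : ℂ))
    (hregc : ∀ s₀ : N, ¬ 2 ∣ orderOf s₀ → ∀ χ ∈ c, ∀ χ' ∈ c,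
      (χ : N → ℂ) s₀ = (χ' : N → ℂ) s₀)
    (hsingc : ∀ x : N, 2 ∣ orderOf x → ∃ (ι : Type v) (_ : Fintype ι) (α : ι → ℂ)
      (δ : ι → Cfsg.IrrCharacter N → ℤ),
      (∀ j, ∀ χ ∈ c, δ j χ = 1 ∨ δ j χ = -1) ∧ (∀ j, ∑ᶠ χ ∈ c, δ j χ = 0) ∧
      (∀ j, Cfsg.MemLocalRing M
        (4 * α j / (Nat.card (Subgroup.centralizer ({x} : Set N)) : ℂ))) ∧
      (∀ j, IsIntegral ℤ (α j)) ∧
      ∀ χ ∈ c, (χ : N → ℂ) x = ∑ j, α j * (δ j χ : ℂ))
    (I : Cfsg.IrrCharacter N → Cfsg.IrrCharacter G) (hI : Set.BijOn I c B) :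
    Cfsg.IsPerfectFun 2 M (Cfsg.signedBijectionKernel c I (fun _ => 1)) := by
  classical
  haveI : Fact (Nat.Prime 2) := ⟨Nat.prime_two⟩
  haveI : Fintype (Cfsg.IrrCharacter G) := Fintype.ofFinite _
  haveI : Fintype (Cfsg.IrrCharacter N) := Fintype.ofFinite _
  have hPr := hM.2.1.isPrime
  have hcardc := h7_kd_card_four M hM c hc hdc
  obtain ⟨η₀, hη₀'⟩ := hc
  have hη₀ : η₀ ∈ c := by
    rw [hη₀']
    exact h7_sameBlock_refl hPr _
  have hχ₀ : I η₀ ∈ B := hI.mapsTo hη₀
  set cf := Finset.univ.filter (· ∈ c) with hcf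
  have hcfcard : cf.card = 4 := by
    rw [← hcardc, Nat.card_eq_fintype_card, Fintype.card_subtype]
  have hconv : ∀ f : Cfsg.IrrCharacter N → ℂ, ∑ᶠ η ∈ c, f η = ∑ η ∈ cf, f η := by
    intro f
    rw [h7_finsum_mem_fintype, hcf, Finset.sum_filter]
  have hreindex : ∀ f : Cfsg.IrrCharacter G → ℂ, ∑ᶠ η ∈ c, f (I η) = ∑ᶠ χ ∈ B, f χ := by
    intro f
    rw [← hI.image_eq, finsum_mem_image hI.injOn]
  have hreindexZ : ∀ f : Cfsg.IrrCharacter G → ℤ, ∑ᶠ η ∈ c, f (I η) = ∑ᶠ χ ∈ B, f χ := by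
    intro f
    rw [← hI.image_eq, finsum_mem_image hI.injOn]
  have hμ : ∀ (x : G) (y : N), Cfsg.signedBijectionKernel c I (fun _ => 1) x y =
      ∑ᶠ η ∈ c, (I η : G → ℂ) x * (η : N → ℂ) y := by
    intro x y
    unfold Cfsg.signedBijectionKernel
    refine finsum_mem_congr rfl fun η _ => ?_
    simp
  have hsumB : ∀ x : G, 2 ∣ orderOf x → ∑ᶠ χ ∈ B, (χ : G → ℂ) x = 0 := by
    intro x hx
    obtain ⟨ι, _, α, δ, -, hzero, -, -, hexp⟩ := hsingB x hx
    rw [finsum_mem_congr rfl hexp]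
    exact h7_ki_sum_zero B α δ hzero
  have hsumc : ∀ y : N, 2 ∣ orderOf y → ∑ᶠ η ∈ c, (η : N → ℂ) y = 0 := by
    intro y hy
    obtain ⟨ι, _, α, δ, -, hzero, -, -, hexp⟩ := hsingc y hy
    rw [finsum_mem_congr rfl hexp]
    exact h7_ki_sum_zero c α δ hzero
  have hzero : ∀ (x : G) (y : N), Cfsg.signedBijectionKernel c I (fun _ => 1) x y = 0 →
      Cfsg.MemLocalRing M (Cfsg.signedBijectionKernel c I (fun _ => 1) x y /
        (Nat.card (Subgroup.centralizer ({x} : Set G)) : ℂ)) ∧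
      Cfsg.MemLocalRing M (Cfsg.signedBijectionKernel c I (fun _ => 1) x y /
        (Nat.card (Subgroup.centralizer ({y} : Set N)) : ℂ)) ∧
      ((Cfsg.IsPRegular 2 x ↔ Cfsg.IsPRegular 2 y) ∨
        Cfsg.signedBijectionKernel c I (fun _ => 1) x y = 0) := by
    intro x y h
    rw [h, zero_div, zero_div]
    exact ⟨h7_memLocalRing_zero hPr, h7_memLocalRing_zero hPr, Or.inr rfl⟩
  intro x y
  by_cases hx : 2 ∣ orderOf x
  · by_cases hy : 2 ∣ orderOf y
    · -- both singular
      obtain ⟨ι, _, α, δ, hpm, hzeroB, hlocB, hintB, hexpB⟩ := hsingB x hx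
      obtain ⟨κ, _, β, δ', hpm', hzeroc, hlocc, hintc, hexpc⟩ := hsingc y hy
      have hm : ∀ j k, ∃ m : ℤ, ∑ᶠ η ∈ c, δ j (I η) * δ' k η = 4 * m := by
        intro j k
        apply h7_ki_sign_dvd c hcardc (fun η => δ j (I η)) (δ' k)
          (fun η hη => hpm j (I η) (hI.mapsTo hη)) (hpm' k)
        · rw [hreindexZ (δ j)]
          exact hzeroB j
        · exact hzeroc k
      choose m hm using hm
      have hval : Cfsg.signedBijectionKernel c I (fun _ => 1) x y =
          ∑ j, ∑ k, α j * β k * (4 * (m j k : ℂ)) := by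
        rw [hμ, hconv]
        have h1 : ∀ η ∈ cf, (I η : G → ℂ) x * (η : N → ℂ) y =
            ∑ j, ∑ k, α j * β k * ((δ j (I η) : ℂ) * (δ' k η : ℂ)) := by
          intro η hη
          have hηc : η ∈ c := by simpa [hcf] using hη
          rw [hexpB (I η) (hI.mapsTo hηc), hexpc η hηc, Finset.sum_mul]
          refine Finset.sum_congr rfl fun j _ => ?_
          rw [Finset.mul_sum]
          refine Finset.sum_congr rfl fun k _ => ?_
          ring
        rw [Finset.sum_congr rfl h1, Finset.sum_comm]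
        refine Finset.sum_congr rfl fun j _ => ?_
        rw [Finset.sum_comm]
        refine Finset.sum_congr rfl fun k _ => ?_
        rw [← Finset.mul_sum]
        congr 1
        have h2 := hm j k
        have h3 : ((∑ᶠ η ∈ c, δ j (I η) * δ' k η : ℤ) : ℂ) = ((4 * m j k : ℤ) : ℂ) := by
          rw [h2]
        rw [h7_finsum_mem_fintype] at h3
        push_cast at h3
        rw [← h3, hcf, Finset.sum_filter]
      refine ⟨?_, ?_, Or.inl ?_⟩
      · rw [hval, Finset.sum_div]
        apply h7_memLocalRing_sum hPr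
        intro j _
        rw [Finset.sum_div]
        apply h7_memLocalRing_sum hPr
        intro k _
        have e1 : α j * β k * (4 * (m j k : ℂ)) /
            (Nat.card (Subgroup.centralizer ({x} : Set G)) : ℂ) =
            (4 * α j / (Nat.card (Subgroup.centralizer ({x} : Set G)) : ℂ)) *
              (β k * (m j k : ℂ)) := by ring
        rw [e1]
        refine h7_memLocalRing_mul hPr (hlocB j) (h7_memLocalRing_mul hPr
          (h7_memLocalRing_of_isIntegral hPr (hintc k)) ?_)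
        exact h7_memLocalRing_of_isIntegral hPr (isIntegral_algebraMap (R := ℤ) (x := m j k))
      · rw [hval, Finset.sum_div]
        apply h7_memLocalRing_sum hPr
        intro j _
        rw [Finset.sum_div]
        apply h7_memLocalRing_sum hPr
        intro k _
        have e1 : α j * β k * (4 * (m j k : ℂ)) /
            (Nat.card (Subgroup.centralizer ({y} : Set N)) : ℂ) =
            (4 * β k / (Nat.card (Subgroup.centralizer ({y} : Set N)) : ℂ)) *
              (α j * (m j k : ℂ)) := by ring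
        rw [e1]
        refine h7_memLocalRing_mul hPr (hlocc k) (h7_memLocalRing_mul hPr
          (h7_memLocalRing_of_isIntegral hPr (hintB j)) ?_)
        exact h7_memLocalRing_of_isIntegral hPr (isIntegral_algebraMap (R := ℤ) (x := m j k))
      · unfold Cfsg.IsPRegular
        exact ⟨fun h => absurd hx h, fun h => absurd hy h⟩
    · -- x singular, y regular
      apply hzero
      rw [hμ]
      have h1 : ∀ η ∈ c, (I η : G → ℂ) x * (η : N → ℂ) y =
          (η₀ : N → ℂ) y * (I η : G → ℂ) x := by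
        intro η hη
        rw [hregc y hy η hη η₀ hη₀, mul_comm]
      rw [finsum_mem_congr rfl h1, ← mul_finsum_mem, hreindex (fun χ => (χ : G → ℂ) x),
        hsumB x hx, mul_zero]
  · by_cases hy : 2 ∣ orderOf y
    · -- x regular, y singular
      apply hzero
      rw [hμ]
      have h1 : ∀ η ∈ c, (I η : G → ℂ) x * (η : N → ℂ) y =
          (I η₀ : G → ℂ) x * (η : N → ℂ) y := by
        intro η hη
        rw [hregB x hx (I η) (hI.mapsTo hη) (I η₀) hχ₀]
      rw [finsum_mem_congr rfl h1, ← mul_finsum_mem, hsumc y hy, mul_zero]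
    · -- both regular
      have hval : Cfsg.signedBijectionKernel c I (fun _ => 1) x y =
          4 * (I η₀ : G → ℂ) x * (η₀ : N → ℂ) y := by
        rw [hμ, hconv]
        have h1 : ∀ η ∈ cf, (I η : G → ℂ) x * (η : N → ℂ) y =
            (I η₀ : G → ℂ) x * (η₀ : N → ℂ) y := by
          intro η hη
          have hηc : η ∈ c := by simpa [hcf] using hη
          rw [hregB x hx (I η) (hI.mapsTo hηc) (I η₀) hχ₀, hregc y hy η hηc η₀ hη₀]
        rw [Finset.sum_congr rfl h1, Finset.sum_const, hcfcard]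
        simp only [nsmul_eq_mul]
        push_cast
        ring
      refine ⟨?_, ?_, Or.inl ?_⟩
      · have e1 : 4 * (I η₀ : G → ℂ) x * (η₀ : N → ℂ) y /
            (Nat.card (Subgroup.centralizer ({x} : Set G)) : ℂ) =
            (4 * (I η₀ : G → ℂ) x / (Nat.card (Subgroup.centralizer ({x} : Set G)) : ℂ)) *
              (η₀ : N → ℂ) y := by ring
        rw [hval, e1]
        exact h7_memLocalRing_mul hPr (h7_ki_four_val M hM B hdB (I η₀) hχ₀ x)
          (h7_memLocalRing_of_isIntegral hPr (irr_integral η₀ y))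
      · have e1 : 4 * (I η₀ : G → ℂ) x * (η₀ : N → ℂ) y /
            (Nat.card (Subgroup.centralizer ({y} : Set N)) : ℂ) =
            (4 * (η₀ : N → ℂ) y / (Nat.card (Subgroup.centralizer ({y} : Set N)) : ℂ)) *
              (I η₀ : G → ℂ) x := by ring
        rw [hval, e1]
        exact h7_memLocalRing_mul hPr (h7_ki_four_val M hM c hdc η₀ hη₀ y)
          (h7_memLocalRing_of_isIntegral hPr (irr_integral (I η₀) x))
      · unfold Cfsg.IsPRegular
        exact ⟨fun _ => hy, fun _ => hx⟩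

end Cfsg.Agent.Lib.helper7
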