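import Mathlib
import Cfsg.Prelude.Def_Blocks
import Cfsg.Prelude.Def_BlockRank
import Cfsg.Prelude.Def_BlockLocal
import Cfsg.Agent.Lib.helper7.KleinIso11

/-!
Perfect isometries for Klein four defect groups, part 12:
`h7_ki_perfect_three` (any bijection between two blocks with Klein-four-type character values and
`l = 3` is a perfect isometry with the product of the two sign vectors as signs).
-/

set_option autoImplicit false
set_option linter.style.haveILetI false
set_option linter.unusedSectionVars false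
set_option linter.unusedVariables false
set_option maxHeartbeats 1600000

namespace Cfsg.Agent.Lib.helper7

open scoped ComplexConjugate
open Cfsg.Agent.Lib.helper2 Cfsg.Agent.Lib.Helper25 Cfsg.Agent.Lib.Helper24

universe u v

theorem h7_ki_perfect_three {G : Type u} [Group G] [Fintype G] {N : Type v} [Group N]
    [Fintype N]
    (M : Ideal Cfsg.AlgInt) (hM : Cfsg.IsPModular 2 M)
    (B : Set (Cfsg.IrrCharacter G)) (hB : Cfsg.IsPBlock M B) (hdB : Cfsg.blockDefect 2 B = 2)
    (c : Set (Cfsg.IrrCharacter N)) (hc : Cfsg.IsPBlock M c) (hdc : Cfsg.blockDefect 2 c = 2)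
    (δB : Cfsg.IrrCharacter G → ℤ) (hpmB : ∀ χ ∈ B, δB χ = 1 ∨ δB χ = -1)
    (hstarB : ∀ s₀ : G, ¬ 2 ∣ orderOf s₀ → ∑ᶠ χ ∈ B, (δB χ : ℂ) * (χ : G → ℂ) s₀ = 0)
    (hsingB : ∀ x : G, 2 ∣ orderOf x → ∀ χ ∈ B, ∀ χ' ∈ B,
      (δB χ : ℂ) * (χ : G → ℂ) x = (δB χ' : ℂ) * (χ' : G → ℂ) x)
    (δc : Cfsg.IrrCharacter N → ℤ) (hpmc : ∀ η ∈ c, δc η = 1 ∨ δc η = -1)
    (hstarc : ∀ s₀ : N, ¬ 2 ∣ orderOf s₀ → ∑ᶠ η ∈ c, (δc η : ℂ) * (η : N → ℂ) s₀ = 0)
    (hsingc : ∀ y : N, 2 ∣ orderOf y → ∀ η ∈ c, ∀ η' ∈ c,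
      (δc η : ℂ) * (η : N → ℂ) y = (δc η' : ℂ) * (η' : N → ℂ) y)
    (I : Cfsg.IrrCharacter N → Cfsg.IrrCharacter G) (hI : Set.BijOn I c B) :
    Cfsg.IsPerfectFun 2 M (Cfsg.signedBijectionKernel c I (fun η => δc η * δB (I η))) := by
  classical
  haveI : Fact (Nat.Prime 2) := ⟨Nat.prime_two⟩
  haveI : Fintype (Cfsg.IrrCharacter G) := Fintype.ofFinite _
  haveI : Fintype (Cfsg.IrrCharacter N) := Fintype.ofFinite _
  have hPr := hM.2.1.isPrime
  have hcardc := h7_kd_card_four M hM c hc hdc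
  obtain ⟨η₀, hη₀'⟩ := hc
  have hη₀ : η₀ ∈ c := by
    rw [hη₀']
    exact h7_sameBlock_refl hPr _
  have hχ₀ : I η₀ ∈ B := hI.mapsTo hη₀
  set cf := Finset.univ.filter (· ∈ c) with hcf
  have hcfcard : cf.card = 4 := by
    rw [← hcardc, Nat.card_eq_fintype_card, Fintype.card_subtype]
  have hconv : ∀ f : Cfsg.IrrCharacter N → ℂ, ∑ᶠ η ∈ c, f η = ∑ η ∈ cf, f η := by
    intro f
    rw [h7_finsum_mem_fintype, hcf, Finset.sum_filter]
  have hreindex : ∀ f : Cfsg.IrrCharacter G → ℂ, ∑ᶠ η ∈ c, f (I η) = ∑ᶠ χ ∈ B, f χ := by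
    intro f
    rw [← hI.image_eq, finsum_mem_image hI.injOn]
  set μ := Cfsg.signedBijectionKernel c I (fun η => δc η * δB (I η)) with hμdef
  have hμ : ∀ (x : G) (y : N), μ x y =
      ∑ᶠ η ∈ c, (δc η : ℂ) * (δB (I η) : ℂ) * (I η : G → ℂ) x * (η : N → ℂ) y := by
    intro x y
    rw [hμdef]
    unfold Cfsg.signedBijectionKernel
    refine finsum_mem_congr rfl fun η _ => ?_
    push_cast
    ring
  have hsqB : ∀ χ ∈ B, (δB χ : ℂ) * (δB χ : ℂ) = 1 := by
    intro χ hχ
    rcases hpmB χ hχ with h | h <;> rw [h] <;> norm_num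
  have hsqc : ∀ η ∈ c, (δc η : ℂ) * (δc η : ℂ) = 1 := by
    intro η hη
    rcases hpmc η hη with h | h <;> rw [h] <;> norm_num
  -- the two factorizations
  have hT1 : ∀ x : G, 2 ∣ orderOf x → ∀ y : N, μ x y =
      ((δB (I η₀) : ℂ) * (I η₀ : G → ℂ) x) * ∑ᶠ η ∈ c, (δc η : ℂ) * (η : N → ℂ) y := by
    intro x hx y
    rw [hμ, mul_finsum_mem]
    refine finsum_mem_congr rfl fun η hη => ?_
    rw [← hsingB x hx (I η) (hI.mapsTo hη) (I η₀) hχ₀]
    ring
  have hT2 : ∀ y : N, 2 ∣ orderOf y → ∀ x : G, μ x y =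
      ((δc η₀ : ℂ) * (η₀ : N → ℂ) y) * ∑ᶠ χ ∈ B, (δB χ : ℂ) * (χ : G → ℂ) x := by
    intro y hy x
    rw [hμ, ← hreindex (fun χ => (δB χ : ℂ) * (χ : G → ℂ) x), mul_finsum_mem]
    refine finsum_mem_congr rfl fun η hη => ?_
    rw [← hsingc y hy η hη η₀ hη₀]
    ring
  have hsep1 : ∀ (x : G) (y : N), 2 ∣ orderOf x → ¬ 2 ∣ orderOf y → μ x y = 0 := by
    intro x y hx hy
    rw [hT1 x hx y, hstarc y hy, mul_zero]
  have hsep2 : ∀ (x : G) (y : N), ¬ 2 ∣ orderOf x → 2 ∣ orderOf y → μ x y = 0 := by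
    intro x y hx hy
    rw [hT2 y hy x, hstarB x hx, mul_zero]
  have hzero : ∀ (x : G) (y : N), μ x y = 0 →
      Cfsg.MemLocalRing M (μ x y / (Nat.card (Subgroup.centralizer ({x} : Set G)) : ℂ)) ∧
      Cfsg.MemLocalRing M (μ x y / (Nat.card (Subgroup.centralizer ({y} : Set N)) : ℂ)) ∧
      ((Cfsg.IsPRegular 2 x ↔ Cfsg.IsPRegular 2 y) ∨ μ x y = 0) := by
    intro x y h
    rw [h, zero_div, zero_div]
    exact ⟨h7_memLocalRing_zero hPr, h7_memLocalRing_zero hPr, Or.inr rfl⟩
  have hintZ : ∀ k : ℤ, Cfsg.MemLocalRing M (k : ℂ) := fun k =>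
    h7_memLocalRing_of_isIntegral hPr (isIntegral_algebraMap (R := ℤ) (x := k))
  intro x y
  by_cases hx : 2 ∣ orderOf x
  · by_cases hy : 2 ∣ orderOf y
    · -- both singular
      have hval : μ x y = 4 * ((δB (I η₀) : ℂ) * (I η₀ : G → ℂ) x) *
          ((δc η₀ : ℂ) * (η₀ : N → ℂ) y) := by
        rw [hT1 x hx y]
        have h1 : ∀ η ∈ c, (δc η : ℂ) * (η : N → ℂ) y = (δc η₀ : ℂ) * (η₀ : N → ℂ) y :=
          fun η hη => hsingc y hy η hη η₀ hη₀
        rw [finsum_mem_congr rfl h1, hconv, Finset.sum_const, hcfcard]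
        simp only [nsmul_eq_mul]
        push_cast
        ring
      refine ⟨?_, ?_, Or.inl ?_⟩
      · have e1 : 4 * ((δB (I η₀) : ℂ) * (I η₀ : G → ℂ) x) * ((δc η₀ : ℂ) * (η₀ : N → ℂ) y) /
            (Nat.card (Subgroup.centralizer ({x} : Set G)) : ℂ) =
            (4 * (I η₀ : G → ℂ) x / (Nat.card (Subgroup.centralizer ({x} : Set G)) : ℂ)) *
              ((δB (I η₀) : ℂ) * ((δc η₀ : ℂ) * (η₀ : N → ℂ) y)) := by ring
        rw [hval, e1]
        exact h7_memLocalRing_mul hPr (h7_ki_four_val M hM B hdB (I η₀) hχ₀ x)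
          (h7_memLocalRing_mul hPr (hintZ _) (h7_memLocalRing_mul hPr (hintZ _)
            (h7_memLocalRing_of_isIntegral hPr (irr_integral η₀ y))))
      · have e1 : 4 * ((δB (I η₀) : ℂ) * (I η₀ : G → ℂ) x) * ((δc η₀ : ℂ) * (η₀ : N → ℂ) y) /
            (Nat.card (Subgroup.centralizer ({y} : Set N)) : ℂ) =
            (4 * (η₀ : N → ℂ) y / (Nat.card (Subgroup.centralizer ({y} : Set N)) : ℂ)) *
              ((δc η₀ : ℂ) * ((δB (I η₀) : ℂ) * (I η₀ : G → ℂ) x)) := by ring
        rw [hval, e1]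
        exact h7_memLocalRing_mul hPr (h7_ki_four_val M hM c hdc η₀ hη₀ y)
          (h7_memLocalRing_mul hPr (hintZ _) (h7_memLocalRing_mul hPr (hintZ _)
            (h7_memLocalRing_of_isIntegral hPr (irr_integral (I η₀) x))))
      · unfold Cfsg.IsPRegular
        exact ⟨fun h => absurd hx h, fun h => absurd hy h⟩
    · exact hzero x y (hsep1 x y hx hy)
  · by_cases hy : 2 ∣ orderOf y
    · exact hzero x y (hsep2 x y hx hy)
    · -- both regular
      refine ⟨?_, ?_, Or.inl ?_⟩
      · -- divisibility by the centralizer order in `G`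
        set a : Cfsg.IrrCharacter G → ℂ := fun χ => ∑ η ∈ cf,
          if I η = χ then (δc η : ℂ) * (δB (I η) : ℂ) * (η : N → ℂ) y else 0 with ha
        have hF : ∀ g : G, ∑ χ : Cfsg.IrrCharacter G, a χ * (χ : G → ℂ) g = μ g y := by
          intro g
          rw [hμ, hconv]
          simp only [ha, Finset.sum_mul]
          rw [Finset.sum_comm]
          refine Finset.sum_congr rfl fun η _ => ?_
          have h1 : ∀ χ : Cfsg.IrrCharacter G,
              (if I η = χ then (δc η : ℂ) * (δB (I η) : ℂ) * (η : N → ℂ) y else 0) *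
                (χ : G → ℂ) g =
              if I η = χ then (δc η : ℂ) * (δB (I η) : ℂ) * (I η : G → ℂ) g * (η : N → ℂ) y
                else 0 := by
            intro χ
            split_ifs with h
            · rw [← h]
              ring
            · rw [zero_mul]
          rw [Finset.sum_congr rfl (fun χ _ => h1 χ), Finset.sum_ite_eq]
          simp
        have haloc : ∀ χ, Cfsg.MemLocalRing M (a χ) := by
          intro χ
          apply h7_memLocalRing_sum hPr
          intro η _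
          split_ifs
          · exact h7_memLocalRing_mul hPr (h7_memLocalRing_mul hPr (hintZ _) (hintZ _))
              (h7_memLocalRing_of_isIntegral hPr (irr_integral η y))
          · exact h7_memLocalRing_zero hPr
        have hvan : ∀ g : G, 2 ∣ orderOf g →
            ∑ χ : Cfsg.IrrCharacter G, a χ * (χ : G → ℂ) g = 0 := by
          intro g hg
          rw [hF g]
          exact hsep1 g y hg hy
        have := h7_ki_proj_integral 2 M hM a haloc hvan x
        rwa [hF x] at this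
      · -- divisibility by the centralizer order in `N`
        set a : Cfsg.IrrCharacter N → ℂ := fun η =>
          if η ∈ c then (δc η : ℂ) * (δB (I η) : ℂ) * (I η : G → ℂ) x else 0 with ha
        have hF : ∀ h : N, ∑ η : Cfsg.IrrCharacter N, a η * (η : N → ℂ) h = μ x h := by
          intro h
          rw [hμ, h7_finsum_mem_fintype]
          refine Finset.sum_congr rfl fun η _ => ?_
          simp only [ha]
          split_ifs
          · rfl
          · rw [zero_mul]
        have haloc : ∀ η, Cfsg.MemLocalRing M (a η) := by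
          intro η
          simp only [ha]
          split_ifs
          · exact h7_memLocalRing_mul hPr (h7_memLocalRing_mul hPr (hintZ _) (hintZ _))
              (h7_memLocalRing_of_isIntegral hPr (irr_integral (I η) x))
          · exact h7_memLocalRing_zero hPr
        have hvan : ∀ h : N, 2 ∣ orderOf h →
            ∑ η : Cfsg.IrrCharacter N, a η * (η : N → ℂ) h = 0 := by
          intro h hh
          rw [hF h]
          exact hsep2 x h hx hh
        have := h7_ki_proj_integral 2 M hM a haloc hvan y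
        rwa [hF y] at this
      · unfold Cfsg.IsPRegular
        exact ⟨fun _ => hy, fun _ => hx⟩

end Cfsg.Agent.Lib.helper7
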