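import Mathlib
import Cfsg.Prelude.Def_Blocks
import Cfsg.Prelude.Def_BlockRank
import Cfsg.Prelude.Def_BlockLocal
import Cfsg.Prelude.Def_BrauerPairs
import Cfsg.Agent.Lib.helper7.KleinIso12
import Cfsg.Agent.Lib.Helper25.InducedNested
import Cfsg.Agent.S4637
import Cfsg.Agent.S4657

/-!
Perfect isometries for Klein four defect groups, part 13: `h7_ki_stab_transport`,
`h7_ki_rank_corr` (a block with a Klein four defect group and its Brauer correspondent in the
normalizer have the same number of irreducible Brauer characters, one or three).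
-/

set_option autoImplicit false
set_option linter.style.haveILetI false
set_option linter.unusedSectionVars false
set_option linter.unusedVariables false
set_option maxHeartbeats 1600000

namespace Cfsg.Agent.Lib.helper7

open scoped ComplexConjugate
open Cfsg.Agent.Lib.helper2 Cfsg.Agent.Lib.Helper25 Cfsg.Agent.Lib.Helper24

variable {G : Type*} [Group G]

/-- stability of a block of `C_N(D₀)` under `n ∈ N` and of its transport to `C_G(D₀)` -/
theorem h7_ki_stab_transport (N : Subgroup G) (D₀ : Subgroup N)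
    (hC : Subgroup.centralizer ((D₀.map N.subtype : Subgroup G) : Set G) ≤ N)
    (e₀ : Set (Cfsg.IrrCharacter (Subgroup.centralizer (D₀ : Set N)))) (n : N) :
    (∀ χ ∈ e₀, ∃ χ' ∈ e₀, Cfsg.IsConjCharOf (Subgroup.centralizer (D₀ : Set N)) n
      (χ : Subgroup.centralizer (D₀ : Set N) → ℂ) (χ' : Subgroup.centralizer (D₀ : Set N) → ℂ)) ↔
    (∀ ξ ∈ bq_trSet (bq_centSubEquiv N D₀ hC).symm e₀,
      ∃ ξ' ∈ bq_trSet (bq_centSubEquiv N D₀ hC).symm e₀,
      Cfsg.IsConjCharOf (Subgroup.centralizer ((D₀.map N.subtype : Subgroup G) : Set G)) (n : G)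
        (ξ : Subgroup.centralizer ((D₀.map N.subtype : Subgroup G) : Set G) → ℂ)
        (ξ' : Subgroup.centralizer ((D₀.map N.subtype : Subgroup G) : Set G) → ℂ)) := by
  set σ := bq_centSubEquiv N D₀ hC with hσ
  constructor
  · intro h ξ hξ
    have hχ : bq_trIrr σ ξ ∈ e₀ := hξ
    obtain ⟨χ', hχ', hconj⟩ := h _ hχ
    refine ⟨bq_trIrr σ.symm χ', (bq_mem_trSet σ.symm e₀ χ').mpr hχ', ?_⟩
    intro k k' hkk'
    rw [bq_trIrr_apply]
    have h1 := hconj (σ.symm k) (σ.symm k') (by
      apply Subtype.ext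
      rw [Subgroup.coe_mul, Subgroup.coe_mul, Subgroup.coe_inv]
      exact hkk')
    rw [h1, bq_trIrr_apply, MulEquiv.apply_symm_apply]
  · intro h χ hχ
    have hξ : bq_trIrr σ.symm χ ∈ bq_trSet σ.symm e₀ := (bq_mem_trSet σ.symm e₀ χ).mpr hχ
    obtain ⟨ξ', hξ', hconj⟩ := h _ hξ
    have hχ' : bq_trIrr σ ξ' ∈ e₀ := hξ'
    refine ⟨bq_trIrr σ ξ', hχ', ?_⟩
    intro a a' haa'
    rw [bq_trIrr_apply]
    have h1 := hconj (σ a) (σ a') (by
      have := congrArg (Subtype.val : N → G) haa'
      rw [Subgroup.coe_mul, Subgroup.coe_mul, Subgroup.coe_inv] at this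
      exact this)
    rw [h1, bq_trIrr_apply, MulEquiv.symm_apply_apply]

/-- a Klein four group transported along an isomorphism -/
theorem h7_ki_kleinFour_of_equiv {A B : Type*} [Group A] [Group B] (σ : A ≃* B)
    (hV : IsKleinFour B) : IsKleinFour A where
  card_four := by rw [Nat.card_congr σ.toEquiv]; exact hV.card_four
  exponent_two := by rw [Monoid.exponent_eq_of_mulEquiv σ]; exact hV.exponent_two

/-- a block with a Klein four defect group and its Brauer correspondent in the normalizer have the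
same number of irreducible Brauer characters, one or three -/
theorem h7_ki_rank_corr [Fintype G] (M : Ideal Cfsg.AlgInt) (hM : Cfsg.IsPModular 2 M)
    (B : Set (Cfsg.IrrCharacter G)) (hB : Cfsg.IsPBlock M B) (P : Subgroup G)
    (hPD : Cfsg.IsDefectGroup 2 M B P) (hV : IsKleinFour P) (N : Subgroup G)
    (hN : N = Subgroup.normalizer (P : Set G)) (c : Set (Cfsg.IrrCharacter N))
    (hcD : Cfsg.IsDefectGroup 2 M c (P.subgroupOf N)) (hc : Cfsg.IsInducedBlock M N c B) :
    (Cfsg.blockRank 2 B = 1 ∨ Cfsg.blockRank 2 B = 3) ∧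
      Cfsg.blockRank 2 c = Cfsg.blockRank 2 B := by
  classical
  haveI : Fact (Nat.Prime 2) := ⟨Nat.prime_two⟩
  haveI : Fintype N := Fintype.ofFinite _
  haveI : Fintype (Cfsg.IrrCharacter G) := Fintype.ofFinite _
  have hPr := hM.2.1.isPrime
  have hPN : P ≤ N := by
    rw [hN]
    exact Subgroup.le_normalizer
  set D₀ : Subgroup N := P.subgroupOf N with hD₀
  have hP' : D₀.map N.subtype = P := Subgroup.map_subgroupOf_eq_of_le hPN
  have hC : Subgroup.centralizer ((D₀.map N.subtype : Subgroup G) : Set G) ≤ N := by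
    rw [hP', hN]
    exact Subgroup.centralizer_le_normalizer _
  have hPp : IsPGroup 2 P := by
    obtain ⟨g, hg, S, hS⟩ := hPD
    rw [hS]
    exact S.isPGroup'.map _
  have hD₀p : IsPGroup 2 D₀ := hPp.comap_subtype
  obtain ⟨e₀, he₀⟩ := bq_pair_at_defect 2 M hM D₀ hD₀p c hc.1 hcD
  have hindN := tp_pair_induced 2 M hM D₀ c e₀ he₀
  have he₀b : Cfsg.IsPBlock M e₀ := he₀.1.2
  set σ := bq_centSubEquiv N D₀ hC with hσ
  have he : Cfsg.IsPBlock M (bq_trSet σ.symm e₀) := bq_trSet_isBlock M σ.symm e₀ he₀b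
  have hpair : Cfsg.IsBrauerPair 2 M (D₀.map N.subtype) (bq_trSet σ.symm e₀) :=
    ⟨hD₀p.map _, he⟩
  obtain ⟨B', hB', -⟩ := Cfsg.Agent.S4657.result 2 M hM (D₀.map N.subtype) _ hpair
  have hindG' := tp_pair_induced 2 M hM (D₀.map N.subtype) B' _ hB'
  have hindN' := bq_induced_trans hPr N (Subgroup.centralizer (D₀ : Set N))
    (Subgroup.centralizer ((D₀.map N.subtype : Subgroup G) : Set G)) σ (fun y => rfl) e₀ c B'
    hindN hindG'
  have hBB' : B = B' := h7_induced_unique hPr N c B B' hc hindN'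
  rw [← hBB'] at hindG'
  obtain ⟨TG, hTG⟩ := bq_stab_exists hPr (D₀.map N.subtype) (bq_trSet σ.symm e₀) he
  obtain ⟨TN, hTN⟩ := bq_stab_exists hPr D₀ e₀ he₀b
  have hPD' : Cfsg.IsDefectGroup 2 M B (D₀.map N.subtype) := by rw [hP']; exact hPD
  have hV' : IsKleinFour (D₀.map N.subtype : Subgroup G) := by rw [hP']; exact hV
  have hVN : IsKleinFour D₀ :=
    h7_ki_kleinFour_of_equiv (Subgroup.subgroupOfEquivOfLe hPN) hV
  obtain ⟨hG1, -, hG2⟩ := Cfsg.Agent.S4637.result M hM B hB (D₀.map N.subtype) hPD' hV'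
    (bq_trSet σ.symm e₀) hindG' TG hTG _ rfl
  obtain ⟨-, -, hN2⟩ := Cfsg.Agent.S4637.result M hM c hc.1 D₀ hcD hVN e₀ hindN TN hTN _ rfl
  -- comparison of the inertial indices
  have hnormP : ∀ n : N, (n : G) ∈ Subgroup.normalizer ((D₀.map N.subtype : Subgroup G) : Set G) := by
    intro n
    rw [hP', ← hN]
    exact n.2
  have hnormD : ∀ n : N, n ∈ Subgroup.normalizer (D₀ : Set N) := by
    intro n
    rw [Subgroup.mem_normalizer_iff]
    intro h
    rw [hD₀, Subgroup.mem_subgroupOf, Subgroup.mem_subgroupOf]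
    have hn : (n : G) ∈ Subgroup.normalizer (P : Set G) := hN ▸ n.2
    have := (Subgroup.mem_normalizer_iff.mp hn) (h : G)
    simpa using this
  have hTGN : TG ≤ N := by
    intro g hg
    have := ((hTG g).mp hg).1
    rw [hP', ← hN] at this
    exact this
  have hcentEq : Subgroup.centralizer (D₀ : Set N) =
      (Subgroup.centralizer ((D₀.map N.subtype : Subgroup G) : Set G)).subgroupOf N := by
    ext n
    rw [Subgroup.mem_subgroupOf]
    constructor
    · intro hn
      exact (σ ⟨n, hn⟩).2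
    · intro hn
      have h1 := (σ.symm ⟨(n : G), hn⟩).2
      have h2 : ((σ.symm ⟨(n : G), hn⟩ : Subgroup.centralizer (D₀ : Set N)) : N) = n :=
        Subtype.ext rfl
      rwa [h2] at h1
  have hTNeq : TN = TG.subgroupOf N := by
    ext n
    rw [Subgroup.mem_subgroupOf, hTN, hTG]
    constructor
    · rintro ⟨-, -, h2⟩
      refine ⟨hnormP n, bm_normalizer_centralizer _ _ (hnormP n), ?_⟩
      exact (h7_ki_stab_transport N D₀ hC e₀ n).mp h2
    · rintro ⟨-, -, h2⟩
      refine ⟨hnormD n, bm_normalizer_centralizer _ _ (hnormD n), ?_⟩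
      exact (h7_ki_stab_transport N D₀ hC e₀ n).mpr h2
  have hidx : (Subgroup.centralizer (D₀ : Set N)).relIndex TN =
      (Subgroup.centralizer ((D₀.map N.subtype : Subgroup G) : Set G)).relIndex TG := by
    rw [hcentEq, hTNeq, Subgroup.relIndex_subgroupOf hTGN]
  refine ⟨?_, ?_⟩
  · rw [hG2]
    exact hG1
  · rw [hG2, hN2, hidx]

end Cfsg.Agent.Lib.helper7
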