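import Mathlib

set_option autoImplicit false
set_option linter.style.haveILetI false
set_option linter.unusedSectionVars false
set_option linter.unusedVariables false

namespace Cfsg.Agent.Lib.helper7

section Tuples

variable {G : Type*} [Group G]

/-- The lists of length `k` with entries satisfying `S` and product `g`. -/
abbrev h7_tuples (S : G → Prop) (k : ℕ) (g : G) : Type _ :=
  {l : List G // l.length = k ∧ (∀ z ∈ l, S z) ∧ l.prod = g}

instance h7_tuples_finite [Finite G] (S : G → Prop) (k : ℕ) (g : G) :
    Finite (h7_tuples S k g) := by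
  classical
  haveI : Fintype G := Fintype.ofFinite G
  haveI : Finite (List.Vector G k) := inferInstance
  exact Finite.of_injective (β := List.Vector G k) (fun l : h7_tuples S k g => ⟨l.1, l.2.1⟩)
    (fun a b h => Subtype.ext (congrArg (fun v : List.Vector G k => v.1) h))

/-- The number of `k`-tuples from `S` with product `g`. -/
noncomputable def h7_cnt (S : G → Prop) (k : ℕ) (g : G) : ℕ := Nat.card (h7_tuples S k g)

theorem h7_cnt_zero [DecidableEq G] (S : G → Prop) (g : G) :
    h7_cnt S 0 g = if g = 1 then 1 else 0 := by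
  unfold h7_cnt
  split_ifs with hg
  · subst hg
    rw [Nat.card_eq_one_iff_unique]
    refine ⟨⟨?_⟩, ⟨⟨[], rfl, by simp, rfl⟩⟩⟩
    rintro ⟨a, ha, -, -⟩ ⟨b, hb, -, -⟩
    apply Subtype.ext
    show a = b
    rw [List.length_eq_zero_iff.mp ha, List.length_eq_zero_iff.mp hb]
  · rw [Nat.card_eq_zero]
    left
    refine ⟨?_⟩
    rintro ⟨a, ha, -, hp⟩
    rw [List.length_eq_zero_iff.mp ha] at hp
    exact hg hp.symm

theorem h7_cnt_succ [Fintype G] (S : G → Prop) [DecidablePred S] (k : ℕ) (g : G) :
    h7_cnt S (k + 1) g = ∑ z : G, if S z then h7_cnt S k (z⁻¹ * g) else 0 := by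
  unfold h7_cnt
  let β : G → Type _ := fun z =>
    {l' : List G // S z ∧ l'.length = k ∧ (∀ w ∈ l', S w) ∧ l'.prod = z⁻¹ * g}
  have hne : ∀ l : h7_tuples S (k + 1) g, l.1 ≠ [] := by
    intro l h
    have := l.2.1
    rw [h] at this
    simp at this
  have haux : ∀ (l : List G) (hl : l ≠ []), l.length = k + 1 → (∀ z ∈ l, S z) → l.prod = g →
      S (l.head hl) ∧ l.tail.length = k ∧ (∀ w ∈ l.tail, S w) ∧
        l.tail.prod = (l.head hl)⁻¹ * g := by
    intro l hl h1 h2 h3
    cases l with
    | nil => exact absurd rfl hl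
    | cons z l' =>
      simp only [List.head_cons, List.tail_cons]
      refine ⟨h2 z (by simp), by simpa using h1, fun w hw => h2 w (List.mem_cons_of_mem _ hw), ?_⟩
      rw [← h3, List.prod_cons, inv_mul_cancel_left]
  let e : h7_tuples S (k + 1) g ≃ Sigma β :=
    { toFun := fun l => ⟨l.1.head (hne l), ⟨l.1.tail, haux l.1 (hne l) l.2.1 l.2.2.1 l.2.2.2⟩⟩
      invFun := fun x => ⟨x.1 :: x.2.1, by
        obtain ⟨z, l', h1, h2, h3, h4⟩ := x
        refine ⟨by simp [h2], ?_, ?_⟩
        · intro w hw
          rcases List.mem_cons.mp hw with rfl | hw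
          · exact h1
          · exact h3 w hw
        · show (z :: l').prod = g
          rw [List.prod_cons, h4, mul_inv_cancel_left]⟩
      left_inv := fun l => by
        apply Subtype.ext
        exact List.cons_head_tail (hne l)
      right_inv := fun x => by
        obtain ⟨z, l', h⟩ := x
        rfl }
  haveI : ∀ z, Finite (β z) := by
    intro z
    haveI : Finite (h7_tuples S k (z⁻¹ * g)) := h7_tuples_finite S k _
    exact Finite.of_injective (β := h7_tuples S k (z⁻¹ * g)) (fun l : β z => ⟨l.1, l.2.2⟩)
      (fun a b h => Subtype.ext (congrArg (fun v : h7_tuples S k (z⁻¹ * g) => v.1) h))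
  rw [Nat.card_congr e, Nat.card_sigma]
  refine Finset.sum_congr rfl fun z _ => ?_
  split_ifs with hz
  · exact Nat.card_congr
      { toFun := fun l => (⟨l.1, l.2.2⟩ : h7_tuples S k (z⁻¹ * g))
        invFun := fun l => ⟨l.1, hz, l.2⟩
        left_inv := fun _ => rfl
        right_inv := fun _ => rfl }
  · rw [Nat.card_eq_zero]
    left
    exact ⟨fun l => hz l.2.1⟩

/-- The rotation argument: the number of `p ^ n`-tuples from `S` with product `1` is congruent
modulo `p` to the number of elements `z` of `S` with `z ^ p ^ n = 1`. -/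
theorem h7_cnt_prime_pow_modEq [Finite G] (S : G → Prop) (p n : ℕ) [hp : Fact p.Prime] :
    h7_cnt S (p ^ n) 1 ≡ Nat.card {z : G // S z ∧ z ^ (p ^ n) = 1} [MOD p] := by
  classical
  obtain ⟨q, hq⟩ : ∃ q : ℕ, q = p ^ n := ⟨_, rfl⟩
  rw [← hq]
  have hq0 : 0 < q := by
    rw [hq]
    exact pow_pos hp.out.pos n
  unfold h7_cnt
  haveI : Fintype (h7_tuples S q (1 : G)) := Fintype.ofFinite _
  let σ : Function.End (h7_tuples S q (1 : G)) := fun l =>
    ⟨l.1.rotate 1, by rw [List.length_rotate]; exact l.2.1,
      fun z hz => l.2.2.1 z (List.mem_rotate.mp hz),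
      List.prod_rotate_eq_one_of_prod_eq_one l.2.2.2 1⟩
  have hσk : ∀ (k : ℕ) (l : h7_tuples S q (1 : G)), ((σ ^ k) l).1 = l.1.rotate k := by
    intro k
    induction k with
    | zero =>
      intro l
      rw [pow_zero, List.rotate_zero]
      rfl
    | succ k ih =>
      intro l
      rw [pow_succ]
      show ((σ ^ k) (σ l)).1 = _
      rw [ih]
      show (l.1.rotate 1).rotate k = _
      rw [List.rotate_rotate, add_comm]
  have hσ : σ ^ p ^ n = 1 := by
    funext l
    apply Subtype.ext
    rw [hσk, ← hq]
    show l.1.rotate q = l.1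
    have := List.rotate_length l.1
    rwa [l.2.1] at this
  have h1 := Equiv.Perm.card_fixedPoints_modEq (f := σ) hσ
  rw [Nat.card_eq_fintype_card]
  refine h1.trans ?_
  rw [← Nat.card_eq_fintype_card]
  have e : (Function.fixedPoints σ) ≃ {z : G // S z ∧ z ^ q = 1} :=
    { toFun := fun l => ⟨l.1.1.head (by
          intro h
          have := l.1.2.1
          rw [h] at this
          simp at this
          omega), by
        obtain ⟨⟨l, h1, h2, h3⟩, hfix⟩ := l
        have hfix' : l.rotate 1 = l := congrArg Subtype.val hfix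
        obtain ⟨a, ha⟩ := List.rotate_one_eq_self_iff_eq_replicate.mp hfix'
        rw [h1] at ha
        subst ha
        have hqne : q ≠ 0 := hq0.ne'
        obtain ⟨m, rfl⟩ := Nat.exists_eq_succ_of_ne_zero hqne
        simp only [List.replicate_succ, List.head_cons]
        refine ⟨h2 a (by simp), ?_⟩
        rw [← h3]
        simp [pow_succ']⟩
      invFun := fun z => ⟨⟨List.replicate q z.1, by simp, by
          intro w hw
          rw [List.eq_of_mem_replicate hw]
          exact z.2.1, by
          rw [List.prod_replicate]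
          exact z.2.2⟩, by
        apply Subtype.ext
        show (List.replicate q z.1).rotate 1 = List.replicate q z.1
        rw [List.rotate_replicate]⟩
      left_inv := fun l => by
        obtain ⟨⟨l, h1, h2, h3⟩, hfix⟩ := l
        apply Subtype.ext
        apply Subtype.ext
        have hfix' : l.rotate 1 = l := congrArg Subtype.val hfix
        obtain ⟨a, ha⟩ := List.rotate_one_eq_self_iff_eq_replicate.mp hfix'
        rw [h1] at ha
        subst ha
        have hqne : q ≠ 0 := hq0.ne'
        obtain ⟨m, rfl⟩ := Nat.exists_eq_succ_of_ne_zero hqne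
        simp [List.replicate_succ]
      right_inv := fun z => by
        apply Subtype.ext
        have hqne : q ≠ 0 := hq0.ne'
        obtain ⟨m, rfl⟩ := Nat.exists_eq_succ_of_ne_zero hqne
        simp [List.replicate_succ] }
  rw [Nat.card_congr e]

end Tuples

end Cfsg.Agent.Lib.helper7
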