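import Mathlib
import Cfsg.Prelude.Def_Blocks
import Cfsg.Agent.Lib.helper7.Kuls1
import Cfsg.Agent.Lib.helper7.BlockOsima
import Cfsg.Agent.Lib.helper7.LocalVal
import Cfsg.Agent.Lib.helper7.BlockInd2
import Cfsg.Agent.Lib.helper7.BlockCover
import Cfsg.Agent.Lib.helper7.BlockDefect2
import Cfsg.Agent.Lib.helper7.BlockBrauer2
import Cfsg.Agent.Lib.helper7.Q8Cent
import Cfsg.Agent.Lib.Helper25.CharLinear

set_option autoImplicit false
set_option linter.style.haveILetI false
set_option linter.unusedSectionVars false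
set_option linter.unusedVariables false

namespace Cfsg.Agent.Lib.helper7

open scoped ComplexConjugate
open Cfsg.Agent.Lib.Helper25

variable {G : Type*} [Group G] [Fintype G] [Fintype (Cfsg.IrrCharacter G)]

/-- The central element "sum of the `p`-regular elements", as a function on `Irr(G)`. -/
noncomputable def h7_kW (p : ℕ) : Cfsg.IrrCharacter G → ℂ := fun χ =>
  ∑ y : G, (if p ∣ orderOf y then 0 else (χ : G → ℂ) y) / (χ : G → ℂ) 1

theorem h7_orderOf_of_isConj {g y : G} (h : IsConj g y) : orderOf y = orderOf g := by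
  obtain ⟨c, rfl⟩ := isConj_iff.mp h
  exact h7_orderOf_conj c g

theorem h7_kW_coef (p : ℕ) (g : G) :
    h7_coef (h7_kW (G := G) p) g = if p ∣ orderOf g then 0 else 1 := by
  classical
  unfold h7_coef h7_kW
  have hGne : (Nat.card G : ℂ) ≠ 0 := by exact_mod_cast Nat.card_pos.ne'
  have e1 : ∀ χ : Cfsg.IrrCharacter G,
      (∑ y : G, (if p ∣ orderOf y then 0 else (χ : G → ℂ) y) / (χ : G → ℂ) 1) *
        ((χ : G → ℂ) 1 * conj ((χ : G → ℂ) g)) =
      ∑ y : G, (if p ∣ orderOf y then 0 else (χ : G → ℂ) y * conj ((χ : G → ℂ) g)) := by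
    intro χ
    rw [Finset.sum_mul]
    refine Finset.sum_congr rfl fun y _ => ?_
    have := irr_one_ne_zero χ
    split_ifs
    · simp
    · field_simp
  rw [Finset.sum_congr rfl (fun χ _ => e1 χ), Finset.sum_comm]
  have e2 : ∀ y : G, ∑ χ : Cfsg.IrrCharacter G,
      (if p ∣ orderOf y then 0 else (χ : G → ℂ) y * conj ((χ : G → ℂ) g)) =
      if IsConj g y then (if p ∣ orderOf g then (0 : ℂ) else
        (Nat.card (Subgroup.centralizer ({g} : Set G)) : ℂ)) else 0 := by
    intro y
    by_cases hy : p ∣ orderOf y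
    · simp only [if_pos hy, Finset.sum_const_zero]
      split_ifs with hc hg
      · rfl
      · exact absurd (h7_orderOf_of_isConj hc ▸ hy) hg
      · rfl
    · simp only [if_neg hy]
      rw [irr_column_orthogonality y g]
      split_ifs with hc hg
      · exact absurd (h7_orderOf_of_isConj hc ▸ hg) hy
      · rfl
      · rfl
  rw [Finset.sum_congr rfl (fun y _ => e2 y)]
  rw [← Finset.sum_filter, Finset.sum_const, nsmul_eq_mul]
  have hcard : (Finset.univ.filter (fun y : G => IsConj g y)).card =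
      Nat.card {x : G // IsConj g x} := by
    rw [Nat.card_eq_fintype_card, Fintype.card_subtype]
  rw [hcard]
  have h3 := h7_card_class_mul_card_centralizer g
  split_ifs with hg
  · simp
  · rw [← Nat.cast_mul, h3]
    exact inv_mul_cancel₀ hGne

theorem h7_kW_mem (p : ℕ) {M : Ideal Cfsg.AlgInt} (hM : M.IsPrime) :
    h7_kW (G := G) p ∈ h7_intSubring (G := G) M hM := by
  intro g
  rw [h7_kW_coef]
  split_ifs
  · exact h7_memLocalRing_zero hM
  · exact h7_memLocalRing_one hM

/-- The twisted counting lemma. -/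
theorem h7_cnt_twist (p : ℕ) (h : G) (k : ℕ) (g : G) :
    (h7_cnt (fun z : G => ¬ p ∣ orderOf (z * h)) k g : ℂ) =
      h7_coef ((h7_kW (G := G) p) ^ k) (g * h ^ k) := by
  classical
  induction k generalizing g with
  | zero =>
    rw [h7_cnt_zero, pow_zero, pow_zero, mul_one]
    have : (1 : Cfsg.IrrCharacter G → ℂ) = fun _ => (1 : ℂ) := rfl
    rw [this, h7_coef_const]
    split_ifs <;> simp
  | succ k ih =>
    rw [h7_cnt_succ, pow_succ ((h7_kW (G := G) p)) k, h7_coef_mul]
    push_cast
    have e1 : ∀ z : G, ((if ¬ p ∣ orderOf (z * h) then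
        (h7_cnt (fun z : G => ¬ p ∣ orderOf (z * h)) k (z⁻¹ * g) : ℂ) else 0)) =
        h7_coef ((h7_kW (G := G) p) ^ k) (g * h ^ (k + 1) * (z * h)⁻¹) *
          h7_coef (h7_kW (G := G) p) (z * h) := by
      intro z
      rw [h7_kW_coef]
      by_cases hz : p ∣ orderOf (z * h)
      · rw [if_neg (not_not.mpr hz), if_pos hz, mul_zero]
      · rw [if_pos hz, if_neg hz, mul_one, ih]
        have e : g * h ^ (k + 1) * (z * h)⁻¹ = g * h ^ k * z⁻¹ := by
          rw [pow_succ]
          group
        rw [e]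
        have e' : z⁻¹ * g * h ^ k = z⁻¹ * (g * h ^ k * z⁻¹) * z⁻¹⁻¹ := by group
        rw [e', h7_coef_conj]
    rw [Finset.sum_congr rfl (fun z _ => e1 z)]
    exact Fintype.sum_equiv (Equiv.mulRight h) _ _ (fun z => rfl)

end Cfsg.Agent.Lib.helper7
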