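import Mathlib
import Cfsg.Prelude.Def_Blocks
import Cfsg.Agent.Lib.helper7.Kuls2

set_option autoImplicit false
set_option linter.style.haveILetI false
set_option linter.unusedSectionVars false
set_option linter.unusedVariables false

namespace Cfsg.Agent.Lib.helper7

open scoped ComplexConjugate
open Cfsg.Agent.Lib.Helper25

variable {G : Type*} [Group G] [Fintype G] [Fintype (Cfsg.IrrCharacter G)]

/-- (F1) `W` vanishes at characters outside the principal block. -/
theorem h7_kW_apply_of_not_mem {p : ℕ} [hp : Fact p.Prime] {M : Ideal Cfsg.AlgInt}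
    (hM : Cfsg.IsPModular p M) (χ : Cfsg.IrrCharacter G)
    (hχ : χ ∉ Cfsg.principalBlock M G) : h7_kW (G := G) p χ = 0 := by
  classical
  have hB : Cfsg.IsPBlock M (Cfsg.principalBlock M G) := ⟨trivIrr G, rfl⟩
  have h1mem : trivIrr G ∈ Cfsg.principalBlock M G := h7_sameBlock_refl hM.2.1.isPrime _
  have h := h7_pregular_part_in_block p M hM (Cfsg.principalBlock M G) hB (trivIrr G : G → ℂ)
    (fun g h => irr_conj_invariant (trivIrr G) g h) (by
      intro ψ hψ
      rw [irr_classInner, if_neg]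
      rintro rfl
      exact hψ h1mem) χ hχ
  unfold Cfsg.classInner at h
  have hGne : (Nat.card G : ℂ) ≠ 0 := by exact_mod_cast Nat.card_pos.ne'
  have h2 : ∑ g : G, (if p ∣ orderOf g then 0 else (trivIrr G : G → ℂ) g) *
      conj ((χ : G → ℂ) g) = 0 := by
    rcases mul_eq_zero.mp h with h | h
    · exact absurd (inv_eq_zero.mp h) hGne
    · exact h
  have h3 := congrArg (starRingEnd ℂ) h2
  rw [map_sum, map_zero] at h3
  unfold h7_kW
  rw [← Finset.sum_div, div_eq_zero_iff]
  left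
  refine Eq.trans ?_ h3
  refine Finset.sum_congr rfl fun y _ => ?_
  rw [trivIrr_apply]
  split_ifs
  · simp
  · simp

/-- The number of `p`-regular elements as a sum. -/
theorem h7_card_regular (p : ℕ) :
    (Nat.card {y : G // ¬ p ∣ orderOf y} : ℂ) =
      ∑ y : G, (if p ∣ orderOf y then (0 : ℂ) else 1) := by
  classical
  rw [Nat.card_eq_fintype_card, Fintype.card_subtype, Finset.card_filter]
  push_cast
  refine Finset.sum_congr rfl fun y _ => ?_
  split_ifs <;> simp_all

/-- (F2) `W` is congruent to the number of `p`-regular elements at characters of the principal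
block. -/
theorem h7_kW_sub_mem {p : ℕ} [hp : Fact p.Prime] {M : Ideal Cfsg.AlgInt}
    (hM : Cfsg.IsPModular p M) (χ : Cfsg.IrrCharacter G)
    (hχ : χ ∈ Cfsg.principalBlock M G) :
    Cfsg.MemLocalIdeal M (h7_kW (G := G) p χ - (Nat.card {y : G // ¬ p ∣ orderOf y} : ℂ)) := by
  classical
  haveI : Fintype (ConjClasses G) := Fintype.ofFinite _
  have hPr := hM.2.1.isPrime
  rw [h7_card_regular]
  unfold h7_kW
  rw [← Finset.sum_sub_distrib]
  have hcl : ∀ g h : G,
      ((if p ∣ orderOf (h * g * h⁻¹) then 0 else (χ : G → ℂ) (h * g * h⁻¹)) / (χ : G → ℂ) 1 -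
        (if p ∣ orderOf (h * g * h⁻¹) then (0 : ℂ) else 1)) =
      ((if p ∣ orderOf g then 0 else (χ : G → ℂ) g) / (χ : G → ℂ) 1 -
        (if p ∣ orderOf g then (0 : ℂ) else 1)) := by
    intro g h
    rw [h7_orderOf_conj, irr_conj_invariant]
  rw [h7_sum_eq_sum_conjClasses _ hcl]
  apply h7_memLocalIdeal_sum hPr
  intro K _
  rw [nsmul_eq_mul]
  by_cases hK : p ∣ orderOf (Quotient.out K)
  · rw [if_pos hK, if_pos hK, zero_div, sub_zero, mul_zero]
    exact h7_memLocalIdeal_zero hPr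
  · rw [if_neg hK, if_neg hK]
    have h1 := hχ (Quotient.out K)
    unfold Cfsg.centralChar at h1
    have h2 := h7_memLocalIdeal_neg h1
    have e : -(((Subgroup.centralizer ({Quotient.out K} : Set G)).index : ℂ) * 1 / 1 -
        ((Subgroup.centralizer ({Quotient.out K} : Set G)).index : ℂ) *
          (χ : G → ℂ) (Quotient.out K) / (χ : G → ℂ) 1) =
        ((Subgroup.centralizer ({Quotient.out K} : Set G)).index : ℂ) *
          ((χ : G → ℂ) (Quotient.out K) / (χ : G → ℂ) 1 - 1) := by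
      ring
    rw [← e]
    exact h2

/-- Powers of an element of `𝒜` all of whose values lie in the local ideal have coefficients in
the local ideal, eventually. -/
theorem h7_coef_pow_mem {p : ℕ} [hp : Fact p.Prime] {M : Ideal Cfsg.AlgInt}
    (hM : Cfsg.IsPModular p M) (J : Cfsg.IrrCharacter G → ℂ)
    (hJ : ∀ χ, Cfsg.MemLocalIdeal M (J χ)) :
    ∃ n₀ : ℕ, ∀ m : ℕ, n₀ ≤ m → ∀ h : G, Cfsg.MemLocalIdeal M (h7_coef (J ^ m) h) := by
  classical
  have hPr := hM.2.1.isPrime
  have hp0 : (p : ℂ) ≠ 0 := by exact_mod_cast hp.out.ne_zero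
  -- write `|G| = p ^ a * u`
  obtain ⟨a, u, hu, hcard⟩ := Nat.exists_eq_pow_mul_and_not_dvd (Nat.card_pos (α := G)).ne' p
    hp.out.ne_one
  have hu0 : (u : ℂ) ≠ 0 := by
    intro h0
    have : u = 0 := by exact_mod_cast h0
    rw [this] at hu
    exact hu (dvd_zero p)
  have huinv : Cfsg.MemLocalRing M ((u : ℂ)⁻¹) := by
    refine ⟨1, (u : Cfsg.AlgInt), ?_, ?_⟩
    · exact h7_natCast_not_mem hM u
        (Nat.Coprime.symm ((Nat.Prime.coprime_iff_not_dvd hp.out).mpr hu))
    · simp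
  have hex : ∀ χ : Cfsg.IrrCharacter G, ∃ n : ℕ,
      Cfsg.MemLocalRing M ((J χ) ^ n / (p : ℂ) ^ (a + 1)) :=
    fun χ => h7_memLocalIdeal_pow_div_pow hM (hJ χ) (a + 1)
  choose nf hnf using hex
  refine ⟨∑ χ : Cfsg.IrrCharacter G, nf χ, ?_⟩
  intro m hm h
  unfold h7_coef
  rw [Finset.mul_sum]
  apply h7_memLocalIdeal_sum hPr
  intro χ _
  have hle : nf χ ≤ m := (Finset.single_le_sum (fun i _ => Nat.zero_le (nf i))
    (Finset.mem_univ χ)).trans hm
  obtain ⟨d, rfl⟩ := Nat.exists_eq_add_of_le hle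
  have e : (Nat.card G : ℂ)⁻¹ * ((J ^ (nf χ + d)) χ * ((χ : G → ℂ) 1 * conj ((χ : G → ℂ) h))) =
      (p : ℂ) * (((J χ) ^ (nf χ) / (p : ℂ) ^ (a + 1)) * ((u : ℂ)⁻¹ * ((J χ) ^ d *
        ((χ : G → ℂ) 1 * conj ((χ : G → ℂ) h))))) := by
    rw [hcard, Pi.pow_apply, pow_add]
    push_cast
    field_simp
    ring
  rw [e]
  apply h7_memLocalIdeal_mul_right hPr (h7_memLocalIdeal_p hM)
  apply h7_memLocalRing_mul hPr (hnf χ)
  apply h7_memLocalRing_mul hPr huinv
  apply h7_memLocalRing_mul hPr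
  · have hJr : Cfsg.MemLocalRing M (J χ) := h7_memLocalRing_of_memLocalIdeal (hJ χ)
    clear e hle hm
    induction d with
    | zero => simpa using h7_memLocalRing_one hPr
    | succ d ih =>
      rw [pow_succ]
      exact h7_memLocalRing_mul hPr ih hJr
  · apply h7_memLocalRing_mul hPr
    · exact h7_memLocalRing_of_isIntegral hPr (Cfsg.Agent.Lib.helper2.irr_integral χ 1)
    · exact h7_memLocalRing_of_isIntegral hPr
        (map_isIntegral_int (starRingEnd ℂ) (Cfsg.Agent.Lib.helper2.irr_integral χ h))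

end Cfsg.Agent.Lib.helper7
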