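import Mathlib
import Cfsg.Prelude.Def_Blocks
import Cfsg.Agent.Lib.helper7.Kuls3

set_option autoImplicit false
set_option linter.style.haveILetI false
set_option linter.unusedSectionVars false
set_option linter.unusedVariables false

namespace Cfsg.Agent.Lib.helper7

open scoped ComplexConjugate
open Cfsg.Agent.Lib.Helper25

variable {G : Type*} [Group G] [Fintype G] [Fintype (Cfsg.IrrCharacter G)]

open Classical in
/-- (F4) The main congruence `W ^ q ≡ R ^ q • E₀`. -/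
theorem h7_kW_pow_coef {p : ℕ} [hp : Fact p.Prime] {M : Ideal Cfsg.AlgInt}
    (hM : Cfsg.IsPModular p M) :
    ∃ n₀ : ℕ, ∀ n : ℕ, n₀ ≤ p ^ n → ∀ h : G,
      Cfsg.MemLocalIdeal M (h7_coef ((h7_kW (G := G) p) ^ (p ^ n)) h -
        (Nat.card {y : G // ¬ p ∣ orderOf y} : ℂ) ^ (p ^ n) *
          Cfsg.blockCoeff (Cfsg.principalBlock M G) h) := by
  have hPr := hM.2.1.isPrime
  obtain ⟨R, hR⟩ : ∃ R : ℕ, R = Nat.card {y : G // ¬ p ∣ orderOf y} := ⟨_, rfl⟩
  rw [← hR]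
  obtain ⟨E, hEdef⟩ : ∃ E : Cfsg.IrrCharacter G → ℂ,
      E = fun χ => if χ ∈ Cfsg.principalBlock M G then (1 : ℂ) else 0 := ⟨_, rfl⟩
  have hE : E ∈ h7_intSubring (G := G) M hPr := by
    rw [hEdef]
    exact h7_block_indicator_mem hPr (trivIrr G)
  have hW : h7_kW (G := G) p ∈ h7_intSubring (G := G) M hPr := h7_kW_mem p hPr
  have hRE : (fun χ => (R : ℂ) * E χ) ∈ h7_intSubring (G := G) M hPr := by
    intro g
    rw [h7_coef_smul]
    exact h7_memLocalRing_mul hPr (h7_memLocalRing_natCast hPr R) (hE g)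
  obtain ⟨Jf, hJf⟩ : ∃ Jf : Cfsg.IrrCharacter G → ℂ,
      Jf = fun χ => h7_kW (G := G) p χ - (R : ℂ) * E χ := ⟨_, rfl⟩
  have hJmem : Jf ∈ h7_intSubring (G := G) M hPr := by
    have : Jf = h7_kW (G := G) p - (fun χ => (R : ℂ) * E χ) := by
      rw [hJf]
      rfl
    rw [this]
    exact (h7_intSubring (G := G) M hPr).sub_mem hW hRE
  have hJ : ∀ χ, Cfsg.MemLocalIdeal M (Jf χ) := by
    intro χ
    rw [hJf, hEdef]
    by_cases hχ : χ ∈ Cfsg.principalBlock M G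
    · simp only [if_pos hχ, mul_one]
      rw [hR]
      exact h7_kW_sub_mem hM χ hχ
    · simp only [if_neg hχ, mul_zero, sub_zero]
      rw [h7_kW_apply_of_not_mem hM χ hχ]
      exact h7_memLocalIdeal_zero hPr
  obtain ⟨n₀, hn₀⟩ := h7_coef_pow_mem hM Jf hJ
  refine ⟨n₀, ?_⟩
  intro n hn h
  obtain ⟨r, hr⟩ := exists_add_pow_prime_pow_eq hp.out
    (⟨_, hRE⟩ : h7_intSubring (G := G) M hPr) (⟨Jf, hJmem⟩ : h7_intSubring (G := G) M hPr) n
  have h1 : (⟨_, hRE⟩ : h7_intSubring (G := G) M hPr) + ⟨Jf, hJmem⟩ = ⟨_, hW⟩ := by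
    apply Subtype.ext
    funext χ
    show (R : ℂ) * E χ + Jf χ = h7_kW (G := G) p χ
    rw [hJf]
    ring
  rw [h1] at hr
  have hr' := congrArg (fun c : h7_intSubring (G := G) M hPr =>
    h7_coef (c : Cfsg.IrrCharacter G → ℂ) h) hr
  simp only [Subring.coe_pow, Subring.coe_add, Subring.coe_mul, Subring.coe_natCast] at hr'
  rw [h7_coef_add, h7_coef_add] at hr'
  have hq0 : p ^ n ≠ 0 := pow_ne_zero _ hp.out.ne_zero
  have e1 : (fun χ => (R : ℂ) * E χ) ^ (p ^ n) = fun χ => ((R : ℂ) ^ (p ^ n)) * E χ := by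
    funext χ
    rw [Pi.pow_apply, hEdef]
    by_cases hχ : χ ∈ Cfsg.principalBlock M G
    · simp only [if_pos hχ, mul_one]
    · simp only [if_neg hχ, mul_zero]
      exact zero_pow hq0
  have e2 : ((p : Cfsg.IrrCharacter G → ℂ) * (fun χ => (R : ℂ) * E χ) * Jf *
      (r : Cfsg.IrrCharacter G → ℂ)) =
      fun χ => (p : ℂ) * (((fun χ => (R : ℂ) * E χ) * Jf *
        (r : Cfsg.IrrCharacter G → ℂ)) χ) := by
    funext χ
    simp only [Pi.mul_apply, Pi.natCast_apply]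
    ring
  rw [e1, e2, h7_coef_smul, h7_coef_smul] at hr'
  have hE0 : h7_coef E h = Cfsg.blockCoeff (Cfsg.principalBlock M G) h := by
    rw [hEdef]
    exact h7_coef_indicator _ h
  rw [hE0] at hr'
  rw [hr']
  have e3 : (R : ℂ) ^ p ^ n * Cfsg.blockCoeff (Cfsg.principalBlock M G) h +
      h7_coef (Jf ^ p ^ n) h +
      (p : ℂ) * h7_coef ((fun χ => (R : ℂ) * E χ) * Jf * (r : Cfsg.IrrCharacter G → ℂ)) h -
      (R : ℂ) ^ p ^ n * Cfsg.blockCoeff (Cfsg.principalBlock M G) h =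
      h7_coef (Jf ^ p ^ n) h +
      (p : ℂ) * h7_coef ((fun χ => (R : ℂ) * E χ) * Jf * (r : Cfsg.IrrCharacter G → ℂ)) h := by
    ring
  rw [e3]
  apply h7_memLocalIdeal_add hPr (hn₀ _ hn h)
  apply h7_memLocalIdeal_mul_right hPr (h7_memLocalIdeal_p hM)
  exact (h7_intSubring (G := G) M hPr).mul_mem
    ((h7_intSubring (G := G) M hPr).mul_mem hRE hJmem) r.2 h

end Cfsg.Agent.Lib.helper7
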