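import Mathlib
import Cfsg.Prelude.Def_Blocks
import Cfsg.Agent.Lib.helper7.Kuls4

set_option autoImplicit false
set_option linter.style.haveILetI false
set_option linter.unusedSectionVars false
set_option linter.unusedVariables false

namespace Cfsg.Agent.Lib.helper7

open scoped ComplexConjugate
open Cfsg.Agent.Lib.Helper25

variable {G : Type*} [Group G] [Fintype G] [Fintype (Cfsg.IrrCharacter G)]

/-- Congruent natural numbers have difference in the local ideal. -/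
theorem h7_memLocalIdeal_of_modEq {p : ℕ} [hp : Fact p.Prime] {M : Ideal Cfsg.AlgInt}
    (hM : Cfsg.IsPModular p M) {a b : ℕ} (h : a ≡ b [MOD p]) :
    Cfsg.MemLocalIdeal M ((a : ℂ) - (b : ℂ)) := by
  have hPr := hM.2.1.isPrime
  have h1 : (a : ℤ) ≡ (b : ℤ) [ZMOD (p : ℤ)] := Int.natCast_modEq_iff.mpr h
  obtain ⟨c, hc⟩ := (Int.modEq_iff_dvd.mp h1.symm)
  have h2 : (a : ℂ) - (b : ℂ) = (p : ℂ) * (c : ℂ) := by
    have := congrArg (fun t : ℤ => (t : ℂ)) hc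
    push_cast at this
    exact this
  rw [h2]
  apply h7_memLocalIdeal_mul_right hPr (h7_memLocalIdeal_p hM)
  have := h7_memLocalRing_of_algInt hPr (c : Cfsg.AlgInt)
  simpa using this

/-- The bijection behind the count `N(h)`. -/
theorem h7_card_pairs {p : ℕ} [hp : Fact p.Prime] (h : G) (n : ℕ) (hn : Nat.card G ≤ p ^ n) :
    Nat.card {z : G // ¬ p ∣ orderOf (z * h) ∧ z ^ (p ^ n) = 1} =
      Nat.card {xy : G × G // (∃ k : ℕ, orderOf xy.1 = p ^ k) ∧ ¬ p ∣ orderOf xy.2 ∧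
        xy.1 * xy.2 = h} := by
  apply Nat.card_congr
  exact
    { toFun := fun z => ⟨((z : G)⁻¹, (z : G) * h), by
        refine ⟨?_, z.2.1, by group⟩
        have hdvd : orderOf (z : G) ∣ p ^ n := orderOf_dvd_of_pow_eq_one z.2.2
        obtain ⟨k, -, hk⟩ := (Nat.dvd_prime_pow hp.out).mp hdvd
        exact ⟨k, by rw [orderOf_inv]; exact hk⟩⟩
      invFun := fun xy => ⟨(xy : G × G).1⁻¹, by
        obtain ⟨⟨x, y⟩, ⟨k, hk⟩, hy, hxy⟩ := xy
        dsimp only at hk hy hxy ⊢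
        refine ⟨?_, ?_⟩
        · have : x⁻¹ * h = y := by rw [← hxy]; group
          rw [this]
          exact hy
        · rw [inv_pow, inv_eq_one]
          apply orderOf_dvd_iff_pow_eq_one.mp
          rw [hk]
          apply pow_dvd_pow
          have h1 : p ^ k ≤ p ^ n := by
            rw [← hk]
            exact (orderOf_le_card_univ.trans (by rw [Nat.card_eq_fintype_card])).trans hn
          exact (Nat.pow_le_pow_iff_right hp.out.one_lt).mp h1⟩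
      left_inv := fun z => by
        apply Subtype.ext
        show ((z : G)⁻¹)⁻¹ = (z : G)
        rw [inv_inv]
      right_inv := fun xy => by
        obtain ⟨⟨x, y⟩, hx, hy, hxy⟩ := xy
        apply Subtype.ext
        dsimp only at hxy ⊢
        apply Prod.ext
        · show (x⁻¹)⁻¹ = x
          rw [inv_inv]
        · show x⁻¹ * h = y
          rw [← hxy]
          group }

/-- Key claim: `N(h) ≡ R · e₀(h)` modulo the local ideal, for `p`-regular `h`. -/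
theorem h7_kuls_key {p : ℕ} [hp : Fact p.Prime] {M : Ideal Cfsg.AlgInt}
    (hM : Cfsg.IsPModular p M) (h : G) (hh : ¬ p ∣ orderOf h) :
    Cfsg.MemLocalIdeal M
      ((Nat.card {xy : G × G // (∃ k : ℕ, orderOf xy.1 = p ^ k) ∧ ¬ p ∣ orderOf xy.2 ∧
        xy.1 * xy.2 = h} : ℂ) -
        (Nat.card {y : G // ¬ p ∣ orderOf y} : ℂ) *
          Cfsg.blockCoeff (Cfsg.principalBlock M G) h) := by
  classical
  have hPr := hM.2.1.isPrime
  obtain ⟨n₀, hn₀⟩ := h7_kW_pow_coef (G := G) hM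
  obtain ⟨R, hR⟩ : ∃ R : ℕ, R = Nat.card {y : G // ¬ p ∣ orderOf y} := ⟨_, rfl⟩
  rw [← hR]
  rw [← hR] at hn₀
  obtain ⟨N, hN⟩ : ∃ N : ℕ, N = Nat.card {xy : G × G // (∃ k : ℕ, orderOf xy.1 = p ^ k) ∧
      ¬ p ∣ orderOf xy.2 ∧ xy.1 * xy.2 = h} := ⟨_, rfl⟩
  rw [← hN]
  obtain ⟨t, ht⟩ : ∃ t : ℕ, t = (orderOf h).totient := ⟨_, rfl⟩
  have ht0 : 0 < t := by
    rw [ht]
    exact Nat.totient_pos.mpr (orderOf_pos h)
  obtain ⟨n, hn⟩ : ∃ n : ℕ, n = t * (n₀ + Nat.card G + 1) := ⟨_, rfl⟩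
  have hnge : n₀ + Nat.card G + 1 ≤ n := by
    rw [hn]
    exact Nat.le_mul_of_pos_left _ ht0
  have hqn : n < p ^ n := Nat.lt_pow_self hp.out.one_lt
  have hcop : Nat.Coprime p (orderOf h) := (Nat.Prime.coprime_iff_not_dvd hp.out).mpr hh
  have hq1 : p ^ n ≡ 1 [MOD orderOf h] := by
    rw [hn, pow_mul, ht]
    have := (Nat.ModEq.pow_totient hcop).pow (n₀ + Nat.card G + 1)
    rwa [one_pow] at this
  have hhq : h ^ (p ^ n) = h := by
    have := pow_eq_pow_iff_modEq.mpr hq1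
    rwa [pow_one] at this
  have hmod := h7_cnt_prime_pow_modEq (fun z : G => ¬ p ∣ orderOf (z * h)) p n
  rw [h7_card_pairs h n (by omega), ← hN] at hmod
  have hc1 := h7_memLocalIdeal_of_modEq hM hmod
  have htw := h7_cnt_twist p h (p ^ n) 1
  rw [one_mul, hhq] at htw
  rw [htw] at hc1
  have hc2 := hn₀ n (by omega) h
  have hRq : R ^ (p ^ n) ≡ R [MOD p] := by
    rw [← ZMod.natCast_eq_natCast_iff]
    push_cast
    exact ZMod.pow_card_pow _
  have hc3 := h7_memLocalIdeal_of_modEq hM hRq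
  have hE : Cfsg.MemLocalRing M (Cfsg.blockCoeff (Cfsg.principalBlock M G) h) :=
    h7_osima hPr (trivIrr G) h
  have hc4 := h7_memLocalIdeal_mul_right hPr hc3 hE
  push_cast at hc4
  have e : (N : ℂ) - (R : ℂ) * Cfsg.blockCoeff (Cfsg.principalBlock M G) h =
      -(h7_coef ((h7_kW (G := G) p) ^ (p ^ n)) h - (N : ℂ)) +
      (h7_coef ((h7_kW (G := G) p) ^ (p ^ n)) h -
        (R : ℂ) ^ (p ^ n) * Cfsg.blockCoeff (Cfsg.principalBlock M G) h) +
      ((R : ℂ) ^ (p ^ n) - (R : ℂ)) * Cfsg.blockCoeff (Cfsg.principalBlock M G) h := by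
    ring
  rw [e]
  exact h7_memLocalIdeal_add hPr (h7_memLocalIdeal_add hPr (h7_memLocalIdeal_neg hc1) hc2) hc4

/-- The count `N(1)` is `1`. -/
theorem h7_card_pairs_one {p : ℕ} [hp : Fact p.Prime] :
    Nat.card {xy : G × G // (∃ k : ℕ, orderOf xy.1 = p ^ k) ∧ ¬ p ∣ orderOf xy.2 ∧
      xy.1 * xy.2 = (1 : G)} = 1 := by
  rw [Nat.card_eq_one_iff_unique]
  refine ⟨⟨?_⟩, ⟨⟨(1, 1), ⟨0, by simp⟩, by
    rw [orderOf_one]
    exact hp.out.not_dvd_one, by simp⟩⟩⟩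
  have key : ∀ xy : {xy : G × G // (∃ k : ℕ, orderOf xy.1 = p ^ k) ∧ ¬ p ∣ orderOf xy.2 ∧
      xy.1 * xy.2 = (1 : G)}, (xy : G × G) = (1, 1) := by
    rintro ⟨⟨x, y⟩, ⟨k, hk⟩, hy, hxy⟩
    dsimp only at hk hy hxy ⊢
    have hyx : y = x⁻¹ := (eq_inv_of_mul_eq_one_right hxy)
    rw [hyx, orderOf_inv, hk] at hy
    have hk0 : k = 0 := by
      by_contra hk0
      exact hy (dvd_pow_self p hk0)
    rw [hk0, pow_zero, orderOf_eq_one_iff] at hk
    rw [hyx, hk, inv_one]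
  intro a b
  apply Subtype.ext
  rw [key a, key b]

/-- Külshammer's formula for the principal block idempotent. -/
theorem h7_kulshammer {p : ℕ} [hp : Fact p.Prime] {M : Ideal Cfsg.AlgInt}
    (hM : Cfsg.IsPModular p M) (g : G) (hg : ¬ p ∣ orderOf g) :
    Cfsg.MemLocalIdeal M (Cfsg.blockCoeff (Cfsg.principalBlock M G) g -
      (Nat.card {xy : G × G // (∃ k : ℕ, orderOf xy.1 = p ^ k) ∧ ¬ p ∣ orderOf xy.2 ∧
        xy.1 * xy.2 = g} : ℂ) / (Nat.card {y : G // ¬ p ∣ orderOf y} : ℂ)) := by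
  have hPr := hM.2.1.isPrime
  have h1 := h7_kuls_key (G := G) hM 1 (by
    rw [orderOf_one]
    exact hp.out.not_dvd_one)
  rw [h7_card_pairs_one] at h1
  have h2 := h7_kuls_key (G := G) hM g hg
  obtain ⟨R, hR⟩ : ∃ R : ℕ, R = Nat.card {y : G // ¬ p ∣ orderOf y} := ⟨_, rfl⟩
  rw [← hR] at h1 h2 ⊢
  have hRp : ¬ p ∣ R := by
    intro hdvd
    have hRm : Cfsg.MemLocalIdeal M (R : ℂ) := (h7_memLocalIdeal_natCast_iff hM R).mpr hdvd
    have hE1 : Cfsg.MemLocalRing M (Cfsg.blockCoeff (Cfsg.principalBlock M G) (1 : G)) :=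
      h7_osima hPr (trivIrr G) 1
    have := h7_memLocalIdeal_add hPr h1 (h7_memLocalIdeal_mul_right hPr hRm hE1)
    rw [Nat.cast_one, sub_add_cancel] at this
    exact h7_not_memLocalIdeal_one hPr this
  have hRinv : Cfsg.MemLocalRing M ((R : ℂ)⁻¹) := by
    refine ⟨1, (R : Cfsg.AlgInt), ?_, ?_⟩
    · exact h7_natCast_not_mem hM R
        (Nat.Coprime.symm ((Nat.Prime.coprime_iff_not_dvd hp.out).mpr hRp))
    · simp
  have hR0 : (R : ℂ) ≠ 0 := by
    intro h0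
    have : R = 0 := by exact_mod_cast h0
    rw [this] at hRp
    exact hRp (dvd_zero p)
  obtain ⟨N, hN⟩ : ∃ N : ℕ, N = Nat.card {xy : G × G // (∃ k : ℕ, orderOf xy.1 = p ^ k) ∧
      ¬ p ∣ orderOf xy.2 ∧ xy.1 * xy.2 = g} := ⟨_, rfl⟩
  rw [← hN] at h2 ⊢
  have e : Cfsg.blockCoeff (Cfsg.principalBlock M G) g - (N : ℂ) / (R : ℂ) =
      -((N : ℂ) - (R : ℂ) * Cfsg.blockCoeff (Cfsg.principalBlock M G) g) * (R : ℂ)⁻¹ := by
    field_simp
    ring
  rw [e]
  exact h7_memLocalIdeal_mul_right hPr (h7_memLocalIdeal_neg h2) hRinv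

end Cfsg.Agent.Lib.helper7
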