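import Mathlib

set_option autoImplicit false

/-!
# Sublattices of `ℤ^24` of Leech type: basic structure

`KHyp L`: `L` contains the vectors `4e_i ± 4e_j`, all dot products are divisible by 8, all norms by 16,
and nonzero vectors have norm at least 32.  We study the half lattice `half L = {w | 2w ∈ L}` and the
binary code `code L` of its residues modulo 2.
-/

namespace Cfsg.Agent.Lib.helper7.LC

open Matrix

/-- ambient space -/
abbrev V24 := Fin 24 → ℤ

/-- binary words -/
abbrev W24 := Fin 24 → ZMod 2

/-- hypotheses on the coordinatised lattice -/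
structure KHyp (L : AddSubgroup V24) : Prop where
  h1p : ∀ i j : Fin 24, i ≠ j → (Pi.single i 4 + Pi.single j 4 : V24) ∈ L
  h1m : ∀ i j : Fin 24, i ≠ j → (Pi.single i 4 - Pi.single j 4 : V24) ∈ L
  h2 : ∀ u ∈ L, ∀ u' ∈ L, (8 : ℤ) ∣ u ⬝ᵥ u'
  h2' : ∀ u ∈ L, (16 : ℤ) ∣ u ⬝ᵥ u
  h3 : ∀ u ∈ L, u ≠ 0 → 32 ≤ u ⬝ᵥ u

/-- doubling -/
def dbl : V24 →+ V24 := AddMonoidHom.mk' (fun v => v + v) (fun a b => by abel)

theorem dbl_apply (v : V24) : dbl v = v + v := rfl

theorem dbl_coord (v : V24) (i : Fin 24) : dbl v i = 2 * v i := by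
  show v i + v i = 2 * v i
  ring

theorem dbl_inj : Function.Injective dbl := by
  intro a b h
  funext i
  have := congrFun h i
  rw [dbl_coord, dbl_coord] at this
  omega

theorem dbl_dot (v w : V24) : dbl v ⬝ᵥ dbl w = 4 * (v ⬝ᵥ w) := by
  unfold dotProduct
  rw [Finset.mul_sum]
  apply Finset.sum_congr rfl
  intro i _
  rw [dbl_coord, dbl_coord]
  ring

/-- the half lattice -/
def half (L : AddSubgroup V24) : AddSubgroup V24 := L.comap dbl

theorem mem_half (L : AddSubgroup V24) (w : V24) : w ∈ half L ↔ dbl w ∈ L := Iff.rfl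

/-- reduction modulo 2 -/
def red2 : V24 →+ W24 := AddMonoidHom.mk' (fun v i => ((v i : ℤ) : ZMod 2)) (fun a b => by
  funext i
  simp only [Pi.add_apply, Int.cast_add])

theorem red2_apply (v : V24) (i : Fin 24) : red2 v i = ((v i : ℤ) : ZMod 2) := rfl

theorem red2_eq_zero_iff (v : V24) (i : Fin 24) : red2 v i = 0 ↔ (2 : ℤ) ∣ v i := by
  rw [red2_apply]
  exact ZMod.intCast_zmod_eq_zero_iff_dvd (v i) 2

theorem red2_eq_iff (v w : V24) : red2 v = red2 w ↔ ∀ i, (2 : ℤ) ∣ v i - w i := by
  rw [funext_iff]
  apply forall_congr'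
  intro i
  rw [red2_apply, red2_apply, ZMod.intCast_eq_intCast_iff_dvd_sub]
  constructor
  · intro h
    have : v i - w i = -(w i - v i) := by ring
    rw [this]
    exact (dvd_neg).2 h
  · intro h
    have : w i - v i = -(v i - w i) := by ring
    rw [this]
    exact (dvd_neg).2 h

theorem zmod2_cases (a : ZMod 2) : a = 0 ∨ a = 1 := by
  revert a; decide

theorem dot_single (u : V24) (i : Fin 24) (a : ℤ) : u ⬝ᵥ (Pi.single i a : V24) = u i * a :=
  dotProduct_single u a i

theorem sum_single (i : Fin 24) (a : ℤ) : ∑ k, (Pi.single i a : V24) k = a := by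
  rw [Finset.sum_pi_single']
  simp

theorem single_smul_one (i : Fin 24) (a : ℤ) : a • (Pi.single i 1 : V24) = Pi.single i a := by
  funext j
  rw [Pi.smul_apply, smul_eq_mul, Pi.single_apply, Pi.single_apply]
  split_ifs <;> ring

theorem dbl_single (i : Fin 24) (a : ℤ) : dbl (Pi.single i a : V24) = Pi.single i (2 * a) := by
  rw [dbl_apply, ← Pi.single_add]
  congr 1
  ring

section

variable {L : AddSubgroup V24} (hL : KHyp L)

include hL

theorem eight_single_mem (i : Fin 24) : (Pi.single i 8 : V24) ∈ L := by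
  obtain ⟨j, hj⟩ : ∃ j : Fin 24, i ≠ j := by
    by_cases h : i = 0
    · exact ⟨1, by rw [h]; decide⟩
    · exact ⟨0, h⟩
  have := L.add_mem (hL.h1p i j hj) (hL.h1m i j hj)
  have e : (Pi.single i 4 + Pi.single j 4 : V24) + (Pi.single i 4 - Pi.single j 4) = Pi.single i 8 := by
    have : (Pi.single i 8 : V24) = Pi.single i 4 + Pi.single i 4 := by
      rw [← Pi.single_add]
      norm_num
    rw [this]
    abel
  rwa [e] at this

/-- all coordinates of a lattice vector have the same parity -/
theorem parity (u : V24) (hu : u ∈ L) (i j : Fin 24) : (2 : ℤ) ∣ u i - u j := by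
  by_cases hij : i = j
  · rw [hij, sub_self]
    exact dvd_zero _
  have h := hL.h2 u hu _ (hL.h1m i j hij)
  rw [dotProduct_sub, dot_single, dot_single] at h
  omega

theorem even_or_odd (u : V24) (hu : u ∈ L) : (∀ i, (2 : ℤ) ∣ u i) ∨ (∀ i, ¬ (2 : ℤ) ∣ u i) := by
  by_cases h0 : (2 : ℤ) ∣ u 0
  · left
    intro i
    have := parity hL u hu i 0
    omega
  · right
    intro i
    have := parity hL u hu i 0
    omega

omit hL in
/-- an even lattice vector is the double of a vector of the half lattice -/
theorem exists_half (u : V24) (hu : u ∈ L) (he : ∀ i, (2 : ℤ) ∣ u i) : ∃ w ∈ half L, dbl w = u := by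
  refine ⟨fun i => u i / 2, ?_, ?_⟩
  · rw [mem_half]
    have : dbl (fun i => u i / 2) = u := by
      funext i
      rw [dbl_coord]
      have := he i
      omega
    rw [this]
    exact hu
  · funext i
    rw [dbl_coord]
    have := he i
    omega

theorem half_dot (w w' : V24) (hw : w ∈ half L) (hw' : w' ∈ half L) : (2 : ℤ) ∣ w ⬝ᵥ w' := by
  have := hL.h2 _ hw _ hw'
  rw [dbl_dot] at this
  omega

theorem half_norm (w : V24) (hw : w ∈ half L) : (4 : ℤ) ∣ w ⬝ᵥ w := by
  have := hL.h2' _ hw
  rw [dbl_dot] at this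
  omega

theorem half_min (w : V24) (hw : w ∈ half L) (h0 : w ≠ 0) : 8 ≤ w ⬝ᵥ w := by
  have hne : dbl w ≠ 0 := by
    intro h
    apply h0
    apply dbl_inj
    rw [h, map_zero]
  have := hL.h3 _ hw hne
  rw [dbl_dot] at this
  omega

theorem four_single_mem_half (i : Fin 24) : (Pi.single i 4 : V24) ∈ half L := by
  rw [mem_half]
  have : dbl (Pi.single i 4 : V24) = Pi.single i 8 := by
    rw [dbl_apply, ← Pi.single_add]
    norm_num
  rw [this]
  exact eight_single_mem hL i

theorem two_sub_mem_half (i j : Fin 24) (hij : i ≠ j) :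
    (Pi.single i 2 - Pi.single j 2 : V24) ∈ half L := by
  rw [mem_half]
  have : dbl (Pi.single i 2 - Pi.single j 2 : V24) = Pi.single i 4 - Pi.single j 4 := by
    have e4 : ∀ k : Fin 24, (Pi.single k 4 : V24) = Pi.single k 2 + Pi.single k 2 := by
      intro k
      rw [← Pi.single_add]
      norm_num
    rw [dbl_apply, e4, e4]
    abel
  rw [this]
  exact hL.h1m i j hij

/-- twice a vector with even coordinate sum lies in the half lattice -/
theorem two_smul_mem_half (z : V24) (hz : (2 : ℤ) ∣ ∑ i, z i) : dbl z ∈ half L := by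
  obtain ⟨k, hk⟩ := hz
  have hA : ∀ i : Fin 24, dbl (Pi.single i 1 - Pi.single 0 1 : V24) ∈ half L := by
    intro i
    by_cases hi : i = 0
    · rw [hi, sub_self, map_zero]
      exact (half L).zero_mem
    · rw [map_sub, dbl_single, dbl_single]
      exact two_sub_mem_half hL i 0 hi
  have key : z = ∑ i, z i • (Pi.single i 1 - Pi.single 0 1 : V24) + k • (Pi.single 0 2 : V24) := by
    have h1 : ∀ i : Fin 24, z i • (Pi.single i 1 - Pi.single 0 1 : V24)
        = Pi.single i (z i) - z i • (Pi.single 0 1 : V24) := by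
      intro i
      rw [smul_sub, single_smul_one]
    rw [Finset.sum_congr rfl (fun i _ => h1 i), Finset.sum_sub_distrib, Finset.univ_sum_single,
      ← Finset.sum_smul, hk, single_smul_one]
    have : k • (Pi.single 0 2 : V24) = Pi.single 0 (2 * k) := by
      rw [← single_smul_one 0 2, smul_smul, single_smul_one]
      congr 1
      ring
    rw [this]
    abel
  have hmem : dbl z = ∑ i, z i • dbl (Pi.single i 1 - Pi.single 0 1 : V24)
      + k • dbl (Pi.single 0 2 : V24) := by
    conv_lhs => rw [key]
    rw [map_add, map_sum, map_zsmul]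
    congr 1
    apply Finset.sum_congr rfl
    intro i _
    rw [map_zsmul]
  rw [hmem]
  apply (half L).add_mem
  · apply (half L).sum_mem
    intro i _
    exact (half L).zsmul_mem (hA i) _
  · apply (half L).zsmul_mem
    rw [dbl_single]
    exact four_single_mem_half hL 0

theorem single_two_not_mem_half (i : Fin 24) : (Pi.single i 2 : V24) ∉ half L := by
  intro h
  have hne : (Pi.single i 2 : V24) ≠ 0 := by
    intro h0
    have := congrFun h0 i
    rw [Pi.single_eq_same] at this
    norm_num at this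
  have := half_min hL _ h hne
  rw [dot_single, Pi.single_eq_same] at this
  norm_num at this

/-- if twice a vector lies in the half lattice then its coordinate sum is even -/
theorem even_sum_of_two_smul_mem (z : V24) (hz : dbl z ∈ half L) : (2 : ℤ) ∣ ∑ i, z i := by
  by_contra hodd
  have h1 : (2 : ℤ) ∣ ∑ i, (z - Pi.single 0 1 : V24) i := by
    simp only [Pi.sub_apply]
    rw [Finset.sum_sub_distrib, sum_single]
    omega
  have h2 := two_smul_mem_half hL _ h1
  have h3 := (half L).sub_mem hz h2
  have e : dbl z - dbl (z - Pi.single 0 1 : V24) = Pi.single 0 2 := by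
    rw [← map_sub]
    have : z - (z - Pi.single 0 1 : V24) = Pi.single 0 1 := by abel
    rw [this, dbl_apply, ← Pi.single_add]
    norm_num
  rw [e] at h3
  exact single_two_not_mem_half hL 0 h3

end

end Cfsg.Agent.Lib.helper7.LC
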