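import Cfsg.Agent.Lib.helper7.LCa

set_option autoImplicit false

/-!
# The binary code of a lattice of Leech type

`code L` is the set of residues modulo 2 of the half lattice.  It is doubly even, has no words of
weight 4, is self-orthogonal, hence has dimension at most 12.
-/

namespace Cfsg.Agent.Lib.helper7.LC

open Matrix

/-- the code of residues of the half lattice -/
def code (L : AddSubgroup V24) : Submodule (ZMod 2) W24 where
  carrier := {c | ∃ w ∈ half L, red2 w = c}
  zero_mem' := ⟨0, (half L).zero_mem, map_zero _⟩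
  add_mem' := by
    rintro a b ⟨w, hw, rfl⟩ ⟨w', hw', rfl⟩
    exact ⟨w + w', (half L).add_mem hw hw', map_add _ _ _⟩
  smul_mem' := by
    rintro a c ⟨w, hw, rfl⟩
    rcases zmod2_cases a with rfl | rfl
    · rw [zero_smul]
      exact ⟨0, (half L).zero_mem, map_zero _⟩
    · rw [one_smul]
      exact ⟨w, hw, rfl⟩

theorem mem_code (L : AddSubgroup V24) (c : W24) : c ∈ code L ↔ ∃ w ∈ half L, red2 w = c := Iff.rfl

/-- a vector with entries in `{0, 1, -1}` -/
def IsTern (w : V24) : Prop := ∀ i, w i = 0 ∨ w i = 1 ∨ w i = -1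

theorem tern_sq (w : V24) (hw : IsTern w) (i : Fin 24) :
    w i * w i = if red2 w i ≠ 0 then 1 else 0 := by
  have h2 : red2 w i ≠ 0 ↔ ¬ (2 : ℤ) ∣ w i := by rw [Ne, red2_eq_zero_iff]
  rcases hw i with h | h | h
  · rw [if_neg (by rw [h2, h]; norm_num), h]; norm_num
  · rw [if_pos (by rw [h2, h]; norm_num), h]; norm_num
  · rw [if_pos (by rw [h2, h]; norm_num), h]; norm_num

theorem tern_norm (w : V24) (hw : IsTern w) : w ⬝ᵥ w = (hammingNorm (red2 w) : ℤ) := by
  unfold dotProduct hammingNorm
  rw [Finset.sum_congr rfl (fun i _ => tern_sq w hw i), Finset.sum_boole]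

section

variable {L : AddSubgroup V24} (hL : KHyp L)

include hL

/-- every class of the half lattice modulo 2 contains a vector with entries in `{0, 1, -1}` -/
theorem exists_tern (w : V24) (hw : w ∈ half L) : ∃ w' ∈ half L, red2 w' = red2 w ∧ IsTern w' := by
  set c : V24 := fun i => w i % 2 with hc
  set z : V24 := fun i => w i / 2 with hz
  have hwcz : w = c + dbl z := by
    funext i
    rw [Pi.add_apply, dbl_coord]
    show w i = w i % 2 + 2 * (w i / 2)
    omega
  have hc01 : ∀ i, c i = 0 ∨ c i = 1 := by
    intro i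
    show w i % 2 = 0 ∨ w i % 2 = 1
    omega
  have hredc : red2 c = red2 w := by
    rw [red2_eq_iff]
    intro i
    show (2 : ℤ) ∣ w i % 2 - w i
    omega
  by_cases hev : (2 : ℤ) ∣ ∑ i, z i
  · refine ⟨c, ?_, hredc, fun i => ?_⟩
    · have : c = w - dbl z := by rw [hwcz]; abel
      rw [this]
      exact (half L).sub_mem hw (two_smul_mem_half hL z hev)
    · rcases hc01 i with h | h
      · left; exact h
      · right; left; exact h
  · by_cases hc0 : ∀ i, c i = 0
    · exfalso
      have : w = dbl z := by
        rw [hwcz]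
        have : c = 0 := funext hc0
        rw [this, zero_add]
      rw [this] at hw
      exact hev (even_sum_of_two_smul_mem hL z hw)
    · push Not at hc0
      obtain ⟨j, hj⟩ := hc0
      have hj1 : c j = 1 := by
        rcases hc01 j with h | h
        · exact absurd h hj
        · exact h
      have hev' : (2 : ℤ) ∣ ∑ i, (z + Pi.single j 1 : V24) i := by
        simp only [Pi.add_apply]
        rw [Finset.sum_add_distrib, sum_single]
        omega
      refine ⟨c - Pi.single j 2, ?_, ?_, fun i => ?_⟩
      · have : c - Pi.single j 2 = w - dbl (z + Pi.single j 1 : V24) := by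
          rw [hwcz, map_add, dbl_single]
          norm_num
          abel
        rw [this]
        exact (half L).sub_mem hw (two_smul_mem_half hL _ hev')
      · rw [← hredc, red2_eq_iff]
        intro i
        rw [Pi.sub_apply, Pi.single_apply]
        split_ifs <;> norm_num
      · rw [Pi.sub_apply, Pi.single_apply]
        by_cases hij : i = j
        · rw [if_pos hij, hij, hj1]
          right; right; norm_num
        · rw [if_neg hij, sub_zero]
          rcases hc01 i with h | h
          · left; exact h
          · right; left; exact h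

/-- the code is doubly even -/
theorem code_four_dvd (c : W24) (hc : c ∈ code L) : 4 ∣ hammingNorm c := by
  obtain ⟨w, hw, rfl⟩ := hc
  obtain ⟨w', hw', hr, ht⟩ := exists_tern hL w hw
  have h1 := half_norm hL w' hw'
  rw [tern_norm w' ht, hr] at h1
  exact_mod_cast h1

/-- nonzero words of the code have weight at least 8 -/
theorem code_min (c : W24) (hc : c ∈ code L) (h0 : c ≠ 0) : 8 ≤ hammingNorm c := by
  obtain ⟨w, hw, rfl⟩ := hc
  obtain ⟨w', hw', hr, ht⟩ := exists_tern hL w hw
  have hne : w' ≠ 0 := by
    intro h
    apply h0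
    rw [← hr, h, map_zero]
  have h1 := half_min hL w' hw' hne
  rw [tern_norm w' ht, hr] at h1
  exact_mod_cast h1

theorem code_ne_four (c : W24) (hc : c ∈ code L) : hammingNorm c ≠ 4 := by
  intro h
  by_cases h0 : c = 0
  · rw [h0, hammingNorm_zero] at h
    norm_num at h
  · have := code_min hL c hc h0
    omega

/-- the code is self-orthogonal -/
theorem code_orth (c c' : W24) (hc : c ∈ code L) (hc' : c' ∈ code L) : c ⬝ᵥ c' = 0 := by
  obtain ⟨w, hw, rfl⟩ := hc
  obtain ⟨w', hw', rfl⟩ := hc'
  have h := half_dot hL w w' hw hw'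
  have e : red2 w ⬝ᵥ red2 w' = (((w ⬝ᵥ w' : ℤ)) : ZMod 2) := by
    unfold dotProduct
    rw [Int.cast_sum]
    apply Finset.sum_congr rfl
    intro i _
    rw [red2_apply, red2_apply, Int.cast_mul]
  rw [e]
  exact (ZMod.intCast_zmod_eq_zero_iff_dvd _ 2).2 h

/-- a self-orthogonal code of length 24 has dimension at most 12 -/
theorem code_finrank_le : Module.finrank (ZMod 2) (code L) ≤ 12 := by
  set C := code L with hC
  let ψ : W24 →ₗ[ZMod 2] Module.Dual (ZMod 2) C :=
    (C.subtype.dualMap).comp (dotProductEquiv (ZMod 2) (Fin 24)).toLinearMap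
  have hsurj : Function.Surjective ψ := by
    have h1 := LinearMap.dualMap_surjective_of_injective C.injective_subtype
    have h2 := (dotProductEquiv (ZMod 2) (Fin 24)).surjective
    exact h1.comp h2
  have hker : C ≤ LinearMap.ker ψ := by
    intro c hc
    rw [LinearMap.mem_ker]
    ext ⟨c', hc'⟩
    show c ⬝ᵥ c' = 0
    exact code_orth hL c c' hc hc'
  have h1 := LinearMap.finrank_range_add_finrank_ker ψ
  rw [LinearMap.range_eq_top.2 hsurj, finrank_top, Subspace.dual_finrank_eq,
    Module.finrank_fin_fun] at h1
  have h2 := Submodule.finrank_mono hker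
  omega

end

end Cfsg.Agent.Lib.helper7.LC
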