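import Cfsg.Agent.Lib.helper7.LCb

set_option autoImplicit false

/-!
# Combinatorial lemmas for the count of minimal vectors

* `norm_two_shape`: integer vectors of norm 2;
* `odd_shape`: odd integer vectors of length 24 and norm 32;
* `tern_of_norm_le`: a vector whose norm is at most the number of its odd coordinates is ternary;
* `packing`: at most 759 eight-element subsets of a 24-set pairwise meeting in at most 4 points.
-/

namespace Cfsg.Agent.Lib.helper7.LC

open Matrix

theorem dot_self_eq (z : V24) : z ⬝ᵥ z = ∑ i, z i * z i := rfl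

theorem sq_ge_one_of_ne_zero (a : ℤ) (h : a ≠ 0) : 1 ≤ a * a := by
  rcases lt_or_gt_of_ne h with h1 | h1
  · nlinarith
  · nlinarith

/-- integer vectors of norm 2 -/
theorem norm_two_shape (z : V24) (hz : z ⬝ᵥ z = 2) :
    ∃ i j : Fin 24, i ≠ j ∧ (z i = 1 ∨ z i = -1) ∧ (z j = 1 ∨ z j = -1)
      ∧ ∀ k, k ≠ i → k ≠ j → z k = 0 := by
  classical
  rw [dot_self_eq] at hz
  have hnn : ∀ i, 0 ≤ z i * z i := fun i => mul_self_nonneg _
  have h1 : ∃ i, z i ≠ 0 := by
    by_contra h
    push Not at h
    rw [Finset.sum_eq_zero (fun i _ => by rw [h i]; norm_num)] at hz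
    norm_num at hz
  obtain ⟨i, hi⟩ := h1
  have hs1 := Finset.add_sum_erase Finset.univ (fun k => z k * z k) (Finset.mem_univ i)
  rw [hz] at hs1
  have hnn1 : 0 ≤ ∑ k ∈ Finset.univ.erase i, z k * z k := Finset.sum_nonneg (fun k _ => hnn k)
  have hi1 : 1 ≤ z i * z i := sq_ge_one_of_ne_zero _ hi
  have hi2 : z i * z i = 1 := by
    by_contra hne
    have h4 : 4 ≤ z i * z i := by
      rcases lt_or_gt_of_ne hi with h | h
      · have : z i ≤ -1 := by omega
        by_cases h2 : z i = -1
        · rw [h2] at hne; norm_num at hne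
        · have : z i ≤ -2 := by omega
          nlinarith
      · have : 1 ≤ z i := by omega
        by_cases h2 : z i = 1
        · rw [h2] at hne; norm_num at hne
        · have : 2 ≤ z i := by omega
          nlinarith
    have h5 : z i * z i + ∑ k ∈ Finset.univ.erase i, z k * z k = 2 := hs1
    omega
  have hrest : ∑ k ∈ Finset.univ.erase i, z k * z k = 1 := by
    have h5 : z i * z i + ∑ k ∈ Finset.univ.erase i, z k * z k = 2 := hs1
    omega
  have h2 : ∃ j ∈ Finset.univ.erase i, z j ≠ 0 := by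
    by_contra h
    push Not at h
    rw [Finset.sum_eq_zero (fun k hk => by rw [h k hk]; norm_num)] at hrest
    norm_num at hrest
  obtain ⟨j, hj, hj0⟩ := h2
  have hs2 := Finset.add_sum_erase (Finset.univ.erase i) (fun k => z k * z k) hj
  rw [hrest] at hs2
  have hnn2 : 0 ≤ ∑ k ∈ (Finset.univ.erase i).erase j, z k * z k :=
    Finset.sum_nonneg (fun k _ => hnn k)
  have hj1 : 1 ≤ z j * z j := sq_ge_one_of_ne_zero _ hj0
  have hj2 : z j * z j = 1 := by
    have h5 : z j * z j + ∑ k ∈ (Finset.univ.erase i).erase j, z k * z k = 1 := hs2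
    omega
  have hrest2 : ∑ k ∈ (Finset.univ.erase i).erase j, z k * z k = 0 := by
    have h5 : z j * z j + ∑ k ∈ (Finset.univ.erase i).erase j, z k * z k = 1 := hs2
    omega
  have hzero : ∀ k, k ≠ i → k ≠ j → z k = 0 := by
    intro k hki hkj
    have := (Finset.sum_eq_zero_iff_of_nonneg (fun k _ => hnn k)).1 hrest2 k
      (Finset.mem_erase.2 ⟨hkj, Finset.mem_erase.2 ⟨hki, Finset.mem_univ _⟩⟩)
    exact mul_self_eq_zero.1 this
  have hij : i ≠ j := fun h => (Finset.mem_erase.1 hj).1 h.symm
  have sq1 : ∀ a : ℤ, a * a = 1 → a = 1 ∨ a = -1 := by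
    intro a ha
    have : (a - 1) * (a + 1) = 0 := by linear_combination ha
    rcases mul_eq_zero.1 this with h | h
    · left; omega
    · right; omega
  exact ⟨i, j, hij, sq1 _ hi2, sq1 _ hj2, hzero⟩

/-- odd vectors of norm 32 have one coordinate `±3` and all others `±1` -/
theorem odd_shape (u : V24) (hodd : ∀ i, ¬ (2 : ℤ) ∣ u i) (hn : u ⬝ᵥ u = 32) :
    ∃ j : Fin 24, u j * u j = 9 ∧ ∀ i, i ≠ j → u i * u i = 1 := by
  classical
  rw [dot_self_eq] at hn
  have hf : ∀ i, ∃ a : ℤ, 0 ≤ a ∧ u i * u i = 1 + 8 * a := by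
    intro i
    have h := hodd i
    obtain ⟨k, hk⟩ : ∃ k, u i = 2 * k + 1 := ⟨u i / 2, by omega⟩
    rcases Int.even_or_odd' k with ⟨m, hm | hm⟩
    · refine ⟨m * (2 * m + 1), ?_, ?_⟩
      · nlinarith [mul_self_nonneg m, mul_self_nonneg (m + 1), mul_self_nonneg (2 * m + 1)]
      · rw [hk, hm]; ring
    · refine ⟨(m + 1) * (2 * m + 1), ?_, ?_⟩
      · nlinarith [mul_self_nonneg m, mul_self_nonneg (m + 1), mul_self_nonneg (2 * m + 1)]
      · rw [hk, hm]; ring
  choose a ha0 ha using hf
  have hsum : ∑ i, a i = 1 := by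
    have : ∑ i, u i * u i = ∑ i : Fin 24, (1 + 8 * a i) := Finset.sum_congr rfl (fun i _ => ha i)
    have h24 : ∑ _i : Fin 24, (1 : ℤ) = 24 := by simp
    rw [hn, Finset.sum_add_distrib, ← Finset.mul_sum, h24] at this
    omega
  have h1 : ∃ j, a j ≠ 0 := by
    by_contra h
    push Not at h
    rw [Finset.sum_eq_zero (fun i _ => h i)] at hsum
    norm_num at hsum
  obtain ⟨j, hj⟩ := h1
  have hs1 := Finset.add_sum_erase Finset.univ a (Finset.mem_univ j)
  rw [hsum] at hs1
  have hnn1 : 0 ≤ ∑ k ∈ Finset.univ.erase j, a k := Finset.sum_nonneg (fun k _ => ha0 k)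
  have hj0 := ha0 j
  have hj1 : a j = 1 := by omega
  have hrest : ∑ k ∈ Finset.univ.erase j, a k = 0 := by omega
  refine ⟨j, by rw [ha j, hj1]; norm_num, fun i hij => ?_⟩
  have := (Finset.sum_eq_zero_iff_of_nonneg (fun k _ => ha0 k)).1 hrest i
    (Finset.mem_erase.2 ⟨hij, Finset.mem_univ _⟩)
  rw [ha i, this]
  norm_num

/-- a vector whose norm is at most the number of its odd coordinates is ternary -/
theorem tern_of_norm_le (w : V24) (h : w ⬝ᵥ w ≤ (hammingNorm (red2 w) : ℤ)) :
    IsTern w ∧ w ⬝ᵥ w = (hammingNorm (red2 w) : ℤ) := by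
  classical
  have hH : (hammingNorm (red2 w) : ℤ) = ∑ i, (if red2 w i ≠ 0 then (1 : ℤ) else 0) := by
    unfold hammingNorm
    rw [Finset.sum_boole]
  rw [dot_self_eq, hH] at h
  have hge : ∀ i, (if red2 w i ≠ 0 then (1 : ℤ) else 0) ≤ w i * w i := by
    intro i
    by_cases hi : red2 w i ≠ 0
    · rw [if_pos hi]
      apply sq_ge_one_of_ne_zero
      intro h0
      apply hi
      rw [red2_eq_zero_iff, h0]
      exact dvd_zero _
    · rw [if_neg hi]
      exact mul_self_nonneg _
  have hsum0 : ∑ i, (w i * w i - (if red2 w i ≠ 0 then (1 : ℤ) else 0)) = 0 := by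
    have hnn : 0 ≤ ∑ i, (w i * w i - (if red2 w i ≠ 0 then (1 : ℤ) else 0)) :=
      Finset.sum_nonneg (fun i _ => by have := hge i; omega)
    rw [Finset.sum_sub_distrib] at hnn ⊢
    omega
  have heach := (Finset.sum_eq_zero_iff_of_nonneg (fun i _ => by have := hge i; omega)).1 hsum0
  constructor
  · intro i
    have hi := heach i (Finset.mem_univ _)
    by_cases hr : red2 w i ≠ 0
    · rw [if_pos hr] at hi
      have : (w i - 1) * (w i + 1) = 0 := by linear_combination hi
      rcases mul_eq_zero.1 this with h1 | h1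
      · right; left; omega
      · right; right; omega
    · rw [if_neg hr] at hi
      left
      have : w i * w i = 0 := by omega
      exact mul_self_eq_zero.1 this
  · rw [dot_self_eq, hH]
    rw [Finset.sum_sub_distrib] at hsum0
    omega

/-- packing bound for eight-element sets pairwise meeting in at most four points -/
theorem packing (S : Finset (Finset (Fin 24))) (h8 : ∀ A ∈ S, A.card = 8)
    (hint : ∀ A ∈ S, ∀ B ∈ S, A ≠ B → (A ∩ B).card ≤ 4) : S.card ≤ 759 := by
  classical
  have hdisj : (S : Set (Finset (Fin 24))).PairwiseDisjoint (fun A => Finset.powersetCard 5 A) := by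
    intro A hA B hB hne
    show Disjoint (Finset.powersetCard 5 A) (Finset.powersetCard 5 B)
    rw [Finset.disjoint_left]
    intro T hTA hTB
    rw [Finset.mem_powersetCard] at hTA hTB
    have h1 : T ⊆ A ∩ B := Finset.subset_inter hTA.1 hTB.1
    have h2 := Finset.card_le_card h1
    have h3 := hint A hA B hB hne
    omega
  have hcard := Finset.card_biUnion hdisj
  have h56 : ∀ A ∈ S, (Finset.powersetCard 5 A).card = 56 := by
    intro A hA
    rw [Finset.card_powersetCard, h8 A hA]
    rfl
  rw [Finset.sum_congr rfl h56, Finset.sum_const, smul_eq_mul] at hcard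
  have hsub : S.biUnion (fun A => Finset.powersetCard 5 A)
      ⊆ Finset.powersetCard 5 (Finset.univ : Finset (Fin 24)) := by
    intro T hT
    rw [Finset.mem_biUnion] at hT
    obtain ⟨A, _, hTA⟩ := hT
    rw [Finset.mem_powersetCard] at hTA ⊢
    exact ⟨Finset.subset_univ _, hTA.2⟩
  have hle := Finset.card_le_card hsub
  rw [hcard, Finset.card_powersetCard, Finset.card_univ, Fintype.card_fin] at hle
  have : Nat.choose 24 5 = 42504 := by decide
  rw [this] at hle
  omega

end Cfsg.Agent.Lib.helper7.LC
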