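import Cfsg.Agent.Lib.helper7.LCc

set_option autoImplicit false

/-!
# Counting the minimal vectors of a lattice of Leech type

The minimal vectors (norm 32) are of three kinds: `(±4, ±4, 0^22)` (at most 2304 of them),
`(±2^8, 0^16)` supported on octads of the code (at most `128 * 759`), and odd vectors
`(±3, ±1^23)` (at most 24 times the size of the code).
-/

namespace Cfsg.Agent.Lib.helper7.LC

open Matrix

/-- support of an integer vector -/
def supp (u : V24) : Finset (Fin 24) := Finset.univ.filter (fun i => u i ≠ 0)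

theorem mem_supp (u : V24) (i : Fin 24) : i ∈ supp u ↔ u i ≠ 0 := by
  unfold supp
  simp only [Finset.mem_filter, Finset.mem_univ, true_and]

theorem dot_dbl_self (w : V24) : dbl w ⬝ᵥ dbl w = 4 * (w ⬝ᵥ w) := dbl_dot w w

/-- the predicate defining the first kind: all coordinates divisible by 4 -/
def IsA (u : V24) : Prop := ∀ i, (4 : ℤ) ∣ u i

/-- the predicate defining the second kind -/
def IsB (u : V24) : Prop := (∀ i, (2 : ℤ) ∣ u i) ∧ ¬ ∀ i, (4 : ℤ) ∣ u i

/-- the predicate defining the third kind -/
def IsC (u : V24) : Prop := ¬ (2 : ℤ) ∣ u 0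

noncomputable instance : DecidablePred IsA := Classical.decPred _
noncomputable instance : DecidablePred IsB := Classical.decPred _
noncomputable instance : DecidablePred IsC := Classical.decPred _

theorem one_add_one_zmod2 : (1 : ZMod 2) + 1 = 0 := by decide

/-- parametrisation of the vectors `(±4, ±4, 0^22)` -/
def gA (p : (Fin 24 × Fin 24) × (Bool × Bool)) : V24 :=
  Pi.single p.1.1 (if p.2.1 then 4 else -4) + Pi.single p.1.2 (if p.2.2 then 4 else -4)

section

variable {L : AddSubgroup V24} (hL : KHyp L) (M : Finset V24)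
  (hM : ∀ u, u ∈ M ↔ u ∈ L ∧ u ⬝ᵥ u = 32)

include hL hM

/-! ### vectors divisible by 4 -/

omit hL hM in
theorem exists_gA (u : V24) (hn : u ⬝ᵥ u = 32) (h4 : ∀ i, (4 : ℤ) ∣ u i) : ∃ p, gA p = u := by
  obtain ⟨z, huz⟩ : ∃ z : V24, ∀ i, u i = 4 * z i :=
    ⟨fun i => u i / 4, fun i => by have := h4 i; show u i = 4 * (u i / 4); omega⟩
  have hzz : z ⬝ᵥ z = 2 := by
    have : u ⬝ᵥ u = 16 * (z ⬝ᵥ z) := by
      unfold dotProduct
      rw [Finset.mul_sum]
      apply Finset.sum_congr rfl
      intro i _
      rw [huz i]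
      ring
    rw [hn] at this
    omega
  obtain ⟨i, j, hij, hi, hj, hzeq⟩ := norm_two_shape z hzz
  refine ⟨((i, j), (decide (z i = 1), decide (z j = 1))), ?_⟩
  show Pi.single i (if decide (z i = 1) then (4 : ℤ) else -4)
    + Pi.single j (if decide (z j = 1) then (4 : ℤ) else -4) = u
  have e1 : (if decide (z i = 1) then (4 : ℤ) else -4) = 4 * z i := by
    rcases hi with h | h
    · rw [h]; simp
    · rw [h]; simp
  have e2 : (if decide (z j = 1) then (4 : ℤ) else -4) = 4 * z j := by
    rcases hj with h | h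
    · rw [h]; simp
    · rw [h]; simp
  rw [e1, e2]
  funext k
  rw [huz k, Pi.add_apply, Pi.single_apply, Pi.single_apply]
  by_cases hki : k = i
  · rw [if_pos hki, hki, if_neg hij, add_zero]
  · by_cases hkj : k = j
    · rw [if_neg hki, if_pos hkj, hkj, zero_add]
    · rw [if_neg hki, if_neg hkj, hzeq k hki hkj]
      ring

set_option maxRecDepth 20000 in
omit hL in
theorem card_Ma_le : (M.filter IsA).card ≤ 2304 := by
  classical
  have hsub : M.filter IsA ⊆ Finset.univ.image gA := by
    intro u hu
    rw [Finset.mem_filter] at hu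
    have hex := exists_gA u ((hM u).1 hu.1).2 hu.2
    exact Finset.mem_image.2 ⟨hex.choose, Finset.mem_univ _, hex.choose_spec⟩
  calc (M.filter IsA).card ≤ (Finset.univ.image gA).card :=
        Finset.card_le_card hsub
    _ ≤ (Finset.univ : Finset ((Fin 24 × Fin 24) × (Bool × Bool))).card := Finset.card_image_le
    _ = 2304 := by
        rw [Finset.card_univ]
        simp only [Fintype.card_prod, Fintype.card_fin, Fintype.card_bool]

/-! ### even vectors not divisible by 4 -/

theorem Mb_shape (u : V24) (huM : u ∈ M) (hb : IsB u) :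
    ∃ w ∈ half L, dbl w = u ∧ IsTern w ∧ hammingNorm (red2 w) = 8 := by
  obtain ⟨huL, hn⟩ := (hM u).1 huM
  obtain ⟨w, hw, hwu⟩ := exists_half u huL hb.1
  have hww : w ⬝ᵥ w = 8 := by
    have := dot_dbl_self w
    rw [hwu, hn] at this
    omega
  have hne : red2 w ≠ 0 := by
    intro h0
    apply hb.2
    intro i
    have h1 : red2 w i = 0 := by rw [h0]; rfl
    rw [red2_eq_zero_iff] at h1
    have h2 : u i = 2 * w i := by rw [← hwu, dbl_coord]
    omega
  have hmin := code_min hL (red2 w) ⟨w, hw, rfl⟩ hne
  have hle : w ⬝ᵥ w ≤ (hammingNorm (red2 w) : ℤ) := by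
    rw [hww]
    exact_mod_cast hmin
  obtain ⟨ht, heq⟩ := tern_of_norm_le w hle
  refine ⟨w, hw, hwu, ht, ?_⟩
  rw [hww] at heq
  exact_mod_cast heq.symm

omit hL hM in
theorem supp_dbl_tern (w : V24) (ht : IsTern w) :
    supp (dbl w) = Finset.univ.filter (fun i => red2 w i ≠ 0) := by
  ext i
  rw [mem_supp, Finset.mem_filter, dbl_coord]
  simp only [Finset.mem_univ, true_and]
  rw [Ne, Ne, red2_eq_zero_iff]
  rcases ht i with h | h | h <;> rw [h] <;> norm_num

omit hL hM in
theorem hamming_add (c c' : W24) :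
    hammingNorm (c + c') + 2 * ((Finset.univ.filter (fun i => c i ≠ 0))
      ∩ (Finset.univ.filter (fun i => c' i ≠ 0))).card = hammingNorm c + hammingNorm c' := by
  classical
  unfold hammingNorm
  rw [← Finset.filter_and, Finset.card_filter, Finset.card_filter, Finset.card_filter,
    Finset.card_filter, Finset.mul_sum, ← Finset.sum_add_distrib, ← Finset.sum_add_distrib]
  apply Finset.sum_congr rfl
  intro i _
  rw [Pi.add_apply]
  rcases zmod2_cases (c i) with h | h <;> rcases zmod2_cases (c' i) with h' | h' <;>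
    rw [h, h'] <;> simp [one_add_one_zmod2]

theorem Mb_supp_card (u : V24) (huM : u ∈ M) (hb : IsB u) : (supp u).card = 8 := by
  obtain ⟨w, _, hwu, ht, h8⟩ := Mb_shape hL M hM u huM hb
  rw [← hwu, supp_dbl_tern w ht]
  exact h8

theorem Mb_inter (u u' : V24) (huM : u ∈ M) (hb : IsB u) (huM' : u' ∈ M) (hb' : IsB u')
    (hne : supp u ≠ supp u') : (supp u ∩ supp u').card ≤ 4 := by
  obtain ⟨w, hw, hwu, ht, h8⟩ := Mb_shape hL M hM u huM hb
  obtain ⟨w', hw', hwu', ht', h8'⟩ := Mb_shape hL M hM u' huM' hb'
  rw [← hwu, ← hwu', supp_dbl_tern w ht, supp_dbl_tern w' ht'] at hne ⊢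
  have hc : red2 w + red2 w' ∈ code L := (code L).add_mem ⟨w, hw, rfl⟩ ⟨w', hw', rfl⟩
  have hne0 : red2 w + red2 w' ≠ 0 := by
    intro h0
    apply hne
    have : red2 w = red2 w' := by
      funext i
      have := congrFun h0 i
      rw [Pi.add_apply, Pi.zero_apply] at this
      rcases zmod2_cases (red2 w i) with h | h <;> rcases zmod2_cases (red2 w' i) with h' | h' <;>
        rw [h, h'] at this ⊢ <;> revert this <;> decide
    rw [this]
  have hmin := code_min hL _ hc hne0
  have hadd := hamming_add (red2 w) (red2 w')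
  rw [h8, h8'] at hadd
  omega

theorem Mb_fiber (O : Finset (Fin 24)) (hO : O ∈ (M.filter IsB).image supp) :
    ((M.filter IsB).filter (fun u => supp u = O)).card ≤ 128 := by
  classical
  rw [Finset.mem_image] at hO
  obtain ⟨u1, hu1, hu1O⟩ := hO
  rw [Finset.mem_filter] at hu1
  have hcard : O.card = 8 := by rw [← hu1O]; exact Mb_supp_card hL M hM u1 hu1.1 hu1.2
  have hne : O.Nonempty := by rw [← Finset.card_pos, hcard]; norm_num
  obtain ⟨i0, hi0⟩ := hne
  let D : V24 → Finset (Fin 24) := fun u => (O.erase i0).filter (fun i => u i = 2)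
  have hmaps : ∀ u ∈ (M.filter IsB).filter (fun u => supp u = O), D u ∈ (O.erase i0).powerset := by
    intro u _
    rw [Finset.mem_powerset]
    exact Finset.filter_subset _ _
  have hvals : ∀ u ∈ (M.filter IsB).filter (fun u => supp u = O), ∀ i,
      (i ∈ O → u i = 2 ∨ u i = -2) ∧ (i ∉ O → u i = 0) := by
    intro u hu i
    rw [Finset.mem_filter, Finset.mem_filter] at hu
    obtain ⟨⟨huM, hb⟩, hsO⟩ := hu
    obtain ⟨w, _, hwu, ht, _⟩ := Mb_shape hL M hM u huM hb
    have hui : u i = 2 * w i := by rw [← hwu, dbl_coord]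
    constructor
    · intro hiO
      rw [← hsO, mem_supp] at hiO
      rcases ht i with h | h | h
      · rw [hui, h] at hiO; exact absurd rfl hiO
      · left; rw [hui, h]; norm_num
      · right; rw [hui, h]; norm_num
    · intro hiO
      rw [← hsO, mem_supp] at hiO
      push Not at hiO
      exact hiO
  have hinj : Set.InjOn D ((M.filter IsB).filter (fun u => supp u = O) : Set V24) := by
    intro u hu u' hu' hD
    have hu2 := hu
    have hu2' := hu'
    rw [Finset.mem_coe, Finset.mem_filter, Finset.mem_filter] at hu2 hu2'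
    have hoff : ∀ i, i ≠ i0 → u i = u' i := by
      intro i hi
      by_cases hiO : i ∈ O
      · have h1 := (hvals u hu i).1 hiO
        have h2 := (hvals u' hu' i).1 hiO
        have hm : i ∈ D u ↔ i ∈ D u' := by rw [hD]
        simp only [D, Finset.mem_filter, Finset.mem_erase] at hm
        have hm' : u i = 2 ↔ u' i = 2 := by
          constructor
          · intro h; exact (hm.1 ⟨⟨hi, hiO⟩, h⟩).2
          · intro h; exact (hm.2 ⟨⟨hi, hiO⟩, h⟩).2
        rcases h1 with h1 | h1 <;> rcases h2 with h2 | h2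
        · rw [h1, h2]
        · exfalso
          have := hm'.1 h1
          omega
        · exfalso
          have := hm'.2 h2
          omega
        · rw [h1, h2]
      · rw [(hvals u hu i).2 hiO, (hvals u' hu' i).2 hiO]
    have hdiff : u - u' = Pi.single i0 (u i0 - u' i0) := by
      funext i
      rw [Pi.sub_apply, Pi.single_apply]
      by_cases hi : i = i0
      · rw [if_pos hi, hi]
      · rw [if_neg hi, hoff i hi, sub_self]
    have hmemL : u - u' ∈ L := L.sub_mem ((hM u).1 hu2.1.1).1 ((hM u').1 hu2'.1.1).1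
    by_contra hne
    have hne0 : u - u' ≠ 0 := sub_ne_zero.2 hne
    have h32 := hL.h3 _ hmemL hne0
    rw [hdiff, dot_single, Pi.single_eq_same] at h32
    have h1 := (hvals u hu i0).1 hi0
    have h2 := (hvals u' hu' i0).1 hi0
    rcases h1 with h1 | h1 <;> rcases h2 with h2 | h2 <;> rw [h1, h2] at h32 <;> norm_num at h32
  calc ((M.filter IsB).filter (fun u => supp u = O)).card ≤ ((O.erase i0).powerset).card :=
        Finset.card_le_card_of_injOn D hmaps hinj
    _ = 128 := by
        rw [Finset.card_powerset, Finset.card_erase_of_mem hi0, hcard]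
        norm_num

theorem card_Mb_le : (M.filter IsB).card ≤ 128 * 759 := by
  classical
  have h1 := Finset.card_le_mul_card_image (f := supp) (M.filter IsB) 128
    (fun O hO => Mb_fiber hL M hM O hO)
  have h2 : ((M.filter IsB).image supp).card ≤ 759 := by
    apply packing
    · intro A hA
      rw [Finset.mem_image] at hA
      obtain ⟨u, hu, rfl⟩ := hA
      rw [Finset.mem_filter] at hu
      exact Mb_supp_card hL M hM u hu.1 hu.2
    · intro A hA B hB hAB
      rw [Finset.mem_image] at hA hB
      obtain ⟨u, hu, rfl⟩ := hA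
      obtain ⟨u', hu', rfl⟩ := hB
      rw [Finset.mem_filter] at hu hu'
      exact Mb_inter hL M hM u u' hu.1 hu.2 hu'.1 hu'.2 hAB
  calc (M.filter IsB).card ≤ 128 * ((M.filter IsB).image supp).card := h1
    _ ≤ 128 * 759 := Nat.mul_le_mul_left _ h2

end

end Cfsg.Agent.Lib.helper7.LC
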