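import Cfsg.Agent.Lib.helper7.LCd

set_option autoImplicit false

/-!
# The code of a lattice of Leech type with 196560 minimal vectors has dimension 12
-/

namespace Cfsg.Agent.Lib.helper7.LC

open Matrix

/-- position of the coordinate `±3` of an odd minimal vector -/
noncomputable def jpos (u : V24) : Fin 24 := if h : ∃ j, u j * u j = 9 then h.choose else 0

theorem jpos_spec (u : V24) (hodd : ∀ i, ¬ (2 : ℤ) ∣ u i) (hn : u ⬝ᵥ u = 32) :
    u (jpos u) * u (jpos u) = 9 ∧ ∀ i, i ≠ jpos u → u i * u i = 1 := by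
  obtain ⟨j, hj9, hj1⟩ := odd_shape u hodd hn
  have hex : ∃ j, u j * u j = 9 := ⟨j, hj9⟩
  have hdef : jpos u = hex.choose := by
    unfold jpos
    rw [dif_pos hex]
  have hspec := hex.choose_spec
  have heq : hex.choose = j := by
    by_contra hne
    have := hj1 _ hne
    omega
  rw [hdef, heq]
  exact ⟨hj9, hj1⟩

theorem sq_nine (a : ℤ) (h : a * a = 9) : a = 3 ∨ a = -3 := by
  have : (a - 3) * (a + 3) = 0 := by linear_combination h
  rcases mul_eq_zero.1 this with h1 | h1
  · left; omega
  · right; omega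

theorem sq_one (a : ℤ) (h : a * a = 1) : a = 1 ∨ a = -1 := by
  have : (a - 1) * (a + 1) = 0 := by linear_combination h
  rcases mul_eq_zero.1 this with h1 | h1
  · left; omega
  · right; omega

/-- the number of words of the code -/
noncomputable def codeCard (L : AddSubgroup V24) : ℕ := by
  classical
  exact (Finset.univ.filter (fun c : W24 => c ∈ code L)).card

theorem codeCard_eq (L : AddSubgroup V24) : codeCard L = 2 ^ Module.finrank (ZMod 2) (code L) := by
  classical
  have h1 : Nat.card ↥(code L) = codeCard L := by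
    rw [Nat.card_eq_fintype_card]
    unfold codeCard
    convert Fintype.card_subtype (fun c : W24 => c ∈ code L)
  rw [← h1, Module.natCard_eq_pow_finrank (K := ZMod 2), Nat.card_zmod]

section

variable {L : AddSubgroup V24} (hL : KHyp L) (M : Finset V24)
  (hM : ∀ u, u ∈ M ↔ u ∈ L ∧ u ⬝ᵥ u = 32)

include hL hM

theorem Mc_odd (u : V24) (hu : u ∈ M) (hc : IsC u) : ∀ i, ¬ (2 : ℤ) ∣ u i := by
  rcases even_or_odd hL u ((hM u).1 hu).1 with h | h
  · exact absurd (h 0) hc
  · exact h

theorem card_Mc_le : (M.filter IsC).card ≤ 24 * codeCard L := by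
  classical
  by_cases hne : (M.filter IsC).Nonempty
  swap
  · rw [Finset.not_nonempty_iff_eq_empty] at hne
    rw [hne, Finset.card_empty]
    exact Nat.zero_le _
  obtain ⟨u0, hu0⟩ := hne
  rw [Finset.mem_filter] at hu0
  have hodd0 := Mc_odd hL M hM u0 hu0.1 hu0.2
  let Φ : V24 → W24 × Fin 24 := fun u => (red2 (fun i => (u i - u0 i) / 2), jpos u)
  have hmaps : ∀ u ∈ M.filter IsC, Φ u ∈ (Finset.univ.filter (fun c : W24 => c ∈ code L))
      ×ˢ (Finset.univ : Finset (Fin 24)) := by
    intro u hu
    rw [Finset.mem_filter] at hu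
    have hodd := Mc_odd hL M hM u hu.1 hu.2
    rw [Finset.mem_product]
    refine ⟨?_, Finset.mem_univ _⟩
    rw [Finset.mem_filter]
    refine ⟨Finset.mem_univ _, ?_⟩
    refine ⟨fun i => (u i - u0 i) / 2, ?_, rfl⟩
    rw [mem_half]
    have : dbl (fun i => (u i - u0 i) / 2) = u - u0 := by
      funext i
      rw [dbl_coord, Pi.sub_apply]
      have h1 := hodd i
      have h2 := hodd0 i
      omega
    rw [this]
    exact L.sub_mem ((hM u).1 hu.1).1 ((hM u0).1 hu0.1).1
  have hinj : Set.InjOn Φ (M.filter IsC : Set V24) := by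
    intro u hu u' hu' hΦ
    rw [Finset.mem_coe, Finset.mem_filter] at hu hu'
    have hodd := Mc_odd hL M hM u hu.1 hu.2
    have hodd' := Mc_odd hL M hM u' hu'.1 hu'.2
    have hj := jpos_spec u hodd ((hM u).1 hu.1).2
    have hj' := jpos_spec u' hodd' ((hM u').1 hu'.1).2
    have e1 : red2 (fun i => (u i - u0 i) / 2) = red2 (fun i => (u' i - u0 i) / 2) :=
      congrArg Prod.fst hΦ
    have e2 : jpos u = jpos u' := congrArg Prod.snd hΦ
    rw [red2_eq_iff] at e1
    funext i
    have h4 : (4 : ℤ) ∣ u i - u' i := by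
      have h1 := hodd i
      have h1' := hodd' i
      have h2 := hodd0 i
      have h3 : (2 : ℤ) ∣ (u i - u0 i) / 2 - (u' i - u0 i) / 2 := e1 i
      omega
    by_cases hi : i = jpos u
    · have a1 := hj.1
      have a2 := hj'.1
      rw [← e2, ← hi] at a2
      rw [← hi] at a1
      rcases sq_nine _ a1 with b1 | b1 <;> rcases sq_nine _ a2 with b2 | b2 <;> omega
    · have a1 := hj.2 i hi
      have a2 := hj'.2 i (by rw [← e2]; exact hi)
      rcases sq_one _ a1 with b1 | b1 <;> rcases sq_one _ a2 with b2 | b2 <;> omega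
  have := Finset.card_le_card_of_injOn Φ hmaps hinj
  rw [Finset.card_product, Finset.card_univ, Fintype.card_fin] at this
  unfold codeCard
  rw [mul_comm]
  convert this

end

/-- the main count -/
theorem count_main {L : AddSubgroup V24} (hL : KHyp L)
    (hcount : {u : V24 | u ∈ L ∧ u ⬝ᵥ u = 32}.ncard = 196560) :
    Module.finrank (ZMod 2) (code L) = 12 ∧ ∃ u ∈ L, ∀ i, ¬ (2 : ℤ) ∣ u i := by
  classical
  have hfin : {u : V24 | u ∈ L ∧ u ⬝ᵥ u = 32}.Finite :=
    Set.finite_of_ncard_ne_zero (by rw [hcount]; norm_num)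
  set M : Finset V24 := hfin.toFinset with hMdef
  have hM : ∀ u, u ∈ M ↔ u ∈ L ∧ u ⬝ᵥ u = 32 := by
    intro u
    rw [hMdef, Set.Finite.mem_toFinset]
    rfl
  have hcard : M.card = 196560 := by
    rw [← hcount, Set.ncard_eq_toFinset_card _ hfin]
  have hcover : M ⊆ M.filter IsA ∪ (M.filter IsB ∪ M.filter IsC) := by
    intro u hu
    rw [Finset.mem_union, Finset.mem_union, Finset.mem_filter, Finset.mem_filter,
      Finset.mem_filter]
    rcases even_or_odd hL u ((hM u).1 hu).1 with h | h
    · by_cases h4 : ∀ i, (4 : ℤ) ∣ u i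
      · left; exact ⟨hu, h4⟩
      · right; left; exact ⟨hu, h, h4⟩
    · right; right; exact ⟨hu, h 0⟩
  have h1 := Finset.card_le_card hcover
  have h2 := Finset.card_union_le (M.filter IsA) (M.filter IsB ∪ M.filter IsC)
  have h3 := Finset.card_union_le (M.filter IsB) (M.filter IsC)
  have ha := card_Ma_le M hM
  have hb := card_Mb_le hL M hM
  have hc := card_Mc_le hL M hM
  have hk := code_finrank_le hL
  have hK := codeCard_eq L
  constructor
  · by_contra hne
    have hlt : Module.finrank (ZMod 2) (code L) ≤ 11 := by omega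
    have : codeCard L ≤ 2 ^ 11 := by
      rw [hK]
      exact Nat.pow_le_pow_right (by norm_num) hlt
    omega
  · by_contra hno
    push Not at hno
    have hempty : M.filter IsC = ∅ := by
      rw [Finset.filter_eq_empty_iff]
      intro u hu hcu
      obtain ⟨i, hi⟩ := hno u ((hM u).1 hu).1
      exact (Mc_odd hL M hM u hu hcu i) hi
    have hc0 : (M.filter IsC).card = 0 := by rw [hempty, Finset.card_empty]
    omega

end Cfsg.Agent.Lib.helper7.LC
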