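import Cfsg.Agent.Lib.helper7.LCe

set_option autoImplicit false

/-!
# Identification of a normalised lattice of Leech type

If `L` satisfies `KHyp`, contains a vector `u0` all of whose coordinates are `1` modulo 4, and the
all-ones word lies in `code L`, then `L` is described by the conditions defining the Leech lattice,
with `code L` in the role of the Golay code (`InLeech`).
-/

namespace Cfsg.Agent.Lib.helper7.LC

open Matrix

/-- indicator of the coordinates congruent to `k` modulo 4 -/
def ind (u : V24) (k : ℤ) : W24 := fun i => if u i ≡ k [ZMOD 4] then 1 else 0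

/-- the conditions defining the Leech lattice, relative to the code of `L` -/
def InLeech (L : AddSubgroup V24) (u : V24) : Prop :=
  ∃ m : ℤ, (∀ i, u i ≡ m [ZMOD 2]) ∧ (∑ i, u i ≡ 4 * m [ZMOD 8]) ∧ ∀ k : ℤ, ind u k ∈ code L

theorem red2_val (w : V24) (i : Fin 24) : red2 w i = if (2 : ℤ) ∣ w i then 0 else 1 := by
  by_cases h : (2 : ℤ) ∣ w i
  · rw [if_pos h, red2_eq_zero_iff]
    exact h
  · rw [if_neg h]
    rcases zmod2_cases (red2 w i) with h0 | h0
    · rw [red2_eq_zero_iff] at h0
      exact absurd h0 h
    · exact h0

theorem sum_dbl (w : V24) : ∑ i, dbl w i = 2 * ∑ i, w i := by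
  rw [Finset.mul_sum]
  exact Finset.sum_congr rfl (fun i _ => dbl_coord w i)

section

variable {L : AddSubgroup V24} (hL : KHyp L) (u0 : V24) (hu0 : u0 ∈ L) (h1 : ∀ i, u0 i % 4 = 1)

include hL hu0 h1

/-- coordinate sums of the half lattice are divisible by 4 -/
theorem half_sum (w : V24) (hw : w ∈ half L) : (4 : ℤ) ∣ ∑ i, w i := by
  have h8 := hL.h2 _ hw _ hu0
  obtain ⟨a, ha⟩ : ∃ a : V24, ∀ i, u0 i = 4 * a i + 1 :=
    ⟨fun i => u0 i / 4, fun i => by have := h1 i; show u0 i = 4 * (u0 i / 4) + 1; omega⟩
  have e : dbl w ⬝ᵥ u0 = 2 * ∑ i, w i + 8 * ∑ i, w i * a i := by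
    unfold dotProduct
    rw [Finset.mul_sum, Finset.mul_sum, ← Finset.sum_add_distrib]
    apply Finset.sum_congr rfl
    intro i _
    rw [dbl_coord, ha i]
    ring
  rw [e] at h8
  omega

/-- the coordinate sum of `u0` is `4` modulo 8 -/
theorem u0_sum : (∑ i, u0 i) % 8 = 4 := by
  have h16 := hL.h2' _ hu0
  obtain ⟨a, ha⟩ : ∃ a : V24, ∀ i, u0 i = 4 * a i + 1 :=
    ⟨fun i => u0 i / 4, fun i => by have := h1 i; show u0 i = 4 * (u0 i / 4) + 1; omega⟩
  have h24 : ∑ _i : Fin 24, (1 : ℤ) = 24 := by simp
  have e1 : u0 ⬝ᵥ u0 = 16 * ∑ i, a i * a i + 8 * ∑ i, a i + 24 := by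
    unfold dotProduct
    rw [← h24, Finset.mul_sum, Finset.mul_sum, ← Finset.sum_add_distrib, ← Finset.sum_add_distrib]
    apply Finset.sum_congr rfl
    intro i _
    rw [ha i]
    ring
  have e2 : ∑ i, u0 i = 4 * ∑ i, a i + 24 := by
    rw [← h24, Finset.mul_sum, ← Finset.sum_add_distrib]
    exact Finset.sum_congr rfl (fun i _ => ha i)
  rw [e1] at h16
  rw [e2]
  omega

theorem mem_half_iff (w : V24) : w ∈ half L ↔ red2 w ∈ code L ∧ (4 : ℤ) ∣ ∑ i, w i := by
  constructor
  · intro hw
    exact ⟨⟨w, hw, rfl⟩, half_sum hL u0 hu0 h1 w hw⟩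
  · rintro ⟨⟨w', hw', hr⟩, h4⟩
    rw [red2_eq_iff] at hr
    obtain ⟨z, hz⟩ : ∃ z : V24, ∀ i, w i = w' i + 2 * z i :=
      ⟨fun i => (w i - w' i) / 2, fun i => by
        have := hr i
        show w i = w' i + 2 * ((w i - w' i) / 2)
        omega⟩
    have hwz : w = w' + dbl z := by
      funext i
      rw [Pi.add_apply, dbl_coord, hz i]
    have h4' := half_sum hL u0 hu0 h1 w' hw'
    have hsum : ∑ i, w i = ∑ i, w' i + 2 * ∑ i, z i := by
      rw [Finset.mul_sum, ← Finset.sum_add_distrib]
      exact Finset.sum_congr rfl (fun i _ => hz i)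
    have hz2 : (2 : ℤ) ∣ ∑ i, z i := by omega
    rw [hwz]
    exact (half L).add_mem hw' (two_smul_mem_half hL z hz2)

omit hL hu0 h1 in
theorem mem_iff_even (u : V24) (he : ∀ i, (2 : ℤ) ∣ u i) :
    u ∈ L ↔ (fun i => u i / 2) ∈ half L := by
  rw [mem_half]
  have : dbl (fun i => u i / 2) = u := by
    funext i
    rw [dbl_coord]
    have := he i
    omega
  rw [this]

omit hL h1 in
theorem mem_iff_odd (u : V24) (ho : ∀ i, ¬ (2 : ℤ) ∣ u i) (ho0 : ∀ i, ¬ (2 : ℤ) ∣ u0 i) :
    u ∈ L ↔ (fun i => (u i - u0 i) / 2) ∈ half L := by
  rw [mem_half]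
  have : dbl (fun i => (u i - u0 i) / 2) = u - u0 := by
    funext i
    rw [dbl_coord, Pi.sub_apply]
    have := ho i
    have := ho0 i
    omega
  rw [this]
  constructor
  · intro hu
    exact L.sub_mem hu hu0
  · intro hu
    have := L.add_mem hu hu0
    rwa [sub_add_cancel] at this

theorem mem_iff_inLeech (hone : (1 : W24) ∈ code L) (u : V24) : u ∈ L ↔ InLeech L u := by
  have ho0 : ∀ i, ¬ (2 : ℤ) ∣ u0 i := by
    intro i
    have := h1 i
    omega
  have hs0 := u0_sum hL u0 hu0 h1
  constructor
  · intro hu
    rcases even_or_odd hL u hu with he | ho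
    · -- even vectors
      have hw := (mem_iff_even u he).1 hu
      set w : V24 := fun i => u i / 2 with hwdef
      have huw : ∀ i, u i = 2 * w i := by
        intro i
        have := he i
        show u i = 2 * (u i / 2)
        omega
      have h4 := half_sum hL u0 hu0 h1 w hw
      have hcw : red2 w ∈ code L := ⟨w, hw, rfl⟩
      refine ⟨0, fun i => ?_, ?_, fun k => ?_⟩
      · show u i % 2 = 0 % 2
        have := he i
        omega
      · show (∑ i, u i) % 8 = (4 * 0) % 8
        have : ∑ i, u i = 2 * ∑ i, w i := by
          rw [Finset.mul_sum]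
          exact Finset.sum_congr rfl (fun i _ => huw i)
        rw [this]
        omega
      · have hk : k % 4 = 0 ∨ k % 4 = 1 ∨ k % 4 = 2 ∨ k % 4 = 3 := by omega
        rcases hk with hk | hk | hk | hk
        · have : ind u k = 1 + red2 w := by
            funext i
            rw [Pi.add_apply, Pi.one_apply, red2_val]
            show (if u i % 4 = k % 4 then (1 : ZMod 2) else 0) = _
            rw [huw i, hk]
            by_cases h2 : (2 : ℤ) ∣ w i
            · rw [if_pos h2, if_pos (by omega)]; decide
            · rw [if_neg h2, if_neg (by omega)]; decide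
          rw [this]
          exact (code L).add_mem hone hcw
        · have : ind u k = 0 := by
            funext i
            show (if u i % 4 = k % 4 then (1 : ZMod 2) else 0) = 0
            rw [huw i, hk, if_neg (by omega)]
          rw [this]
          exact (code L).zero_mem
        · have : ind u k = red2 w := by
            funext i
            rw [red2_val]
            show (if u i % 4 = k % 4 then (1 : ZMod 2) else 0) = _
            rw [huw i, hk]
            by_cases h2 : (2 : ℤ) ∣ w i
            · rw [if_pos h2, if_neg (by omega)]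
            · rw [if_neg h2, if_pos (by omega)]
          rw [this]
          exact hcw
        · have : ind u k = 0 := by
            funext i
            show (if u i % 4 = k % 4 then (1 : ZMod 2) else 0) = 0
            rw [huw i, hk, if_neg (by omega)]
          rw [this]
          exact (code L).zero_mem
    · -- odd vectors
      have hw := (mem_iff_odd u0 hu0 u ho ho0).1 hu
      set w : V24 := fun i => (u i - u0 i) / 2 with hwdef
      have huw : ∀ i, u i = u0 i + 2 * w i := by
        intro i
        have := ho i
        have := ho0 i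
        show u i = u0 i + 2 * ((u i - u0 i) / 2)
        omega
      have h4 := half_sum hL u0 hu0 h1 w hw
      have hcw : red2 w ∈ code L := ⟨w, hw, rfl⟩
      refine ⟨1, fun i => ?_, ?_, fun k => ?_⟩
      · show u i % 2 = 1 % 2
        have := ho i
        omega
      · show (∑ i, u i) % 8 = (4 * 1) % 8
        have : ∑ i, u i = ∑ i, u0 i + 2 * ∑ i, w i := by
          rw [Finset.mul_sum, ← Finset.sum_add_distrib]
          exact Finset.sum_congr rfl (fun i _ => huw i)
        rw [this]
        omega
      · have hk : k % 4 = 0 ∨ k % 4 = 1 ∨ k % 4 = 2 ∨ k % 4 = 3 := by omega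
        rcases hk with hk | hk | hk | hk
        · have : ind u k = 0 := by
            funext i
            show (if u i % 4 = k % 4 then (1 : ZMod 2) else 0) = 0
            have := h1 i
            rw [huw i, hk, if_neg (by omega)]
          rw [this]
          exact (code L).zero_mem
        · have : ind u k = 1 + red2 w := by
            funext i
            rw [Pi.add_apply, Pi.one_apply, red2_val]
            show (if u i % 4 = k % 4 then (1 : ZMod 2) else 0) = _
            have := h1 i
            rw [huw i, hk]
            by_cases h2 : (2 : ℤ) ∣ w i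
            · rw [if_pos h2, if_pos (by omega)]; decide
            · rw [if_neg h2, if_neg (by omega)]; decide
          rw [this]
          exact (code L).add_mem hone hcw
        · have : ind u k = 0 := by
            funext i
            show (if u i % 4 = k % 4 then (1 : ZMod 2) else 0) = 0
            have := h1 i
            rw [huw i, hk, if_neg (by omega)]
          rw [this]
          exact (code L).zero_mem
        · have : ind u k = red2 w := by
            funext i
            rw [red2_val]
            show (if u i % 4 = k % 4 then (1 : ZMod 2) else 0) = _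
            have := h1 i
            rw [huw i, hk]
            by_cases h2 : (2 : ℤ) ∣ w i
            · rw [if_pos h2, if_neg (by omega)]
            · rw [if_neg h2, if_pos (by omega)]
          rw [this]
          exact hcw
  · rintro ⟨m, hm2, hm8, hmk⟩
    have hm2' : ∀ i, u i % 2 = m % 2 := hm2
    have hm8' : (∑ i, u i) % 8 = (4 * m) % 8 := hm8
    by_cases hme : (2 : ℤ) ∣ m
    · -- even
      have he : ∀ i, (2 : ℤ) ∣ u i := by
        intro i
        have := hm2' i
        omega
      rw [mem_iff_even u he, mem_half_iff hL u0 hu0 h1]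
      have huw : ∀ i, u i = 2 * (u i / 2) := by
        intro i
        have := he i
        omega
      constructor
      · have : red2 (fun i => u i / 2) = ind u 2 := by
          funext i
          rw [red2_val]
          show _ = (if u i % 4 = 2 % 4 then (1 : ZMod 2) else 0)
          have := huw i
          by_cases h2 : (2 : ℤ) ∣ u i / 2
          · rw [if_pos h2, if_neg (by omega)]
          · rw [if_neg h2, if_pos (by omega)]
        rw [this]
        exact hmk 2
      · have : ∑ i, u i = 2 * ∑ i, u i / 2 := by
          rw [Finset.mul_sum]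
          exact Finset.sum_congr rfl (fun i _ => huw i)
        rw [this] at hm8'
        show (4 : ℤ) ∣ ∑ i, u i / 2
        omega
    · -- odd
      have ho : ∀ i, ¬ (2 : ℤ) ∣ u i := by
        intro i
        have := hm2' i
        omega
      rw [mem_iff_odd u0 hu0 u ho ho0, mem_half_iff hL u0 hu0 h1]
      have huw : ∀ i, u i = u0 i + 2 * ((u i - u0 i) / 2) := by
        intro i
        have := ho i
        have := ho0 i
        omega
      constructor
      · have : red2 (fun i => (u i - u0 i) / 2) = ind u 3 := by
          funext i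
          rw [red2_val]
          show _ = (if u i % 4 = 3 % 4 then (1 : ZMod 2) else 0)
          have := huw i
          have := h1 i
          by_cases h2 : (2 : ℤ) ∣ (u i - u0 i) / 2
          · rw [if_pos h2, if_neg (by omega)]
          · rw [if_neg h2, if_pos (by omega)]
        rw [this]
        exact hmk 3
      · have : ∑ i, u i = ∑ i, u0 i + 2 * ∑ i, (u i - u0 i) / 2 := by
          rw [Finset.mul_sum, ← Finset.sum_add_distrib]
          exact Finset.sum_congr rfl (fun i _ => huw i)
        rw [this] at hm8'
        show (4 : ℤ) ∣ ∑ i, (u i - u0 i) / 2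
        omega

end

end Cfsg.Agent.Lib.helper7.LC
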