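import Cfsg.Agent.Lib.helper7.LCf
import Cfsg.Agent.Lib.helper3.GolayUnique
import Cfsg.Agent.Lib.helper4.Leech

set_option autoImplicit false

/-!
# A lattice of Leech type with 196560 minimal vectors is the Leech lattice

up to a permutation of the coordinates and sign changes (`khyp_main`).
-/

namespace Cfsg.Agent.Lib.helper7.LC

open Matrix Cfsg

/-- transport of the Leech conditions along an equivalence of the code with the Golay code -/
theorem inLeech_iff (L : AddSubgroup V24) (e : Fin 24 ≃ GolayPt)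
    (he : ∀ w : GolayPt → ZMod 2, w ∈ golayCode ↔ (fun i => w (e i)) ∈ code L) (u : V24) :
    InLeech L u ↔ (fun p => u (e.symm p)) ∈ leechSet := by
  rw [Cfsg.Agent.Lib.helper4.mem_leechSet_iff]
  have hsum : ∑ p, u (e.symm p) = ∑ i, u i := Equiv.sum_comp e.symm u
  have hind : ∀ k : ℤ, (fun i => Cfsg.Agent.Lib.helper4.ind4 (fun p => u (e.symm p)) k (e i))
      = ind u k := by
    intro k
    funext i
    show (if u (e.symm (e i)) ≡ k [ZMOD 4] then (1 : ZMod 2) else 0) = _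
    rw [e.symm_apply_apply]
    rfl
  constructor
  · rintro ⟨m, h1, h2, h3⟩
    refine ⟨m, fun p => h1 _, ?_, fun k => ?_⟩
    · rw [hsum]; exact h2
    · rw [he, hind]; exact h3 k
  · rintro ⟨m, h1, h2, h3⟩
    refine ⟨m, fun i => ?_, ?_, fun k => ?_⟩
    · have := h1 (e i)
      rwa [e.symm_apply_apply] at this
    · rw [← hsum]; exact h2
    · have := h3 k
      rwa [he, hind] at this

/-- sign change -/
def sgn (ε : V24) : V24 →+ V24 := AddMonoidHom.mk' (fun u i => ε i * u i) (fun a b => by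
  funext i
  simp only [Pi.add_apply]
  ring)

theorem sgn_apply (ε u : V24) (i : Fin 24) : sgn ε u i = ε i * u i := rfl

theorem sgn_sgn (ε : V24) (hε : ∀ i, ε i = 1 ∨ ε i = -1) (u : V24) : sgn ε (sgn ε u) = u := by
  funext i
  rw [sgn_apply, sgn_apply]
  rcases hε i with h | h <;> rw [h] <;> ring

theorem sgn_inj (ε : V24) (hε : ∀ i, ε i = 1 ∨ ε i = -1) : Function.Injective (sgn ε) := by
  intro a b h
  rw [← sgn_sgn ε hε a, ← sgn_sgn ε hε b, h]

theorem sgn_dot (ε : V24) (hε : ∀ i, ε i = 1 ∨ ε i = -1) (u u' : V24) :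
    sgn ε u ⬝ᵥ sgn ε u' = u ⬝ᵥ u' := by
  unfold dotProduct
  apply Finset.sum_congr rfl
  intro i _
  rw [sgn_apply, sgn_apply]
  rcases hε i with h | h <;> rw [h] <;> ring

theorem sgn_single (ε : V24) (i : Fin 24) (a : ℤ) : sgn ε (Pi.single i a) = Pi.single i (ε i * a) := by
  funext k
  rw [sgn_apply, Pi.single_apply, Pi.single_apply]
  by_cases h : k = i
  · rw [if_pos h, if_pos h, h]
  · rw [if_neg h, if_neg h, mul_zero]

theorem mem_map_sgn (ε : V24) (hε : ∀ i, ε i = 1 ∨ ε i = -1) (L : AddSubgroup V24) (u : V24) :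
    u ∈ L.map (sgn ε) ↔ sgn ε u ∈ L := by
  rw [AddSubgroup.mem_map]
  constructor
  · rintro ⟨v, hv, rfl⟩
    rw [sgn_sgn ε hε]
    exact hv
  · intro h
    exact ⟨sgn ε u, h, sgn_sgn ε hε u⟩

theorem khyp_map_sgn (ε : V24) (hε : ∀ i, ε i = 1 ∨ ε i = -1) {L : AddSubgroup V24} (hL : KHyp L) :
    KHyp (L.map (sgn ε)) := by
  have key : ∀ i j : Fin 24, i ≠ j → ∀ a b : ℤ, (a = 4 ∨ a = -4) → (b = 4 ∨ b = -4) →
      (Pi.single i a + Pi.single j b : V24) ∈ L := by
    intro i j hij a b ha hb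
    have hneg : ∀ (k : Fin 24), (Pi.single k (-4) : V24) = -Pi.single k 4 := by
      intro k
      rw [← Pi.single_neg]
    rcases ha with rfl | rfl <;> rcases hb with rfl | rfl
    · exact hL.h1p i j hij
    · rw [hneg, ← sub_eq_add_neg]
      exact hL.h1m i j hij
    · have := L.neg_mem (hL.h1m i j hij)
      rw [hneg]
      convert this using 1
      abel
    · have := L.neg_mem (hL.h1p i j hij)
      rw [hneg, hneg]
      convert this using 1
      abel
  have h4 : ∀ i : Fin 24, ε i * 4 = 4 ∨ ε i * 4 = -4 := by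
    intro i
    rcases hε i with h | h <;> rw [h] <;> norm_num
  have h4' : ∀ i : Fin 24, -(ε i * 4) = 4 ∨ -(ε i * 4) = -4 := by
    intro i
    rcases hε i with h | h <;> rw [h] <;> norm_num
  refine ⟨?_, ?_, ?_, ?_, ?_⟩
  · intro i j hij
    rw [mem_map_sgn ε hε, map_add, sgn_single, sgn_single]
    exact key i j hij _ _ (h4 i) (h4 j)
  · intro i j hij
    rw [mem_map_sgn ε hε, map_sub, sgn_single, sgn_single, sub_eq_add_neg, ← Pi.single_neg]
    exact key i j hij _ _ (h4 i) (h4' j)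
  · intro u hu u' hu'
    rw [mem_map_sgn ε hε] at hu hu'
    rw [← sgn_dot ε hε]
    exact hL.h2 _ hu _ hu'
  · intro u hu
    rw [mem_map_sgn ε hε] at hu
    rw [← sgn_dot ε hε]
    exact hL.h2' _ hu
  · intro u hu hne
    rw [mem_map_sgn ε hε] at hu
    rw [← sgn_dot ε hε]
    apply hL.h3 _ hu
    intro h0
    apply hne
    apply sgn_inj ε hε
    rw [h0, map_zero]

theorem count_map_sgn (ε : V24) (hε : ∀ i, ε i = 1 ∨ ε i = -1) (L : AddSubgroup V24) :
    {u : V24 | u ∈ L.map (sgn ε) ∧ u ⬝ᵥ u = 32}.ncard = {u : V24 | u ∈ L ∧ u ⬝ᵥ u = 32}.ncard := by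
  have : {u : V24 | u ∈ L.map (sgn ε) ∧ u ⬝ᵥ u = 32} = sgn ε '' {u : V24 | u ∈ L ∧ u ⬝ᵥ u = 32} := by
    ext u
    constructor
    · rintro ⟨h1, h2⟩
      rw [mem_map_sgn ε hε] at h1
      refine ⟨sgn ε u, ⟨h1, ?_⟩, sgn_sgn ε hε u⟩
      rw [sgn_dot ε hε]
      exact h2
    · rintro ⟨v, ⟨h1, h2⟩, rfl⟩
      refine ⟨?_, ?_⟩
      · rw [mem_map_sgn ε hε, sgn_sgn ε hε]
        exact h1
      · rw [sgn_dot ε hε]
        exact h2
  rw [this]
  exact Set.ncard_image_of_injective _ (sgn_inj ε hε)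

/-- main theorem on lattices of Leech type -/
theorem khyp_main {L : AddSubgroup V24} (hL : KHyp L)
    (hcount : {u : V24 | u ∈ L ∧ u ⬝ᵥ u = 32}.ncard = 196560) :
    ∃ (e : Fin 24 ≃ GolayPt) (ε : V24), (∀ i, ε i = 1 ∨ ε i = -1) ∧
      ∀ u : V24, u ∈ L ↔ (fun p => ε (e.symm p) * u (e.symm p)) ∈ leechSet := by
  obtain ⟨-, u0, hu0, hodd⟩ := count_main hL hcount
  let ε : V24 := fun i => if u0 i % 4 = 1 then 1 else -1
  have hε : ∀ i, ε i = 1 ∨ ε i = -1 := by
    intro i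
    show (if u0 i % 4 = 1 then (1 : ℤ) else -1) = 1 ∨ (if u0 i % 4 = 1 then (1 : ℤ) else -1) = -1
    split_ifs
    · left; rfl
    · right; rfl
  have hL' := khyp_map_sgn ε hε hL
  have hcount' : {u : V24 | u ∈ L.map (sgn ε) ∧ u ⬝ᵥ u = 32}.ncard = 196560 := by
    rw [count_map_sgn ε hε L, hcount]
  have hu0' : sgn ε u0 ∈ L.map (sgn ε) := by
    rw [mem_map_sgn ε hε, sgn_sgn ε hε]
    exact hu0
  have h1 : ∀ i, sgn ε u0 i % 4 = 1 := by
    intro i
    rw [sgn_apply]
    show (if u0 i % 4 = 1 then (1 : ℤ) else -1) * u0 i % 4 = 1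
    have := hodd i
    split_ifs with h
    · rw [one_mul]; exact h
    · omega
  obtain ⟨hdim, -⟩ := count_main hL' hcount'
  obtain ⟨e, he⟩ := Cfsg.Agent.Lib.helper3.golay_unique (code (L.map (sgn ε))) hdim
    (fun w hw => code_four_dvd hL' w hw) (fun w hw => code_ne_four hL' w hw)
  have hone : (1 : W24) ∈ code (L.map (sgn ε)) := by
    have := (he 1).1 Cfsg.Agent.Lib.helper4.one_mem_golay
    exact this
  refine ⟨e, ε, hε, fun u => ?_⟩
  have h2 := mem_iff_inLeech hL' (sgn ε u0) hu0' h1 hone (sgn ε u)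
  rw [mem_map_sgn ε hε, sgn_sgn ε hε, inLeech_iff _ e he] at h2
  exact h2

end Cfsg.Agent.Lib.helper7.LC
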