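import Cfsg.Agent.Lib.helper7.LCg
import Cfsg.Agent.S1588

set_option autoImplicit false

/-!
# An orthogonal frame of 24 vectors of norm 8, congruent modulo 2

in an even lattice of rank 24 without roots having the vector counts of the Leech lattice.
-/

namespace Cfsg.Agent.Lib.helper7.LC

open Matrix

/-- an orthogonal frame: 24 vectors of norm 8, pairwise orthogonal and congruent modulo 2 -/
structure IsFrame (B : Matrix (Fin 24) (Fin 24) ℤ) (X : Fin 24 → V24) : Prop where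
  norm : ∀ i, X i ⬝ᵥ (B *ᵥ X i) = 8
  orth : ∀ i j, i ≠ j → X i ⬝ᵥ (B *ᵥ X j) = 0
  cong : ∀ i j k, (2 : ℤ) ∣ X i k - X j k

theorem exists_frame (B : Matrix (Fin 24) (Fin 24) ℤ) (hsymm : B.IsSymm)
    (hpos : ∀ x : Fin 24 → ℤ, x ≠ 0 → 0 < x ⬝ᵥ (B *ᵥ x))
    (heven : ∀ x : Fin 24 → ℤ, (2 : ℤ) ∣ x ⬝ᵥ (B *ᵥ x))
    (h2 : ∀ x : Fin 24 → ℤ, x ⬝ᵥ (B *ᵥ x) ≠ 2)
    (h4 : {x : Fin 24 → ℤ | x ⬝ᵥ (B *ᵥ x) = 4}.ncard = 196560)
    (h6 : {x : Fin 24 → ℤ | x ⬝ᵥ (B *ᵥ x) = 6}.ncard = 16773120)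
    (h8 : {x : Fin 24 → ℤ | x ⬝ᵥ (B *ᵥ x) = 8}.ncard = 398034000) :
    ∃ X : Fin 24 → V24, IsFrame B X := by
  classical
  have hne8 : {x : Fin 24 → ℤ | x ⬝ᵥ (B *ᵥ x) = 8}.Nonempty := by
    rw [← Set.ncard_pos (Set.finite_of_ncard_ne_zero (by rw [h8]; norm_num)), h8]
    norm_num
  obtain ⟨x, hx⟩ := hne8
  have hx8 : x ⬝ᵥ (B *ᵥ x) = 8 := hx
  have h48 := Cfsg.Agent.S1588.result B hsymm hpos heven h2 h4 h6 h8 x hx8
  have hfin : {y : Fin 24 → ℤ | y ⬝ᵥ (B *ᵥ y) = 8 ∧ ∀ i, (2 : ℤ) ∣ (x - y) i}.Finite :=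
    Set.finite_of_ncard_ne_zero (by rw [h48]; norm_num)
  set T : Finset V24 := hfin.toFinset with hT
  have hmemT : ∀ y, y ∈ T ↔ y ⬝ᵥ (B *ᵥ y) = 8 ∧ ∀ i, (2 : ℤ) ∣ (x - y) i := by
    intro y
    rw [hT, Set.Finite.mem_toFinset]
    rfl
  have hTcard : T.card = 48 := by
    rw [← h48, Set.ncard_eq_toFinset_card _ hfin]
  have hneg : ∀ y ∈ T, -y ∈ T := by
    intro y hy
    rw [hmemT] at hy ⊢
    refine ⟨by rw [Cfsg.Agent.S1588.nrm_neg]; exact hy.1, fun i => ?_⟩
    have := hy.2 i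
    rw [Pi.sub_apply] at this
    rw [Pi.sub_apply, Pi.neg_apply]
    omega
  have hnz : ∀ y ∈ T, y ≠ 0 := by
    intro y hy h0
    rw [hmemT] at hy
    rw [h0] at hy
    have := hy.1
    rw [Matrix.mulVec_zero, dotProduct_zero] at this
    norm_num at this
  set R : Finset V24 := T.filter (fun y => 0 < toLex y) with hR
  have hRT : R ⊆ T := Finset.filter_subset _ _
  have hcover : T ⊆ R ∪ R.image Neg.neg := by
    intro y hy
    rw [Finset.mem_union]
    have hne : toLex y ≠ 0 := fun h => hnz y hy h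
    rcases lt_or_gt_of_ne hne with h | h
    · right
      rw [Finset.mem_image]
      refine ⟨-y, Finset.mem_filter.mpr ⟨hneg y hy, ?_⟩, neg_neg y⟩
      rw [toLex_neg]
      exact neg_pos.mpr h
    · left
      exact Finset.mem_filter.mpr ⟨hy, h⟩
  have hdisj : Disjoint R (R.image Neg.neg) := by
    rw [Finset.disjoint_left]
    intro y hy hy'
    rw [Finset.mem_image] at hy'
    obtain ⟨y', hy'R, rfl⟩ := hy'
    have h1 := (Finset.mem_filter.mp hy).2
    have h2 := (Finset.mem_filter.mp hy'R).2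
    rw [toLex_neg] at h1
    exact lt_asymm h2 (neg_pos.mp h1)
  have hRcard : R.card = 24 := by
    have hsub : R ∪ R.image Neg.neg ⊆ T := by
      intro y hy
      rw [Finset.mem_union] at hy
      rcases hy with hy | hy
      · exact hRT hy
      · rw [Finset.mem_image] at hy
        obtain ⟨y', hy'R, rfl⟩ := hy
        exact hneg y' (hRT hy'R)
    have heq : R ∪ R.image Neg.neg = T := Finset.Subset.antisymm hsub hcover
    have hc := Finset.card_union_of_disjoint hdisj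
    rw [heq, hTcard, Finset.card_image_of_injective _ neg_injective] at hc
    omega
  have hcongT : ∀ y ∈ T, ∀ y' ∈ T, ∀ k, (2 : ℤ) ∣ y k - y' k := by
    intro y hy y' hy' k
    have h1 := ((hmemT y).1 hy).2 k
    have h2 := ((hmemT y').1 hy').2 k
    rw [Pi.sub_apply] at h1 h2
    omega
  have horth : ∀ y ∈ R, ∀ y' ∈ R, y ≠ y' → y ⬝ᵥ (B *ᵥ y') = 0 := by
    intro y hy y' hy' hne
    have hyT := hRT hy
    have hyT' := hRT hy'
    have hc : ∀ i, (2 : ℤ) ∣ (y - y') i := by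
      intro i
      rw [Pi.sub_apply]
      exact hcongT y hyT y' hyT' i
    rcases Cfsg.Agent.S1587.result B hsymm hpos heven h2 y y' ((hmemT y).1 hyT).1
      ((hmemT y').1 hyT').1 hc with h | h | h
    · exact absurd h.symm hne
    · exfalso
      have h1 := (Finset.mem_filter.mp hy).2
      have h2' := (Finset.mem_filter.mp hy').2
      rw [h, toLex_neg] at h2'
      exact lt_asymm h1 (neg_pos.mp h2')
    · exact h
  let eqv := R.equivFinOfCardEq hRcard
  refine ⟨fun i => (eqv.symm i).1, ⟨fun i => ?_, fun i j hij => ?_, fun i j k => ?_⟩⟩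
  · exact ((hmemT _).1 (hRT (eqv.symm i).2)).1
  · apply horth _ (eqv.symm i).2 _ (eqv.symm j).2
    intro h
    apply hij
    have : eqv.symm i = eqv.symm j := Subtype.ext h
    exact eqv.symm.injective this
  · exact hcongT _ (hRT (eqv.symm i).2) _ (hRT (eqv.symm j).2) k

end Cfsg.Agent.Lib.helper7.LC
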