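import Cfsg.Agent.Lib.helper7.LCh

set_option autoImplicit false

/-!
# Coordinates with respect to an orthogonal frame

`phi v = X (B v)` maps the lattice injectively into `ℤ^24`, multiplies norms by 8, and its range is
a lattice of Leech type.
-/

namespace Cfsg.Agent.Lib.helper7.LC

open Matrix

section

variable (B : Matrix (Fin 24) (Fin 24) ℤ) (hsymm : B.IsSymm)
  (hpos : ∀ x : Fin 24 → ℤ, x ≠ 0 → 0 < x ⬝ᵥ (B *ᵥ x))
  (X : Fin 24 → V24) (hX : IsFrame B X)

/-- the frame as a matrix -/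
def frameMat : Matrix (Fin 24) (Fin 24) ℤ := Matrix.of X

theorem frameMat_mulVec (v : V24) (i : Fin 24) : (frameMat X *ᵥ v) i = X i ⬝ᵥ v := rfl

/-- the coordinate map -/
def phi : V24 →+ V24 := AddMonoidHom.mk' (fun v => frameMat X *ᵥ (B *ᵥ v)) (fun a b => by
  rw [Matrix.mulVec_add, Matrix.mulVec_add])

theorem phi_apply (v : V24) : phi B X v = frameMat X *ᵥ (B *ᵥ v) := rfl

theorem phi_coord (v : V24) (i : Fin 24) : phi B X v i = X i ⬝ᵥ (B *ᵥ v) := rfl

include hX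

theorem gram : frameMat X * B * (frameMat X)ᵀ = (8 : ℤ) • (1 : Matrix (Fin 24) (Fin 24) ℤ) := by
  ext i j
  rw [Matrix.mul_apply, Matrix.smul_apply, Matrix.one_apply, smul_eq_mul]
  have : ∑ k, (frameMat X * B) i k * (frameMat X)ᵀ k j = X i ⬝ᵥ (B *ᵥ X j) := by
    rw [Matrix.dotProduct_mulVec]
    unfold dotProduct
    apply Finset.sum_congr rfl
    intro k _
    rw [Matrix.transpose_apply]
    rfl
  rw [this]
  by_cases hij : i = j
  · rw [if_pos hij, hij, hX.norm j]; norm_num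
  · rw [if_neg hij, hX.orth i j hij]; norm_num

theorem det_frameMat_ne_zero : (frameMat X).det ≠ 0 := by
  intro h0
  have := congrArg Matrix.det (gram B X hX)
  rw [Matrix.det_mul, Matrix.det_mul, h0, zero_mul, zero_mul, Matrix.det_smul, Matrix.det_one,
    mul_one] at this
  have h8 : (8 : ℤ) ^ Fintype.card (Fin 24) ≠ 0 := pow_ne_zero _ (by norm_num)
  exact h8 this.symm

include hpos in
/-- reconstruction of a vector from its coordinates -/
theorem eight_smul_eq (v : V24) : (8 : ℤ) • v = (frameMat X)ᵀ *ᵥ phi B X v := by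
  set w : V24 := (8 : ℤ) • v - (frameMat X)ᵀ *ᵥ phi B X v with hw
  have t1 : frameMat X *ᵥ (B *ᵥ ((8 : ℤ) • v)) = (8 : ℤ) • phi B X v := by
    rw [Matrix.mulVec_smul, Matrix.mulVec_smul, phi_apply]
  have t2 : frameMat X *ᵥ (B *ᵥ ((frameMat X)ᵀ *ᵥ phi B X v)) = (8 : ℤ) • phi B X v := by
    rw [Matrix.mulVec_mulVec, Matrix.mulVec_mulVec, gram B X hX,
      Matrix.smul_mulVec, Matrix.one_mulVec]
  have h1 : frameMat X *ᵥ (B *ᵥ w) = 0 := by
    rw [hw, Matrix.mulVec_sub, Matrix.mulVec_sub, t1, t2]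
    exact sub_self _
  have h2 : B *ᵥ w = 0 := Matrix.eq_zero_of_mulVec_eq_zero (det_frameMat_ne_zero B X hX) h1
  have h3 : w = 0 := by
    by_contra hne
    have := hpos w hne
    rw [h2, dotProduct_zero] at this
    exact lt_irrefl _ this
  exact sub_eq_zero.1 h3

include hsymm hpos in
/-- the coordinate map multiplies the bilinear form by 8 -/
theorem phi_dot (v v' : V24) : phi B X v ⬝ᵥ phi B X v' = 8 * (v ⬝ᵥ (B *ᵥ v')) := by
  have h1 : 8 * (v ⬝ᵥ (B *ᵥ v')) = v ⬝ᵥ (B *ᵥ ((8 : ℤ) • v')) := by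
    rw [Matrix.mulVec_smul, dotProduct_smul, smul_eq_mul]
  rw [h1, eight_smul_eq B hpos X hX v', Matrix.mulVec_mulVec, Matrix.dotProduct_mulVec]
  congr 1
  rw [← Matrix.mulVec_transpose, Matrix.transpose_mul, Matrix.transpose_transpose, hsymm.eq,
    ← Matrix.mulVec_mulVec, phi_apply]

include hsymm hpos in
theorem phi_injective : Function.Injective (phi B X) := by
  rw [injective_iff_map_eq_zero]
  intro v hv
  by_contra hne
  have h1 := hpos v hne
  have h2 := phi_dot B hsymm hpos X hX v v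
  rw [hv, zero_dotProduct] at h2
  omega

theorem phi_frame (i : Fin 24) : phi B X (X i) = Pi.single i 8 := by
  funext k
  rw [phi_coord, Pi.single_apply]
  by_cases hk : k = i
  · rw [if_pos hk, hk, hX.norm i]
  · rw [if_neg hk, hX.orth k i hk]

/-- the coordinatised lattice -/
def coordLattice : AddSubgroup V24 := (phi B X).range

omit hX in
theorem mem_coordLattice (u : V24) : u ∈ coordLattice B X ↔ ∃ v, phi B X v = u := Iff.rfl

omit hX in
theorem four_le_norm (heven : ∀ x : Fin 24 → ℤ, (2 : ℤ) ∣ x ⬝ᵥ (B *ᵥ x))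
    (h2 : ∀ x : Fin 24 → ℤ, x ⬝ᵥ (B *ᵥ x) ≠ 2)
    (hpos : ∀ x : Fin 24 → ℤ, x ≠ 0 → 0 < x ⬝ᵥ (B *ᵥ x)) (v : V24) (hv : v ≠ 0) :
    4 ≤ v ⬝ᵥ (B *ᵥ v) :=
  Cfsg.Agent.S1587.four_le (hpos v hv) (heven v) (h2 v)

include hsymm hpos in
theorem khyp_coordLattice (heven : ∀ x : Fin 24 → ℤ, (2 : ℤ) ∣ x ⬝ᵥ (B *ᵥ x))
    (h2 : ∀ x : Fin 24 → ℤ, x ⬝ᵥ (B *ᵥ x) ≠ 2) : KHyp (coordLattice B X) := by
  have hhalf : ∀ (i j : Fin 24) (s : ℤ), (s = 1 ∨ s = -1) →
      (Pi.single i 4 + s • Pi.single j 4 : V24) ∈ coordLattice B X := by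
    intro i j s hs
    obtain ⟨y, hy⟩ : ∃ y : V24, dbl y = X i + s • X j := by
      refine ⟨fun k => (X i k + s * X j k) / 2, ?_⟩
      funext k
      rw [dbl_coord, Pi.add_apply, Pi.smul_apply, smul_eq_mul]
      have := hX.cong i j k
      rcases hs with rfl | rfl <;> omega
    refine ⟨y, ?_⟩
    apply dbl_inj
    have hd : dbl (phi B X y) = phi B X (dbl y) := by
      rw [dbl_apply, dbl_apply, map_add]
    rw [hd, hy, map_add, map_zsmul, phi_frame B X hX, phi_frame B X hX]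
    funext k
    rw [dbl_coord]
    simp only [Pi.add_apply, Pi.smul_apply, Pi.single_apply, smul_eq_mul]
    split_ifs <;> ring
  refine ⟨?_, ?_, ?_, ?_, ?_⟩
  · intro i j _
    have := hhalf i j 1 (Or.inl rfl)
    rwa [one_smul] at this
  · intro i j _
    have := hhalf i j (-1) (Or.inr rfl)
    rwa [neg_one_smul, ← sub_eq_add_neg] at this
  · rintro u ⟨v, rfl⟩ u' ⟨v', rfl⟩
    rw [phi_dot B hsymm hpos X hX]
    exact Dvd.intro _ rfl
  · rintro u ⟨v, rfl⟩
    rw [phi_dot B hsymm hpos X hX]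
    obtain ⟨k, hk⟩ := heven v
    rw [hk]
    exact ⟨k, by ring⟩
  · rintro u ⟨v, rfl⟩ hne
    rw [phi_dot B hsymm hpos X hX]
    have hv : v ≠ 0 := by
      intro h0
      apply hne
      rw [h0, map_zero]
    have := four_le_norm B heven h2 hpos v hv
    omega

include hsymm hpos in
theorem count_coordLattice
    (h4 : {x : Fin 24 → ℤ | x ⬝ᵥ (B *ᵥ x) = 4}.ncard = 196560) :
    {u : V24 | u ∈ coordLattice B X ∧ u ⬝ᵥ u = 32}.ncard = 196560 := by
  have : {u : V24 | u ∈ coordLattice B X ∧ u ⬝ᵥ u = 32}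
      = phi B X '' {x : Fin 24 → ℤ | x ⬝ᵥ (B *ᵥ x) = 4} := by
    ext u
    constructor
    · rintro ⟨⟨v, rfl⟩, hn⟩
      rw [phi_dot B hsymm hpos X hX] at hn
      exact ⟨v, by show v ⬝ᵥ (B *ᵥ v) = 4; omega, rfl⟩
    · rintro ⟨v, hv, rfl⟩
      refine ⟨⟨v, rfl⟩, ?_⟩
      rw [phi_dot B hsymm hpos X hX]
      have : v ⬝ᵥ (B *ᵥ v) = 4 := hv
      omega
  rw [this, Set.ncard_image_of_injective _ (phi_injective B hsymm hpos X hX), h4]

end

end Cfsg.Agent.Lib.helper7.LC
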