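import Cfsg.Agent.Lib.helper7.LCi

set_option autoImplicit false

/-!
# Characterisation of the Leech lattice

An even positive definite lattice of rank 24 without roots and with 196560, 16773120, 398034000
vectors of norms 4, 6, 8 is isometric (after scaling by 8) to `Cfsg.leechLattice`.
-/

namespace Cfsg.Agent.Lib.helper7.LC

open Matrix Cfsg

theorem leech_char (B : Matrix (Fin 24) (Fin 24) ℤ) (hsymm : B.IsSymm)
    (hpos : ∀ x : Fin 24 → ℤ, x ≠ 0 → 0 < x ⬝ᵥ (B *ᵥ x))
    (heven : ∀ x : Fin 24 → ℤ, (2 : ℤ) ∣ x ⬝ᵥ (B *ᵥ x))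
    (h2 : ∀ x : Fin 24 → ℤ, x ⬝ᵥ (B *ᵥ x) ≠ 2)
    (h4 : {x : Fin 24 → ℤ | x ⬝ᵥ (B *ᵥ x) = 4}.ncard = 196560)
    (h6 : {x : Fin 24 → ℤ | x ⬝ᵥ (B *ᵥ x) = 6}.ncard = 16773120)
    (h8 : {x : Fin 24 → ℤ | x ⬝ᵥ (B *ᵥ x) = 8}.ncard = 398034000) :
    ∃ f : (Fin 24 → ℤ) ≃+ leechLattice, ∀ x : Fin 24 → ℤ,
      sqNorm ((f x : leechLattice) : GolayPt → ℤ) = 8 * (x ⬝ᵥ (B *ᵥ x)) := by
  obtain ⟨X, hX⟩ := exists_frame B hsymm hpos heven h2 h4 h6 h8
  have hK := khyp_coordLattice B hsymm hpos X hX heven h2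
  have hcount := count_coordLattice B hsymm hpos X hX h4
  obtain ⟨e, ε, hε, hmain⟩ := khyp_main hK hcount
  have hεsq : ∀ i, ε i * ε i = 1 := by
    intro i
    rcases hε i with h | h <;> rw [h] <;> norm_num
  have hεne : ∀ i, ε i ≠ 0 := by
    intro i h0
    have := hεsq i
    rw [h0] at this
    norm_num at this
  have hmem : ∀ v : V24, (fun p => ε (e.symm p) * phi B X v (e.symm p)) ∈ leechLattice := by
    intro v
    rw [Cfsg.Agent.Lib.helper4.mem_leechLattice_iff]
    exact (hmain (phi B X v)).1 ⟨v, rfl⟩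
  let F : V24 →+ leechLattice := AddMonoidHom.mk'
    (fun v => ⟨fun p => ε (e.symm p) * phi B X v (e.symm p), hmem v⟩) (fun a b => by
      apply Subtype.ext
      funext p
      show ε (e.symm p) * phi B X (a + b) (e.symm p)
        = ε (e.symm p) * phi B X a (e.symm p) + ε (e.symm p) * phi B X b (e.symm p)
      rw [map_add, Pi.add_apply]
      ring)
  have hFval : ∀ v p, (F v).1 p = ε (e.symm p) * phi B X v (e.symm p) := fun v p => rfl
  have hinj : Function.Injective F := by
    intro a b hab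
    apply phi_injective B hsymm hpos X hX
    funext i
    have := congrFun (congrArg Subtype.val hab) (e i)
    rw [hFval, hFval, e.symm_apply_apply] at this
    exact mul_left_cancel₀ (hεne i) this
  have hsurj : Function.Surjective F := by
    intro y
    have hy : (y : GolayPt → ℤ) ∈ leechSet := by
      rw [← Cfsg.Agent.Lib.helper4.mem_leechLattice_iff]
      exact y.2
    set u : V24 := fun i => ε i * y.1 (e i) with hu
    have hback : (fun p => ε (e.symm p) * u (e.symm p)) = y.1 := by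
      funext p
      show ε (e.symm p) * (ε (e.symm p) * y.1 (e (e.symm p))) = y.1 p
      rw [e.apply_symm_apply, ← mul_assoc, hεsq, one_mul]
    have huL : u ∈ coordLattice B X := by
      rw [hmain u, hback]
      exact hy
    obtain ⟨v, hv⟩ := huL
    refine ⟨v, ?_⟩
    apply Subtype.ext
    funext p
    rw [hFval, hv]
    exact congrFun hback p
  refine ⟨AddEquiv.ofBijective F ⟨hinj, hsurj⟩, fun x => ?_⟩
  show sqNorm ((F x : leechLattice) : GolayPt → ℤ) = _
  rw [← phi_dot B hsymm hpos X hX x x]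
  unfold sqNorm dotProduct
  rw [← Equiv.sum_comp e (fun p => (F x).1 p ^ 2)]
  apply Finset.sum_congr rfl
  intro i _
  rw [hFval, e.symm_apply_apply, mul_pow, pow_two (ε i), hεsq, one_mul, pow_two]

end Cfsg.Agent.Lib.helper7.LC
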