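import Cfsg.Agent.Lib.helper7.LXFR45c

/-!
# Project LX, piece FR45, `frame4_q5`
-/

set_option autoImplicit false
set_option linter.unusedVariables false
set_option linter.unusedSectionVars false

namespace Cfsg.Agent.Lib.helper7.LX

open Cfsg Cfsg.Geo Cfsg.Agent.Lib.Helper28.Ld
open scoped MatrixGroups Matrix

variable {F : Type*} [Field F] [Fintype F]

theorem lxfr45_sixteen (hq : Fintype.card F = 5) : (16 : F) = 1 := by
  linear_combination 3 * lxfr45_five hq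

theorem lxfr45_256 (hq : Fintype.card F = 5) : (256 : F) = 1 := by
  linear_combination 51 * lxfr45_five hq

/-- the Hadamard matrix as an element of `GL` -/
noncomputable def lxfr45Hd (hq : Fintype.card F = 5) : GL (Fin 4 × Fin 1) F :=
  Matrix.GeneralLinearGroup.mkOfDetNeZero (lxfr45HK F) (by
    rw [lxfr45HK_det, lxfr45_sixteen hq]
    exact one_ne_zero)

theorem lxfr45Hd_val (hq : Fintype.card F = 5) :
    ((lxfr45Hd hq : GL (Fin 4 × Fin 1) F) : Matrix (Fin 4 × Fin 1) (Fin 4 × Fin 1) F) = lxfr45HK F := rfl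

theorem lxfr45Hd_SL (hq : Fintype.card F = 5) : lxfr45Hd hq ∈ specialLinear (Fin 4 × Fin 1) F := by
  rw [lxfr45_mem_SL, lxfr45Hd_val, lxfr45HK_det, lxfr45_sixteen hq]

theorem lxfr45Hd_mem (hq : Fintype.card F = 5) : lxfr45Hd hq ∈ lxfr45M (Fin 4 × Fin 1) F := by
  rw [lxfr45_mem_M]
  intro x
  rw [lxfr45Hd_val, lxfr45HK_Phi, lxfr45_256 hq, one_mul]

theorem lxfr45Hd_not_mem (hq : Fintype.card F = 5) : lxfr45Hd hq ∉ Hs 4 1 F := by
  rintro ⟨σ, hσ⟩
  have hmem : (Pi.single ((0, 0) : Fin 4 × Fin 1) (1 : F) : Fin 4 × Fin 1 → F) ∈ stdBlock 4 1 F 0 := by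
    rw [mem_stdBlock]
    intro p hp
    rw [Pi.single_apply, if_neg]
    intro h'
    exact hp (by rw [h'])
  have h2 : lxfr45HK F *ᵥ (Pi.single ((0, 0) : Fin 4 × Fin 1) (1 : F)) ∈ stdBlock 4 1 F (σ 0) := by
    rw [← hσ 0]
    exact ⟨_, hmem, rfl⟩
  rw [mem_stdBlock] at h2
  have h3 := h2 (σ 0 + 1, 0) (by
    show σ 0 + 1 ≠ σ 0
    generalize σ 0 = a
    revert a
    decide)
  rw [Matrix.mulVec_single_one] at h3
  have h4 : ∀ i : Fin 4, lxfr45H4 F i 0 = 1 := by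
    intro i
    fin_cases i <;> rfl
  have h5 : (lxfr45HK F).col (0, 0) (σ 0 + 1, 0) = lxfr45H4 F (σ 0 + 1) 0 := rfl
  rw [h5, h4] at h3
  exact one_ne_zero h3

/-- the frame stabiliser of `SL_4(5)` is not maximal: standard coordinates -/
theorem lxfr45_std (hq : Fintype.card F = 5) :
    ¬ IsMaximalIn (specialLinear (Fin 4 × Fin 1) F) (H0 4 1 F) := by
  rintro ⟨hlt, hmax⟩
  have h1 : H0 4 1 F ≤ lxfr45M (Fin 4 × Fin 1) F ⊓ specialLinear (Fin 4 × Fin 1) F := by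
    intro g hg
    have hg' : g ∈ Hs 4 1 F ⊓ specialLinear (Fin 4 × Fin 1) F := hg
    rw [Subgroup.mem_inf] at hg'
    exact ⟨lxfr45_frame_le hq g hg'.1 ((lxfr45_mem_SL g).mp hg'.2), hg'.2⟩
  rcases hmax _ h1 inf_le_right with h | h
  · have h2 : lxfr45Hd hq ∈ lxfr45M (Fin 4 × Fin 1) F ⊓ specialLinear (Fin 4 × Fin 1) F :=
      ⟨lxfr45Hd_mem hq, lxfr45Hd_SL hq⟩
    rw [h] at h2
    have h3 : lxfr45Hd hq ∈ Hs 4 1 F ⊓ specialLinear (Fin 4 × Fin 1) F := h2
    exact lxfr45Hd_not_mem hq h3.1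
  · have h2 : lxfr45T F ∈ lxfr45M (Fin 4 × Fin 1) F ⊓ specialLinear (Fin 4 × Fin 1) F := by
      rw [h]
      exact lxfr45T_SL
    exact lxfr45T_not_mem hq h2.1

/-- FR45 : in `SL_4(5)` the stabiliser of a frame is not maximal (it normalises `4 ∘ 2^(1+4)`). -/
theorem frame4_q5 (D : Fin 4 → Submodule F (Fin 4 → F)) (hD : IsMDecomposition 1 D)
    (hq : Fintype.card F = 5) :
    ¬ IsMaximalIn (specialLinear (Fin 4) F) (decompositionStabilizer D ⊓ specialLinear (Fin 4) F) := by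
  intro hmax
  apply lxfr45_std hq
  refine isMaximalIn_of_equiv (Phi (adaptedBasis D hD)).symm ?_ ?_ hmax
  · intro g
    rw [Phi_SL (adaptedBasis D hD) ((Phi (adaptedBasis D hD)).symm g), MulEquiv.apply_symm_apply]
  · intro g
    unfold H0 Hs
    rw [Subgroup.mem_inf, Subgroup.mem_inf, Phi_SL (adaptedBasis D hD) ((Phi (adaptedBasis D hD)).symm g),
      Phi_stab (adaptedBasis D hD) (stdBlock 4 1 F) D (adapted_map D hD)
        ((Phi (adaptedBasis D hD)).symm g), MulEquiv.apply_symm_apply]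

end Cfsg.Agent.Lib.helper7.LX
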