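import Cfsg.Agent.Lib.helper7.LXSYNcore
import Cfsg.Agent.Lib.Helper24.LXSYD

/-!
# Project LX, piece SYN
-/

set_option autoImplicit false
set_option linter.unusedVariables false
set_option linter.unusedSectionVars false

namespace Cfsg.Agent.Lib.helper7.LX

open Cfsg Cfsg.Geo Cfsg.Agent.Lib.Helper27.ASC
open scoped MatrixGroups Matrix

variable {n : ℕ} {F : Type*} [Field F] [Fintype F]

/-- SYN : so `n` is a power of `r`, and the field data read: `|F| = p` with `p ≡ 1` modulo `|Z(R)|`. -/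
theorem symplType_dim (hn : 3 ≤ n) {r : ℕ} (R : Subgroup (GL (Fin n) F))
    (hR : IsLinearSymplecticTypeData r R) :
    r.Prime ∧ (∃ m : ℕ, 1 ≤ m ∧ n = r ^ m) ∧
      ((r = 2 ∧ ∃ p : ℕ, p.Prime ∧ Fintype.card F = p ∧ p % 4 = 1) ∨
       (Odd r ∧ ∃ p e : ℕ, p.Prime ∧ CharP F p ∧ Odd e ∧ Fintype.card F = p ^ e ∧ r ∣ p ^ e - 1 ∧
          ∀ d : ℕ, 0 < d → d < e → ¬ r ∣ p ^ d - 1)) :=
  lxsyn_core hn R hR (symplType_degree hn R hR)

end Cfsg.Agent.Lib.helper7.LX
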