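import Mathlib
import Cfsg.Prelude.Def_GeometricClasses
import Cfsg.Agent.Lib.Helper27.ASC.Defs
import Cfsg.Agent.Lib.Lead.SLn

/-!
# Project LX, pieces COVER and ARITH3
-/

set_option autoImplicit false
set_option linter.unusedVariables false
set_option linter.unusedSectionVars false

namespace Cfsg.Agent.Lib.helper7.LX

open Cfsg Cfsg.Geo Cfsg.Agent.Lib.Helper27.ASC
open scoped MatrixGroups Matrix commutatorElement

variable {n : ℕ} {F : Type*} [Field F] [Fintype F]

/-- the range of `SL → GL` is `specialLinear` -/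
theorem lxcover_range :
    (Matrix.SpecialLinearGroup.toGL : Matrix.SpecialLinearGroup (Fin n) F →* GL (Fin n) F).range =
      specialLinear (Fin n) F := by
  ext x
  rw [MonoidHom.mem_range]
  have h := Set.ext_iff.mp (Matrix.SpecialLinearGroup.range_toGL (n := Fin n) (A := F)) x
  rw [Set.mem_range] at h
  rw [h]
  unfold specialLinear
  rw [MonoidHom.mem_ker]
  simp

/-- `specialLinear` is perfect in dimension at least three -/
theorem lxcover_perfect (hn : 3 ≤ n) :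
    ⁅specialLinear (Fin n) F, specialLinear (Fin n) F⁆ = specialLinear (Fin n) F := by
  have h1 : commutator (Matrix.SpecialLinearGroup (Fin n) F) = ⊤ :=
    Cfsg.Agent.Lib.Lead.SL_commutator_eq_top (by simpa using hn)
  rw [commutator_def] at h1
  have h2 := congrArg (Subgroup.map (Matrix.SpecialLinearGroup.toGL :
    Matrix.SpecialLinearGroup (Fin n) F →* GL (Fin n) F)) h1
  rw [Subgroup.map_commutator, ← MonoidHom.range_eq_map, lxcover_range] at h2
  exact h2

/-- COVER : a maximal subgroup of `SL_n`, `n ≥ 3`, does not cover `PSL_n` (`SL_n` is perfect: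
`Cfsg.Agent.Lib.Lead.SL_commutator_eq_top`). -/
theorem max_not_cover (hn : 3 ≤ n) {H : Subgroup (GL (Fin n) F)}
    (hH : IsMaximalIn (specialLinear (Fin n) F) H) :
    H ⊔ (scalars (Fin n) F ⊓ specialLinear (Fin n) F) ≠ specialLinear (Fin n) F := by
  intro heq
  -- scalars are central
  have hcen : ∀ z ∈ scalars (Fin n) F, ∀ g : GL (Fin n) F, z * g = g * z := by
    intro z hz g
    rw [mem_scalars_iff] at hz
    obtain ⟨c, hc⟩ := hz
    apply Units.ext
    rw [Units.val_mul, Units.val_mul, hc]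
    simp
  -- every element of `SL` is `h * z`
  have hdec : ∀ x ∈ specialLinear (Fin n) F, ∃ h ∈ H, ∃ z ∈ scalars (Fin n) F, x = h * z := by
    intro x hx
    rw [← heq] at hx
    have hnorm : (scalars (Fin n) F ⊓ specialLinear (Fin n) F).Normal := by
      constructor
      intro z hz g
      have : g * z * g⁻¹ = z := by
        rw [← hcen z hz.1 g, mul_assoc, mul_inv_cancel, mul_one]
      rw [this]
      exact hz
    rw [Subgroup.mem_sup_of_normal_right] at hx
    obtain ⟨h, hh, z, hz, rfl⟩ := hx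
    exact ⟨h, hh, z, hz.1, rfl⟩
  have hle : ⁅specialLinear (Fin n) F, specialLinear (Fin n) F⁆ ≤ H := by
    rw [Subgroup.commutator_le]
    intro x hx y hy
    obtain ⟨h, hh, z, hz, rfl⟩ := hdec x hx
    obtain ⟨h', hh', z', hz', rfl⟩ := hdec y hy
    have : ⁅h * z, h' * z'⁆ = ⁅h, h'⁆ := by
      rw [commutatorElement_def, commutatorElement_def]
      have e1 : (h * z)⁻¹ = h⁻¹ * z⁻¹ := by
        rw [mul_inv_rev]
        exact hcen z⁻¹ (inv_mem hz) h⁻¹
      have e2 : (h' * z')⁻¹ = h'⁻¹ * z'⁻¹ := by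
        rw [mul_inv_rev]
        exact hcen z'⁻¹ (inv_mem hz') h'⁻¹
      rw [e1, e2]
      calc h * z * (h' * z') * (h⁻¹ * z⁻¹) * (h'⁻¹ * z'⁻¹)
          = h * (z * h') * (z' * h⁻¹) * (z⁻¹ * h'⁻¹) * z'⁻¹ := by group
        _ = h * (h' * z) * (h⁻¹ * z') * (h'⁻¹ * z⁻¹) * z'⁻¹ := by
            rw [hcen z hz h', hcen z' hz' h⁻¹, hcen z⁻¹ (inv_mem hz) h'⁻¹]
        _ = h * h' * (z * h⁻¹) * (z' * h'⁻¹) * z⁻¹ * z'⁻¹ := by group
        _ = h * h' * (h⁻¹ * z) * (h'⁻¹ * z') * z⁻¹ * z'⁻¹ := by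
            rw [hcen z hz h⁻¹, hcen z' hz' h'⁻¹]
        _ = h * h' * h⁻¹ * (z * h'⁻¹) * z' * z⁻¹ * z'⁻¹ := by group
        _ = h * h' * h⁻¹ * (h'⁻¹ * z) * z' * z⁻¹ * z'⁻¹ := by rw [hcen z hz h'⁻¹]
        _ = h * h' * h⁻¹ * h'⁻¹ * (z * z') * z⁻¹ * z'⁻¹ := by group
        _ = h * h' * h⁻¹ * h'⁻¹ * (z' * z) * z⁻¹ * z'⁻¹ := by rw [hcen z hz z']
        _ = h * h' * h⁻¹ * h'⁻¹ := by group
    rw [this]
    rw [commutatorElement_def]
    exact H.mul_mem (H.mul_mem (H.mul_mem hh hh') (H.inv_mem hh)) (H.inv_mem hh')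
  rw [lxcover_perfect hn] at hle
  exact absurd hle (not_le_of_gt hH.1)

/-- ARITH3 : the field data of an extraspecial `3`-group: `|F| = p`, `p ≡ 1 mod 3`. -/
theorem arith_three {p e : ℕ} (hp : p.Prime) (he : Odd e) (hdvd : 3 ∣ p ^ e - 1)
    (hmin : ∀ d : ℕ, 0 < d → d < e → ¬ 3 ∣ p ^ d - 1) : e = 1 ∧ p % 3 = 1 := by
  have he1 : 1 ≤ e := he.pos
  have hpe : 1 ≤ p ^ e := Nat.one_le_pow _ _ hp.pos
  have hmod : p ^ e % 3 = 1 := by omega
  have h3 : p % 3 = 0 ∨ p % 3 = 1 ∨ p % 3 = 2 := by omega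
  rcases h3 with h | h | h
  · exfalso
    have : p ^ e % 3 = 0 := by
      rw [Nat.pow_mod, h, zero_pow (by omega)]; norm_num
    omega
  · refine ⟨?_, h⟩
    by_contra hne
    have h1 : 1 < e := by omega
    apply hmin 1 (by norm_num) h1
    rw [pow_one]
    omega
  · exfalso
    obtain ⟨k, rfl⟩ := he
    have : p ^ (2 * k + 1) % 3 = 2 := by
      have h4 : p ^ 2 % 3 = 1 := by
        rw [Nat.pow_mod, h]
      rw [pow_succ, pow_mul, Nat.mul_mod, Nat.pow_mod, h4, one_pow, h]; norm_num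
    omega

end Cfsg.Agent.Lib.helper7.LX
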