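import Mathlib
import Cfsg.Prelude.Def_GeometricClasses
import Cfsg.Agent.Lib.Helper27.ASC.Defs

/-!
# Project LX, piece FR45, part a : Maschke's octic invariant
`Φ(x) = 7 (Σ x_i⁴)² - 6 Σ x_i⁸ + 168 Π x_i²` and its stabiliser.
-/

set_option autoImplicit false
set_option linter.unusedVariables false
set_option linter.unusedSectionVars false

namespace Cfsg.Agent.Lib.helper7.LX

open Cfsg Cfsg.Geo
open scoped MatrixGroups Matrix

section generic

variable {κ : Type} [Fintype κ] [DecidableEq κ] {F : Type*} [Field F]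

/-- Maschke's octic -/
def lxfr45Phi (x : κ → F) : F :=
  7 * (∑ p, x p ^ 4) ^ 2 - 6 * ∑ p, x p ^ 8 + 168 * ∏ p, x p ^ 2

/-- the stabiliser of the octic -/
def lxfr45M (κ : Type) [Fintype κ] [DecidableEq κ] (F : Type*) [Field F] : Subgroup (GL κ F) where
  carrier := {g | ∀ x : κ → F, lxfr45Phi ((g : Matrix κ κ F) *ᵥ x) = lxfr45Phi x}
  mul_mem' := by
    intro a b ha hb x
    rw [Units.val_mul, ← Matrix.mulVec_mulVec, ha, hb]
  one_mem' := by
    intro x
    simp
  inv_mem' := by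
    intro a ha x
    have h := ha (((a⁻¹ : GL κ F) : Matrix κ κ F) *ᵥ x)
    rw [Matrix.mulVec_mulVec, ← Units.val_mul, mul_inv_cancel, Units.val_one, Matrix.one_mulVec] at h
    exact h.symm

theorem lxfr45_mem_M (g : GL κ F) :
    g ∈ lxfr45M κ F ↔ ∀ x : κ → F, lxfr45Phi ((g : Matrix κ κ F) *ᵥ x) = lxfr45Phi x := Iff.rfl

/-- the action of a monomial matrix -/
theorem lxfr45_monomial_mulVec (g : Matrix κ κ F) (τ : Equiv.Perm κ) (d : κ → F)
    (hg : ∀ q p, g q p = if q = τ p then d p else 0) (x : κ → F) :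
    g *ᵥ x = fun q => d (τ.symm q) * x (τ.symm q) := by
  ext q
  rw [Matrix.mulVec, dotProduct]
  rw [Finset.sum_eq_single (τ.symm q)]
  · rw [hg, if_pos (by simp)]
  · intro p _ hp
    rw [hg, if_neg, zero_mul]
    intro h
    apply hp
    rw [h, Equiv.symm_apply_apply]
  · intro h
    exact absurd (Finset.mem_univ _) h

/-- the octic is invariant under monomial matrices with `d_p⁴ = 1`, `(Π d_p)² = 1` -/
theorem lxfr45_monomial (g : Matrix κ κ F) (τ : Equiv.Perm κ) (d : κ → F)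
    (hg : ∀ q p, g q p = if q = τ p then d p else 0) (hd4 : ∀ p, d p ^ 4 = 1)
    (hdp : (∏ p, d p) ^ 2 = 1) (x : κ → F) :
    lxfr45Phi (g *ᵥ x) = lxfr45Phi x := by
  rw [lxfr45_monomial_mulVec g τ d hg x]
  unfold lxfr45Phi
  have h4 : ∑ q, (d (τ.symm q) * x (τ.symm q)) ^ 4 = ∑ p, x p ^ 4 := by
    rw [Equiv.sum_comp τ.symm (fun p => (d p * x p) ^ 4)]
    apply Finset.sum_congr rfl
    intro p _
    rw [mul_pow, hd4, one_mul]
  have h8 : ∑ q, (d (τ.symm q) * x (τ.symm q)) ^ 8 = ∑ p, x p ^ 8 := by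
    rw [Equiv.sum_comp τ.symm (fun p => (d p * x p) ^ 8)]
    apply Finset.sum_congr rfl
    intro p _
    have : d p ^ 8 = 1 := by
      rw [show 8 = 4 * 2 from rfl, pow_mul, hd4, one_pow]
    rw [mul_pow, this, one_mul]
  have h2 : ∏ q, (d (τ.symm q) * x (τ.symm q)) ^ 2 = ∏ p, x p ^ 2 := by
    rw [Equiv.prod_comp τ.symm (fun p => (d p * x p) ^ 2)]
    have : ∀ p, (d p * x p) ^ 2 = d p ^ 2 * x p ^ 2 := fun p => mul_pow _ _ _
    simp_rw [this]
    rw [Finset.prod_mul_distrib, Finset.prod_pow, hdp, one_mul]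
  rw [h4, h8, h2]

/-- the determinant of a monomial matrix -/
theorem lxfr45_monomial_det (g : Matrix κ κ F) (τ : Equiv.Perm κ) (d : κ → F)
    (hg : ∀ q p, g q p = if q = τ p then d p else 0) :
    g.det = ((Equiv.Perm.sign τ.symm : ℤˣ) : ℤ) * ∏ p, d p := by
  have h1 : g = (Matrix.diagonal d).submatrix τ.symm id := by
    ext q p
    rw [hg, Matrix.submatrix_apply, Matrix.diagonal_apply, id]
    by_cases h : q = τ p
    · rw [if_pos h, if_pos (by rw [h, Equiv.symm_apply_apply]), h, Equiv.symm_apply_apply]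
    · rw [if_neg h, if_neg]
      intro h'
      apply h
      rw [← h', Equiv.apply_symm_apply]
  rw [h1, Matrix.det_permute, Matrix.det_diagonal]

/-- so `(Π d_p)² = (det g)²` -/
theorem lxfr45_monomial_det_sq (g : Matrix κ κ F) (τ : Equiv.Perm κ) (d : κ → F)
    (hg : ∀ q p, g q p = if q = τ p then d p else 0) :
    (∏ p, d p) ^ 2 = g.det ^ 2 := by
  rw [lxfr45_monomial_det g τ d hg, mul_pow]
  have : ((((Equiv.Perm.sign τ.symm : ℤˣ) : ℤ) : F)) ^ 2 = 1 := by
    rcases Int.units_eq_one_or (Equiv.Perm.sign τ.symm) with h | h <;> rw [h] <;> simp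
  rw [this, one_mul]

end generic

end Cfsg.Agent.Lib.helper7.LX
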