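import Cfsg.Agent.Lib.helper7.LXFR45a
import Cfsg.Agent.Lib.Helper28.Ld.Trans

/-!
# Project LX, piece FR45, part b : the frame stabiliser of `SL_4(5)` is not maximal (standard coordinates)
-/

set_option autoImplicit false
set_option linter.unusedVariables false
set_option linter.unusedSectionVars false

namespace Cfsg.Agent.Lib.helper7.LX

open Cfsg Cfsg.Geo Cfsg.Agent.Lib.Helper28.Ld
open scoped MatrixGroups Matrix

variable {F : Type*} [Field F] [Fintype F]

theorem lxfr45_mem_SL {κ : Type} [Fintype κ] [DecidableEq κ] (g : GL κ F) :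
    g ∈ specialLinear κ F ↔ (g : Matrix κ κ F).det = 1 := by
  unfold specialLinear
  rw [MonoidHom.mem_ker]
  constructor
  · intro h
    have := congrArg Units.val h
    simpa using this
  · intro h
    ext
    simpa using h

/-- elements of the frame stabiliser of determinant one preserve the octic -/
theorem lxfr45_frame_le (hq : Fintype.card F = 5) (g : GL (Fin 4 × Fin 1) F)
    (hg : g ∈ Hs 4 1 F) (hdet : (g : Matrix (Fin 4 × Fin 1) (Fin 4 × Fin 1) F).det = 1) :
    g ∈ lxfr45M (Fin 4 × Fin 1) F := by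
  classical
  obtain ⟨σ, hσ⟩ := hg
  set τ : Equiv.Perm (Fin 4 × Fin 1) := Equiv.prodCongr σ (Equiv.refl (Fin 1)) with hτ
  set G : Matrix (Fin 4 × Fin 1) (Fin 4 × Fin 1) F := (g : Matrix (Fin 4 × Fin 1) (Fin 4 × Fin 1) F) with hG
  set d : Fin 4 × Fin 1 → F := fun p => G (τ p) p with hd
  have hcol : ∀ p : Fin 4 × Fin 1, G *ᵥ (Pi.single p 1) = fun q => G q p := by
    intro p
    ext q
    simp [Matrix.mulVec, dotProduct, Pi.single_apply]
  have hmono : ∀ q p, G q p = if q = τ p then d p else 0 := by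
    intro q p
    by_cases h : q = τ p
    · rw [if_pos h, hd, h]
    · rw [if_neg h]
      have hmem : (Pi.single p (1 : F) : Fin 4 × Fin 1 → F) ∈ stdBlock 4 1 F p.1 := by
        rw [mem_stdBlock]
        intro p' hp'
        rw [Pi.single_apply, if_neg]
        intro h'
        exact hp' (by rw [h'])
      have h2 : G *ᵥ (Pi.single p (1 : F)) ∈ stdBlock 4 1 F (σ p.1) := by
        rw [← hσ p.1]
        exact ⟨_, hmem, rfl⟩
      rw [hcol, mem_stdBlock] at h2
      apply h2 q
      intro hq1
      apply h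
      apply Prod.ext
      · rw [hτ]
        simpa using hq1
      · exact Subsingleton.elim _ _
  have hdne : ∀ p, d p ≠ 0 := by
    intro p h0
    have h1 : G *ᵥ (Pi.single p (1 : F)) = 0 := by
      rw [hcol]
      ext q
      rw [hmono q p, h0]
      simp
    have h2 : ((g⁻¹ : GL (Fin 4 × Fin 1) F) : Matrix (Fin 4 × Fin 1) (Fin 4 × Fin 1) F) *ᵥ
        (G *ᵥ (Pi.single p (1 : F))) = Pi.single p (1 : F) := by
      rw [Matrix.mulVec_mulVec, hG, ← Units.val_mul, inv_mul_cancel, Units.val_one, Matrix.one_mulVec]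
    rw [h1, Matrix.mulVec_zero] at h2
    have h3 := congrFun h2 p
    simp at h3
  have hd4 : ∀ p, d p ^ 4 = 1 := by
    intro p
    have := FiniteField.pow_card_sub_one_eq_one (d p) (hdne p)
    rw [hq] at this
    exact this
  have hdp : (∏ p, d p) ^ 2 = 1 := by
    rw [lxfr45_monomial_det_sq G τ d hmono, hdet, one_pow]
  rw [lxfr45_mem_M]
  intro x
  exact lxfr45_monomial G τ d hmono hd4 hdp x

end Cfsg.Agent.Lib.helper7.LX
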