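import Cfsg.Agent.Lib.helper7.LXFR45b

/-!
# Project LX, piece FR45, part c : a transvection does not preserve the octic, the Hadamard matrix does
-/

set_option autoImplicit false
set_option linter.unusedVariables false
set_option linter.unusedSectionVars false

namespace Cfsg.Agent.Lib.helper7.LX

open Cfsg Cfsg.Geo Cfsg.Agent.Lib.Helper28.Ld
open scoped MatrixGroups Matrix

variable {F : Type*} [Field F] [Fintype F]

theorem lxfr45_five (hq : Fintype.card F = 5) : (5 : F) = 0 := by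
  have := Nat.cast_card_eq_zero F
  rw [hq] at this
  exact_mod_cast this

/-- the octic in explicit coordinates -/
theorem lxfr45_Phi_explicit (x : Fin 4 × Fin 1 → F) :
    lxfr45Phi x = 7 * (x (0, 0) ^ 4 + x (1, 0) ^ 4 + x (2, 0) ^ 4 + x (3, 0) ^ 4) ^ 2
      - 6 * (x (0, 0) ^ 8 + x (1, 0) ^ 8 + x (2, 0) ^ 8 + x (3, 0) ^ 8)
      + 168 * (x (0, 0) ^ 2 * x (1, 0) ^ 2 * x (2, 0) ^ 2 * x (3, 0) ^ 2) := by
  unfold lxfr45Phi
  rw [Fintype.sum_prod_type, Fintype.sum_prod_type, Fintype.prod_prod_type]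
  simp only [Fin.sum_univ_four, Fin.prod_univ_four, Fin.sum_univ_one, Fin.prod_univ_one]

/-- the entries of a product `M *ᵥ x` in explicit coordinates -/
theorem lxfr45_mulVec_explicit (M : Matrix (Fin 4 × Fin 1) (Fin 4 × Fin 1) F) (x : Fin 4 × Fin 1 → F)
    (q : Fin 4 × Fin 1) :
    (M *ᵥ x) q = M q (0, 0) * x (0, 0) + M q (1, 0) * x (1, 0) + M q (2, 0) * x (2, 0) +
      M q (3, 0) * x (3, 0) := by
  rw [Matrix.mulVec, dotProduct, Fintype.sum_prod_type]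
  simp only [Fin.sum_univ_four, Fin.sum_univ_one]


theorem lxfr45_ne01 : ((0, 0) : Fin 4 × Fin 1) ≠ ((1, 0) : Fin 4 × Fin 1) := by
  intro h
  have := congrArg Prod.fst h
  exact absurd this (by decide)

/-- the transvection -/
noncomputable def lxfr45T (F : Type*) [Field F] : GL (Fin 4 × Fin 1) F :=
  Matrix.GeneralLinearGroup.mkOfDetNeZero
    (Matrix.transvection ((0, 0) : Fin 4 × Fin 1) ((1, 0) : Fin 4 × Fin 1) (1 : F)) (by
      rw [Matrix.det_transvection_of_ne _ _ lxfr45_ne01]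
      exact one_ne_zero)

theorem lxfr45T_val :
    ((lxfr45T F : GL (Fin 4 × Fin 1) F) : Matrix (Fin 4 × Fin 1) (Fin 4 × Fin 1) F) =
      Matrix.transvection ((0, 0) : Fin 4 × Fin 1) ((1, 0) : Fin 4 × Fin 1) (1 : F) := rfl

theorem lxfr45T_SL : lxfr45T F ∈ specialLinear (Fin 4 × Fin 1) F := by
  rw [lxfr45_mem_SL, lxfr45T_val, Matrix.det_transvection_of_ne _ _ lxfr45_ne01]

theorem lxfr45T_mulVec (x : Fin 4 × Fin 1 → F) :
    ((lxfr45T F : GL (Fin 4 × Fin 1) F) : Matrix (Fin 4 × Fin 1) (Fin 4 × Fin 1) F) *ᵥ x =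
      x + Function.update (0 : Fin 4 × Fin 1 → F) (0, 0) (x (1, 0)) := by
  rw [lxfr45T_val, Matrix.transvection, Matrix.add_mulVec, Matrix.one_mulVec, Matrix.single_mulVec, one_mul]

theorem lxfr45T_not_mem (hq : Fintype.card F = 5) : lxfr45T F ∉ lxfr45M (Fin 4 × Fin 1) F := by
  intro hmem
  rw [lxfr45_mem_M] at hmem
  have h5 := lxfr45_five hq
  set x₀ : Fin 4 × Fin 1 → F := fun p => (![0, 1, 0, 1] : Fin 4 → F) p.1 with hx₀
  have e0 : x₀ (0, 0) = 0 := rfl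
  have e1 : x₀ (1, 0) = 1 := rfl
  have e2 : x₀ (2, 0) = 0 := rfl
  have e3 : x₀ (3, 0) = 1 := rfl
  have h := hmem x₀
  rw [lxfr45_Phi_explicit, lxfr45_Phi_explicit, lxfr45T_mulVec] at h
  have n1 : ((1, 0) : Fin 4 × Fin 1) ≠ (0, 0) := fun h => absurd (congrArg Prod.fst h) (by decide)
  have n2 : ((2, 0) : Fin 4 × Fin 1) ≠ (0, 0) := fun h => absurd (congrArg Prod.fst h) (by decide)
  have n3 : ((3, 0) : Fin 4 × Fin 1) ≠ (0, 0) := fun h => absurd (congrArg Prod.fst h) (by decide)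
  simp only [Pi.add_apply, Function.update_self, Function.update_of_ne n1, Function.update_of_ne n2,
    Function.update_of_ne n3, Pi.zero_apply, e0, e1, e2, e3] at h
  have h1 : (1 : F) = 0 := by linear_combination 6 * h5 - h
  exact one_ne_zero h1

/-- the Hadamard matrix -/
def lxfr45H4 (F : Type*) [Field F] : Matrix (Fin 4) (Fin 4) F :=
  !![1, 1, 1, 1; 1, -1, 1, -1; 1, 1, -1, -1; 1, -1, -1, 1]

theorem lxfr45H4_det : (lxfr45H4 F).det = 16 := by
  unfold lxfr45H4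
  rw [Matrix.det_succ_row_zero]
  simp [Fin.sum_univ_succ, Matrix.det_fin_three, Fin.succAbove, Matrix.submatrix]
  norm_num

/-- the Hadamard matrix on the index set `Fin 4 × Fin 1` -/
def lxfr45HK (F : Type*) [Field F] : Matrix (Fin 4 × Fin 1) (Fin 4 × Fin 1) F :=
  fun p q => lxfr45H4 F p.1 q.1

theorem lxfr45HK_det : (lxfr45HK F).det = 16 := by
  have h : lxfr45HK F = Matrix.reindex (Equiv.prodUnique (Fin 4) (Fin 1)).symm
      (Equiv.prodUnique (Fin 4) (Fin 1)).symm (lxfr45H4 F) := by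
    ext p q
    rfl
  rw [h, Matrix.det_reindex_self, lxfr45H4_det]

theorem lxfr45HK_Phi (x : Fin 4 × Fin 1 → F) :
    lxfr45Phi (lxfr45HK F *ᵥ x) = 256 * lxfr45Phi x := by
  rw [lxfr45_Phi_explicit, lxfr45_Phi_explicit]
  simp only [lxfr45_mulVec_explicit]
  have e : ∀ i j : Fin 4, lxfr45HK F (i, 0) (j, 0) = lxfr45H4 F i j := fun i j => rfl
  simp only [e]
  have e00 : lxfr45H4 F 0 0 = 1 := rfl
  have e01 : lxfr45H4 F 0 1 = 1 := rfl
  have e02 : lxfr45H4 F 0 2 = 1 := rfl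
  have e03 : lxfr45H4 F 0 3 = 1 := rfl
  have e10 : lxfr45H4 F 1 0 = 1 := rfl
  have e11 : lxfr45H4 F 1 1 = -1 := rfl
  have e12 : lxfr45H4 F 1 2 = 1 := rfl
  have e13 : lxfr45H4 F 1 3 = -1 := rfl
  have e20 : lxfr45H4 F 2 0 = 1 := rfl
  have e21 : lxfr45H4 F 2 1 = 1 := rfl
  have e22 : lxfr45H4 F 2 2 = -1 := rfl
  have e23 : lxfr45H4 F 2 3 = -1 := rfl
  have e30 : lxfr45H4 F 3 0 = 1 := rfl
  have e31 : lxfr45H4 F 3 1 = -1 := rfl
  have e32 : lxfr45H4 F 3 2 = -1 := rfl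
  have e33 : lxfr45H4 F 3 3 = 1 := rfl
  rw [e00, e01, e02, e03, e10, e11, e12, e13, e20, e21, e22, e23, e30, e31, e32, e33]
  ring

end Cfsg.Agent.Lib.helper7.LX
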