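import Mathlib
import Cfsg.Prelude.Def_GeometricClasses
import Cfsg.Agent.Lib.Helper27.ASC.Defs

/-!
# Project LX, piece SYN (core) : the dimension of a class-6 group is a power of `r`
-/

set_option autoImplicit false
set_option linter.unusedVariables false
set_option linter.unusedSectionVars false

namespace Cfsg.Agent.Lib.helper7.LX

open Cfsg Cfsg.Geo Cfsg.Agent.Lib.Helper27.ASC
open scoped MatrixGroups Matrix

variable {n : ℕ} {F : Type*} [Field F] [Fintype F]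

/-- SYN with the degree formula as a hypothesis -/
theorem lxsyn_core (hn : 3 ≤ n) {r : ℕ} (R : Subgroup (GL (Fin n) F))
    (hR : IsLinearSymplecticTypeData r R)
    (hdeg : n ^ 2 * Nat.card (Subgroup.center R) = Nat.card R) :
    r.Prime ∧ (∃ m : ℕ, 1 ≤ m ∧ n = r ^ m) ∧
      ((r = 2 ∧ ∃ p : ℕ, p.Prime ∧ Fintype.card F = p ∧ p % 4 = 1) ∨
       (Odd r ∧ ∃ p e : ℕ, p.Prime ∧ CharP F p ∧ Odd e ∧ Fintype.card F = p ^ e ∧ r ∣ p ^ e - 1 ∧
          ∀ d : ℕ, 0 < d → d < e → ¬ r ∣ p ^ d - 1)) := by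
  have hr : r.Prime := hR.symplecticType.prime
  obtain ⟨p, e, hrp, hmin, hcases⟩ := hR.field
  obtain ⟨hp, hchar, hcard, hdvd, hmin'⟩ := hmin
  refine ⟨hr, ?_⟩
  rcases hcases with ⟨hodd, hoe, hZ, m, hm1, hRc⟩ | ⟨h2, he1, hZ, h4, m, hRc⟩ | ⟨_, _, hc2, _⟩
  · -- odd case
    rw [hZ, hRc] at hdeg
    have h1 : n ^ 2 = (r ^ m) ^ 2 := by
      have h2 : r ^ (1 + 2 * m) = (r ^ m) ^ 2 * r := by ring
      rw [h2] at hdeg
      exact Nat.eq_of_mul_eq_mul_right hr.pos hdeg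
    have h3 : n = r ^ m := Nat.pow_left_injective (by norm_num : 2 ≠ 0) h1
    refine ⟨⟨m, hm1, h3⟩, Or.inr ⟨hodd, p, e, hp, hchar, hoe, hcard, ?_, ?_⟩⟩
    · rw [← hZ]; exact hdvd
    · intro d hd0 hde
      rw [← hZ]
      exact hmin' d hd0 hde
  · -- r = 2
    subst h2
    subst he1
    rw [hZ, hRc] at hdeg
    have h1 : n ^ 2 = (2 ^ m) ^ 2 := by
      have h2 : 2 ^ (2 + 2 * m) = (2 ^ m) ^ 2 * 4 := by ring
      rw [h2] at hdeg
      exact Nat.eq_of_mul_eq_mul_right (by norm_num) hdeg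
    have h3 : n = 2 ^ m := Nat.pow_left_injective (by norm_num : 2 ≠ 0) h1
    have hm1 : 1 ≤ m := by
      by_contra hm0
      have : m = 0 := by omega
      subst this
      simp at h3
      omega
    refine ⟨⟨m, hm1, h3⟩, Or.inl ⟨rfl, p, hp, ?_, ?_⟩⟩
    · rw [hcard, pow_one]
    · rw [hZ, pow_one] at hdvd
      have := hp.two_le
      omega
  · exfalso
    rw [Fintype.card_fin] at hc2
    omega

end Cfsg.Agent.Lib.helper7.LX
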