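import Cfsg.Agent.Lib.helper7.NCV.Defs

/-! Project NCV, row A3 (`cen_abstract`). -/

set_option autoImplicit false

namespace Cfsg.Agent.Lib.helper7.NCV

open Matrix

universe u

variable {F : Type u} [Field F] {n : ℕ}

theorem cen_abstract {Γ : Type*} [Group Γ] (X Z : Subgroup Γ) [Group.IsNilpotent ↥X]
    (hXZ : ¬ X ≤ Z) :
    ∃ c ∈ X, c ∉ Z ∧ ∀ y ∈ X, c * y * c⁻¹ * y⁻¹ ∈ Z := by
  obtain ⟨N, hN⟩ := (Group.isNilpotent_iff ↥X).1 inferInstance
  have hP0 : ∀ x : ↥X, x ∈ Subgroup.upperCentralSeries ↥X 0 → (x : Γ) ∈ Z := by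
    intro x hx
    rw [Subgroup.upperCentralSeries_zero, Subgroup.mem_bot] at hx
    rw [hx]
    exact Z.one_mem
  have hPN : ¬ ∀ x : ↥X, x ∈ Subgroup.upperCentralSeries ↥X N → (x : Γ) ∈ Z := by
    intro h
    apply hXZ
    intro x hx
    exact h ⟨x, hx⟩ (by rw [hN]; exact Subgroup.mem_top _)
  have hstep : ∃ i : ℕ, (∀ x : ↥X, x ∈ Subgroup.upperCentralSeries ↥X i → (x : Γ) ∈ Z) ∧
      ¬ ∀ x : ↥X, x ∈ Subgroup.upperCentralSeries ↥X (i + 1) → (x : Γ) ∈ Z := by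
    by_contra hcon
    push Not at hcon
    apply hPN
    have : ∀ i : ℕ, ∀ x : ↥X, x ∈ Subgroup.upperCentralSeries ↥X i → (x : Γ) ∈ Z := by
      intro i
      induction i with
      | zero => exact hP0
      | succ k ih => exact hcon k ih
    exact this N
  obtain ⟨i, hPi, hnPi⟩ := hstep
  push Not at hnPi
  obtain ⟨x, hx, hxZ⟩ := hnPi
  refine ⟨(x : Γ), x.2, hxZ, ?_⟩
  intro y hy
  rw [Subgroup.mem_upperCentralSeries_succ_iff] at hx
  have h1 := hPi _ (hx ⟨y, hy⟩)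
  simpa [commutatorElement_def] using h1

end Cfsg.Agent.Lib.helper7.NCV
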