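import Cfsg.Agent.Lib.helper7.NCV.Defs

/-! Project NCV, row B0 (entry formulas of the Jordan block `uJ`). -/

set_option autoImplicit false

namespace Cfsg.Agent.Lib.helper7.NCV

open Matrix

universe u

variable {F : Type u} [Field F] {n : ℕ}

theorem ncvb0_split (m : ℕ) (i j : Fin (m + 3)) :
    (uJ m : Matrix (Fin (m + 3)) (Fin (m + 3)) F) i j
      = (if i = j then 1 else 0) + (if i.val = j.val + 1 then 1 else 0) := by
  unfold uJ
  by_cases h : i = j
  · subst h
    simp
  · simp [h]

theorem ncvb0_mulVec (m : ℕ) (w : Fin (m + 3) → F) (i : Fin (m + 3)) :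
    (uJ m *ᵥ w) i = w i + ∑ j : Fin (m + 3), (if i.val = j.val + 1 then w j else 0) := by
  simp only [Matrix.mulVec, dotProduct, ncvb0_split, add_mul, Finset.sum_add_distrib]
  congr 1
  · simp
  · apply Finset.sum_congr rfl
    intro j _
    split_ifs <;> simp

theorem ncvb0_vecMul (m : ℕ) (w : Fin (m + 3) → F) (j : Fin (m + 3)) :
    (w ᵥ* uJ m) j = w j + ∑ i : Fin (m + 3), (if i.val = j.val + 1 then w i else 0) := by
  simp only [Matrix.vecMul, dotProduct, ncvb0_split, mul_add, Finset.sum_add_distrib]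
  congr 1
  · simp
  · apply Finset.sum_congr rfl
    intro i _
    split_ifs <;> simp

theorem uJ_mulVec_zero (m : ℕ) (w : Fin (m + 3) → F) : (uJ m *ᵥ w) 0 = w 0 := by
  rw [ncvb0_mulVec]
  have : ∑ j : Fin (m + 3), (if (0 : Fin (m + 3)).val = j.val + 1 then w j else 0) = 0 := by
    apply Finset.sum_eq_zero
    intro j _
    have : ¬ ((0 : Fin (m + 3)).val = j.val + 1) := by
      simp
    rw [if_neg this]
  rw [this, add_zero]

theorem uJ_mulVec_succ (m : ℕ) (w : Fin (m + 3) → F) (i : Fin (m + 2)) :
    (uJ m *ᵥ w) i.succ = w i.succ + w i.castSucc := by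
  rw [ncvb0_mulVec]
  congr 1
  rw [Finset.sum_eq_single i.castSucc]
  · simp
  · intro j _ hj
    have : ¬ (i.succ.val = j.val + 1) := by
      intro h
      apply hj
      apply Fin.ext
      simp at h
      simp
      omega
    rw [if_neg this]
  · intro h
    exact absurd (Finset.mem_univ _) h

theorem uJ_vecMul_last (m : ℕ) (w : Fin (m + 3) → F) :
    (w ᵥ* uJ m) (Fin.last (m + 2)) = w (Fin.last (m + 2)) := by
  rw [ncvb0_vecMul]
  have : ∑ i : Fin (m + 3), (if i.val = (Fin.last (m + 2)).val + 1 then w i else 0) = 0 := by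
    apply Finset.sum_eq_zero
    intro i _
    have : ¬ (i.val = (Fin.last (m + 2)).val + 1) := by
      have := i.isLt
      simp
      omega
    rw [if_neg this]
  rw [this, add_zero]

theorem uJ_vecMul_castSucc (m : ℕ) (w : Fin (m + 3) → F) (i : Fin (m + 2)) :
    (w ᵥ* uJ m) i.castSucc = w i.castSucc + w i.succ := by
  rw [ncvb0_vecMul]
  congr 1
  rw [Finset.sum_eq_single i.succ]
  · simp
  · intro j _ hj
    have : ¬ (j.val = i.castSucc.val + 1) := by
      intro h
      apply hj
      apply Fin.ext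
      simp at h
      simp
      omega
    rw [if_neg this]
  · intro h
    exact absurd (Finset.mem_univ _) h

end Cfsg.Agent.Lib.helper7.NCV
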