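import Cfsg.Agent.Lib.helper7.NCVB0

/-! Project NCV, rows B8 (`uJ_last`, `uJ'_last`, `uJ_row_zero`) and C9B (`uv_self`). -/

set_option autoImplicit false

namespace Cfsg.Agent.Lib.helper7.NCV

open Matrix

universe u

variable {F : Type u} [Field F] {n : ℕ}

theorem uJ_last (m : ℕ) :
    uJ m *ᵥ (Pi.single (Fin.last (m + 2)) 1 : Fin (m + 3) → F)
      = (Pi.single (Fin.last (m + 2)) 1 : Fin (m + 3) → F) := by
  funext i
  induction i using Fin.cases with
  | zero => rw [uJ_mulVec_zero]
  | succ i =>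
    rw [uJ_mulVec_succ]
    have : (Pi.single (Fin.last (m + 2)) 1 : Fin (m + 3) → F) i.castSucc = 0 := by
      rw [Pi.single_apply, if_neg]
      exact (Fin.castSucc_lt_last i).ne
    rw [this, add_zero]

theorem ncvb8_sw_last (m : ℕ) : sw m (Fin.last (m + 2)) = Fin.last (m + 2) := by
  unfold sw
  apply Equiv.swap_apply_of_ne_of_ne
  · intro h
    have := congrArg Fin.val h
    simp at this
  · intro h
    have := congrArg Fin.val h
    simp at this

theorem ncvb8_single_comp (m : ℕ) :
    (Pi.single (Fin.last (m + 2)) 1 : Fin (m + 3) → F) ∘ ⇑(sw m)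
      = (Pi.single (Fin.last (m + 2)) 1 : Fin (m + 3) → F) := by
  funext j
  simp only [Function.comp_apply, Pi.single_apply]
  by_cases h : j = Fin.last (m + 2)
  · subst h
    rw [ncvb8_sw_last]
  · have : sw m j ≠ Fin.last (m + 2) := by
      intro h'
      apply h
      have := congrArg (sw m).symm h'
      rw [Equiv.symm_apply_apply] at this
      rw [this, ← ncvb8_sw_last m, Equiv.symm_apply_apply, ncvb8_sw_last]
    rw [if_neg h, if_neg this]

theorem ncvb8_single_comp_symm (m : ℕ) :
    (Pi.single (Fin.last (m + 2)) 1 : Fin (m + 3) → F) ∘ ⇑(sw m).symm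
      = (Pi.single (Fin.last (m + 2)) 1 : Fin (m + 3) → F) := by
  have h : (sw m).symm = sw m := by
    unfold sw
    exact Equiv.symm_swap 0 1
  rw [h, ncvb8_single_comp]

theorem uJ'_last (m : ℕ) :
    uJ' m *ᵥ (Pi.single (Fin.last (m + 2)) 1 : Fin (m + 3) → F)
      = (Pi.single (Fin.last (m + 2)) 1 : Fin (m + 3) → F) := by
  unfold uJ'
  rw [Matrix.submatrix_mulVec_equiv, ncvb8_single_comp_symm, uJ_last, ncvb8_single_comp]

theorem uJ_row_zero (m : ℕ) :
    (Pi.single 0 1 : Fin (m + 3) → F) ᵥ* uJ m = (Pi.single 0 1 : Fin (m + 3) → F) := by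
  funext j
  induction j using Fin.lastCases with
  | last => rw [uJ_vecMul_last]
  | cast i =>
    rw [uJ_vecMul_castSucc]
    have : (Pi.single 0 1 : Fin (m + 3) → F) i.succ = 0 := by
      rw [Pi.single_apply, if_neg]
      exact Fin.succ_ne_zero i
    rw [this, add_zero]

theorem uv_self (v : Fin 2 → F) : uvM v *ᵥ v = v := by
  funext i
  fin_cases i
  · simp [uvM, Matrix.mulVec, dotProduct, Fin.sum_univ_two]
    ring
  · simp [uvM, Matrix.mulVec, dotProduct, Fin.sum_univ_two]
    ring

end Cfsg.Agent.Lib.helper7.NCV
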