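import Cfsg.Agent.Lib.helper7.NCV.Defs
import Cfsg.Agent.Lib.Helper26.NCVA2
import Cfsg.Agent.Lib.Helper20.NCVA6
import Cfsg.Agent.Lib.Helper20.NCVA7
import Cfsg.Agent.Lib.Helper9.NCVA8
import Cfsg.Agent.Lib.Helper9.NCVA9
import Cfsg.Agent.Lib.Helper28.NCVC1
import Cfsg.Agent.Lib.Helper18.NCVC7
import Cfsg.Agent.Lib.Helper16.NCVC11
import Cfsg.Agent.Lib.helper17.NCVC13
import Cfsg.Agent.Lib.Helper18.NCVC14
import Cfsg.Agent.Lib.Helper13.NCVC15A
import Cfsg.Agent.Lib.Helper1.NCVC15B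
import Cfsg.Agent.Lib.Helper28.NCVC15E
import Cfsg.Agent.Lib.Helper28.NCVC15F
import Cfsg.Agent.Lib.Helper25.NCVC16

/-! Project NCV, assembly MAIN2 (`main2`): the counting argument for `n = 2`, `q ≥ 4`. -/

set_option autoImplicit false

namespace Cfsg.Agent.Lib.helper7.NCV

open Matrix

universe u

variable {F : Type u} [Field F] {n : ℕ}

/-- Own copy of row C8 (`cen_proper`). -/
theorem ncvmain2_cen_proper (G : Subgroup (GL (Fin 2) F ⧸ Subgroup.center (GL (Fin 2) F)))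
    (hG : ((Matrix.SpecialLinearGroup.toGL :
      Matrix.SpecialLinearGroup (Fin 2) F →* GL (Fin 2) F).range).map
      (QuotientGroup.mk' (Subgroup.center (GL (Fin 2) F))) ≤ G)
    (g : Matrix (Fin 2) (Fin 2) F) (h10 : g 1 0 ≠ 0) : down G (cen g) ≠ ⊤ := by
  refine down_ne_top G (cen g) (center_le_cen g)
    (Matrix.SpecialLinearGroup.toGL (tvSL (0 : Fin 2) 1 (by decide))) (sl_mem G hG _) ?_
  intro hmem
  rw [mem_cen] at hmem
  have h00 := congrFun (congrFun hmem 0) 0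
  have hcoe : ((Matrix.SpecialLinearGroup.toGL (tvSL (0 : Fin 2) 1 (by decide)) : GL (Fin 2) F) :
      Matrix (Fin 2) (Fin 2) F) = transvection (0 : Fin 2) 1 (1 : F) := rfl
  rw [hcoe] at h00
  simp [transvection, Matrix.mul_apply, Fin.sum_univ_two, Matrix.single_apply] at h00
  exact h10 h00

/-- Own copy of row C15 (`dsepg`). -/
theorem ncvmain2_dsepg (X : Subgroup (GL (Fin 2) F)) [Group.IsNilpotent ↥X] (s : Fˣ)
    (hs : (s : F) ^ 2 ≠ 1) (g : GL (Fin 2) F) (hi : Irr (g : Matrix (Fin 2) (Fin 2) F))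
    (ht : (g : Matrix (Fin 2) (Fin 2) F).trace ≠ 0)
    (hd : Matrix.SpecialLinearGroup.toGL (dgSL s) ∈ X) (hg : g ∈ X) : False := by
  obtain ⟨hs2, hconj⟩ := dinv X s hs g hi ht hd hg
  have hcoe : ((Matrix.SpecialLinearGroup.toGL (dgSL s) : GL (Fin 2) F) :
      Matrix (Fin 2) (Fin 2) F) = !![(s : F), 0; 0, ((s⁻¹ : Fˣ) : F)] := rfl
  have hinv : (((Matrix.SpecialLinearGroup.toGL (dgSL s))⁻¹ : GL (Fin 2) F) :
      Matrix (Fin 2) (Fin 2) F) = !![((s⁻¹ : Fˣ) : F), 0; 0, (s : F)] := by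
    rw [Matrix.coe_units_inv, hcoe]
    apply Matrix.inv_eq_right_inv
    ext i j
    fin_cases i <;> fin_cases j <;> simp
  obtain ⟨k, z, hk⟩ := pow2_of_inverted X (Matrix.SpecialLinearGroup.toGL (dgSL s)) g hd hg
    (by rw [hcoe, hinv]; exact hconj)
  obtain ⟨z', hz'⟩ := pow2_descent (g : Matrix (Fin 2) (Fin 2) F) hi (s : F) hs2 k z hk
  exact ht (tr_zero_of_sq_scalar (g : Matrix (Fin 2) (Fin 2) F) hi z' hz')

/-- type-1 members: stabilisers of lines -/
def IsT1 (G : Subgroup (GL (Fin 2) F ⧸ Subgroup.center (GL (Fin 2) F))) (M : Subgroup ↥G) : Prop :=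
  ∃ v : Fin 2 → F, v ≠ 0 ∧ M = down G (stab v)

/-- type-2 members: images of commutants of irreducible elements with nonzero trace -/
def IsT2 (G : Subgroup (GL (Fin 2) F ⧸ Subgroup.center (GL (Fin 2) F))) (M : Subgroup ↥G) : Prop :=
  ∃ g : GL (Fin 2) F, prj 2 F g ∈ G ∧ Irr (g : Matrix (Fin 2) (Fin 2) F) ∧
    (g : Matrix (Fin 2) (Fin 2) F).trace ≠ 0 ∧ M = down G (cen (g : Matrix (Fin 2) (Fin 2) F))

open Classical in
/-- the representative of a member -/
noncomputable def rep2 (G : Subgroup (GL (Fin 2) F ⧸ Subgroup.center (GL (Fin 2) F)))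
    (hG : ((Matrix.SpecialLinearGroup.toGL :
      Matrix.SpecialLinearGroup (Fin 2) F →* GL (Fin 2) F).range).map
      (QuotientGroup.mk' (Subgroup.center (GL (Fin 2) F))) ≤ G) (M : Subgroup ↥G) : ↥G :=
  if h : IsT1 G M then
    ⟨prj 2 F (Matrix.SpecialLinearGroup.toGL (uvSL (Classical.choose h))), sl_mem G hG _⟩
  else if h' : IsT2 G M then ⟨prj 2 F (Classical.choose h'), (Classical.choose_spec h').1⟩
  else 1

theorem main2 [Fintype F] (hq : 4 ≤ Fintype.card F)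
    (G : Subgroup (GL (Fin 2) F ⧸ Subgroup.center (GL (Fin 2) F)))
    (hG : ((Matrix.SpecialLinearGroup.toGL :
      Matrix.SpecialLinearGroup (Fin 2) F →* GL (Fin 2) F).range).map
      (QuotientGroup.mk' (Subgroup.center (GL (Fin 2) F))) ≤ G) :
    ¬ NilMinCover ↥G := by
  classical
  obtain ⟨s, hs⟩ := exists_s (F := F) hq
  -- the key dichotomy for representatives
  have key : ∀ M : Subgroup ↥G, (IsT1 G M ∨ IsT2 G M) → ∀ A : Subgroup ↥G,
      Group.IsNilpotent ↥A → rep2 G hG M ∈ A →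
      (∃ v : Fin 2 → F, v ≠ 0 ∧ M = down G (stab v) ∧
        Matrix.SpecialLinearGroup.toGL (uvSL v) ∈ lift G A) ∨
      (∃ g : GL (Fin 2) F, Irr (g : Matrix (Fin 2) (Fin 2) F) ∧
        (g : Matrix (Fin 2) (Fin 2) F).trace ≠ 0 ∧
        M = down G (cen (g : Matrix (Fin 2) (Fin 2) F)) ∧ g ∈ lift G A) := by
    intro M hM A _ hrep
    by_cases h : IsT1 G M
    · left
      rw [rep2, dif_pos h] at hrep
      exact ⟨Classical.choose h, (Classical.choose_spec h).1, (Classical.choose_spec h).2,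
        (mem_lift_iff G A _).2 ⟨sl_mem G hG _, hrep⟩⟩
    · have h' : IsT2 G M := hM.resolve_left h
      right
      rw [rep2, dif_neg h, dif_pos h'] at hrep
      obtain ⟨h1, h2, h3, h4⟩ := Classical.choose_spec h'
      exact ⟨Classical.choose h', h2, h3, h4, (mem_lift_iff G A _).2 ⟨h1, hrep⟩⟩
  refine count_abstract {M | IsT1 G M ∨ IsT2 G M} (rep2 G hG)
    ⟨prj 2 F (Matrix.SpecialLinearGroup.toGL (dgSL s)), sl_mem G hG _⟩ ?_ ?_ ?_ ?_
  · -- cover
    intro g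
    obtain ⟨x, hx, rfl⟩ := exists_rep G g
    rcases cover2 hq G hG x hx with ⟨v, hv, hxv⟩ | ⟨g', hg', hi, ht, hxg⟩
    · exact ⟨down G (stab v), Or.inl ⟨v, hv, rfl⟩, mem_down_of_mem G _ x hx hxv⟩
    · exact ⟨down G (cen (g' : Matrix (Fin 2) (Fin 2) F)), Or.inr ⟨g', hg', hi, ht, rfl⟩,
        mem_down_of_mem G _ x hx hxg⟩
  · -- proper
    rintro M (⟨v, hv, rfl⟩ | ⟨g, _, hi, _, rfl⟩)
    · exact stab_proper G hG le_rfl v hv
    · exact ncvmain2_cen_proper G hG _ (irr_ne _ hi).2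
  · -- separation
    intro M hM M' hM' A hA hr hr'
    have := lift_nilpotent G A hA
    rcases key M hM A hA hr with ⟨v, hv, rfl, hvX⟩ | ⟨g, hi, ht, rfl, hgX⟩
    · rcases key M' hM' A hA hr' with ⟨v', hv', rfl, hvX'⟩ | ⟨g', hi', ht', rfl, hgX'⟩
      · rw [sepa (lift G A) v v' hv hv' hvX hvX']
      · exact (sepb (lift G A) v hv g' hi' hvX hgX').elim
    · rcases key M' hM' A hA hr' with ⟨v', hv', rfl, hvX'⟩ | ⟨g', hi', ht', rfl, hgX'⟩
      · exact (sepb (lift G A) v' hv' g hi hvX' hgX).elim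
      · rw [sepc (lift G A) g g' hgX hgX' hi hi' ht ht']
  · -- the extra element
    intro M hM A hA hdA hr
    have := lift_nilpotent G A hA
    have hdX : Matrix.SpecialLinearGroup.toGL (dgSL s) ∈ lift G A :=
      (mem_lift_iff G A _).2 ⟨sl_mem G hG _, hdA⟩
    rcases key M hM A hA hr with ⟨v, hv, rfl, hvX⟩ | ⟨g, hi, ht, rfl, hgX⟩
    · exact dsepu (lift G A) s hs v hv hdX hvX
    · exact ncvmain2_dsepg (lift G A) s hs g hi ht hdX hgX

end Cfsg.Agent.Lib.helper7.NCV
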