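import Cfsg.Agent.Lib.helper7.NCV.Defs
import Cfsg.Agent.Lib.helper7.NCVB1
import Cfsg.Agent.Lib.helper7.NCVB8
import Cfsg.Agent.Lib.Helper12.NCVB7
import Cfsg.Agent.Lib.Helper20.NCVB3
import Cfsg.Agent.Lib.helper15.NCVB4
import Cfsg.Agent.Lib.Helper20.NCVA6
import Cfsg.Agent.Lib.Helper20.NCVA7
import Cfsg.Agent.Lib.Helper9.NCVA9
import Cfsg.Agent.Lib.Helper20.NCVA10core
import Cfsg.Agent.Lib.Helper25.NCVA11core

/-! Project NCV, assembly MAIN3 (`main3`): the merge argument for `n ≥ 3`. -/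

set_option autoImplicit false

namespace Cfsg.Agent.Lib.helper7.NCV

open Matrix

universe u

variable {F : Type u} [Field F] {n : ℕ}

/-- Own copy of the MERGE lemma (row A1). -/
theorem ncvmain3_merge {Γ : Type*} [Group Γ] (M : Subgroup Γ) (hM : M ≠ ⊤) (a b : Γ)
    (hab : ∀ A : Subgroup Γ, Group.IsNilpotent ↥A → a ∈ A → b ∈ A → False)
    (ha : ∀ A : Subgroup Γ, Group.IsNilpotent ↥A → a ∈ A → A ≤ M)
    (hb : ∀ A : Subgroup Γ, Group.IsNilpotent ↥A → b ∈ A → A ≤ M) :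
    ¬ NilMinCover Γ := by
  classical
  rintro ⟨𝓐, ⟨hprop, hcov⟩, hmin, hnil⟩
  obtain ⟨A₁, hA₁, ha₁⟩ := hcov a
  obtain ⟨A₂, hA₂, hb₂⟩ := hcov b
  have hne : A₁ ≠ A₂ := by
    rintro rfl
    exact hab A₁ (hnil A₁ hA₁) ha₁ hb₂
  have hB : (∀ A ∈ insert M ((𝓐.erase A₁).erase A₂), A ≠ ⊤) ∧
      (∀ g : Γ, ∃ A ∈ insert M ((𝓐.erase A₁).erase A₂), g ∈ A) := by
    constructor
    · intro A hA
      rw [Finset.mem_insert] at hA
      rcases hA with rfl | hA
      · exact hM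
      · exact hprop A (Finset.mem_of_mem_erase (Finset.mem_of_mem_erase hA))
    · intro g
      obtain ⟨A, hA, hg⟩ := hcov g
      by_cases h1 : A = A₁
      · exact ⟨M, Finset.mem_insert_self _ _, ha A₁ (hnil _ hA₁) ha₁ (h1 ▸ hg)⟩
      · by_cases h2 : A = A₂
        · exact ⟨M, Finset.mem_insert_self _ _, hb A₂ (hnil _ hA₂) hb₂ (h2 ▸ hg)⟩
        · exact ⟨A, Finset.mem_insert_of_mem
            (Finset.mem_erase.2 ⟨h2, Finset.mem_erase.2 ⟨h1, hA⟩⟩), hg⟩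
  have hcard := hmin _ hB
  have h1 : (insert M ((𝓐.erase A₁).erase A₂)).card ≤ ((𝓐.erase A₁).erase A₂).card + 1 :=
    Finset.card_insert_le _ _
  have h2 : ((𝓐.erase A₁).erase A₂).card = (𝓐.erase A₁).card - 1 :=
    Finset.card_erase_of_mem (Finset.mem_erase.2 ⟨hne.symm, hA₂⟩)
  have h3 : (𝓐.erase A₁).card = 𝓐.card - 1 := Finset.card_erase_of_mem hA₁
  have h4 : 1 < 𝓐.card := Finset.one_lt_card.2 ⟨A₁, hA₁, A₂, hA₂, hne⟩
  omega

theorem ncvmain3_single_ne (m : ℕ) :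
    (Pi.single (Fin.last (m + 2)) 1 : Fin (m + 3) → F) ≠ 0 := by
  intro h
  have := congrFun h (Fin.last (m + 2))
  simp at this

theorem main3 (m : ℕ) (G : Subgroup (GL (Fin (m + 3)) F ⧸ Subgroup.center (GL (Fin (m + 3)) F)))
    (hG : ((Matrix.SpecialLinearGroup.toGL :
      Matrix.SpecialLinearGroup (Fin (m + 3)) F →* GL (Fin (m + 3)) F).range).map
      (QuotientGroup.mk' (Subgroup.center (GL (Fin (m + 3)) F))) ≤ G) :
    ¬ NilMinCover ↥G := by
  refine ncvmain3_merge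
    (down G (stab (Pi.single (Fin.last (m + 2)) 1 : Fin (m + 3) → F)))
    (stab_proper G hG (by omega) _ (ncvmain3_single_ne m))
    ⟨prj (m + 3) F (Matrix.SpecialLinearGroup.toGL (uJSL m)), sl_mem G hG _⟩
    ⟨prj (m + 3) F (Matrix.SpecialLinearGroup.toGL (uJSL' m)), sl_mem G hG _⟩ ?_ ?_ ?_
  · intro A hA ha hb
    have := lift_nilpotent G A hA
    have h1 : Matrix.SpecialLinearGroup.toGL (uJSL m) ∈ lift G A :=
      (mem_lift_iff G A _).2 ⟨sl_mem G hG _, ha⟩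
    have h2 : Matrix.SpecialLinearGroup.toGL (uJSL' m) ∈ lift G A :=
      (mem_lift_iff G A _).2 ⟨sl_mem G hG _, hb⟩
    obtain ⟨c, hc⟩ := ncva11_core (lift G A) _ h1 (Pi.single 0 1 : Fin (m + 3) → F)
      (uJ_row_zero m) (fun w hw => uJ_rowfix m w hw) (fun c w hw h => uJ_roweig m c w hw h) _ h2
    exact uJ'_row0 m c hc
  · intro A hA ha
    have := lift_nilpotent G A hA
    have h1 : Matrix.SpecialLinearGroup.toGL (uJSL m) ∈ lift G A :=
      (mem_lift_iff G A _).2 ⟨sl_mem G hG _, ha⟩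
    exact le_down_of_lift_le G A _ (ncva10_core (lift G A) _ h1 _
      (uJ_last m) (fun w hw => uJ_fix m w hw) (fun c w hw h => uJ_eig m c w hw h))
  · intro A hA hb
    have := lift_nilpotent G A hA
    have h2 : Matrix.SpecialLinearGroup.toGL (uJSL' m) ∈ lift G A :=
      (mem_lift_iff G A _).2 ⟨sl_mem G hG _, hb⟩
    exact le_down_of_lift_le G A _ (ncva10_core (lift G A) _ h2 _
      (uJ'_last m) (fun w hw => uJ'_fix m w hw) (fun c w hw h => uJ'_eig m c w hw h))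

end Cfsg.Agent.Lib.helper7.NCV
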