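import Mathlib
import Cfsg.Agent.S0992
import Cfsg.Agent.Lib.Helper13.O983.Defs

set_option autoImplicit false

namespace Cfsg.Agent.Lib.Helper13.O983

universe u

theorem ns_four (n : ℕ) (h2 : 2 ∣ n) (h8 : ¬ 8 ∣ n) (h3 : ¬ 3 ∣ n) : NoSimple.{u} n := by
  intro G _ _ _ hG hcard
  haveI : Fact (Nat.Prime 2) := ⟨Nat.prime_two⟩
  obtain ⟨T⟩ : Nonempty (Sylow 2 G) := inferInstance
  have h := (Cfsg.Agent.S0992.result hG (by rw [hcard]; exact (even_iff_two_dvd).2 h2)
    (by rw [hcard]; exact h8) T).2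
  have hd : (Subgroup.centralizer ((T : Subgroup G) : Set G)).relIndex
      (Subgroup.normalizer ((T : Subgroup G) : Set G)) ∣ Nat.card G :=
    (Subgroup.relIndex_dvd_card _ _).trans (Subgroup.card_subgroup_dvd_card _)
  rw [h, hcard] at hd
  exact h3 hd

end Cfsg.Agent.Lib.Helper13.O983
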