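import Mathlib
import Cfsg.Agent.S0144
import Cfsg.Agent.Lib.Helper13.O983.Defs

set_option autoImplicit false

namespace Cfsg.Agent.Lib.Helper13.O983

universe u

theorem o983ka_comm_of_solvable {G : Type u} [Group G] [IsSimpleGroup G] (h : IsSolvable G) :
    IsMulCommutative G := by
  have hc := (IsSimpleGroup.comm_iff_isSolvable (G := G)).2 h
  exact ⟨⟨hc⟩⟩

theorem ns_two_primes (n p q a b : ℕ) (hp : p.Prime) (hq : q.Prime) (hn : n = p ^ a * q ^ b) :
    NoSimple.{u} n := by
  intro G _ _ _ hG hcard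
  have hsol : IsSolvable G := Cfsg.Agent.S0144.result p q a b hp hq (by rw [hcard, hn])
  exact hG (o983ka_comm_of_solvable hsol)

end Cfsg.Agent.Lib.Helper13.O983
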