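import Mathlib
import Cfsg.Agent.S0999
import Cfsg.Agent.Lib.helper6.PSL2Index
import Cfsg.Agent.Lib.Helper13.O983.Defs

set_option autoImplicit false

namespace Cfsg.Agent.Lib.Helper13.O983

universe u

theorem o983kh1_not_cyclic {G : Type u} [Group G] (hG : ¬ IsMulCommutative G) : ¬ IsCyclic G := by
  intro hc
  exact hG ⟨⟨fun a b => IsCyclic.commGroup.mul_comm a b⟩⟩

theorem ns_big_prime (n p : ℕ) (hp : p.Prime) (hdvd : p ∣ n) (hbig : n < p ^ 3)
    (h1 : 2 * n ≠ p * (p ^ 2 - 1)) (h2 : n ≠ (p - 1) * ((p - 1) ^ 2 - 1)) : NoSimple.{u} n := by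
  intro G _ _ _ hG hcard
  have hnc := o983kh1_not_cyclic hG
  rcases Cfsg.Agent.S0999.result hnc p hp (by rw [hcard]; exact hdvd) (by rw [hcard]; exact hbig) with
    ⟨F, _, _, hF, h3, ⟨e⟩⟩ | ⟨m, F, _, _, hF, hpm, h3, ⟨e⟩⟩
  · have hc := Cfsg.Agent.Lib.helper6.PSL2Index.card_PSL2_mul (F := F)
    rw [← Nat.card_congr e.toEquiv, hcard, hF] at hc
    have hodd : Nat.gcd 2 (p - 1) = 2 := by
      have hp2 : p ≠ 2 := by omega
      have hpo : p % 2 = 1 := (hp.eq_two_or_odd).resolve_left hp2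
      have : 2 ∣ p - 1 := by omega
      exact Nat.gcd_eq_left this
    rw [hodd] at hc
    apply h1
    rw [← hc, Nat.mul_comm]
  · have hc := Cfsg.Agent.Lib.helper6.PSL2Index.card_PSL2_mul (F := F)
    rw [← Nat.card_congr e.toEquiv, hcard, hF] at hc
    have hm : 2 ≤ m := by
      by_contra hlt
      have : m = 0 ∨ m = 1 := by omega
      rcases this with rfl | rfl <;> simp at hpm <;> omega
    have hgcd : Nat.gcd 2 (2 ^ m - 1) = 1 := by
      have h2m : 2 ∣ 2 ^ m := dvd_pow_self 2 (by omega)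
      have hpos : 1 ≤ 2 ^ m := Nat.one_le_two_pow
      have hodd : (2 ^ m - 1) % 2 = 1 := by omega
      have : Nat.Coprime 2 (2 ^ m - 1) :=
        (Nat.Prime.coprime_iff_not_dvd Nat.prime_two).2 (by omega)
      exact this
    rw [hgcd, Nat.mul_one] at hc
    apply h2
    have : p - 1 = 2 ^ m := by omega
    rw [this, hc]

end Cfsg.Agent.Lib.Helper13.O983
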