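import Mathlib
import Cfsg.Agent.S0991
import Cfsg.Agent.Lib.Helper16.BRSET2
import Cfsg.Agent.Lib.Helper1.BRSET3
import Cfsg.Agent.Lib.Helper13.O983.Defs

set_option autoImplicit false
set_option linter.unusedVariables false
set_option linter.unusedSectionVars false
set_option linter.style.haveILetI false

namespace Cfsg.Agent.Lib.Helper13.O983

open Cfsg.Agent.Lib.helper7 Cfsg.Agent.Lib.helper7.BR

universe u

theorem o983kt_center_ne_top {G : Type u} [Group G] (hG : ¬ IsMulCommutative G) :
    Subgroup.center G ≠ ⊤ := by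
  intro h
  apply hG
  refine ⟨⟨fun a b => ?_⟩⟩
  have ha : a ∈ Subgroup.center G := by rw [h]; exact Subgroup.mem_top a
  rw [Subgroup.mem_center_iff] at ha
  exact (ha b).symm

theorem o983kt_perfect {G : Type u} [Group G] [IsSimpleGroup G] (hG : ¬ IsMulCommutative G) :
    commutator G = ⊤ := by
  have hn : (commutator G).Normal := by
    rw [commutator_def]
    exact Subgroup.commutator_normal ⊤ ⊤
  rcases hn.eq_bot_or_eq_top with h | h
  · exfalso
    rw [commutator_eq_bot_iff_center_eq_top] at h
    exact o983kt_center_ne_top hG h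
  · exact h

theorem o983kt_sylow_card {G : Type u} [Group G] [Fintype G] (p m : ℕ) [Fact p.Prime]
    (hcard : Nat.card G = p * m) (hpm : ¬ p ∣ m) (P : Sylow p G) :
    Nat.card ↥(P : Subgroup G) = p := by
  have hp : p.Prime := Fact.out
  obtain ⟨k, hk⟩ := IsPGroup.iff_card.mp P.isPGroup'
  have hdvd : Nat.card ↥(P : Subgroup G) ∣ p * m := by
    rw [← hcard]
    exact Subgroup.card_subgroup_dvd_card _
  have h5 : p ∣ Nat.card ↥(P : Subgroup G) := P.dvd_card_of_dvd_card (by rw [hcard]; exact dvd_mul_right p m)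
  rcases Nat.lt_or_ge k 2 with hk2 | hk2
  · interval_cases k
    · rw [hk, pow_zero] at h5
      exact absurd (Nat.le_of_dvd Nat.one_pos h5) (by have := hp.two_le; omega)
    · rw [hk, pow_one]
  · exfalso
    have h25 : p ^ 2 ∣ p * m := (pow_dvd_pow p hk2).trans (hk ▸ hdvd)
    rw [pow_two] at h25
    exact hpm (Nat.dvd_of_mul_dvd_mul_left hp.pos h25)

theorem o983kt_not_normal {G : Type u} [Group G] [Fintype G] [IsSimpleGroup G]
    (hG : ¬ IsMulCommutative G) (p : ℕ) [Fact p.Prime] (P : Sylow p G)
    (hP : Nat.card ↥(P : Subgroup G) = p) : ¬ (P : Subgroup G).Normal := by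
  have hp : p.Prime := Fact.out
  intro hN
  rcases hN.eq_bot_or_eq_top with h1 | h1
  · rw [h1, Subgroup.card_bot] at hP
    have := hp.two_le
    omega
  · apply hG
    have hc : Nat.card G = p := by
      rw [← hP, h1, Subgroup.card_top]
    haveI : IsCyclic G := isCyclic_of_prime_card hc
    exact ⟨⟨fun a b => IsCyclic.commGroup.mul_comm a b⟩⟩

theorem ns_transfer (n p m : ℕ) (hp : p.Prime) (hn : n = p * m) (hpm : ¬ p ∣ m)
    (hchk : ChkT n p m) : NoSimple.{u} n := by
  intro G _ _ _ hG hcard
  haveI : Fact p.Prime := ⟨hp⟩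
  obtain ⟨P⟩ : Nonempty (Sylow p G) := inferInstance
  have hP := o983kt_sylow_card p m (by rw [hcard, hn]) hpm P
  have hPn := o983kt_not_normal hG p P hP
  obtain ⟨q, w, k, hq, hq1, hw1, hk1, hrel, hcen, hnrm, hidx, hcidx, hG'⟩ := order_formula P hP hPn
  have hperf := o983kt_perfect hG
  have hne := relIndex_ne_one hperf P hP
  have hm : m = q * w * (1 + k * p) := by
    have h1 : p * m = p * (q * w * (1 + k * p)) := by
      rw [← hn, ← hcard, hG']; ring
    exact Nat.eq_of_mul_eq_mul_left hp.pos h1
  have hd : (k * p + 1) ∣ m := by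
    rw [hm, Nat.add_comm]
    exact dvd_mul_left _ _
  have hk : k < m / p + 1 := by
    have hmpos : 0 < q * w := Nat.mul_pos hq1 hw1
    have : k * p ≤ m := by
      rw [hm]
      calc k * p ≤ 1 + k * p := Nat.le_add_left _ _
        _ = 1 * (1 + k * p) := (Nat.one_mul _).symm
        _ ≤ q * w * (1 + k * p) := Nat.mul_le_mul_right _ hmpos
    have h2 : k ≤ m / p := (Nat.le_div_iff_mul_le hp.pos).2 this
    omega
  rcases hchk k hk hk1 hd with ⟨h39, hnd⟩ | hg
  · have hne_top : nrm P ≠ ⊤ := by
      intro h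
      have : (nrm P).index = 1 := by rw [h]; exact Subgroup.index_top
      rw [hidx] at this
      have hpp := hp.pos
      have : 0 < k * p := Nat.mul_pos hk1 hpp
      omega
    obtain ⟨f, hf⟩ := Cfsg.Agent.S0991.result hG (nrm P) hne_top
    have hdvd : Nat.card G ∣ Nat.card ↥(alternatingGroup (Fin (nrm P).index)) := by
      have e : G ≃ ↥(f.range) := (MonoidHom.ofInjective hf).toEquiv
      rw [Nat.card_congr e]
      exact Subgroup.card_subgroup_dvd_card _
    have hidx' : (nrm P).index = k * p + 1 := by rw [hidx, Nat.add_comm]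
    rw [hidx'] at hdvd
    have hnt : Nontrivial (Fin (k * p + 1)) := by
      have : 0 < k * p := Nat.mul_pos hk1 hp.pos
      exact Fin.nontrivial_iff_two_le.2 (by omega)
    have h2 := two_mul_card_alternatingGroup (α := Fin (k * p + 1))
    have hcA : Nat.card ↥(alternatingGroup (Fin (k * p + 1))) = (k * p + 1).factorial / 2 := by
      rw [Nat.card_eq_fintype_card]
      have : Fintype.card (Equiv.Perm (Fin (k * p + 1))) = (k * p + 1).factorial := by
        rw [Fintype.card_perm, Fintype.card_fin]
      rw [this] at h2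
      omega
    rw [hcA, hcard] at hdvd
    exact hnd hdvd
  · have hmd : m / (k * p + 1) = q * w := by
      rw [hm, Nat.add_comm]
      exact Nat.mul_div_cancel _ (by omega)
    rw [hmd] at hg
    have hq' : q ∣ Nat.gcd (p - 1) (q * w) := Nat.dvd_gcd hq (dvd_mul_right q w)
    rw [hg] at hq'
    have : q = 1 := Nat.dvd_one.1 hq'
    exact hne (by rw [hrel, this])

end Cfsg.Agent.Lib.Helper13.O983
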