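import Mathlib
import Cfsg.Agent.Lib.Helper13.OTS.Defs
import Cfsg.Agent.Lib.helper15.OTSSTDCTX
import Cfsg.Agent.Lib.Helper27.OTSNEGEVEN
import Cfsg.Agent.Lib.helper7.OTSCOUNTDVD

/-!
# Project OTS (S5973 + S5987), rows ODDSUFF, ODDNEC: cores.
The statements of the rows TYTOP, SUFFABS (for ODDSUFF) and NECABS, OMEGAODD (for ODDNEC) at the objects at hand are hypotheses.
-/

set_option autoImplicit false
set_option linter.unusedVariables false
set_option linter.unusedSectionVars false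

namespace Cfsg.Agent.Lib.Helper13.OTS

open Polynomial Module Cfsg.Agent.Lib.Helper13.S5955 Cfsg.Agent.Lib.helper15.S5972

/-- invariance: `SInv (toLin' y) W` is `W.map (toLin' y) ≤ W`. -/
theorem otsodd_sinv_iff {F : Type*} [Field F] {ι : Type} [Fintype ι] [DecidableEq ι]
    (y : Matrix ι ι F) (W : Submodule F (ι → F)) :
    SInv (Matrix.toLin' y) W ↔ W.map (Matrix.toLin' y) ≤ W := by
  constructor
  · rintro h _ ⟨w, hw, rfl⟩
    exact h w hw
  · intro h w hw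
    exact h ⟨w, hw, rfl⟩

/-- a non-degenerate form on a non-trivial space takes a non-zero value. -/
theorem otsodd_ne {F : Type*} [Field F] {ι : Type} [Fintype ι] [DecidableEq ι]
    (Qs : QuadraticForm F (ι → F)) (hnd : (QuadraticMap.polarBilin Qs).Nondegenerate)
    (hcard : 1 ≤ Fintype.card ι) : ∃ v, Qs v ≠ 0 := by
  by_contra hcon
  push Not at hcon
  have hι : Nonempty ι := Fintype.card_pos_iff.mp hcard
  obtain ⟨j⟩ := hι
  have h1 : (Pi.single j (1 : F) : ι → F) = 0 := by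
    apply hnd.1
    intro v
    rw [QuadraticMap.polarBilin_apply_apply]
    unfold QuadraticMap.polar
    rw [hcon, hcon, hcon]
    ring
  have := congrFun h1 j
  rw [Pi.single_eq_same] at this
  exact one_ne_zero this

/-- ODDSUFF core. -/
theorem otsoddsuff_core {F : Type*} [Field F] [Fintype F] {p : ℕ} [Fact p.Prime] [CharP F p]
    {ι : Type} [Fintype ι] [DecidableEq ι] (Qs : QuadraticForm F (ι → F)) (d : ℕ) (ε : ℤ)
    (hs : QStd Qs d ε) (hd : 1 ≤ d) (m : ℕ) (hm : m + 1 ≤ d) (r : ℕ) [Fact r.Prime] (hrp : r ≠ p)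
    (hr2 : r ≠ 2) (i c : ℕ) (hi : i = orderOf ((Fintype.card F : ℕ) : ZMod r))
    (hc : c = if Even i then i else 2 * i) (hC : TSC i c d m ((r - 1) / i) ε)
    (hTYTOP : QTy Qs (⊤ : Submodule F (ι → F)) ε ∧ finrank F (ι → F) = 2 * d ∧
      (∀ u, (∀ v, QuadraticMap.polar Qs u v = 0) → u = 0))
    (hSUFFABS : ∀ x : Module.End F (ι → F), QCtx r Qs x → QTd Qs x m)
    (x : GL ι F) (hx : x ∈ Cfsg.Geo.omegaGL (⇑Qs))
    (hxr : ∃ z : F, ((x ^ r : GL ι F) : Matrix ι ι F) = z • (1 : Matrix ι ι F))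
    (hns : ∀ z : F, (x : Matrix ι ι F) ≠ z • (1 : Matrix ι ι F)) :
    ∃ W : Submodule F (ι → F), finrank F W = m ∧ (∀ w ∈ W, Qs w = 0) ∧
      W.map (Matrix.toLin' (x : Matrix ι ι F)) ≤ W := by
  have hxi := q_omega_le Qs x hx
  have hrodd : Odd r := (Fact.out : r.Prime).odd_of_ne_two hr2
  have hne : ∃ v, Qs v ≠ 0 := otsodd_ne Qs hs.nd (by rw [hs.card]; omega)
  obtain ⟨y, hy, hyr, hy1, hyW⟩ := q_scal_red Qs hne r hrodd x hxi hxr hns
  have hctx := q_std_ctx Qs hs.nd r y hy hyr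
  obtain ⟨W, hWinv, hWs, hWd⟩ := hSUFFABS _ hctx
  refine ⟨W, hWd, hWs, ?_⟩
  rw [← hyW W, ← otsodd_sinv_iff]
  exact hWinv

/-- ODDNEC core. -/
theorem otsoddnec_core {F : Type*} [Field F] [Fintype F] {p : ℕ} [Fact p.Prime] [CharP F p]
    {ι : Type} [Fintype ι] [DecidableEq ι] (Qs : QuadraticForm F (ι → F)) (d : ℕ) (ε : ℤ)
    (hs : QStd Qs d ε) (hd : 4 ≤ d) (m : ℕ) (hm1 : 1 ≤ m) (hm : m + 1 ≤ d) (r : ℕ) [Fact r.Prime]
    (hr2 : r ≠ 2) (hr : r ∣ Nat.card (TSq Qs m)) (i c : ℕ)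
    (hi : i = orderOf ((Fintype.card F : ℕ) : ZMod r)) (hc : c = if Even i then i else 2 * i)
    (hNECABS : r ≠ p → HJ (Fintype.card F) r d m ε →
      (∀ y : Module.End F (ι → F), QCtx r Qs y → y ≠ 1 → QTd Qs y m) → TSC i c d m ((r - 1) / i) ε)
    (hOMEGAODD : ∀ x : GL ι F, x ∈ Cfsg.isometryGroup F (⇑Qs) → x ^ r = 1 →
      x ∈ Cfsg.Geo.omegaGL (⇑Qs))
    (hall : ∀ x : GL ι F, x ∈ Cfsg.Geo.omegaGL (⇑Qs) →
      (∃ z : F, ((x ^ r : GL ι F) : Matrix ι ι F) = z • (1 : Matrix ι ι F)) →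
      (∀ z : F, (x : Matrix ι ι F) ≠ z • (1 : Matrix ι ι F)) →
      ∃ W : Submodule F (ι → F), finrank F W = m ∧ (∀ w ∈ W, Qs w = 0) ∧
        W.map (Matrix.toLin' (x : Matrix ι ι F)) ≤ W) :
    r ≠ p ∧ TSC i c d m ((r - 1) / i) ε := by
  obtain ⟨hrp, hj⟩ := q_count_dvd Qs d ε hs m hm r hr
  refine ⟨hrp, hNECABS hrp hj ?_⟩
  intro y hy hy1
  have hrodd : Odd r := (Fact.out : r.Prime).odd_of_ne_two hr2
  obtain ⟨x, hx, hxy, hxr⟩ := q_realize Qs r y hy
  have hxΩ := hOMEGAODD x hx hxr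
  have hne : ∃ v, Qs v ≠ 0 := otsodd_ne Qs hs.nd (by rw [hs.card]; omega)
  have hns : ∀ z : F, (x : Matrix ι ι F) ≠ z • (1 : Matrix ι ι F) := by
    intro z hz
    obtain ⟨v, hv⟩ := hne
    have hiso := (otsscalred_mem (⇑Qs) x).mp hx v
    rw [hz, Matrix.smul_mulVec, Matrix.one_mulVec, QuadraticMap.map_smul, smul_eq_mul] at hiso
    have hz2 : z * z = 1 := by
      have h3 : (z * z - 1) * Qs v = 0 := by linear_combination hiso
      rcases mul_eq_zero.mp h3 with h4 | h4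
      · exact sub_eq_zero.mp h4
      · exact absurd h4 hv
    have hzr : z ^ r = 1 := by
      have h3 : ((x ^ r : GL ι F) : Matrix ι ι F) = 1 := by rw [hxr]; rfl
      rw [Units.val_pow_eq_pow_val, hz, _root_.smul_pow, one_pow] at h3
      have h4 := congrFun (congrFun h3 (Classical.choice (Fintype.card_pos_iff.mp
        (by rw [hs.card]; omega)))) (Classical.choice (Fintype.card_pos_iff.mp
        (by rw [hs.card]; omega)))
      simpa using h4
    obtain ⟨k, hk⟩ := hrodd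
    have hz1 : z = 1 := by
      have h5 : z ^ r = z := by
        rw [hk, pow_succ, pow_mul, pow_two, hz2, one_pow, one_mul]
      rw [← h5]
      exact hzr
    apply hy1
    rw [← hxy, hz, hz1, one_smul]
    exact Matrix.toLin'_one
  obtain ⟨W, hWd, hWs, hWx⟩ := hall x hxΩ ⟨1, by rw [hxr, one_smul]; rfl⟩ hns
  refine ⟨W, ?_, hWs, hWd⟩
  rw [← hxy, otsodd_sinv_iff]
  exact hWx

end Cfsg.Agent.Lib.Helper13.OTS
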