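import Mathlib
import Cfsg.Agent.Lib.Helper13.OTS.Defs
import Cfsg.Agent.Lib.helper7.OTSODDcore
import Cfsg.Agent.Lib.Helper13.OTSNECABS
import Cfsg.Agent.Lib.helper4.OTSOMEGAODD

/-!
# Project OTS (S5973 + S5987), row ODDNEC (`q_odd_nec`), verbatim from
`Helper13/OTS/Skel.lean.txt`.  (helper7)
-/

set_option autoImplicit false
set_option linter.unusedVariables false

namespace Cfsg.Agent.Lib.Helper13.OTS

open Polynomial Module Cfsg.Agent.Lib.Helper13.S5955 Cfsg.Agent.Lib.helper15.S5972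

/-- ODDNEC [M-L] -/
theorem q_odd_nec {F : Type*} [Field F] [Fintype F] {p : ℕ} [Fact p.Prime] [CharP F p]
    {ι : Type} [Fintype ι] [DecidableEq ι] (Qs : QuadraticForm F (ι → F)) (d : ℕ) (ε : ℤ)
    (hs : QStd Qs d ε) (hd : 4 ≤ d) (m : ℕ) (hm1 : 1 ≤ m) (hm : m + 1 ≤ d) (r : ℕ) [Fact r.Prime]
    (hr2 : r ≠ 2) (hr : r ∣ Nat.card (TSq Qs m)) (i c : ℕ)
    (hi : i = orderOf ((Fintype.card F : ℕ) : ZMod r)) (hc : c = if Even i then i else 2 * i)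
    (hall : ∀ x : GL ι F, x ∈ Cfsg.Geo.omegaGL (⇑Qs) →
      (∃ z : F, ((x ^ r : GL ι F) : Matrix ι ι F) = z • (1 : Matrix ι ι F)) →
      (∀ z : F, (x : Matrix ι ι F) ≠ z • (1 : Matrix ι ι F)) →
      ∃ W : Submodule F (ι → F), finrank F W = m ∧ (∀ w ∈ W, Qs w = 0) ∧
        W.map (Matrix.toLin' (x : Matrix ι ι F)) ≤ W) :
    r ≠ p ∧ TSC i c d m ((r - 1) / i) ε := by
  have hrodd : Odd r := (Fact.out : r.Prime).odd_of_ne_two hr2
  exact otsoddnec_core Qs d ε hs hd m hm1 hm r hr2 hr i c hi hc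
    (fun hrp hj hall' => q_nec_abs Qs d ε hs r hrp hr2 m i c hi hc hm1 hm hj hall')
    (fun x hx hxr => q_omega_of_odd Qs hs.nd (by rw [hs.card]; omega) x hx r hrodd hxr) hall

end Cfsg.Agent.Lib.Helper13.OTS
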