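import Mathlib
import Cfsg.Agent.Lib.Helper13.OTS.Defs
import Cfsg.Agent.Lib.helper7.OTSODDcore
import Cfsg.Agent.Lib.Helper13.OTSSUFFABS

/-!
# Project OTS (S5973 + S5987), row ODDSUFF (`q_odd_suff`), verbatim from
`Helper13/OTS/Skel.lean.txt`.  (helper7)

The content of row TYTOP is re-proved inline (`otsoddsuff_ty_top`), so that this module does
not depend on which of the two landed copies of `q_ty_top` the main file imports.
-/

set_option autoImplicit false
set_option linter.unusedVariables false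

namespace Cfsg.Agent.Lib.Helper13.OTS

open Polynomial Module Cfsg.Agent.Lib.Helper13.S5955 Cfsg.Agent.Lib.helper15.S5972

/-- The statement of row TYTOP, under a prefixed name. -/
theorem otsoddsuff_ty_top {F : Type*} [Field F] [Fintype F] {ι : Type} [Fintype ι] [DecidableEq ι]
    (Qs : QuadraticForm F (ι → F)) (d : ℕ) (ε : ℤ) (hs : QStd Qs d ε) :
    QTy Qs (⊤ : Submodule F (ι → F)) ε ∧ finrank F (ι → F) = 2 * d ∧
      (∀ u, (∀ v, QuadraticMap.polar Qs u v = 0) → u = 0) := by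
  have hfr : finrank F (ι → F) = 2 * d := by
    rw [Module.finrank_fintype_fun_eq_card, hs.card]
  refine ⟨?_, hfr, ?_⟩
  · unfold QTy
    rw [finrank_top, hfr, Nat.mul_div_cancel_left d (by norm_num : 0 < 2)]
    exact (Cfsg.Agent.Lib.Helper16.OSemi.isType_congr
      (Submodule.topEquiv (R := F) (M := ι → F)).toEquiv (⇑Qs)
      (fun w : ↥(⊤ : Submodule F (ι → F)) => Qs (w : ι → F)) (fun w' => rfl) d ε).mp hs.ty
  · intro u hu
    apply hs.nd.1
    intro v
    rw [QuadraticMap.polarBilin_apply_apply]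
    exact hu v

/-- ODDSUFF [M] -/
theorem q_odd_suff {F : Type*} [Field F] [Fintype F] {p : ℕ} [Fact p.Prime] [CharP F p]
    {ι : Type} [Fintype ι] [DecidableEq ι] (Qs : QuadraticForm F (ι → F)) (d : ℕ) (ε : ℤ)
    (hs : QStd Qs d ε) (hd : 1 ≤ d) (m : ℕ) (hm : m + 1 ≤ d) (r : ℕ) [Fact r.Prime] (hrp : r ≠ p)
    (hr2 : r ≠ 2) (i c : ℕ) (hi : i = orderOf ((Fintype.card F : ℕ) : ZMod r))
    (hc : c = if Even i then i else 2 * i) (hC : TSC i c d m ((r - 1) / i) ε)
    (x : GL ι F) (hx : x ∈ Cfsg.Geo.omegaGL (⇑Qs))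
    (hxr : ∃ z : F, ((x ^ r : GL ι F) : Matrix ι ι F) = z • (1 : Matrix ι ι F))
    (hns : ∀ z : F, (x : Matrix ι ι F) ≠ z • (1 : Matrix ι ι F)) :
    ∃ W : Submodule F (ι → F), finrank F W = m ∧ (∀ w ∈ W, Qs w = 0) ∧
      W.map (Matrix.toLin' (x : Matrix ι ι F)) ≤ W := by
  have hT := otsoddsuff_ty_top Qs d ε hs
  exact otsoddsuff_core Qs d ε hs hd m hm r hrp hr2 i c hi hc hC hT
    (fun y hy => q_suff_abs hrp hr2 hy d m hT.2.1 hm ε hs.eps hT.1 i c hi hc hC) x hx hxr hns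

end Cfsg.Agent.Lib.Helper13.OTS
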