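import Mathlib
import Cfsg.Agent.Lib.Helper24.SigmaParity3
import Cfsg.Agent.Lib.Helper25.CharOrth
import Cfsg.Agent.Lib.helper7.BlockDefect2

/-!
Groups all of whose irreducible characters have odd degree: a nontrivial real element that is not
an involution has a centralizer of even order (when the group has an involution).
-/

set_option autoImplicit false
set_option linter.style.haveILetI false
set_option linter.unusedVariables false

namespace Cfsg.Agent.Lib.helper7
open scoped ComplexConjugate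
open Cfsg.Agent.Lib.helper2
open Cfsg.Agent.Lib.Helper25
open Cfsg.Agent.Lib.Helper24

/-- the value of a character at an involution differs from the degree by an even integer -/
theorem h7_od_invol_parity {G : Type*} [Group G] [Finite G] (χ : Cfsg.IrrCharacter G) (t : G)
    (ht : orderOf t = 2) : ∃ m : ℕ, (χ : G → ℂ) t = (χ : G → ℂ) 1 - 2 * (m : ℂ) := by
  classical
  obtain ⟨s, c, hs, hk⟩ := sp_char_pow_expansion (isCharacter_of_irr χ) t
  have h0 := hk 0
  have h1 := hk 1
  rw [pow_zero] at h0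
  rw [pow_one] at h1
  refine ⟨if (-1 : ℂ) ∈ s then c (-1) else 0, ?_⟩
  rw [h0, h1]
  have key : ∀ z ∈ s, (c z : ℂ) * z ^ 1 =
      (c z : ℂ) * z ^ 0 - (if z = -1 then 2 * (c z : ℂ) else 0) := by
    intro z hz
    have hz2 : z ^ 2 = 1 := by
      rw [← ht]
      exact hs z hz
    rcases sq_eq_one_iff.mp hz2 with h | h
    · rw [h, if_neg (by norm_num)]
      ring
    · rw [h, if_pos rfl]
      ring
  rw [Finset.sum_congr rfl key, Finset.sum_sub_distrib, Finset.sum_ite_eq' s (-1 : ℂ)]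
  congr 1
  split_ifs <;> simp

/-- squares of sums modulo 2 -/
theorem h7_od_sq_sum {ι : Type*} (s : Finset ι) (a : ι → ℂ) (ha : ∀ i ∈ s, IsIntegral ℤ (a i)) :
    ∃ γ : ℂ, IsIntegral ℤ γ ∧ (∑ i ∈ s, a i) ^ 2 = ∑ i ∈ s, a i ^ 2 + 2 * γ := by
  classical
  induction s using Finset.induction_on with
  | empty => exact ⟨0, isIntegral_zero, by simp⟩
  | insert i s hi ih =>
    obtain ⟨γ, hγ, hsq⟩ := ih (fun j hj => ha j (Finset.mem_insert_of_mem hj))
    have hS : IsIntegral ℤ (∑ j ∈ s, a j) :=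
      IsIntegral.sum _ (fun j hj => ha j (Finset.mem_insert_of_mem hj))
    refine ⟨a i * (∑ j ∈ s, a j) + γ, ((ha i (Finset.mem_insert_self i s)).mul hS).add hγ, ?_⟩
    rw [Finset.sum_insert hi, Finset.sum_insert hi, add_sq, hsq]
    ring

/-- an integer that is twice an algebraic integer is even -/
theorem h7_od_even_of_integral (n : ℕ) (γ : ℂ) (hγ : IsIntegral ℤ γ) (h : (n : ℂ) = 2 * γ) :
    Even n := by
  have hq : γ = algebraMap ℚ ℂ ((n : ℚ) / 2) := by
    rw [map_div₀, map_natCast, map_ofNat]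
    rw [h]
    ring
  rw [hq] at hγ
  have h2 : IsIntegral ℤ ((n : ℚ) / 2) :=
    (isIntegral_algebraMap_iff (algebraMap ℚ ℂ).injective).mp hγ
  obtain ⟨y, hy⟩ := IsIntegrallyClosed.isIntegral_iff.mp h2
  have h3 : ((2 * y : ℤ) : ℚ) = ((n : ℤ) : ℚ) := by
    push_cast
    have : (algebraMap ℤ ℚ) y = (y : ℚ) := rfl
    rw [this] at hy
    rw [hy]
    ring
  have h4 : 2 * y = (n : ℤ) := by exact_mod_cast h3
  have h5 : Even (n : ℤ) := ⟨y, by omega⟩
  exact (Int.even_coe_nat n).mp h5

/-- **main lemma**: all degrees odd, `t` an involution, `u` a real element not conjugate to `t`: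
the centralizer of `u` has even order -/
theorem h7_od_main {G : Type*} [Group G] [Finite G]
    (hodd : ∀ χ : Cfsg.IrrCharacter G, Odd (Cfsg.charDegree (χ : G → ℂ)))
    (t : G) (ht : orderOf t = 2) (u g : G) (hu : g * u * g⁻¹ = u⁻¹) (hut : ¬ IsConj u t) :
    Even (Nat.card (Subgroup.centralizer ({u} : Set G))) := by
  classical
  haveI : Fintype G := Fintype.ofFinite _
  haveI : Fintype (Cfsg.IrrCharacter G) := Fintype.ofFinite _
  -- values at `u` are real
  have hreal : ∀ χ : Cfsg.IrrCharacter G, conj ((χ : G → ℂ) u) = (χ : G → ℂ) u := by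
    intro χ
    rw [← irr_inv, ← hu, irr_conj_invariant]
  -- values at `t`
  have hval : ∀ χ : Cfsg.IrrCharacter G, ∃ n : ℤ, (χ : G → ℂ) t = 2 * (n : ℂ) + 1 := by
    intro χ
    obtain ⟨m, hm⟩ := h7_od_invol_parity χ t ht
    obtain ⟨k, hk⟩ := hodd χ
    have h1 := (h7_charDegree_props χ).2.2
    refine ⟨(k : ℤ) - (m : ℤ), ?_⟩
    rw [hm, ← h1, hk]
    push_cast
    ring
  choose n hn using hval
  -- column orthogonality
  have horth := irr_column_orthogonality (G := G) t u
  rw [if_neg hut] at horth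
  have hA : ∑ χ : Cfsg.IrrCharacter G, (χ : G → ℂ) u =
      2 * (-∑ χ : Cfsg.IrrCharacter G, (n χ : ℂ) * (χ : G → ℂ) u) := by
    have : ∑ χ : Cfsg.IrrCharacter G, (χ : G → ℂ) t * conj ((χ : G → ℂ) u) =
        2 * (∑ χ : Cfsg.IrrCharacter G, (n χ : ℂ) * (χ : G → ℂ) u) +
          ∑ χ : Cfsg.IrrCharacter G, (χ : G → ℂ) u := by
      rw [Finset.mul_sum, ← Finset.sum_add_distrib]
      refine Finset.sum_congr rfl fun χ _ => ?_
      rw [hreal χ, hn χ]
      ring
    rw [this] at horth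
    linear_combination horth
  have hβ : IsIntegral ℤ (-∑ χ : Cfsg.IrrCharacter G, (n χ : ℂ) * (χ : G → ℂ) u) := by
    apply IsIntegral.neg
    apply IsIntegral.sum
    intro χ _
    exact (isIntegral_algebraMap (R := ℤ) (A := ℂ) (x := n χ)).mul (irr_integral χ u)
  set β := -∑ χ : Cfsg.IrrCharacter G, (n χ : ℂ) * (χ : G → ℂ) u with hβdef
  -- the norm
  have hnorm := irr_column_orthogonality (G := G) u u
  rw [if_pos (IsConj.refl u)] at hnorm
  have hnorm' : ∑ χ : Cfsg.IrrCharacter G, (χ : G → ℂ) u ^ 2 =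
      (Nat.card (Subgroup.centralizer ({u} : Set G)) : ℂ) := by
    rw [← hnorm]
    refine Finset.sum_congr rfl fun χ _ => ?_
    rw [hreal χ, sq]
  obtain ⟨γ, hγ, hsq⟩ := h7_od_sq_sum Finset.univ (fun χ : Cfsg.IrrCharacter G => (χ : G → ℂ) u)
    (fun χ _ => irr_integral χ u)
  rw [hA, hnorm'] at hsq
  apply h7_od_even_of_integral _ (2 * β ^ 2 - γ)
  · exact ((isIntegral_algebraMap (R := ℤ) (A := ℂ) (x := 2)).mul (hβ.pow 2)).sub hγ
  · linear_combination -hsq

end Cfsg.Agent.Lib.helper7
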