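import Mathlib
import Cfsg.Prelude.Def_ChevAutomorphisms
import Cfsg.Prelude.Def_ChevE6
import Cfsg.Prelude.Def_ChevE7
import Cfsg.Prelude.Def_ChevE8

set_option autoImplicit false

/-!
Symmetries of the Dynkin diagrams of type `E_7` and `E_8`: only the identity.
-/

namespace Cfsg.Agent.Lib.helper7.OutE

open Cfsg.Lie Cfsg.Lie.ChevalleyDatum

/-- The number of neighbours of a node of the diagram. -/
def deg (D : ChevalleyDatum) (i : Fin D.rank) : ℕ :=
  (Finset.univ.filter fun j : Fin D.rank => j ≠ i ∧ D.bonds i j ≠ 0).card

lemma deg_perm (D : ChevalleyDatum) (π : Equiv.Perm (Fin D.rank)) (hπ : D.IsDiagramSymmetry π)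
    (i : Fin D.rank) : deg D (π i) = deg D i := by
  unfold deg
  symm
  refine Finset.card_bij (fun j _ => π j) ?_ ?_ ?_
  · intro j hj
    rw [Finset.mem_filter] at hj ⊢
    refine ⟨Finset.mem_univ _, fun h => hj.2.1 (π.injective h), ?_⟩
    rw [hπ i j (Ne.symm hj.2.1)]
    exact hj.2.2
  · intro a _ b _ h
    exact π.injective h
  · intro b hb
    rw [Finset.mem_filter] at hb
    refine ⟨π.symm b, ?_, π.apply_symm_apply b⟩
    rw [Finset.mem_filter]
    have hne : π.symm b ≠ i := by
      intro h
      apply hb.2.1
      rw [← h, π.apply_symm_apply]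
    refine ⟨Finset.mem_univ _, hne, ?_⟩
    rw [← hπ i (π.symm b) (Ne.symm hne), π.apply_symm_apply]
    exact hb.2.2

lemma bonds_perm (D : ChevalleyDatum) (π : Equiv.Perm (Fin D.rank)) (hπ : D.IsDiagramSymmetry π)
    (i j : Fin D.rank) (hij : i ≠ j) : D.bonds (π i) (π j) = D.bonds i j := hπ i j hij

section E8

/-- The bonds of the diagram of type `E_8`, on `Fin 8`. -/
def b8 (i j : Fin 8) : ℤ := chevE8.bonds i.val j.val

/-- The degrees of the diagram of type `E_8`, on `Fin 8`. -/
def d8 (i : Fin 8) : ℕ := (Finset.univ.filter fun j : Fin 8 => j ≠ i ∧ b8 i j ≠ 0).card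

theorem e8_symm (π : Equiv.Perm (Fin 8)) (hπ : chevE8.IsDiagramSymmetry π) : π = 1 := by
  have hd : ∀ i : Fin 8, d8 (π i) = d8 i := deg_perm chevE8 π hπ
  have hb : ∀ i j : Fin 8, i ≠ j → b8 (π i) (π j) = b8 i j := hπ
  have h3 : π 3 = 3 := by
    have := hd 3
    revert this
    generalize π 3 = k
    revert k
    decide +kernel
  have h1 : π 1 = 1 := by
    have e1 := hd 1
    have e2 := hb 1 3 (by decide)
    rw [h3] at e2
    revert e1 e2
    generalize π 1 = k
    revert k
    decide +kernel
  have h45 : π 4 = 4 ∧ π 5 = 5 := by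
    have e1 := hd 4
    have e2 := hb 4 3 (by decide)
    have e3 := hb 5 4 (by decide)
    have e4 := hb 5 3 (by decide)
    have e5 := hd 5
    rw [h3] at e2 e4
    revert e1 e2 e3 e4 e5
    generalize π 4 = k
    generalize π 5 = l
    revert k l
    decide +kernel
  have h2 : π 2 = 2 := by
    have e1 := hd 2
    have e2 := hb 2 3 (by decide)
    have e3 : π 2 ≠ π 4 := fun h => absurd (π.injective h) (by decide)
    rw [h3] at e2
    rw [h45.1] at e3
    revert e1 e2 e3
    generalize π 2 = k
    revert k
    decide +kernel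
  have h0 : π 0 = 0 := by
    have e1 := hd 0
    have e2 := hb 0 2 (by decide)
    rw [h2] at e2
    revert e1 e2
    generalize π 0 = k
    revert k
    decide +kernel
  have h6 : π 6 = 6 := by
    have e2 := hb 6 5 (by decide)
    have e3 : π 6 ≠ π 4 := fun h => absurd (π.injective h) (by decide)
    rw [h45.2] at e2
    rw [h45.1] at e3
    revert e2 e3
    generalize π 6 = k
    revert k
    decide +kernel
  have h7 : π 7 = 7 := by
    have e2 := hb 7 6 (by decide)
    have e3 : π 7 ≠ π 5 := fun h => absurd (π.injective h) (by decide)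
    rw [h6] at e2
    rw [h45.2] at e3
    revert e2 e3
    generalize π 7 = k
    revert k
    decide +kernel
  ext i
  fin_cases i
  · exact congrArg Fin.val h0
  · exact congrArg Fin.val h1
  · exact congrArg Fin.val h2
  · exact congrArg Fin.val h3
  · exact congrArg Fin.val h45.1
  · exact congrArg Fin.val h45.2
  · exact congrArg Fin.val h6
  · exact congrArg Fin.val h7

end E8

section E7

/-- The bonds of the diagram of type `E_7`, on `Fin 7`. -/
def b7 (i j : Fin 7) : ℤ := chevE7.bonds i.val j.val

/-- The degrees of the diagram of type `E_7`, on `Fin 7`. -/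
def d7 (i : Fin 7) : ℕ := (Finset.univ.filter fun j : Fin 7 => j ≠ i ∧ b7 i j ≠ 0).card

theorem e7_symm (π : Equiv.Perm (Fin 7)) (hπ : chevE7.IsDiagramSymmetry π) : π = 1 := by
  have hd : ∀ i : Fin 7, d7 (π i) = d7 i := deg_perm chevE7 π hπ
  have hb : ∀ i j : Fin 7, i ≠ j → b7 (π i) (π j) = b7 i j := hπ
  have h3 : π 3 = 3 := by
    have := hd 3
    revert this
    generalize π 3 = k
    revert k
    decide +kernel
  have h1 : π 1 = 1 := by
    have e1 := hd 1
    have e2 := hb 1 3 (by decide)
    rw [h3] at e2
    revert e1 e2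
    generalize π 1 = k
    revert k
    decide +kernel
  have h45 : π 4 = 4 ∧ π 5 = 5 := by
    have e1 := hd 4
    have e2 := hb 4 3 (by decide)
    have e3 := hb 5 4 (by decide)
    have e4 := hb 5 3 (by decide)
    have e5 := hd 5
    rw [h3] at e2 e4
    revert e1 e2 e3 e4 e5
    generalize π 4 = k
    generalize π 5 = l
    revert k l
    decide +kernel
  have h2 : π 2 = 2 := by
    have e1 := hd 2
    have e2 := hb 2 3 (by decide)
    have e3 : π 2 ≠ π 4 := fun h => absurd (π.injective h) (by decide)
    rw [h3] at e2
    rw [h45.1] at e3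
    revert e1 e2 e3
    generalize π 2 = k
    revert k
    decide +kernel
  have h0 : π 0 = 0 := by
    have e1 := hd 0
    have e2 := hb 0 2 (by decide)
    rw [h2] at e2
    revert e1 e2
    generalize π 0 = k
    revert k
    decide +kernel
  have h6 : π 6 = 6 := by
    have e2 := hb 6 5 (by decide)
    have e3 : π 6 ≠ π 4 := fun h => absurd (π.injective h) (by decide)
    rw [h45.2] at e2
    rw [h45.1] at e3
    revert e2 e3
    generalize π 6 = k
    revert k
    decide +kernel
  ext i
  fin_cases i
  · exact congrArg Fin.val h0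
  · exact congrArg Fin.val h1
  · exact congrArg Fin.val h2
  · exact congrArg Fin.val h3
  · exact congrArg Fin.val h45.1
  · exact congrArg Fin.val h45.2
  · exact congrArg Fin.val h6

end E7

section E6

/-- The bonds of the diagram of type `E_6`, on `Fin 6`. -/
def b6 (i j : Fin 6) : ℤ := chevE6.bonds i.val j.val

/-- The degrees of the diagram of type `E_6`, on `Fin 6`. -/
def d6 (i : Fin 6) : ℕ := (Finset.univ.filter fun j : Fin 6 => j ≠ i ∧ b6 i j ≠ 0).card

/-- The nontrivial symmetry of the diagram of type `E_6`. -/
def e6flip : Equiv.Perm (Fin 6) := Equiv.swap 0 5 * Equiv.swap 2 4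

theorem e6_symm (π : Equiv.Perm (Fin 6)) (hπ : chevE6.IsDiagramSymmetry π) :
    π = 1 ∨ π = e6flip := by
  have hd : ∀ i : Fin 6, d6 (π i) = d6 i := deg_perm chevE6 π hπ
  have hb : ∀ i j : Fin 6, i ≠ j → b6 (π i) (π j) = b6 i j := hπ
  have h3 : π 3 = 3 := by
    have := hd 3
    revert this
    generalize π 3 = k
    revert k
    decide +kernel
  have h1 : π 1 = 1 := by
    have e1 := hd 1
    have e2 := hb 1 3 (by decide)
    rw [h3] at e2
    revert e1 e2
    generalize π 1 = k
    revert k
    decide +kernel
  have h2 : π 2 = 2 ∨ π 2 = 4 := by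
    have e1 := hd 2
    have e2 := hb 2 3 (by decide)
    rw [h3] at e2
    revert e1 e2
    generalize π 2 = k
    revert k
    decide +kernel
  have h4 : π 4 = 2 ∨ π 4 = 4 := by
    have e1 := hd 4
    have e2 := hb 4 3 (by decide)
    rw [h3] at e2
    revert e1 e2
    generalize π 4 = k
    revert k
    decide +kernel
  have h24 : π 2 ≠ π 4 := fun h => absurd (π.injective h) (by decide)
  rcases h2 with h2 | h2
  · left
    have h4' : π 4 = 4 := by
      rcases h4 with h4 | h4
      · exact absurd (h2.trans h4.symm) h24
      · exact h4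
    have h0 : π 0 = 0 := by
      have e1 := hd 0
      have e2 := hb 0 2 (by decide)
      rw [h2] at e2
      revert e1 e2
      generalize π 0 = k
      revert k
      decide +kernel
    have h5 : π 5 = 5 := by
      have e1 := hd 5
      have e2 := hb 5 4 (by decide)
      rw [h4'] at e2
      revert e1 e2
      generalize π 5 = k
      revert k
      decide +kernel
    ext i
    fin_cases i
    · exact congrArg Fin.val h0
    · exact congrArg Fin.val h1
    · exact congrArg Fin.val h2
    · exact congrArg Fin.val h3
    · exact congrArg Fin.val h4'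
    · exact congrArg Fin.val h5
  · right
    have h4' : π 4 = 2 := by
      rcases h4 with h4 | h4
      · exact h4
      · exact absurd (h2.trans h4.symm) h24
    have h0 : π 0 = 5 := by
      have e1 := hd 0
      have e2 := hb 0 2 (by decide)
      rw [h2] at e2
      revert e1 e2
      generalize π 0 = k
      revert k
      decide +kernel
    have h5 : π 5 = 0 := by
      have e1 := hd 5
      have e2 := hb 5 4 (by decide)
      rw [h4'] at e2
      revert e1 e2
      generalize π 5 = k
      revert k
      decide +kernel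
    ext i
    fin_cases i
    · exact (congrArg Fin.val h0).trans (by decide)
    · exact (congrArg Fin.val h1).trans (by decide)
    · exact (congrArg Fin.val h2).trans (by decide)
    · exact (congrArg Fin.val h3).trans (by decide)
    · exact (congrArg Fin.val h4').trans (by decide)
    · exact (congrArg Fin.val h5).trans (by decide)

end E6

end Cfsg.Agent.Lib.helper7.OutE
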