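import Mathlib
import Cfsg.Prelude.Def_ChevAutomorphisms
import Cfsg.Prelude.Def_ChevE6
import Cfsg.Prelude.Def_ChevE7
import Cfsg.Prelude.Def_ChevE8

set_option autoImplicit false

/-!
Table checks on the root data of type `E_6`, `E_7`, `E_8`: additivity of the root coefficients and of
the Cartan integers along root sums, generation of the roots from the fundamental ones, and the
characters of the root lattice these give.
-/

namespace Cfsg.Agent.Lib.helper7.OutE

open Cfsg.Lie Cfsg.Lie.ChevalleyDatum

universe u

/-- The coefficient of the root `r` at node `j` (all roots have the same length in our use). -/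
def coef (D : ChevalleyDatum) (r j : ℕ) : ℤ := (D.coroot.getD r #[]).getD j 0

/-- The Cartan integer `A_{p_j, r}` with the arguments in the order of `coef`. -/
def cart (D : ChevalleyDatum) (r j : ℕ) : ℤ := D.cartan j r

/-- The height of a root. -/
def ht (D : ChevalleyDatum) (r : ℕ) : ℤ := ((List.range D.rank).map (coef D r)).sum

theorem chainEntry_cases (D : ChevalleyDatum) (r s : ℕ) :
    D.chainEntry r s = [] ∨
      ∃ e ∈ (D.chain.getD r #[]).toList, e.1 = s ∧ D.chainEntry r s = e.2.toList := by
  unfold ChevalleyDatum.chainEntry
  cases h : List.find? (fun e => decide (e.1 = s)) (D.chain.getD r #[]).toList with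
  | none => left; rfl
  | some e =>
    right
    refine ⟨e, List.mem_of_find?_eq_some h, ?_, rfl⟩
    have := List.find?_some h
    simpa using this

/-- A function of (root, node) is additive along root sums and odd. -/
def addChk (D : ChevalleyDatum) (c : ℕ → ℕ → ℤ) : Bool :=
  (List.range D.nroots).all fun r =>
    ((List.range D.rank).all fun j => c (D.neg r) j == - c r j) &&
    (D.chain.getD r #[]).toList.all fun e =>
      match e.2.toList with
      | [] => true
      | (k, _) :: _ => (List.range D.rank).all fun j => c k j == c r j + c e.1 j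

theorem addChk_neg (D : ChevalleyDatum) (c : ℕ → ℕ → ℤ) (h : addChk D c = true) (r : ℕ)
    (hr : r < D.nroots) (j : ℕ) (hj : j < D.rank) : c (D.neg r) j = - c r j := by
  unfold addChk at h
  rw [List.all_eq_true] at h
  have h1 := h r (List.mem_range.mpr hr)
  rw [Bool.and_eq_true, List.all_eq_true] at h1
  have h2 := h1.1 j (List.mem_range.mpr hj)
  simpa using h2

theorem addChk_add (D : ChevalleyDatum) (c : ℕ → ℕ → ℤ) (h : addChk D c = true) (r s k : ℕ)
    (hr : r < D.nroots) (hk : D.chainRoot r s 1 = some k) (j : ℕ) (hj : j < D.rank) :
    c k j = c r j + c s j := by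
  unfold addChk at h
  rw [List.all_eq_true] at h
  have h1 := h r (List.mem_range.mpr hr)
  rw [Bool.and_eq_true, List.all_eq_true, List.all_eq_true] at h1
  unfold ChevalleyDatum.chainRoot at hk
  rcases chainEntry_cases D r s with h0 | ⟨e, he, hes, hce⟩
  · rw [h0] at hk
    simp at hk
  · rw [hce] at hk
    have h2 := h1.2 e he
    cases hl : e.2.toList with
    | nil =>
      rw [hl] at hk
      simp at hk
    | cons a l =>
      rw [hl] at hk h2
      obtain ⟨k', m⟩ := a
      have hk' : k' = k := by simpa using hk
      subst hk'
      simp only [List.all_eq_true, List.mem_range, beq_iff_eq] at h2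
      rw [← hes]
      exact h2 j hj

/-- Every root is obtained from the fundamental roots by root sums with a fundamental root and by
negation. -/
def genChk (D : ChevalleyDatum) : Bool :=
  ((List.range D.rank).all fun i => decide (D.simple i < D.nroots)) &&
  (List.range D.nroots).all fun k =>
    if 0 < ht D k then
      ((List.range D.rank).any fun i => D.simple i == k) ||
      ((List.range D.rank).any fun i =>
        match D.chainRoot (D.neg (D.simple i)) k 1 with
        | none => false
        | some s => decide (s < D.nroots) && decide (0 < ht D s) && decide (ht D s < ht D k) &&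
            (D.chainRoot (D.simple i) s 1 == some k))
    else decide (0 < ht D (D.neg k)) && decide (D.neg k < D.nroots) && decide (D.neg (D.neg k) = k)

theorem genChk_simple (D : ChevalleyDatum) (h : genChk D = true) (i : ℕ) (hi : i < D.rank) :
    D.simple i < D.nroots := by
  unfold genChk at h
  rw [Bool.and_eq_true, List.all_eq_true] at h
  have := h.1 i (List.mem_range.mpr hi)
  simpa using this

theorem root_induction (D : ChevalleyDatum) (h : genChk D = true) (P : ℕ → Prop)
    (hs : ∀ i < D.rank, P (D.simple i))
    (ha : ∀ r s k, r < D.nroots → s < D.nroots → D.chainRoot r s 1 = some k → P r → P s → P k)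
    (hn : ∀ r < D.nroots, P r → P (D.neg r)) : ∀ k < D.nroots, P k := by
  have hsim := genChk_simple D h
  unfold genChk at h
  rw [Bool.and_eq_true, List.all_eq_true, List.all_eq_true] at h
  have hk := h.2
  have pos : ∀ n : ℕ, ∀ k < D.nroots, 0 < ht D k → (ht D k).toNat ≤ n → P k := by
    intro n
    induction n with
    | zero =>
      intro k _ hpos hle
      omega
    | succ n ih =>
      intro k hkn hpos hle
      have h1 := hk k (List.mem_range.mpr hkn)
      rw [if_pos hpos, Bool.or_eq_true, List.any_eq_true, List.any_eq_true] at h1
      rcases h1 with ⟨i, hi, hik⟩ | ⟨i, hi, hik⟩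
      · rw [List.mem_range] at hi
        have : D.simple i = k := by simpa using hik
        rw [← this]
        exact hs i hi
      · rw [List.mem_range] at hi
        cases hc : D.chainRoot (D.neg (D.simple i)) k 1 with
        | none =>
          rw [hc] at hik
          simp at hik
        | some s =>
          rw [hc] at hik
          simp only [Bool.and_eq_true, decide_eq_true_eq, beq_iff_eq] at hik
          obtain ⟨⟨⟨hsn, hs0⟩, hsk⟩, hch⟩ := hik
          have hPs : P s := ih s hsn hs0 (by omega)
          exact ha _ _ _ (hsim i hi) hsn hch (hs i hi) hPs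
  intro k hkn
  by_cases hpos : 0 < ht D k
  · exact pos _ k hkn hpos le_rfl
  · have h1 := hk k (List.mem_range.mpr hkn)
    rw [if_neg hpos] at h1
    simp only [Bool.and_eq_true, decide_eq_true_eq] at h1
    obtain ⟨⟨h2, h3⟩, h4⟩ := h1
    have := hn _ h3 (pos _ _ h3 h2 le_rfl)
    rwa [h4] at this

/-- The coefficients of the fundamental roots. -/
def simpChk (D : ChevalleyDatum) : Bool :=
  (List.range D.rank).all fun i => (List.range D.rank).all fun j =>
    coef D (D.simple i) j == if i = j then 1 else 0

theorem simpChk_spec (D : ChevalleyDatum) (h : simpChk D = true) (i j : ℕ) (hi : i < D.rank)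
    (hj : j < D.rank) : coef D (D.simple i) j = if i = j then 1 else 0 := by
  unfold simpChk at h
  rw [List.all_eq_true] at h
  have h1 := h i (List.mem_range.mpr hi)
  rw [List.all_eq_true] at h1
  have h2 := h1 j (List.mem_range.mpr hj)
  simpa using h2

section characters

variable {F : Type u} [Field F]

/-- The function on root indices with exponents `c` and base `a`. -/
def chi (D : ChevalleyDatum) (c : ℕ → ℕ → ℤ) (a : Fin D.rank → Fˣ) (r : ℕ) : Fˣ :=
  ∏ j : Fin D.rank, a j ^ c r j.val

theorem chi_isRootCharacter (D : ChevalleyDatum) (c : ℕ → ℕ → ℤ) (h : addChk D c = true)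
    (a : Fin D.rank → Fˣ) : D.IsRootCharacter (chi D c a) := by
  constructor
  · intro r hr
    unfold chi
    rw [← Finset.prod_inv_distrib]
    apply Finset.prod_congr rfl
    intro j _
    rw [addChk_neg D c h r hr j.val j.2, zpow_neg]
  · intro r s k hr _ hk
    unfold chi
    rw [← Finset.prod_mul_distrib]
    apply Finset.prod_congr rfl
    intro j _
    rw [addChk_add D c h r s k hr hk j.val j.2, zpow_add]

theorem chi_mul (D : ChevalleyDatum) (c : ℕ → ℕ → ℤ) (a b : Fin D.rank → Fˣ) (r : ℕ) :
    chi D c (a * b) r = chi D c a r * chi D c b r := by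
  unfold chi
  rw [← Finset.prod_mul_distrib]
  apply Finset.prod_congr rfl
  intro j _
  rw [Pi.mul_apply, mul_zpow]

theorem chi_one (D : ChevalleyDatum) (c : ℕ → ℕ → ℤ) (r : ℕ) :
    chi D c (1 : Fin D.rank → Fˣ) r = 1 := by
  unfold chi
  simp

theorem chi_coef_simple (D : ChevalleyDatum) (h : simpChk D = true) (a : Fin D.rank → Fˣ)
    (i : Fin D.rank) : chi D (coef D) a (D.simple i.val) = a i := by
  unfold chi
  rw [Finset.prod_eq_single i]
  · rw [simpChk_spec D h i.val i.val i.2 i.2, if_pos rfl, zpow_one]
  · intro j _ hji
    rw [simpChk_spec D h i.val j.val i.2 j.2, if_neg (fun e => hji (Fin.ext e.symm)), zpow_zero]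
  · intro hi
    exact absurd (Finset.mem_univ i) hi

/-- Two characters of the root lattice that agree on the fundamental roots agree on all roots. -/
theorem rootCharacter_ext (D : ChevalleyDatum) (h : genChk D = true) (χ χ' : ℕ → Fˣ)
    (hχ : D.IsRootCharacter χ) (hχ' : D.IsRootCharacter χ')
    (hs : ∀ i < D.rank, χ (D.simple i) = χ' (D.simple i)) : ∀ k < D.nroots, χ k = χ' k := by
  apply root_induction D h (fun k => χ k = χ' k) hs
  · intro r s k hr hsn hk h1 h2
    show χ k = χ' k
    rw [hχ.2 r s k hr hsn hk, hχ'.2 r s k hr hsn hk, h1, h2]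
  · intro r hr h1
    show χ (D.neg r) = χ' (D.neg r)
    rw [hχ.1 r hr, hχ'.1 r hr, h1]

/-- Every character of the root lattice is given by its values on the fundamental roots. -/
theorem rootCharacter_eq_chi (D : ChevalleyDatum) (h : genChk D = true) (h2 : simpChk D = true)
    (h3 : addChk D (coef D) = true) (χ : ℕ → Fˣ) (hχ : D.IsRootCharacter χ) :
    ∀ k < D.nroots, χ k = chi D (coef D) (fun i => χ (D.simple i.val)) k := by
  apply rootCharacter_ext D h χ _ hχ (chi_isRootCharacter D _ h3 _)
  intro i hi
  exact (chi_coef_simple D h2 (fun i => χ (D.simple i.val)) ⟨i, hi⟩).symm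

end characters

theorem addChk_coef_E6 : addChk chevE6 (coef chevE6) = true := by decide +kernel
theorem addChk_coef_E7 : addChk chevE7 (coef chevE7) = true := by decide +kernel
theorem addChk_coef_E8 : addChk chevE8 (coef chevE8) = true := by decide +kernel
theorem addChk_cart_E6 : addChk chevE6 (cart chevE6) = true := by decide +kernel
theorem addChk_cart_E7 : addChk chevE7 (cart chevE7) = true := by decide +kernel
theorem addChk_cart_E8 : addChk chevE8 (cart chevE8) = true := by decide +kernel
theorem genChk_E6 : genChk chevE6 = true := by decide +kernel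
theorem genChk_E7 : genChk chevE7 = true := by decide +kernel
theorem genChk_E8 : genChk chevE8 = true := by decide +kernel
theorem simpChk_E6 : simpChk chevE6 = true := by decide +kernel
theorem simpChk_E7 : simpChk chevE7 = true := by decide +kernel
theorem simpChk_E8 : simpChk chevE8 = true := by decide +kernel

end Cfsg.Agent.Lib.helper7.OutE
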