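import Mathlib
import Cfsg.Prelude.Def_Characters
import Cfsg.Prelude.Def_Blocks
import Cfsg.Agent.Lib.Helper25.ExtraspecialUnique
import Cfsg.Agent.Lib.Helper25.Gagola
import Cfsg.Agent.Lib.Helper1.Nilp
import Cfsg.Agent.Lib.helper7.CharCentral

/-! p-groups whose equal-degree nonlinear characters are Galois conjugate (S4845): basic lemmas. -/

set_option autoImplicit false

namespace Cfsg.Agent.Lib.helper7

open Cfsg.Agent.Lib.Helper25
open scoped ComplexConjugate commutatorElement

variable {G : Type*} [Group G]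

/-- a nontrivial normal subgroup of a finite `p`-group contains a central element of order `p` -/
theorem h7_pg_central_order_p [Finite G] (p : ℕ) [hp : Fact p.Prime] (hG : IsPGroup p G)
    (N : Subgroup G) [N.Normal] (hN : N ≠ ⊥) :
    ∃ a : G, a ∈ N ∧ a ∈ Subgroup.center G ∧ orderOf a = p := by
  haveI : Group.IsNilpotent G := hG.isNilpotent
  have h1 := Cfsg.Agent.Lib.Helper1.normal_inf_center_ne_bot N hN
  have hH : IsPGroup p ↥(N ⊓ Subgroup.center G) := hG.to_subgroup _
  have hcard : p ∣ Nat.card ↥(N ⊓ Subgroup.center G) := by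
    rcases hH.card_eq_or_dvd with h | h
    · exact absurd ((Subgroup.card_eq_one).mp h) h1
    · exact h
  obtain ⟨x, hx⟩ := exists_prime_orderOf_dvd_card' p hcard
  refine ⟨(x : G), (Subgroup.mem_inf.mp x.2).1, (Subgroup.mem_inf.mp x.2).2, ?_⟩
  rw [← hx]
  exact (Subgroup.orderOf_coe x)

/-- a subgroup of prime order is generated by any of its nonidentity elements -/
theorem h7_pg_zpowers_eq_of_prime [Finite G] (p : ℕ) [hp : Fact p.Prime] (N : Subgroup G)
    (hN : Nat.card N = p) (a : G) (ha : a ∈ N) (ha1 : a ≠ 1) : Subgroup.zpowers a = N := by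
  have hle : Subgroup.zpowers a ≤ N := Subgroup.zpowers_le.mpr ha
  apply Subgroup.eq_of_le_of_card_ge hle
  rw [hN, Nat.card_zpowers]
  have h1 : orderOf a ∣ p := by
    have := Subgroup.orderOf_dvd_natCard N ha
    rwa [hN] at this
  rcases (Nat.dvd_prime hp.out).mp h1 with h | h
  · exact absurd (orderOf_eq_one_iff.mp h) ha1
  · exact h.ge

/-- if `|G'| = p` in a `p`-group then `G' ≤ Z(G)` -/
theorem h7_pg_comm_le_center [Finite G] (p : ℕ) [hp : Fact p.Prime] (hG : IsPGroup p G)
    (hc : Nat.card (commutator G) = p) : commutator G ≤ Subgroup.center G := by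
  have hne : commutator G ≠ ⊥ := by
    intro h
    rw [h, Subgroup.card_bot] at hc
    exact hp.out.one_lt.ne hc
  obtain ⟨a, haN, haZ, hao⟩ := h7_pg_central_order_p p hG (commutator G) hne
  have ha1 : a ≠ 1 := by
    intro h
    rw [h, orderOf_one] at hao
    exact hp.out.one_lt.ne hao
  rw [← h7_pg_zpowers_eq_of_prime p (commutator G) hc a haN ha1]
  exact Subgroup.zpowers_le.mpr haZ

/-- a nonlinear irreducible character does not have `G'` (of prime order) meeting its kernel -/
theorem h7_pg_comm_not_ker [Finite G] (p : ℕ) [hp : Fact p.Prime]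
    (hc : Nat.card (commutator G) = p) (χ : Cfsg.IrrCharacter G) (hχ : (χ : G → ℂ) 1 ≠ 1)
    (z : G) (hz : z ∈ commutator G) (hz1 : z ≠ 1) : (χ : G → ℂ) z ≠ (χ : G → ℂ) 1 := by
  intro h
  apply hχ
  apply xs_linear_of_comm_le_ker χ
  intro w hw
  rw [← h7_pg_zpowers_eq_of_prime p (commutator G) hc z hz hz1] at hw
  have hzk : z ∈ irrKer χ := (mem_irrKer χ z).2 h
  exact (mem_irrKer χ w).1 ((Subgroup.zpowers_le.mpr hzk) hw)

/-- with `|G'| = p`, nonlinear irreducible characters vanish off the centre -/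
theorem h7_pg_vanish_off_center [Finite G] (p : ℕ) [hp : Fact p.Prime] (hG : IsPGroup p G)
    (hc : Nat.card (commutator G) = p) (χ : Cfsg.IrrCharacter G) (hχ : (χ : G → ℂ) 1 ≠ 1)
    (g : G) (hg : g ∉ Subgroup.center G) : (χ : G → ℂ) g = 0 := by
  rw [Subgroup.mem_center_iff] at hg
  push Not at hg
  obtain ⟨h, hh⟩ := hg
  set z : G := h * g * h⁻¹ * g⁻¹ with hzdef
  have hzc : z ∈ commutator G := by
    have : z = ⁅h, g⁆ := by rw [commutatorElement_def]
    rw [this, commutator_def]
    exact Subgroup.commutator_mem_commutator (Subgroup.mem_top _) (Subgroup.mem_top _)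
  have hz1 : z ≠ 1 := by
    intro h1
    apply hh
    have : h * g = z * (g * h) := by rw [hzdef]; group
    rw [this, h1, one_mul]
  have hzZ : z ∈ Subgroup.center G := h7_pg_comm_le_center p hG hc hzc
  apply h7_vanish_of_central_shift χ.2 z hzZ z (Subgroup.mem_zpowers z) ?_ g h
    (by rw [hzdef]; group)
  intro hmem
  have := (h7_mem_shiftKer (χ : G → ℂ) z).1 hmem 1
  rw [mul_one] at this
  exact h7_pg_comm_not_ker p hc χ hχ z hzc hz1 this

/-- with `|G'| = p`, a nonlinear irreducible character has `|Z|·χ(1)^2 = |G|` -/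
theorem h7_pg_center_sq [Finite G] (p : ℕ) [hp : Fact p.Prime] (hG : IsPGroup p G)
    (hc : Nat.card (commutator G) = p) (χ : Cfsg.IrrCharacter G) (hχ : (χ : G → ℂ) 1 ≠ 1) :
    Nat.card (Subgroup.center G) * (Cfsg.charDegree (χ : G → ℂ) * Cfsg.charDegree (χ : G → ℂ)) =
      Nat.card G := by
  classical
  haveI := Fintype.ofFinite G
  obtain ⟨hd, _⟩ := charDegree_irr χ
  have h1 := irr_sum_norm_sq χ
  have heq : ∑ g : G, ‖(χ : G → ℂ) g‖ ^ 2 =
      ∑ g ∈ Finset.univ.filter (· ∈ Subgroup.center G), ‖(χ : G → ℂ) g‖ ^ 2 := by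
    symm
    apply Finset.sum_subset (Finset.filter_subset _ _)
    intro g _ hg
    have hg' : g ∉ Subgroup.center G := by
      intro h
      exact hg (Finset.mem_filter.mpr ⟨Finset.mem_univ _, h⟩)
    rw [h7_pg_vanish_off_center p hG hc χ hχ g hg', norm_zero]
    ring
  have heq2 : ∑ g ∈ Finset.univ.filter (· ∈ Subgroup.center G), ‖(χ : G → ℂ) g‖ ^ 2 =
      (Nat.card (Subgroup.center G) : ℝ) * (Cfsg.charDegree (χ : G → ℂ) : ℝ) ^ 2 := by
    rw [Finset.sum_congr rfl (fun g hg => by
      rw [xs_center_norm χ g (Finset.mem_filter.mp hg).2, ← hd, Complex.norm_natCast])]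
    rw [Finset.sum_const, nsmul_eq_mul]
    congr 1
    rw [Nat.card_eq_fintype_card, Fintype.card_subtype]
  rw [heq, heq2] at h1
  have : ((Nat.card (Subgroup.center G) * (Cfsg.charDegree (χ : G → ℂ) *
      Cfsg.charDegree (χ : G → ℂ)) : ℕ) : ℝ) = (Nat.card G : ℝ) := by
    push_cast
    rw [← h1]
    ring
  exact_mod_cast this

/-- powers of the central character -/
theorem h7_pg_central_pow (χ : Cfsg.IrrCharacter G) (z : G) (c : ℂ)
    (hc : ∀ x : G, (χ : G → ℂ) (z * x) = c * (χ : G → ℂ) x) (n : ℕ) (x : G) :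
    (χ : G → ℂ) (z ^ n * x) = c ^ n * (χ : G → ℂ) x := by
  induction n generalizing x with
  | zero => simp
  | succ n ih =>
    rw [pow_succ', mul_assoc, hc, ih, pow_succ']
    ring

/-- in a group with `G'` central of order `p`, `p`-th powers are central -/
theorem h7_pg_pow_central [Finite G] (p : ℕ) [hp : Fact p.Prime]
    (hc : Nat.card (commutator G) = p) (hcz : commutator G ≤ Subgroup.center G) (x : G) :
    x ^ p ∈ Subgroup.center G := by
  rw [Subgroup.mem_center_iff]
  intro y
  -- y x y⁻¹ = u x with u central, u^p = 1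
  set u : G := y * x * y⁻¹ * x⁻¹ with hu
  have huc : u ∈ commutator G := by
    have : u = ⁅y, x⁆ := by rw [commutatorElement_def]
    rw [this, commutator_def]
    exact Subgroup.commutator_mem_commutator (Subgroup.mem_top _) (Subgroup.mem_top _)
  have huZ : u ∈ Subgroup.center G := hcz huc
  have hup : u ^ p = 1 := by
    have h1 : orderOf u ∣ p := by
      have := Subgroup.orderOf_dvd_natCard (commutator G) huc
      rwa [hc] at this
    exact orderOf_dvd_iff_pow_eq_one.mp h1
  have hconj : y * x * y⁻¹ = u * x := by rw [hu]; group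
  have hpow : ∀ n : ℕ, y * x ^ n * y⁻¹ = u ^ n * x ^ n := by
    intro n
    induction n with
    | zero => simp
    | succ n ih =>
      have hcomm : ∀ t : G, t * u = u * t := fun t => Subgroup.mem_center_iff.mp huZ t
      calc y * x ^ (n + 1) * y⁻¹ = (y * x ^ n * y⁻¹) * (y * x * y⁻¹) := by
            rw [pow_succ]; group
        _ = u ^ n * x ^ n * (u * x) := by rw [ih, hconj]
        _ = u ^ n * (x ^ n * u) * x := by group
        _ = u ^ n * (u * x ^ n) * x := by rw [hcomm]
        _ = u ^ (n + 1) * x ^ (n + 1) := by rw [pow_succ, pow_succ]; group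
  have h2 := hpow p
  rw [hup, one_mul] at h2
  calc y * x ^ p = (y * x ^ p * y⁻¹) * y := by group
    _ = x ^ p * y := by rw [h2]

end Cfsg.Agent.Lib.helper7
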