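import Mathlib
import Cfsg.Agent.Lib.helper7.PGal1
import Cfsg.Agent.Lib.Helper11.AbelianQuot

/-! S4845: the backward direction, and cyclicity of the centre. -/

set_option autoImplicit false

namespace Cfsg.Agent.Lib.helper7

open Cfsg.Agent.Lib.Helper25
open scoped ComplexConjugate commutatorElement

variable {G : Type*} [Group G]

/-- equal-degree nonlinear irreducible characters are Galois conjugate (through power maps) -/
def h7_GC (G : Type*) [Group G] : Prop :=
  ∀ χ ψ : Cfsg.IrrCharacter G, Cfsg.charDegree (χ : G → ℂ) ≠ 1 →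
    Cfsg.charDegree (χ : G → ℂ) = Cfsg.charDegree (ψ : G → ℂ) →
    ∃ k : ℕ, Nat.Coprime k (Nat.card G) ∧ ∀ g : G, (ψ : G → ℂ) g = (χ : G → ℂ) (g ^ k)

theorem h7_pg_deg_ne_one (χ : Cfsg.IrrCharacter G) :
    Cfsg.charDegree (χ : G → ℂ) ≠ 1 ↔ (χ : G → ℂ) 1 ≠ 1 := by
  obtain ⟨hd, _⟩ := charDegree_irr χ
  constructor
  · intro h h1
    apply h
    rw [h1] at hd
    exact_mod_cast hd
  · intro h h1
    apply h
    rw [h1] at hd
    rw [← hd]
    simp

/-- with cyclic centre and `|G'| = p`, nonlinear characters are faithful on the centre -/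
theorem h7_pg_faithful_center [Finite G] (p : ℕ) [hp : Fact p.Prime] (hG : IsPGroup p G)
    (hc : Nat.card (commutator G) = p) (hcyc : IsCyclic (Subgroup.center G))
    (χ : Cfsg.IrrCharacter G) (hχ : (χ : G → ℂ) 1 ≠ 1) (z : G) (hz : z ∈ Subgroup.center G)
    (hzk : (χ : G → ℂ) z = (χ : G → ℂ) 1) : z = 1 := by
  classical
  by_contra hz1
  -- an element of order p in ⟨z⟩
  have hH : IsPGroup p ↥(Subgroup.zpowers z) := hG.to_subgroup _
  have hcard : p ∣ Nat.card ↥(Subgroup.zpowers z) := by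
    rcases hH.card_eq_or_dvd with h | h
    · exfalso
      have := (Subgroup.card_eq_one).mp h
      rw [Subgroup.zpowers_eq_bot] at this
      exact hz1 this
    · exact h
  obtain ⟨x, hx⟩ := exists_prime_orderOf_dvd_card' p hcard
  have hxo : orderOf (x : G) = p := by rw [← hx]; exact Subgroup.orderOf_coe x
  have hxz : (x : G) ∈ Subgroup.zpowers z := x.2
  have hzker : z ∈ irrKer χ := (mem_irrKer χ z).2 hzk
  have hxker : (x : G) ∈ irrKer χ := (Subgroup.zpowers_le.mpr hzker) hxz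
  have hxZ : (x : G) ∈ Subgroup.center G := (Subgroup.zpowers_le.mpr hz) hxz
  have hx1 : (x : G) ≠ 1 := by
    intro h
    rw [h, orderOf_one] at hxo
    exact hp.out.one_lt.ne hxo
  -- a generator of G'
  have hne : commutator G ≠ ⊥ := by
    intro h
    rw [h, Subgroup.card_bot] at hc
    exact hp.out.one_lt.ne hc
  obtain ⟨c₀, hc₀1⟩ := (Subgroup.ne_bot_iff_exists_ne_one).mp hne
  have hc₀' : (c₀ : G) ≠ 1 := fun h => hc₀1 (Subtype.ext h)
  have hc₀Z : (c₀ : G) ∈ Subgroup.center G := h7_pg_comm_le_center p hG hc c₀.2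
  have hgen := h7_pg_zpowers_eq_of_prime p (commutator G) hc (c₀ : G) c₀.2 hc₀'
  have hc₀o : (c₀ : G) ^ p = 1 := by
    have h1 : orderOf (c₀ : G) ∣ p := by
      have := Subgroup.orderOf_dvd_natCard (commutator G) c₀.2
      rwa [hc] at this
    exact orderOf_dvd_iff_pow_eq_one.mp h1
  -- work in the cyclic centre
  haveI := hcyc
  haveI : Fintype (Subgroup.center G) := Fintype.ofFinite _
  let cz : Subgroup.center G := ⟨(c₀ : G), hc₀Z⟩
  let xz : Subgroup.center G := ⟨(x : G), hxZ⟩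
  have hS := IsCyclic.card_pow_eq_one_le (α := Subgroup.center G) (n := p) hp.out.pos
  have hT : ((Subgroup.zpowers cz : Set (Subgroup.center G)).toFinset) ⊆
      Finset.univ.filter (fun a : Subgroup.center G => a ^ p = 1) := by
    intro a ha
    rw [Set.mem_toFinset, SetLike.mem_coe] at ha
    rw [Finset.mem_filter]
    refine ⟨Finset.mem_univ _, ?_⟩
    obtain ⟨i, rfl⟩ := Subgroup.mem_zpowers_iff.mp ha
    rw [← zpow_natCast, ← zpow_mul, mul_comm, zpow_mul, zpow_natCast]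
    have : cz ^ p = 1 := Subtype.ext (by simpa using hc₀o)
    rw [this, one_zpow]
  have hTcard : ((Subgroup.zpowers cz : Set (Subgroup.center G)).toFinset).card = p := by
    rw [Set.toFinset_card, Fintype.card_eq_nat_card]
    show Nat.card ↥(Subgroup.zpowers cz) = p
    rw [Nat.card_zpowers]
    have h1 : orderOf cz = orderOf (c₀ : G) := (Subgroup.orderOf_coe cz).symm
    rw [h1]
    have h2 : orderOf (c₀ : G) ∣ p := orderOf_dvd_of_pow_eq_one hc₀o
    rcases (Nat.dvd_prime hp.out).mp h2 with h | h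
    · exact absurd (orderOf_eq_one_iff.mp h) hc₀'
    · exact h
  have hEq := Finset.eq_of_subset_of_card_le hT (by rw [hTcard]; exact hS)
  have hxS : xz ∈ Finset.univ.filter (fun a : Subgroup.center G => a ^ p = 1) := by
    rw [Finset.mem_filter]
    refine ⟨Finset.mem_univ _, ?_⟩
    apply Subtype.ext
    have : (x : G) ^ p = 1 := by rw [← hxo]; exact pow_orderOf_eq_one _
    simpa using this
  rw [← hEq, Set.mem_toFinset, SetLike.mem_coe] at hxS
  obtain ⟨i, hi⟩ := Subgroup.mem_zpowers_iff.mp hxS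
  have hxc : (x : G) ∈ commutator G := by
    rw [← hgen]
    refine Subgroup.mem_zpowers_iff.mpr ⟨i, ?_⟩
    have := congrArg (Subtype.val) hi
    simpa using this
  exact h7_pg_comm_not_ker p hc χ hχ (x : G) hxc hx1 ((mem_irrKer χ _).1 hxker)

/-- backward direction of S4845 -/
theorem h7_pg_backward [Finite G] (p : ℕ) [hp : Fact p.Prime] (hG : IsPGroup p G)
    (hc : Nat.card (commutator G) = p) (hcyc : IsCyclic (Subgroup.center G)) : h7_GC G := by
  classical
  intro χ ψ hχd hdeg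
  have hχ1 : (χ : G → ℂ) 1 ≠ 1 := (h7_pg_deg_ne_one χ).1 hχd
  have hψ1 : (ψ : G → ℂ) 1 ≠ 1 := (h7_pg_deg_ne_one ψ).1 (hdeg ▸ hχd)
  have h11 : (ψ : G → ℂ) 1 = (χ : G → ℂ) 1 := by
    rw [← (charDegree_irr χ).1, ← (charDegree_irr ψ).1, hdeg]
  obtain ⟨z₀, hz₀⟩ := hcyc.exists_generator
  have hz₀Z : (z₀ : G) ∈ Subgroup.center G := z₀.2
  obtain ⟨a, ha⟩ := h7_central_char χ.2 (z₀ : G) hz₀Z
  obtain ⟨b, hb⟩ := h7_central_char ψ.2 (z₀ : G) hz₀Z
  have hapow := h7_pg_central_pow χ (z₀ : G) a ha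
  have hbpow := h7_pg_central_pow ψ (z₀ : G) b hb
  set n₀ := orderOf (z₀ : G) with hn₀
  have hn₀pos : 0 < n₀ := orderOf_pos _
  have hχne : (χ : G → ℂ) 1 ≠ 0 := irr_one_ne_zero χ
  have hψne : (ψ : G → ℂ) 1 ≠ 0 := irr_one_ne_zero ψ
  -- a is a primitive n₀-th root of unity
  have hprim : ∀ (φ : Cfsg.IrrCharacter G) (e : ℂ), (φ : G → ℂ) 1 ≠ 1 → (φ : G → ℂ) 1 ≠ 0 →
      (∀ (n : ℕ) (x : G), (φ : G → ℂ) ((z₀ : G) ^ n * x) = e ^ n * (φ : G → ℂ) x) →
      IsPrimitiveRoot e n₀ := by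
    intro φ e hφ1 hφne hpow
    refine ⟨?_, ?_⟩
    · have h1 := hpow n₀ 1
      rw [hn₀, pow_orderOf_eq_one, one_mul] at h1
      have : (e ^ orderOf (z₀ : G) - 1) * (φ : G → ℂ) 1 = 0 := by
        rw [sub_mul, ← h1]; ring
      rcases mul_eq_zero.mp this with h | h
      · exact sub_eq_zero.mp h
      · exact absurd h hφne
    · intro l hl
      have h1 := hpow l 1
      rw [hl, one_mul, mul_one] at h1
      have h2 := h7_pg_faithful_center p hG hc hcyc φ hφ1 ((z₀ : G) ^ l)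
        (Subgroup.pow_mem _ hz₀Z l) h1
      exact orderOf_dvd_of_pow_eq_one h2
  have hap := hprim χ a hχ1 hχne hapow
  have hbp := hprim ψ b hψ1 hψne hbpow
  haveI : NeZero n₀ := ⟨hn₀pos.ne'⟩
  obtain ⟨i, _, hi⟩ := hap.eq_pow_of_pow_eq_one hbp.pow_eq_one
  have hicop : i.Coprime n₀ := by
    rw [← hi] at hbp
    exact (hap.pow_iff_coprime hn₀pos i).mp hbp
  -- n₀ is a nontrivial power of p
  have hz₀ne : (z₀ : G) ≠ 1 := by
    intro h
    have hne : commutator G ≠ ⊥ := by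
      intro h'
      rw [h', Subgroup.card_bot] at hc
      exact hp.out.one_lt.ne hc
    obtain ⟨c₀, hc₀1⟩ := (Subgroup.ne_bot_iff_exists_ne_one).mp hne
    have hc₀Z : (c₀ : G) ∈ Subgroup.center G := h7_pg_comm_le_center p hG hc c₀.2
    obtain ⟨j, hj⟩ := Subgroup.mem_zpowers_iff.mp (hz₀ ⟨(c₀ : G), hc₀Z⟩)
    have h2 : z₀ = 1 := Subtype.ext h
    rw [h2, one_zpow] at hj
    apply hc₀1
    apply Subtype.ext
    have := congrArg Subtype.val hj
    simpa using this.symm
  have hpdvd : p ∣ n₀ := hG.dvd_orderOf hz₀ne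
  have hip : i.Coprime p := Nat.Coprime.coprime_dvd_right hpdvd hicop
  obtain ⟨N, hN⟩ := (IsPGroup.iff_card).mp hG
  refine ⟨i, ?_, ?_⟩
  · rw [hN]
    exact Nat.Coprime.pow_right N hip
  · intro g
    by_cases hg : g ∈ Subgroup.center G
    · obtain ⟨j, hj⟩ := (mem_powers_iff_mem_zpowers.mpr (hz₀ ⟨g, hg⟩))
      have hgj : g = (z₀ : G) ^ j := by
        have := congrArg Subtype.val hj
        simpa using this.symm
      have h1 := hbpow j 1
      have h2 := hapow (j * i) 1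
      rw [mul_one] at h1 h2
      rw [hgj, h1, ← pow_mul, h2, ← hi, h11]
      ring
    · rw [h7_pg_vanish_off_center p hG hc ψ hψ1 g hg]
      symm
      apply h7_pg_vanish_off_center p hG hc χ hχ1
      intro hgi
      apply hg
      have hcop : i.Coprime (orderOf g) := by
        obtain ⟨k, hk⟩ := (IsPGroup.iff_orderOf.mp hG) g
        rw [hk]
        exact Nat.Coprime.pow_right k hip
      obtain ⟨m, hm⟩ := exists_pow_eq_self_of_coprime hcop
      rw [← hm]
      exact Subgroup.pow_mem _ hgi m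

/-- with `|G'| = p` and the Galois condition, the centre is cyclic -/
theorem h7_pg_center_cyclic [Finite G] (p : ℕ) [hp : Fact p.Prime] (hG : IsPGroup p G)
    (hc : Nat.card (commutator G) = p) (hGC : h7_GC G) : IsCyclic (Subgroup.center G) := by
  classical
  haveI := Fintype.ofFinite G
  -- a nonlinear character
  have hex : ∃ χ₀ : Cfsg.IrrCharacter G, (χ₀ : G → ℂ) 1 ≠ 1 := by
    by_contra hcon
    push Not at hcon
    have hab := xs_comm_of_all_linear hcon
    have : commutator G = ⊥ := by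
      rw [commutator_def, Subgroup.commutator_eq_bot_iff_le_centralizer]
      intro x _
      rw [Subgroup.mem_centralizer_iff]
      intro y _
      exact hab y x
    rw [this, Subgroup.card_bot] at hc
    exact hp.out.one_lt.ne hc
  obtain ⟨χ₀, hχ₀⟩ := hex
  have hne0 : (χ₀ : G → ℂ) 1 ≠ 0 := irr_one_ne_zero χ₀
  -- faithful on the centre
  have hK : ∀ z ∈ Subgroup.center G, (χ₀ : G → ℂ) z = (χ₀ : G → ℂ) 1 → z = 1 := by
    intro z hz hzk
    by_contra hz1
    by_cases hzc : z ∈ commutator G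
    · exact h7_pg_comm_not_ker p hc χ₀ hχ₀ z hzc hz1 hzk
    · obtain ⟨φ, hφ1, hφ2⟩ := Cfsg.Agent.Lib.Helper11.exists_annih_ne_one (commutator G)
        (fun x y => by
          have : x * y * x⁻¹ * y⁻¹ = ⁅x, y⁆ := by rw [commutatorElement_def]
          rw [this, commutator_def]
          exact Subgroup.commutator_mem_commutator (Subgroup.mem_top _) (Subgroup.mem_top _))
        z hzc
      let χ₁ : Cfsg.IrrCharacter G :=
        ⟨fun g => ((φ g : ℂˣ) : ℂ) * (χ₀ : G → ℂ) g,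
          Cfsg.Agent.Lib.Helper11.isIrr_linChar_mul φ _ χ₀.2⟩
      have h11 : (χ₁ : G → ℂ) 1 = (χ₀ : G → ℂ) 1 := by
        show ((φ 1 : ℂˣ) : ℂ) * (χ₀ : G → ℂ) 1 = (χ₀ : G → ℂ) 1
        rw [map_one, Units.val_one, one_mul]
      have hdeg : Cfsg.charDegree (χ₀ : G → ℂ) = Cfsg.charDegree (χ₁ : G → ℂ) :=
        xs_charDegree_eq _ _ h11.symm
      obtain ⟨k, _, hk⟩ := hGC χ₀ χ₁ ((h7_pg_deg_ne_one χ₀).2 hχ₀) hdeg
      have h1 := hk z
      have hzker : z ∈ irrKer χ₀ := (mem_irrKer χ₀ z).2 hzk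
      have h2 : (χ₀ : G → ℂ) (z ^ k) = (χ₀ : G → ℂ) 1 :=
        (mem_irrKer χ₀ _).1 (Subgroup.pow_mem _ hzker k)
      rw [h2] at h1
      have h3 : ((φ z : ℂˣ) : ℂ) * (χ₀ : G → ℂ) z = (χ₀ : G → ℂ) 1 := h1
      rw [hzk] at h3
      have h4 : (((φ z : ℂˣ) : ℂ) - 1) * (χ₀ : G → ℂ) 1 = 0 := by
        rw [sub_mul, h3]; ring
      rcases mul_eq_zero.mp h4 with h | h
      · apply hφ2
        apply Units.ext
        rw [Units.val_one]
        exact sub_eq_zero.mp h
      · exact hne0 h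
  -- the central character as an injective hom into ℂ
  have hcc : ∀ z ∈ Subgroup.center G, ∀ x : G,
      (χ₀ : G → ℂ) (z * x) = ((χ₀ : G → ℂ) z / (χ₀ : G → ℂ) 1) * (χ₀ : G → ℂ) x := by
    intro z hz x
    obtain ⟨c, hcz⟩ := h7_central_char χ₀.2 z hz
    have h1 := hcz 1
    rw [mul_one] at h1
    rw [hcz x, h1]
    field_simp
  let f : Subgroup.center G →* ℂ :=
    { toFun := fun z => (χ₀ : G → ℂ) (z : G) / (χ₀ : G → ℂ) 1
      map_one' := by
        show (χ₀ : G → ℂ) ((1 : Subgroup.center G) : G) / (χ₀ : G → ℂ) 1 = 1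
        rw [Subgroup.coe_one]
        exact div_self hne0
      map_mul' := by
        intro z w
        show (χ₀ : G → ℂ) ((z * w : Subgroup.center G) : G) / (χ₀ : G → ℂ) 1 =
          (χ₀ : G → ℂ) (z : G) / (χ₀ : G → ℂ) 1 * ((χ₀ : G → ℂ) (w : G) / (χ₀ : G → ℂ) 1)
        rw [Subgroup.coe_mul, hcc (z : G) z.2 (w : G)]
        ring }
  have hfapp : ∀ z : Subgroup.center G, f z = (χ₀ : G → ℂ) (z : G) / (χ₀ : G → ℂ) 1 :=
    fun z => rfl
  have hinj : Function.Injective f := by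
    intro z w hzw
    have h1 : f (w⁻¹ * z) = 1 := by
      rw [map_mul, hzw, ← map_mul, inv_mul_cancel, map_one]
    rw [hfapp] at h1
    have h2 : (χ₀ : G → ℂ) ((w⁻¹ * z : Subgroup.center G) : G) = (χ₀ : G → ℂ) 1 := by
      field_simp at h1
      exact h1
    have h3 := hK _ (w⁻¹ * z).2 h2
    have h4 : w⁻¹ * z = 1 := Subtype.ext h3
    calc z = w * (w⁻¹ * z) := by group
      _ = w := by rw [h4, mul_one]
  exact isCyclic_of_injective_ringHom f hinj

end Cfsg.Agent.Lib.helper7
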