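import Mathlib
import Cfsg.Agent.Lib.helper7.PGal2
import Cfsg.Agent.Lib.helper7.Thompson

/-! S4845: auxiliary lemmas for the forward direction. -/

set_option autoImplicit false

namespace Cfsg.Agent.Lib.helper7

open Cfsg.Agent.Lib.Helper25
open scoped ComplexConjugate commutatorElement

universe u

variable {G : Type*} [Group G]

theorem h7_pg_exists_nonlinear [Finite G] (hna : ¬ ∀ a b : G, a * b = b * a) :
    ∃ χ₀ : Cfsg.IrrCharacter G, (χ₀ : G → ℂ) 1 ≠ 1 := by
  by_contra hcon
  push Not at hcon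
  exact hna (xs_comm_of_all_linear hcon)

/-- the Galois condition passes to quotients -/
theorem h7_pg_GC_quot [Finite G] (hGC : h7_GC G) (A : Subgroup G) [A.Normal] : h7_GC (G ⧸ A) := by
  intro φ φ' hd hdd
  have hsurj := QuotientGroup.mk'_surjective A
  let χ := xs_infl (QuotientGroup.mk' A) hsurj φ
  let χ' := xs_infl (QuotientGroup.mk' A) hsurj φ'
  have h1 : Cfsg.charDegree (χ : G → ℂ) = Cfsg.charDegree (φ : G ⧸ A → ℂ) :=
    xs_charDegree_eq _ _ (by rw [xs_infl_apply, map_one])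
  have h1' : Cfsg.charDegree (χ' : G → ℂ) = Cfsg.charDegree (φ' : G ⧸ A → ℂ) :=
    xs_charDegree_eq _ _ (by rw [xs_infl_apply, map_one])
  obtain ⟨k, hk, hkk⟩ := hGC χ χ' (by rw [h1]; exact hd) (by rw [h1, h1']; exact hdd)
  refine ⟨k, Nat.Coprime.coprime_dvd_right (Subgroup.card_quotient_dvd_card A) hk, ?_⟩
  intro q
  obtain ⟨g, rfl⟩ := hsurj q
  have := hkk g
  rw [xs_infl_apply, xs_infl_apply, map_pow] at this
  exact this

/-- if `y x y⁻¹ x⁻¹` is central of order dividing `n` then `x^n` commutes with `y` -/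
theorem h7_pg_pow_comm (x y : G) (n : ℕ) (huZ : y * x * y⁻¹ * x⁻¹ ∈ Subgroup.center G)
    (hun : (y * x * y⁻¹ * x⁻¹) ^ n = 1) : y * x ^ n = x ^ n * y := by
  set u : G := y * x * y⁻¹ * x⁻¹ with hu
  have hconj : y * x * y⁻¹ = u * x := by rw [hu]; group
  have hpow : ∀ k : ℕ, y * x ^ k * y⁻¹ = u ^ k * x ^ k := by
    intro k
    induction k with
    | zero => simp
    | succ k ih =>
      have hcomm : ∀ t : G, t * u = u * t := fun t => Subgroup.mem_center_iff.mp huZ t
      calc y * x ^ (k + 1) * y⁻¹ = (y * x ^ k * y⁻¹) * (y * x * y⁻¹) := by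
            rw [pow_succ]; group
        _ = u ^ k * x ^ k * (u * x) := by rw [ih, hconj]
        _ = u ^ k * (x ^ k * u) * x := by group
        _ = u ^ k * (u * x ^ k) * x := by rw [hcomm]
        _ = u ^ (k + 1) * x ^ (k + 1) := by rw [pow_succ, pow_succ]; group
  have h2 := hpow n
  rw [hun, one_mul] at h2
  calc y * x ^ n = (y * x ^ n * y⁻¹) * y := by group
    _ = x ^ n * y := by rw [h2]

/-- the centre of `G/A` (cyclic) is no larger than the centre of `G`, for `A` central of order `p` -/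
theorem h7_pg_center_card_le [Finite G] (p : ℕ) [hp : Fact p.Prime] (A : Subgroup G) [A.Normal]
    (hAZ : A ≤ Subgroup.center G) (hAp : Nat.card A = p)
    (hcyc : IsCyclic (Subgroup.center (G ⧸ A))) :
    Nat.card (Subgroup.center (G ⧸ A)) ≤ Nat.card (Subgroup.center G) := by
  classical
  obtain ⟨ζb, hζb⟩ := hcyc.exists_generator
  obtain ⟨ζ, hζ⟩ := QuotientGroup.mk'_surjective A (ζb : G ⧸ A)
  set W : Subgroup G := (Subgroup.center (G ⧸ A)).comap (QuotientGroup.mk' A) with hW
  -- |W| = p |Z(G/A)|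
  have hWcard : Nat.card W = p * Nat.card (Subgroup.center (G ⧸ A)) := by
    have h1 : W.index = (Subgroup.center (G ⧸ A)).index :=
      Subgroup.index_comap_of_surjective _ (QuotientGroup.mk'_surjective A)
    have h2 := Subgroup.card_mul_index W
    have h3 := Subgroup.card_mul_index (Subgroup.center (G ⧸ A))
    have h4 := Subgroup.card_eq_card_quotient_mul_card_subgroup A
    rw [hAp] at h4
    have hpos : 0 < (Subgroup.center (G ⧸ A)).index :=
      Nat.pos_of_ne_zero Subgroup.index_ne_zero_of_finite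
    rw [h1] at h2
    have : Nat.card W * (Subgroup.center (G ⧸ A)).index =
        p * Nat.card (Subgroup.center (G ⧸ A)) * (Subgroup.center (G ⧸ A)).index := by
      rw [h2, h4, ← h3]; ring
    exact Nat.eq_of_mul_eq_mul_right hpos this
  -- ζ^p is central
  have hζp : ζ ^ p ∈ Subgroup.center G := by
    rw [Subgroup.mem_center_iff]
    intro y
    have huA : y * ζ * y⁻¹ * ζ⁻¹ ∈ A := by
      rw [← QuotientGroup.eq_one_iff]
      have hc : (QuotientGroup.mk' A ζ) ∈ Subgroup.center (G ⧸ A) := by rw [hζ]; exact ζb.2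
      have := Subgroup.mem_center_iff.mp hc (QuotientGroup.mk' A y)
      show (QuotientGroup.mk' A) (y * ζ * y⁻¹ * ζ⁻¹) = 1
      rw [map_mul, map_mul, map_mul, map_inv, map_inv, this]
      group
    have hun : (y * ζ * y⁻¹ * ζ⁻¹) ^ p = 1 := by
      have h1 : orderOf (y * ζ * y⁻¹ * ζ⁻¹) ∣ p := by
        have := Subgroup.orderOf_dvd_natCard A huA
        rwa [hAp] at this
      exact orderOf_dvd_iff_pow_eq_one.mp h1
    exact h7_pg_pow_comm ζ y p (hAZ huA) hun
  -- every element of W is ζ^r z with r < p, z central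
  have hrep : ∀ w : W, ∃ rz : Fin p × Subgroup.center G, ζ ^ (rz.1 : ℕ) * (rz.2 : G) = (w : G) := by
    intro w
    have hw : (QuotientGroup.mk' A (w : G)) ∈ Subgroup.center (G ⧸ A) := w.2
    obtain ⟨i, hi⟩ := mem_powers_iff_mem_zpowers.mpr (hζb ⟨_, hw⟩)
    have hi' : (QuotientGroup.mk' A) (ζ ^ i) = (QuotientGroup.mk' A) (w : G) := by
      have := congrArg Subtype.val hi
      rw [map_pow, hζ]
      simpa using this
    have hmem : (ζ ^ i)⁻¹ * (w : G) ∈ A := by
      have : ((ζ ^ i : G) : G ⧸ A) = ((w : G) : G ⧸ A) := hi'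
      exact QuotientGroup.eq.mp this
    have hz : ζ ^ (p * (i / p)) * ((ζ ^ i)⁻¹ * (w : G)) ∈ Subgroup.center G := by
      apply Subgroup.mul_mem
      · rw [pow_mul]; exact Subgroup.pow_mem _ hζp _
      · exact hAZ hmem
    refine ⟨(⟨i % p, Nat.mod_lt _ hp.out.pos⟩, ⟨_, hz⟩), ?_⟩
    show ζ ^ (i % p) * (ζ ^ (p * (i / p)) * ((ζ ^ i)⁻¹ * (w : G))) = (w : G)
    rw [← mul_assoc, ← pow_add, add_comm, Nat.div_add_mod, ← mul_assoc, mul_inv_cancel, one_mul]
  choose F hF using hrep
  have hinj : Function.Injective F := by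
    intro w w' h
    apply Subtype.ext
    rw [← hF w, ← hF w', h]
  have h5 := Nat.card_le_card_of_injective F hinj
  rw [Nat.card_prod, Nat.card_fin, hWcard] at h5
  exact Nat.le_of_mul_le_mul_left h5 hp.out.pos

/-- exponent bound: `g^(p·|Z(G/A)|·p) = 1` -/
theorem h7_pg_exponent [Finite G] (p : ℕ) [hp : Fact p.Prime] (A : Subgroup G) [A.Normal]
    (hAp : Nat.card A = p) (hQc : Nat.card (commutator (G ⧸ A)) = p)
    (hQcz : commutator (G ⧸ A) ≤ Subgroup.center (G ⧸ A)) (g : G) :
    g ^ (p * Nat.card (Subgroup.center (G ⧸ A)) * p) = 1 := by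
  have h1 : (QuotientGroup.mk' A g) ^ p ∈ Subgroup.center (G ⧸ A) :=
    h7_pg_pow_central p hQc hQcz _
  have h2 : ((QuotientGroup.mk' A g) ^ p) ^ Nat.card (Subgroup.center (G ⧸ A)) = 1 := by
    have e1 : (⟨_, h1⟩ : Subgroup.center (G ⧸ A)) ^ Nat.card (Subgroup.center (G ⧸ A)) = 1 :=
      pow_card_eq_one'
    have e2 := congrArg Subtype.val e1
    rw [SubgroupClass.coe_pow, Subgroup.coe_one] at e2
    exact e2
  have h3 : g ^ (p * Nat.card (Subgroup.center (G ⧸ A))) ∈ A := by
    rw [← QuotientGroup.eq_one_iff]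
    show (QuotientGroup.mk' A) (g ^ (p * Nat.card (Subgroup.center (G ⧸ A)))) = 1
    rw [map_pow, pow_mul]
    exact h2
  rw [pow_mul]
  have h4 : orderOf (g ^ (p * Nat.card (Subgroup.center (G ⧸ A)))) ∣ p := by
    have := Subgroup.orderOf_dvd_natCard A h3
    rwa [hAp] at this
  exact orderOf_dvd_iff_pow_eq_one.mp h4

/-- counting characters of a given nonlinear degree under the Galois condition -/
theorem h7_pg_count_degree [Finite G] [Fintype (Cfsg.IrrCharacter G)] (hGC : h7_GC G) (E : ℕ)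
    (hE : 0 < E) (hexp : ∀ g : G, g ^ E = 1)
    (hcop : ∀ k : ℕ, k.Coprime (Nat.card G) → k.Coprime E) (d : ℕ) (hd : d ≠ 1) :
    (Finset.univ.filter
      (fun θ : Cfsg.IrrCharacter G => Cfsg.charDegree (θ : G → ℂ) = d)).card ≤ Nat.totient E := by
  classical
  by_cases hemp : (Finset.univ.filter
      (fun θ : Cfsg.IrrCharacter G => Cfsg.charDegree (θ : G → ℂ) = d)) = ∅
  · rw [hemp]; simp
  · obtain ⟨θ₀, hθ₀⟩ := Finset.nonempty_iff_ne_empty.mpr hemp
    rw [Finset.mem_filter] at hθ₀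
    let Φ : ℕ → (G → ℂ) := fun r g => (θ₀ : G → ℂ) (g ^ r)
    have hsub : (Finset.univ.filter
        (fun θ : Cfsg.IrrCharacter G => Cfsg.charDegree (θ : G → ℂ) = d)).image Subtype.val ⊆
        ((Finset.range E).filter (fun r => E.Coprime r)).image Φ := by
      intro f hf
      obtain ⟨θ, hθ, rfl⟩ := Finset.mem_image.mp hf
      rw [Finset.mem_filter] at hθ
      obtain ⟨k, hk, hkθ⟩ := hGC θ₀ θ (by rw [hθ₀.2]; exact hd) (hθ₀.2.trans hθ.2.symm)
      refine Finset.mem_image.mpr ⟨k % E, ?_, ?_⟩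
      · rw [Finset.mem_filter, Finset.mem_range]
        refine ⟨Nat.mod_lt _ hE, ?_⟩
        have h0 := hcop k hk
        have h1 : Nat.gcd (k % E) E = 1 := by
          rw [← Nat.gcd_rec]; exact Nat.coprime_comm.mp h0
        exact Nat.coprime_comm.mp h1
      · funext g
        show (θ₀ : G → ℂ) (g ^ (k % E)) = (θ : G → ℂ) g
        rw [hkθ g]
        congr 1
        conv_rhs => rw [← Nat.div_add_mod k E, pow_add, pow_mul, hexp, one_pow, one_mul]
    calc (Finset.univ.filter
          (fun θ : Cfsg.IrrCharacter G => Cfsg.charDegree (θ : G → ℂ) = d)).card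
        = ((Finset.univ.filter
          (fun θ : Cfsg.IrrCharacter G => Cfsg.charDegree (θ : G → ℂ) = d)).image
            Subtype.val).card := (Finset.card_image_of_injective _ Subtype.val_injective).symm
      _ ≤ (((Finset.range E).filter (fun r => E.Coprime r)).image Φ).card :=
          Finset.card_le_card hsub
      _ ≤ ((Finset.range E).filter (fun r => E.Coprime r)).card := Finset.card_image_le
      _ = Nat.totient E := (Nat.totient_eq_card_coprime E).symm

theorem h7_pg_geom (q m : ℕ) (hq : 1 ≤ q) :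
    (∑ j ∈ Finset.range m, q ^ j) * (q - 1) + 1 = q ^ m := by
  induction m with
  | zero => simp
  | succ m ih =>
    rw [Finset.sum_range_succ, add_mul, add_right_comm, ih, pow_succ]
    obtain ⟨r, rfl⟩ : ∃ r, q = r + 1 := ⟨q - 1, by omega⟩
    simp only [Nat.add_sub_cancel]
    ring

end Cfsg.Agent.Lib.helper7
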