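import Mathlib
import Cfsg.Agent.Lib.helper7.PGal3

/-! S4845: the counting contradiction and the induction. -/

set_option autoImplicit false

namespace Cfsg.Agent.Lib.helper7

open Cfsg.Agent.Lib.Helper25
open scoped ComplexConjugate commutatorElement

universe u

theorem h7_pg_comm_bot_of_comm {G : Type*} [Group G] (hab : ∀ a b : G, a * b = b * a) :
    commutator G = ⊥ := by
  rw [commutator_def, Subgroup.commutator_eq_bot_iff_le_centralizer]
  intro x _
  rw [Subgroup.mem_centralizer_iff]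
  intro y _
  exact hab y x

/-- the counting contradiction -/
theorem h7_pg_count_contra {P : Type*} [Group P] [Finite P] (p : ℕ) [hp : Fact p.Prime]
    (hP : IsPGroup p P) (hGC : h7_GC P) (A : Subgroup P) [A.Normal]
    (hAZ : A ≤ Subgroup.center P) (hAc : A ≤ commutator P) (hAp : Nat.card A = p)
    (hQc : Nat.card (commutator (P ⧸ A)) = p)
    (hQz : IsCyclic (Subgroup.center (P ⧸ A))) : False := by
  classical
  haveI := Fintype.ofFinite P
  haveI : Fintype (Cfsg.IrrCharacter P) := Fintype.ofFinite _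
  haveI : Fintype A := Fintype.ofFinite _
  have hp2 : 2 ≤ p := hp.out.two_le
  have hQ : IsPGroup p (P ⧸ A) := hP.to_quotient A
  have hQcz := h7_pg_comm_le_center p hQ hQc
  have hQna : ¬ ∀ a b : P ⧸ A, a * b = b * a := by
    intro hab
    rw [h7_pg_comm_bot_of_comm hab, Subgroup.card_bot] at hQc
    exact hp.out.one_lt.ne hQc
  obtain ⟨φ₀, hφ₀⟩ := h7_pg_exists_nonlinear hQna
  have hDsq := h7_pg_center_sq p hQ hQc φ₀ hφ₀
  set D := Cfsg.charDegree (φ₀ : P ⧸ A → ℂ) with hD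
  set zc := Nat.card (Subgroup.center (P ⧸ A)) with hzc
  have hsurj := QuotientGroup.mk'_surjective A
  let χ₀ := xs_infl (QuotientGroup.mk' A) hsurj φ₀
  have hχ₀d : Cfsg.charDegree (χ₀ : P → ℂ) = D :=
    xs_charDegree_eq _ _ (by rw [xs_infl_apply, map_one])
  have hD1 : D ≠ 1 := (h7_pg_deg_ne_one φ₀).2 hφ₀
  have hPQ : Nat.card P = Nat.card (P ⧸ A) * p := by
    have := Subgroup.card_eq_card_quotient_mul_card_subgroup A
    rwa [hAp] at this
  have hZle : zc ≤ Nat.card (Subgroup.center P) := h7_pg_center_card_le p A hAZ hAp hQz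
  obtain ⟨N, hN⟩ := (IsPGroup.iff_card).mp hP
  obtain ⟨c, hc⟩ := (IsPGroup.iff_card).mp (hQ.to_subgroup (Subgroup.center (P ⧸ A)))
  obtain ⟨NQ, hNQ⟩ := (IsPGroup.iff_card).mp hQ
  have hDdvd : D ∣ p ^ NQ := by rw [← hNQ]; exact xs_degree_dvd φ₀
  obtain ⟨m, _, hDm⟩ := (Nat.dvd_prime_pow hp.out).mp hDdvd
  have hzcpos : 0 < zc := Nat.card_pos
  have hzcc : zc = p ^ c := hc
  -- N ≥ 1
  have hNpos : 0 < N := by
    rcases Nat.eq_zero_or_pos N with h | h
    · exfalso
      rw [h, pow_zero] at hN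
      have h1 : Nat.card A ∣ Nat.card P := Subgroup.card_subgroup_dvd_card A
      rw [hN, hAp] at h1
      exact hp.out.one_lt.ne' (Nat.dvd_one.mp h1)
    · exact h
  -- exponent
  set E := p * zc * p with hE
  have hEpos : 0 < E := by positivity
  have hexp : ∀ g : P, g ^ E = 1 := h7_pg_exponent p A hAp hQc hQcz
  have hEpow : E = p ^ (c + 2) := by rw [hE, hzcc]; ring
  have hcopE : ∀ k : ℕ, k.Coprime (Nat.card P) → k.Coprime E := by
    intro k hk
    rw [hN] at hk
    have hkp : k.Coprime p := Nat.Coprime.coprime_dvd_right (dvd_pow_self p hNpos.ne') hk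
    rw [hEpow]
    exact Nat.Coprime.pow_right _ hkp
  have htot : Nat.totient E = zc * p * (p - 1) := by
    rw [hEpow, Nat.totient_prime_pow hp.out (by omega), hzcc]
    have : c + 2 - 1 = c + 1 := by omega
    rw [this, pow_succ]
  -- the set Y
  set Y := Finset.univ.filter
    (fun θ : Cfsg.IrrCharacter P => ¬ ∀ w ∈ A, (θ : P → ℂ) w = (θ : P → ℂ) 1) with hY
  have hF3 : ∀ θ ∈ Y, ∃ j : ℕ, 1 ≤ j ∧ j + 1 ≤ m ∧ Cfsg.charDegree (θ : P → ℂ) = p ^ j := by
    intro θ hθ
    rw [hY, Finset.mem_filter] at hθ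
    have hθA := hθ.2
    have hθ1 : (θ : P → ℂ) 1 ≠ 1 := by
      intro h1
      apply hθA
      intro w hw
      exact (xs_linear_iff θ).1 h1 w (hAc hw)
    have hdvd : Cfsg.charDegree (θ : P → ℂ) ∣ p ^ N := by rw [← hN]; exact xs_degree_dvd θ
    obtain ⟨j, _, hj⟩ := (Nat.dvd_prime_pow hp.out).mp hdvd
    have hj0 : j ≠ 0 := by
      intro h0
      rw [h0, pow_zero] at hj
      exact (h7_pg_deg_ne_one θ).2 hθ1 hj
    have hjm : j ≠ m := by
      intro hjm
      have hdeg : Cfsg.charDegree (χ₀ : P → ℂ) = Cfsg.charDegree (θ : P → ℂ) := by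
        rw [hχ₀d, hDm, hj, hjm]
      obtain ⟨k, _, hk⟩ := hGC χ₀ θ (by rw [hχ₀d]; exact hD1) hdeg
      apply hθA
      intro w hw
      rw [hk w, hk 1, one_pow, xs_infl_apply, xs_infl_apply, map_one]
      have : (QuotientGroup.mk' A) (w ^ k) = 1 := by
        show ((w ^ k : P) : P ⧸ A) = 1
        rw [QuotientGroup.eq_one_iff]
        exact Subgroup.pow_mem _ hw k
      rw [this]
    have hjle : j ≤ m := by
      have h1 := xs_center_sq θ
      rw [hj] at h1
      have h2 : zc * (p ^ j * p ^ j) ≤ Nat.card P :=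
        le_trans (Nat.mul_le_mul_right _ hZle) h1
      rw [hPQ, ← hDsq, hDm] at h2
      have h3 : p ^ j * p ^ j ≤ p ^ m * p ^ m * p := by
        have : zc * (p ^ j * p ^ j) ≤ zc * (p ^ m * p ^ m * p) := by
          calc zc * (p ^ j * p ^ j) ≤ zc * (p ^ m * p ^ m) * p := h2
            _ = zc * (p ^ m * p ^ m * p) := by ring
        exact Nat.le_of_mul_le_mul_left this hzcpos
      have h4 : p ^ (2 * j) ≤ p ^ (2 * m + 1) := by
        calc p ^ (2 * j) = p ^ j * p ^ j := by rw [two_mul, pow_add]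
          _ ≤ p ^ m * p ^ m * p := h3
          _ = p ^ (2 * m + 1) := by rw [two_mul, pow_succ, pow_add]
      have h5 := (Nat.pow_le_pow_iff_right hp.out.one_lt).mp h4
      omega
    exact ⟨j, by omega, by omega, hj⟩
  -- the sum of squares over Y
  have hall := h7_sum_degree_sq P
  have hker := knb_sum_sq_ker A
  have hker' : p * ∑ θ ∈ Finset.univ.filter
      (fun θ : Cfsg.IrrCharacter P => ∀ w ∈ A, (θ : P → ℂ) w = (θ : P → ℂ) 1),
      (Cfsg.charDegree (θ : P → ℂ)) ^ 2 = Nat.card P := by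
    have h1 : ∀ θ : Cfsg.IrrCharacter P, (θ : P → ℂ) 1 * (θ : P → ℂ) 1 =
        (((Cfsg.charDegree (θ : P → ℂ)) ^ 2 : ℕ) : ℂ) := by
      intro θ
      rw [← (charDegree_irr θ).1]
      push_cast
      ring
    rw [Finset.sum_congr rfl (fun θ _ => h1 θ), ← Nat.cast_sum, hAp, ← Nat.cast_mul] at hker
    exact_mod_cast hker
  have hsplit := Finset.sum_filter_add_sum_filter_not (Finset.univ : Finset (Cfsg.IrrCharacter P))
    (fun θ : Cfsg.IrrCharacter P => ∀ w ∈ A, (θ : P → ℂ) w = (θ : P → ℂ) 1)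
    (fun θ => (Cfsg.charDegree (θ : P → ℂ)) ^ 2)
  set S := ∑ θ ∈ Y, (Cfsg.charDegree (θ : P → ℂ)) ^ 2 with hS
  have hF4 : S + Nat.card (P ⧸ A) = Nat.card P := by
    have h1 : ∑ θ ∈ Finset.univ.filter
        (fun θ : Cfsg.IrrCharacter P => ∀ w ∈ A, (θ : P → ℂ) w = (θ : P → ℂ) 1),
        (Cfsg.charDegree (θ : P → ℂ)) ^ 2 = Nat.card (P ⧸ A) := by
      have : p * ∑ θ ∈ Finset.univ.filter
          (fun θ : Cfsg.IrrCharacter P => ∀ w ∈ A, (θ : P → ℂ) w = (θ : P → ℂ) 1),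
          (Cfsg.charDegree (θ : P → ℂ)) ^ 2 = p * Nat.card (P ⧸ A) := by
        rw [hker', hPQ, mul_comm]
      exact Nat.eq_of_mul_eq_mul_left hp.out.pos this
    rw [h1, hall, ← Nat.card_eq_fintype_card] at hsplit
    rw [← hsplit, add_comm]
  -- the upper bound
  set T := (Finset.Icc 1 (m - 1)).image (fun j => p ^ j) with hT
  have hmaps : ∀ θ ∈ Y, Cfsg.charDegree (θ : P → ℂ) ∈ T := by
    intro θ hθ
    obtain ⟨j, hj1, hj2, hj⟩ := hF3 θ hθ
    rw [hT, Finset.mem_image]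
    exact ⟨j, Finset.mem_Icc.mpr ⟨hj1, by omega⟩, hj.symm⟩
  have hfib := Finset.sum_fiberwise_of_maps_to hmaps
    (fun θ : Cfsg.IrrCharacter P => (Cfsg.charDegree (θ : P → ℂ)) ^ 2)
  have hF5 : S ≤ Nat.totient E * ∑ j ∈ Finset.Icc 1 (m - 1), (p ^ j) ^ 2 := by
    rw [hS, ← hfib]
    have h1 : ∀ d ∈ T, ∑ θ ∈ Y.filter (fun θ : Cfsg.IrrCharacter P =>
          Cfsg.charDegree (θ : P → ℂ) = d),
        (Cfsg.charDegree (θ : P → ℂ)) ^ 2 ≤ Nat.totient E * d ^ 2 := by
      intro d hd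
      have hd1 : d ≠ 1 := by
        rw [hT, Finset.mem_image] at hd
        obtain ⟨j, hj, rfl⟩ := hd
        have hj1 := (Finset.mem_Icc.mp hj).1
        have : p ^ 1 ≤ p ^ j := Nat.pow_le_pow_right hp.out.pos hj1
        rw [pow_one] at this
        omega
      rw [Finset.sum_congr rfl (fun θ hθ => by rw [(Finset.mem_filter.mp hθ).2])]
      rw [Finset.sum_const, smul_eq_mul]
      apply Nat.mul_le_mul_right
      refine le_trans (Finset.card_le_card ?_) (h7_pg_count_degree hGC E hEpos hexp hcopE d hd1)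
      intro θ hθ
      rw [Finset.mem_filter] at hθ ⊢
      exact ⟨Finset.mem_univ _, hθ.2⟩
    refine le_trans (Finset.sum_le_sum h1) ?_
    rw [← Finset.mul_sum, hT, Finset.sum_image]
    intro a _ b _ hab
    exact Nat.pow_right_injective hp2 hab
  -- geometric sum
  set q := p * p with hq
  have hq1 : 1 ≤ q := by rw [hq]; nlinarith
  have hgeo := h7_pg_geom q m hq1
  have hF7 : ∑ j ∈ Finset.Icc 1 (m - 1), (p ^ j) ^ 2 ≤ ∑ j ∈ Finset.range m, q ^ j := by
    have h1 : ∀ j, (p ^ j) ^ 2 = q ^ j := by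
      intro j
      rw [hq, ← pow_mul, mul_comm, pow_mul, sq]
    rw [Finset.sum_congr rfl (fun j _ => h1 j)]
    apply Finset.sum_le_sum_of_subset
    intro j hj
    rw [Finset.mem_Icc] at hj
    rw [Finset.mem_range]
    omega
  -- final arithmetic
  set Gs := ∑ j ∈ Finset.range m, q ^ j with hGs
  have hQcard : Nat.card (P ⧸ A) = zc * q ^ m := by
    rw [← hDsq, hDm, hq, mul_pow]
  have hSval : S + zc * q ^ m = zc * q ^ m * p := by
    rw [← hQcard, hF4, hPQ]
  have hSle : S ≤ zc * p * (p - 1) * Gs := by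
    refine le_trans hF5 ?_
    rw [htot]
    exact Nat.mul_le_mul_left _ hF7
  obtain ⟨r, hr⟩ : ∃ r, p = r + 2 := ⟨p - 2, by omega⟩
  have hp1 : p - 1 = r + 1 := by omega
  have hqm : 0 < q ^ m := pow_pos (by omega) m
  have hq' : q - 1 = r * r + 4 * r + 3 := by
    rw [hq, hr]
    have : (r + 2) * (r + 2) = r * r + 4 * r + 3 + 1 := by ring
    rw [this]
    rfl
  rw [hq'] at hgeo
  rw [hp1] at hSle
  rw [hr] at hSval hSle
  -- S = zc q^m (r+1); S (q-1) ≤ zc (r+2)(r+1) Gs (q-1) < zc (r+2)(r+1) q^m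
  have hS' : S = zc * q ^ m * (r + 1) := by
    have : S + zc * q ^ m = zc * q ^ m * (r + 1) + zc * q ^ m := by rw [hSval]; ring
    exact Nat.add_right_cancel this
  have h1 : S * (r * r + 4 * r + 3) ≤ zc * (r + 2) * (r + 1) * Gs * (r * r + 4 * r + 3) :=
    Nat.mul_le_mul_right _ hSle
  have h2 : Gs * (r * r + 4 * r + 3) < q ^ m := by omega
  have h3 : zc * (r + 2) * (r + 1) * Gs * (r * r + 4 * r + 3) <
      zc * (r + 2) * (r + 1) * q ^ m := by
    calc zc * (r + 2) * (r + 1) * Gs * (r * r + 4 * r + 3)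
        = zc * (r + 2) * (r + 1) * (Gs * (r * r + 4 * r + 3)) := by ring
      _ < zc * (r + 2) * (r + 1) * q ^ m := by
          apply Nat.mul_lt_mul_of_pos_left h2
          positivity
  have h4 : S * (r * r + 4 * r + 3) < zc * (r + 2) * (r + 1) * q ^ m := lt_of_le_of_lt h1 h3
  rw [hS'] at h4
  have h5 : zc * q ^ m * (r + 1) * (r * r + 4 * r + 3) =
      zc * (r + 2) * (r + 1) * q ^ m + zc * q ^ m * (r + 1) * (r * r + 3 * r + 1) := by ring
  rw [h5] at h4
  omega

end Cfsg.Agent.Lib.helper7
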