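import Mathlib
import Cfsg.Agent.Lib.helper7.PGal4

/-! S4845: the forward direction by induction. -/

set_option autoImplicit false

namespace Cfsg.Agent.Lib.helper7

open Cfsg.Agent.Lib.Helper25
open scoped ComplexConjugate commutatorElement

universe u

theorem h7_pg_forward (p : ℕ) [hp : Fact p.Prime] :
    ∀ (n : ℕ) (P : Type u) [Group P] [Finite P], Nat.card P = n → IsPGroup p P →
      (¬ ∀ a b : P, a * b = b * a) → h7_GC P →
      Nat.card (commutator P) = p ∧ IsCyclic (Subgroup.center P) := by
  intro n
  induction n using Nat.strong_induction_on with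
  | _ n ih =>
    intro P _ _ hn hP hna hGC
    have hne : commutator P ≠ ⊥ := by
      intro h
      apply hna
      intro a b
      have hmem : ⁅a, b⁆ ∈ commutator P := by
        rw [commutator_def]
        exact Subgroup.commutator_mem_commutator (Subgroup.mem_top _) (Subgroup.mem_top _)
      rw [h, Subgroup.mem_bot] at hmem
      exact commutatorElement_eq_one_iff_mul_comm.mp hmem
    obtain ⟨a, hac, haZ, hao⟩ := h7_pg_central_order_p p hP (commutator P) hne
    set A := Subgroup.zpowers a with hA
    have hAZ : A ≤ Subgroup.center P := Subgroup.zpowers_le.mpr haZ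
    have hAc : A ≤ commutator P := Subgroup.zpowers_le.mpr hac
    haveI : A.Normal := by
      refine ⟨fun w hw x => ?_⟩
      have h := Subgroup.mem_center_iff.mp (hAZ hw) x
      have : x * w * x⁻¹ = w := by rw [h, mul_assoc, mul_inv_cancel, mul_one]
      rw [this]; exact hw
    have hAp : Nat.card A = p := by rw [hA, Nat.card_zpowers, hao]
    have hcard : Nat.card (commutator P) = p := by
      by_cases hQab : ∀ x y : P ⧸ A, x * y = y * x
      · have hle : commutator P ≤ A := by
          rw [commutator_def, Subgroup.commutator_le]
          intro x _ y _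
          rw [← QuotientGroup.eq_one_iff]
          show (QuotientGroup.mk' A) ⁅x, y⁆ = 1
          rw [map_commutatorElement]
          exact commutatorElement_eq_one_iff_mul_comm.mpr (hQab _ _)
        rw [le_antisymm hle hAc]
        exact hAp
      · exfalso
        have hQGC := h7_pg_GC_quot hGC A
        have hQP : IsPGroup p (P ⧸ A) := hP.to_quotient A
        have hlt : Nat.card (P ⧸ A) < n := by
          have h1 := Subgroup.card_eq_card_quotient_mul_card_subgroup A
          rw [hAp, hn] at h1
          have hpos : 0 < Nat.card (P ⧸ A) := Nat.card_pos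
          have := hp.out.two_le
          nlinarith
        obtain ⟨h1, h2⟩ := ih _ hlt (P ⧸ A) rfl hQP hQab hQGC
        exact h7_pg_count_contra p hP hGC A hAZ hAc hAp h1 h2
    exact ⟨hcard, h7_pg_center_cyclic p hP hcard hGC⟩

end Cfsg.Agent.Lib.helper7
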