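import Mathlib
import Cfsg.Prelude.Def_Blocks
import Cfsg.Agent.Lib.helper7.Q8Cent3
import Cfsg.Agent.Lib.Helper24.BSQC5
import Cfsg.Agent.Lib.Helper24.BSQC4
import Cfsg.Agent.Lib.Helper24.BSQC3
import Cfsg.Agent.Lib.Helper24.BSQC9
import Cfsg.Agent.Lib.Helper21.QuatSylow

set_option autoImplicit false
set_option linter.style.haveILetI false
set_option linter.unusedSectionVars false
set_option linter.unusedVariables false

namespace Cfsg.Agent.Lib.helper7

open scoped ComplexConjugate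
open Cfsg.Agent.Lib.Helper25 Cfsg.Agent.Lib.Helper24

/-- Instantiation of helper24's `BsqHyp` for a group with a central involution, quaternion Sylow
`2`-subgroup of order 8 and one class of elements of order 4. -/
theorem h7_bsqHyp {K : Type*} [Group K] [Fintype K] [Fintype (Cfsg.IrrCharacter K)]
    (M : Ideal Cfsg.AlgInt) (hM : Cfsg.IsPModular 2 M) (z : K) (hz : orderOf z = 2)
    (hzc : z ∈ Subgroup.center K) (P : Sylow 2 K) (e : (P : Subgroup K) ≃* QuaternionGroup 2)
    (h4 : ∀ u v : K, orderOf u = 4 → orderOf v = 4 → IsConj u v)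
    [DecidablePred (· ∈ Cfsg.principalBlock M K)] :
    ∃ (ψ : Fin 4 → Cfsg.IrrCharacter K) (ε : ℤ), (ε = 1 ∨ ε = -1) ∧
      BsqHyp z (Finset.univ.filter (· ∈ Cfsg.principalBlock M K)) ψ ![1, 1, ε, -1] := by
  classical
  haveI : Fact (Nat.Prime 2) := ⟨Nat.prime_two⟩
  haveI : NeZero (2 : ℕ) := ⟨by norm_num⟩
  have hPr := hM.2.1.isPrime
  haveI hn : (Subgroup.zpowers z).Normal := bsqc_normal z hzc
  have hzz : z * z = 1 := by
    rw [← pow_two, ← hz, pow_orderOf_eq_one]
  have hk1 : ∀ u : K, orderOf u = 4 → u * u = z := by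
    intro u hu
    apply bsqc_invol_unique P e z hz hzc
    rw [← pow_two, orderOf_pow, hu]
    norm_num
  have hk3 : ∀ x : K, 4 ∣ orderOf x → ∃ u w : K, x = u * w ∧ orderOf u = 4 ∧
      w ∈ Cfsg.centralizerPPrimeCore 2 u := by
    intro x hx
    obtain ⟨u, y, hxy, hu, hcomm, hy⟩ := bsqc_four_decomp P e x hx
    exact ⟨u, y, hxy, hu, bsqc_cent_core P e u hu y hcomm hy⟩
  have hk4 : ∃ Q : Sylow 2 (K ⧸ Subgroup.zpowers z),
      IsKleinFour ↥(Q : Subgroup (K ⧸ Subgroup.zpowers z)) ∧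
      ∀ s t : K ⧸ Subgroup.zpowers z, orderOf s = 2 → orderOf t = 2 → IsConj s t := by
    obtain ⟨Q, hQ⟩ := bsqc_quot_klein P e z hz hzc (Subgroup.zpowers z) rfl
    exact ⟨Q, hQ, bsqc_quot_hone P e z hz hzc (Subgroup.zpowers z) rfl h4⟩
  obtain ⟨ψ₂, ψ₃, ψ₄, ε, hε, hnodup, hm2, hm3, hm4, hlist, hz2, hz3, hz4, hval, hrel, hF0⟩ :=
    h7_q8cent_step1 M hM z hz hzc hk1 hk3 hk4 h4
  have hεε : ε * ε = 1 := by
    rcases hε with rfl | rfl <;> norm_num
  have h1mem : trivIrr K ∈ Cfsg.principalBlock M K := h7_sameBlock_refl hPr _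
  simp only [List.nodup_cons, List.mem_cons, List.not_mem_nil, or_false, not_or,
    List.nodup_nil, and_true] at hnodup
  obtain ⟨⟨h12, h13, h14⟩, ⟨h23, h24⟩, h34, -⟩ := hnodup
  refine ⟨![trivIrr K, ψ₂, ψ₃, ψ₄], ε, hε, ?_⟩
  have hψlist : ∀ χ : Cfsg.IrrCharacter K, (∀ j : Fin 4, χ ≠ ![trivIrr K, ψ₂, ψ₃, ψ₄] j) →
      χ ∉ [trivIrr K, ψ₂, ψ₃, ψ₄] := by
    intro χ h hmem
    simp only [List.mem_cons, List.not_mem_nil, or_false] at hmem
    rcases hmem with h' | h' | h' | h'
    · exact h 0 h'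
    · exact h 1 h'
    · exact h 2 h'
    · exact h 3 h'
  have hFsign : ∀ χ ∈ Finset.univ.filter (· ∈ Cfsg.principalBlock M K),
      (∀ j : Fin 4, χ ≠ ![trivIrr K, ψ₂, ψ₃, ψ₄] j) →
      ∀ c : K, (χ : K → ℂ) (z * c) = -(χ : K → ℂ) c := by
    intro χ hχ hne c
    rw [Finset.mem_filter] at hχ
    obtain ⟨c', hc', hcx⟩ := h7_central_invol_sign χ z hzc hzz
    rcases hc' with rfl | rfl
    · exfalso
      apply hψlist χ hne
      apply hlist χ hχ.2
      have := hcx 1
      rwa [mul_one, one_mul] at this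
    · rw [hcx c]
      ring
  refine
    { split := fun F => ?_
      ex4 := ?_
      ψinj := ?_
      ψmem := ?_
      ψ0 := rfl
      s0 := rfl
      ssq := ?_
      ψz := ?_
      Fz := hFsign
      ψ4 := ?_
      F4 := ?_
      rel := ?_
      span := ?_
      int := ?_ }
  · convert bsqc_sum_split P e z hz hzc F using 2
  · refine ⟨Cfsg.Agent.Lib.Helper21.quatGen (P : Subgroup K) e, ?_⟩
    rw [Cfsg.Agent.Lib.Helper21.quat_orderOf_gen]
  · intro i j hij
    fin_cases i <;> fin_cases j <;> first | rfl | (exfalso; revert hij; simp [Matrix.cons_val_zero, Matrix.cons_val_one]; tauto)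
  · intro j
    rw [Finset.mem_filter]
    refine ⟨Finset.mem_univ _, ?_⟩
    fin_cases j
    · exact h1mem
    · exact hm2
    · exact hm3
    · exact hm4
  · intro j
    fin_cases j
    · show (1 : ℤ) * 1 = 1
      norm_num
    · show (1 : ℤ) * 1 = 1
      norm_num
    · exact hεε
    · show (-1 : ℤ) * -1 = 1
      norm_num
  · intro j c
    fin_cases j
    · show (trivIrr K : K → ℂ) (z * c) = (trivIrr K : K → ℂ) c
      rw [trivIrr_apply, trivIrr_apply]
    · exact hz2 c
    · exact hz3 c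
    · exact hz4 c
  · intro j c hc
    obtain ⟨hv2, hv3, hv4⟩ := hval c hc
    fin_cases j
    · show (trivIrr K : K → ℂ) c = ((1 : ℤ) : ℂ)
      rw [trivIrr_apply]
      norm_num
    · show (ψ₂ : K → ℂ) c = ((1 : ℤ) : ℂ)
      rw [hv2]
      norm_num
    · exact hv3
    · show (ψ₄ : K → ℂ) c = ((-1 : ℤ) : ℂ)
      rw [hv4]
      norm_num
  · intro χ hχ hne c hc
    have hχ' := (Finset.mem_filter.mp hχ).2
    apply hF0 χ hχ' _ c hc
    have := hFsign χ hχ hne 1
    rwa [mul_one] at this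
  · intro c hc
    rw [Fin.sum_univ_four]
    have := hrel c hc
    show ((1 : ℤ) : ℂ) * (trivIrr K : K → ℂ) c + ((1 : ℤ) : ℂ) * (ψ₂ : K → ℂ) c +
      ((ε : ℤ) : ℂ) * (ψ₃ : K → ℂ) c + ((-1 : ℤ) : ℂ) * (ψ₄ : K → ℂ) c = 0
    rw [trivIrr_apply]
    push_cast
    linear_combination this
  · intro θ hθ μ hμ
    have hθ' := (Finset.mem_filter.mp hθ).2
    have hμ' : μ ∉ Cfsg.principalBlock M K := by
      intro h
      apply hμ
      rw [Finset.mem_filter]
      exact ⟨Finset.mem_univ _, h⟩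
    have hB : Cfsg.IsPBlock M (Cfsg.principalBlock M K) := ⟨trivIrr K, rfl⟩
    have h := h7_pregular_part_in_block 2 M hM (Cfsg.principalBlock M K) hB (θ : K → ℂ)
      (fun g h => irr_conj_invariant θ g h) (by
        intro χ hχ
        rw [irr_classInner, if_neg]
        rintro rfl
        exact hχ hθ') μ hμ'
    have hfun : bsqOdd (θ : K → ℂ) = fun g : K => if 2 ∣ orderOf g then 0 else (θ : K → ℂ) g := by
      funext g
      rw [bsqOdd_apply]
      by_cases hg : 2 ∣ orderOf g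
      · rw [if_pos hg, if_neg]
        rw [Nat.not_odd_iff_even]
        exact even_iff_two_dvd.mpr hg
      · rw [if_neg hg, if_pos]
        rw [← Nat.not_even_iff_odd, even_iff_two_dvd]
        exact hg
    rw [hfun]
    exact h
  · intro θ
    have h := Cfsg.Agent.S0961.result 2 θ
    have hcard : (2 ^ (Nat.card K).factorization 2 : ℕ) = 8 := by
      rw [← P.card_eq_multiplicity]
      exact bsqc_card_P P e
    rw [hcard] at h
    convert h using 1
    funext g
    rw [bsqOdd_apply]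
    by_cases hg : 2 ∣ orderOf g
    · rw [if_pos hg, if_neg, mul_zero]
      rw [Nat.not_odd_iff_even]
      exact even_iff_two_dvd.mpr hg
    · rw [if_neg hg, if_pos]
      · norm_num
      · rw [← Nat.not_even_iff_odd, even_iff_two_dvd]
        exact hg

end Cfsg.Agent.Lib.helper7
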