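import Mathlib

set_option autoImplicit false
set_option linter.unusedVariables false
set_option linter.unusedSectionVars false

namespace Cfsg.Agent.Lib.helper7

section Q8Comb

variable {ι : Type*} [Fintype ι] [DecidableEq ι]

theorem h7_q8c_sq_le_one (x f : ι → ℤ) (hx : ∑ k, x k ^ 2 = 4) (hxf : ∑ k, x k * f k = 0)
    (hf : ∀ k, 0 < f k) (k : ι) : x k ^ 2 ≤ 1 := by
  by_contra h
  push Not at h
  have h4 : 4 ≤ x k ^ 2 := by
    by_contra h'
    push Not at h'
    have h1 : -2 < x k := by nlinarith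
    have h2 : x k < 2 := by nlinarith
    interval_cases (x k) <;> simp_all
  have hsum := Finset.add_sum_erase Finset.univ (fun l => x l ^ 2) (Finset.mem_univ k)
  rw [hx] at hsum
  have hnn : 0 ≤ ∑ l ∈ Finset.univ.erase k, x l ^ 2 :=
    Finset.sum_nonneg fun l _ => sq_nonneg (x l)
  have hz : ∑ l ∈ Finset.univ.erase k, x l ^ 2 = 0 := by linarith
  have hz' := (Finset.sum_eq_zero_iff_of_nonneg (fun l _ => sq_nonneg (x l))).mp hz
  have hzero : ∀ l, l ≠ k → x l = 0 := by
    intro l hl
    have := hz' l (Finset.mem_erase.mpr ⟨hl, Finset.mem_univ l⟩)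
    exact pow_eq_zero_iff (two_ne_zero) |>.mp this
  have hs : ∑ l, x l * f l = x k * f k := by
    apply Finset.sum_eq_single k
    · intro l _ hl
      rw [hzero l hl, zero_mul]
    · intro hk
      exact absurd (Finset.mem_univ k) hk
  rw [hs] at hxf
  have hfk := hf k
  have hxk : x k = 0 := by
    rcases mul_eq_zero.mp hxf with h0 | h0
    · exact h0
    · omega
  rw [hxk] at h4
  norm_num at h4

theorem h7_q8c_mul_eq (a b : ℤ) (ha : a ^ 2 ≤ 1) (hb : b ^ 2 ≤ 1) (hab : (a - b) ^ 2 ≤ 1) :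
    a * b = a ^ 2 * b ^ 2 := by
  have h1 : -1 ≤ a := by nlinarith
  have h2 : a ≤ 1 := by nlinarith
  have h3 : -1 ≤ b := by nlinarith
  have h4 : b ≤ 1 := by nlinarith
  interval_cases a <;> interval_cases b <;> simp_all

end Q8Comb

end Cfsg.Agent.Lib.helper7
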