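import Mathlib
import Cfsg.Prelude.Def_Blocks
import Cfsg.Agent.Lib.Helper18.BSQ8Group
import Cfsg.Agent.Lib.Helper29.BSQ8Spec

set_option autoImplicit false
set_option linter.style.haveILetI false
set_option linter.unusedSectionVars false
set_option linter.unusedVariables false

namespace Cfsg.Agent.Lib.helper7

open Cfsg.Agent.Lib.Helper25 Cfsg.Agent.Lib.Helper18.BSQ8 Cfsg.Agent.Lib.Helper29.BSQ8

/-- The principal block has seven members as soon as its shape is given by a `CData`. -/
theorem h7_card_of_cdata {C : Type*} [Group C] (M : Ideal Cfsg.AlgInt) (z : C)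
    (D : CData M z) : Nat.card (Cfsg.principalBlock M C) = 7 := by
  classical
  have h1 : Cfsg.principalBlock M C =
      (([trivIrr C, D.ψ₂, D.ψ₃, D.ψ₄, D.χ₁, D.χ₂, D.χ₃].toFinset :
        Finset (Cfsg.IrrCharacter C)) : Set (Cfsg.IrrCharacter C)) := by
    ext χ
    rw [D.block χ, Finset.mem_coe, List.mem_toFinset]
  rw [h1, Nat.card_coe_set_eq, Set.ncard_coe_finset, List.toFinset_card_of_nodup D.nodup]
  rfl

/-- Reduction of S0951 to the Brauer–Suzuki theorem (`|Z(G)| = 2`) and the `C`-side theorem. -/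
theorem h7_q8_seven {G : Type*} [Group G] [Finite G] (M : Ideal Cfsg.AlgInt)
    (S : Sylow 2 G) (e : (S : Subgroup G) ≃* QuaternionGroup 2)
    (hO : ∀ N : Subgroup G, N.Normal → Odd (Nat.card N) → N = ⊥)
    (hG : (S : Subgroup G) ≠ ⊤) (hcenter : Nat.card (Subgroup.center G) = 2)
    (hPC : ∀ z : G, orderOf z = 2 → z ∈ Subgroup.center G →
      (∀ u v : G, orderOf u = 4 → orderOf v = 4 → IsConj u v) → Nonempty (CData M z)) :
    Nat.card (Cfsg.principalBlock M G) = 7 := by
  classical
  haveI : Fact (Nat.Prime 2) := ⟨Nat.prime_two⟩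
  haveI : NeZero (2 : ℕ) := ⟨by norm_num⟩
  -- no normal complement
  have hnc : ∀ N : Subgroup G, N.Normal → ¬ Subgroup.IsComplement' N (S : Subgroup G) := by
    intro N hN hcomp
    have hNodd : Odd (Nat.card N) := by
      have h1 : (S : Subgroup G).index = Nat.card N := hcomp.index_eq_card
      have h3 : ¬ 2 ∣ Nat.card N := by
        rw [← h1]; exact S.not_dvd_index
      exact Nat.odd_iff.mpr (Nat.two_dvd_ne_zero.mp h3)
    have hNbot := hO N hN hNodd
    rw [hNbot] at hcomp
    exact hG (Subgroup.isComplement'_bot_left.mp hcomp)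
  obtain ⟨z, hz2, hzS, -, hconj, -, -, -⟩ := q8_g1 S e
  -- `z` is central
  have hzc : z ∈ Subgroup.center G := by
    obtain ⟨t, ht⟩ : ∃ t : Subgroup.center G, orderOf t = 2 := by
      apply exists_prime_orderOf_dvd_card' 2
      rw [hcenter]
    have ht2 : orderOf (t : G) = 2 := by rw [Subgroup.orderOf_coe]; exact ht
    obtain ⟨g, hg⟩ := isConj_iff.mp (hconj (t : G) ht2)
    have htc := Subgroup.mem_center_iff.mp t.2
    have : (t : G) = z := by
      have h1 : g * z * g⁻¹ = (t : G) := hg
      have h2 : z = g⁻¹ * (t : G) * g := by rw [← h1]; group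
      rw [h2, htc g⁻¹]
      group
    rw [← this]
    exact t.2
  obtain ⟨hSC, -, h4C⟩ := q8_g2 S e hnc z hz2 hzS
  have hCtop : ∀ g : G, g ∈ Subgroup.centralizer ({z} : Set G) := by
    intro g
    rw [Subgroup.mem_centralizer_singleton_iff]
    exact Subgroup.mem_center_iff.mp hzc g
  have h4 : ∀ u v : G, orderOf u = 4 → orderOf v = 4 → IsConj u v := by
    intro u v hu hv
    have h := h4C ⟨u, hCtop u⟩ ⟨v, hCtop v⟩ (by rw [Subgroup.orderOf_mk]; exact hu)
      (by rw [Subgroup.orderOf_mk]; exact hv)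
    exact (Subgroup.centralizer ({z} : Set G)).subtype.map_isConj h
  obtain ⟨D⟩ := hPC z hz2 hzc h4
  exact h7_card_of_cdata M z D

end Cfsg.Agent.Lib.helper7
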