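import Mathlib
import Cfsg.Agent.Lib.helper3.S5953.Defs2
import Cfsg.Prelude.Def_LieClassical
import Cfsg.Agent.Lib.Helper11.S5953T9
import Cfsg.Agent.Lib.Helper20.S5953T1

/-!
# Project S5953, row R3: `x ^ 2 = μ ^ 2`, `μ` of norm `-1`: both eigenspaces are t.i. of dimension `n / 2`
-/

set_option autoImplicit false
set_option linter.unusedVariables false

namespace Cfsg.Agent.Lib.helper3.S5953

open Polynomial Module

/-- a subspace of every dimension `≤ finrank U` inside `U`. -/
theorem s5953r3_exists_sub {F : Type*} [Field F] {V : Type*} [AddCommGroup V] [Module F V]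
    (U : Submodule F V) [FiniteDimensional F U] (m : ℕ) (hm : m ≤ finrank F U) :
    ∃ Y : Submodule F V, Y ≤ U ∧ finrank F Y = m := by
  classical
  let b := Module.finBasis F U
  let v : Fin m → V := fun i => ((b (Fin.castLE hm i) : U) : V)
  have hli : LinearIndependent F v := by
    have h1 : LinearIndependent F (fun i : Fin m => b (Fin.castLE hm i)) :=
      b.linearIndependent.comp _ (Fin.castLE_injective hm)
    exact h1.map' U.subtype (Submodule.ker_subtype U)
  refine ⟨Submodule.span F (Set.range v), ?_, ?_⟩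
  · rw [Submodule.span_le]
    rintro _ ⟨i, rfl⟩
    exact (b (Fin.castLE hm i)).2
  · rw [finrank_span_eq_card hli, Fintype.card_fin]

/-- the `c`-eigenspace of an isometry with `c ^ (q + 1) = -1` is totally isotropic. -/
theorem s5953r3_eig_ti {F : Type*} [Field F] {q : ℕ} {ι : Type*} [Fintype ι] (h2 : (2 : F) ≠ 0)
    {x : Module.End F (ι → F)} (hpres : ∀ u v, hermI ι F q (x u) (x v) = hermI ι F q u v)
    (c : F) (hc : c ^ (q + 1) = -1) (u v : ι → F) (hu : x u = c • u) (hv : x v = c • v) :
    hermI ι F q u v = 0 := by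
  have h1 := hpres u v
  rw [hu, hv, hermI_smul_left, hermI_smul_right, ← mul_assoc, ← pow_succ', hc] at h1
  have h3 : (2 : F) * hermI ι F q u v = 0 := by linear_combination -h1
  rcases mul_eq_zero.mp h3 with h4 | h4
  · exact absurd h4 h2
  · exact h4

/-- R3 [M] SQNEG. -/
theorem sqneg_suff {F : Type*} [Field F] [Fintype F] {q n : ℕ} (hF : Fintype.card F = q ^ 2)
    (h2 : (2 : F) ≠ 0) {z : F} {x : Module.End F (Fin n → F)} (h : HCtx q 2 z x) (μ : F)
    (hμ : μ ^ (q + 1) = -1) (hμz : μ ^ 2 = z) (m : ℕ) (hm : 2 * m ≤ n) : HTId q x m := by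
  have hq0 : q ≠ 0 := by
    rintro rfl
    rw [zero_pow two_ne_zero] at hF
    exact Fintype.card_ne_zero hF
  have hμ0 : μ ≠ 0 := by
    rintro rfl
    rw [zero_pow (by omega)] at hμ
    have : (1 : F) = 0 := by
      have h3 : (-1 : F) = 0 := hμ.symm
      linear_combination -h3
    exact one_ne_zero this
  have hxx : ∀ v, x (x v) = z • v := by
    intro v
    have := congrArg (fun f : Module.End F (Fin n → F) => f v) h.pow
    simpa [pow_two] using this
  -- `(-1) ^ (q + 1) = 1`
  have hsign : ((-1 : F)) ^ (q + 1) = 1 := by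
    rcases Nat.even_or_odd (q + 1) with he | ho
    · exact he.neg_one_pow
    · exfalso
      have hq1 : Odd (q - 1) := by
        obtain ⟨k, hk⟩ := ho
        exact ⟨k - 1, by omega⟩
      have h3 : μ ^ (q ^ 2 - 1) = 1 := by
        rw [← hF]
        exact FiniteField.pow_card_sub_one_eq_one μ hμ0
      have h4 : q ^ 2 - 1 = (q + 1) * (q - 1) := by
        have : 1 ≤ q := Nat.one_le_iff_ne_zero.mpr hq0
        obtain ⟨j, rfl⟩ : ∃ j, q = j + 1 := ⟨q - 1, by omega⟩
        simp only [Nat.add_sub_cancel]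
        have : (j + 1) ^ 2 = (j + 1 + 1) * j + 1 := by ring
        rw [this, Nat.add_sub_cancel]
      rw [h4, pow_mul, hμ, hq1.neg_one_pow] at h3
      apply h2
      linear_combination -h3
  have hnegμ : (-μ) ^ (q + 1) = -1 := by
    rw [neg_pow, hsign, one_mul, hμ]
  -- the two eigenspaces
  obtain ⟨Ep, hEp⟩ : ∃ Ep : Submodule F (Fin n → F), Ep = LinearMap.ker (x - μ • 1) := ⟨_, rfl⟩
  obtain ⟨Em, hEm⟩ : ∃ Em : Submodule F (Fin n → F), Em = LinearMap.ker (x + μ • 1) := ⟨_, rfl⟩
  have hEp_mem : ∀ v, v ∈ Ep ↔ x v = μ • v := by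
    intro v
    rw [hEp, LinearMap.mem_ker, LinearMap.sub_apply, LinearMap.smul_apply, Module.End.one_apply,
      sub_eq_zero]
  have hEm_mem : ∀ v, v ∈ Em ↔ x v = (-μ) • v := by
    intro v
    rw [hEm, LinearMap.mem_ker, LinearMap.add_apply, LinearMap.smul_apply, Module.End.one_apply,
      neg_smul]
    exact ⟨eq_neg_of_add_eq_zero_left, fun hh => by rw [hh]; exact neg_add_cancel _⟩
  have hEpti : HTI q Ep := fun u hu v hv =>
    s5953r3_eig_ti h2 h.pres μ hμ u v ((hEp_mem u).mp hu) ((hEp_mem v).mp hv)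
  have hEmti : HTI q Em := fun u hu v hv =>
    s5953r3_eig_ti h2 h.pres (-μ) hnegμ u v ((hEm_mem u).mp hu) ((hEm_mem v).mp hv)
  have h2μ : (2 : F) * μ ≠ 0 := mul_ne_zero h2 hμ0
  have hcompl : IsCompl Ep Em := by
    constructor
    · rw [Submodule.disjoint_def]
      intro v hv1 hv2
      rw [hEp_mem] at hv1
      rw [hEm_mem, hv1] at hv2
      have h3 : ((2 : F) * μ) • v = 0 := by
        rw [mul_smul, two_smul]
        have : μ • v + μ • v = μ • v + (-μ) • v := by rw [← hv2]
        rw [this, ← add_smul, add_neg_cancel, zero_smul]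
      rcases smul_eq_zero.mp h3 with h4 | h4
      · exact absurd h4 h2μ
      · exact h4
    · rw [codisjoint_iff, eq_top_iff]
      intro v _
      have e : v = ((2 : F) * μ)⁻¹ • (x v + μ • v) + (-((2 : F) * μ)⁻¹) • (x v - μ • v) := by
        rw [neg_smul, ← sub_eq_add_neg, ← smul_sub, add_sub_sub_cancel, ← two_smul F (μ • v),
          smul_smul, smul_smul, mul_assoc _ (2 : F) μ, inv_mul_cancel₀ h2μ, one_smul]
      rw [e]
      apply Submodule.add_mem_sup
      · apply Submodule.smul_mem
        rw [hEp_mem, map_add, map_smul, hxx, ← hμz, smul_add, smul_smul, pow_two]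
        abel
      · apply Submodule.smul_mem
        rw [hEm_mem, map_sub, map_smul, hxx, ← hμz, smul_sub, smul_smul, neg_smul, neg_mul,
          neg_smul, pow_two]
        abel
  have hsum : finrank F Ep + finrank F Em = n := by
    rw [Submodule.finrank_add_eq_of_isCompl hcompl, Module.finrank_fin_fun]
  have hnd : HND q (⊤ : Submodule F (Fin n → F)) := by
    intro u _ hu
    exact hermI_nd hq0 u (fun v => hu v Submodule.mem_top)
  have hp := ti_le_half hF ⊤ Ep hnd le_top hEpti
  have hmm := ti_le_half hF ⊤ Em hnd le_top hEmti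
  rw [finrank_top, Module.finrank_fin_fun] at hp hmm
  obtain ⟨Y, hYE, hYd⟩ := s5953r3_exists_sub Ep m (by omega)
  refine ⟨Y, ?_, fun u hu v hv => hEpti u (hYE hu) v (hYE hv), hYd⟩
  intro w hw
  rw [(hEp_mem w).mp (hYE hw)]
  exact Submodule.smul_mem _ _ hw

end Cfsg.Agent.Lib.helper3.S5953
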