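import Cfsg.Agent.Lib.helper14.SGUDefs
import Cfsg.Agent.Lib.helper14.SGUPAR
import Cfsg.Agent.Lib.Helper16.PSemi4
import Cfsg.Agent.Lib.Helper11.SPDKERFAC
import Cfsg.Agent.Lib.Helper20.SPDK3
import Cfsg.Agent.Lib.Helper24.SPDADJ
import Cfsg.Agent.Lib.Helper22.SPDSEMI
import Cfsg.Agent.Lib.Lead.SPDFIXND
import Cfsg.Agent.Lib.Helper9.SPDBLOCKEVENcore
import Cfsg.Agent.Lib.helper6.Symp

/-!
# Project SGU (S5976), row DERAcore, second copy (helper7): `sguderacore7_core`
= `der_A_core` with the statement of NSD (for this `y`) as a hypothesis.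
-/

set_option autoImplicit false

namespace Cfsg.Agent.Lib.helper14.SGU

open Polynomial Module Cfsg.Agent.Lib.Lead.SPU Cfsg.Agent.Lib.Helper19.SPD

universe u

variable {F : Type u} [Field F] {d : ℕ}

/-- `J` commuting with `y` commutes with every polynomial in `y`. -/
theorem sguderacore7_comm (y J : (Fin d ⊕ Fin d → F) →ₗ[F] (Fin d ⊕ Fin d → F))
    (hJy : ∀ v, J (y v) = y (J v)) (g : F[X]) (v : Fin d ⊕ Fin d → F) :
    J (aeval y g v) = aeval y g (J v) := by
  have hc : Commute J y := by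
    apply LinearMap.ext
    intro v
    exact hJy v
  have h2 : Commute J (aeval y g) := by
    induction g using Polynomial.induction_on' with
    | add p q hp hq => rw [map_add]; exact hp.add_right hq
    | monomial n a =>
      rw [Polynomial.aeval_monomial]
      exact (Algebra.commute_algebraMap_right a J).mul_right (hc.pow_right n)
  have := LinearMap.congr_fun h2.eq v
  exact this

theorem sguderacore7_core [Fintype F] {p q : ℕ} [Fact p.Prime] [CharP F p] (hq : Fintype.card F = q) (hodd : Odd q)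
    (r : ℕ) [Fact r.Prime] (hr2 : r ≠ 2) (hrp : r ≠ p) (i : ℕ) (hi : i = orderOf (q : ZMod r)) (hio : Odd i)
    (y : (Fin d ⊕ Fin d → F) →ₗ[F] (Fin d ⊕ Fin d → F)) (hiso : Isom y) (hy : y ^ r = 1)
    (hfx : finrank F (Fx y) + 2 * i = 2 * d)
    (c0 : F) (hnsq : ∀ x : F, x * x ≠ c0) (J : (Fin d ⊕ Fin d → F) →ₗ[F] (Fin d ⊕ Fin d → F))
    (hJ2 : ∀ v, J (J v) = c0 • v) (hJy : ∀ v, J (y v) = y (J v))
    (hnsd : ∀ (g : F[X]), Irreducible g → Odd g.natDegree → ∀ v : Fin d ⊕ Fin d → F,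
      aeval y g v = 0 → aeval (y ^ (r - 1)) g v = 0 → (y v = v → v = 0) → v = 0) : False := by
  classical
  have hr : r.Prime := Fact.out
  have hp : p.Prime := Fact.out
  have hrF : (r : F) ≠ 0 := by
    intro h
    rw [CharP.cast_eq_zero_iff F p] at h
    exact hrp ((Nat.prime_dvd_prime_iff_eq hp hr).mp h).symm
  -- r ∤ q
  have hrq : ¬ r ∣ q := by
    obtain ⟨e, _, hqe⟩ := FiniteField.card F p
    rw [hq] at hqe
    intro h
    rw [hqe] at h
    exact hrp ((Nat.prime_dvd_prime_iff_eq hr hp).mp (hr.dvd_of_dvd_pow h))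
  -- i ∣ r - 1
  have hir : i ∣ r - 1 := by
    rw [hi, orderOf_dvd_iff_pow_eq_one]
    apply ZMod.pow_card_sub_one_eq_one
    rw [Ne, ZMod.natCast_eq_zero_iff]
    exact hrq
  obtain ⟨t, ht⟩ := hir
  have ht' : t * i = r - 1 := by rw [ht, mul_comm]
  obtain ⟨κ, hκ1, hκ2, f, -, hirr, hdeg, -, -, hprod, -⟩ :=
    Cfsg.Agent.Lib.Helper16.PSemi.cyclo_data hq r i t hr hrp hi ht'
  -- the moved space
  have hNDtop : ND (⊤ : Submodule F (Fin d ⊕ Fin d → F)) := by
    intro u _ hu
    by_contra hne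
    obtain ⟨x, hx⟩ := Cfsg.Agent.Lib.helper6.sympForm_nondeg d u hne
    exact hx (hu x trivial)
  have hInvtop : Inv y (⊤ : Submodule F (Fin d ⊕ Fin d → F)) := fun v _ => trivial
  obtain ⟨-, hND, -, -, hInv, hFF⟩ := fix_nd r hrF y hiso hy ⊤ hInvtop hNDtop
  rw [top_inf_eq] at hND hInv hFF
  have hcompl := semi_compl r hrF y hy
  have hdimW : finrank F (Mv y) = 2 * i := by
    have h1 := Submodule.finrank_sup_add_finrank_inf_eq (Fx y) (Mv y)
    rw [hcompl.sup_eq_top, hcompl.inf_eq_bot, finrank_bot, finrank_top, Module.finrank_fintype_fun_eq_card,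
      Fintype.card_sum, Fintype.card_fin] at h1
    omega
  have hi1 : 1 ≤ i := by
    obtain ⟨m, hm⟩ := hio
    omega
  have hWne : Mv y ≠ ⊥ := by
    intro h
    rw [h, finrank_bot] at hdimW
    omega
  have hJW : ∀ w ∈ Mv y, J w ∈ Mv y := by
    rintro _ ⟨v, rfl⟩
    refine ⟨J v, ?_⟩
    rw [LinearMap.sub_apply, LinearMap.sub_apply, Module.End.one_apply, Module.End.one_apply,
      map_sub, hJy]
  obtain ⟨k, v, hvW, hv0, hvk⟩ := ker_fac r y hy f hprod (Mv y) hInv hFF hWne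
  -- W_k
  set Wk : Submodule F (Fin d ⊕ Fin d → F) := Mv y ⊓ LinearMap.ker (aeval y (f k)) with hWk
  have hWkInv : Inv y Wk := by
    intro w hw
    rw [hWk, Submodule.mem_inf] at hw ⊢
    refine ⟨hInv w hw.1, ?_⟩
    rw [LinearMap.mem_ker, spdbe_comm, LinearMap.mem_ker.1 hw.2, map_zero]
  have hWkFF : FF y Wk := fun w hw => hFF w (Submodule.mem_inf.1 hw).1
  have hWkJ : ∀ w ∈ Wk, J w ∈ Wk := by
    intro w hw
    rw [hWk, Submodule.mem_inf] at hw ⊢
    refine ⟨hJW w hw.1, ?_⟩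
    rw [LinearMap.mem_ker, ← sguderacore7_comm y J hJy, LinearMap.mem_ker.1 hw.2, map_zero]
  have hvWk : v ∈ Wk := Submodule.mem_inf.2 ⟨hvW, LinearMap.mem_ker.2 hvk⟩
  have hdvd : i ∣ finrank F Wk := by
    rw [hi]; exact k3_dvd hq r y hy Wk hWkInv hWkFF
  have heven : Even (finrank F Wk) := par c0 hnsq J hJ2 Wk hWkJ
  have hle : finrank F Wk ≤ 2 * i := by
    rw [← hdimW]; exact Submodule.finrank_mono inf_le_left
  have hpos : 0 < finrank F Wk := by
    rw [Module.finrank_pos_iff_exists_ne_zero]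
    exact ⟨⟨v, hvWk⟩, fun h => hv0 (congrArg Subtype.val h)⟩
  have hdimWk : finrank F Wk = 2 * i := by
    obtain ⟨c, hc⟩ := hdvd
    obtain ⟨m, hm⟩ := heven
    obtain ⟨n, hn⟩ := hio
    have hc2 : c = 2 := by
      have hcpos : 0 < c := by
        rcases Nat.eq_zero_or_pos c with h | h
        · rw [h, mul_zero] at hc; omega
        · exact h
      have hcle : c ≤ 2 := by
        by_contra hcon
        have : i * 3 ≤ i * c := Nat.mul_le_mul_left i (by omega)
        omega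
      have hc1 : c ≠ 1 := by
        intro h1
        rw [h1, mul_one] at hc
        omega
      omega
    rw [hc, hc2, mul_comm]
  have hWkW : Wk = Mv y := by
    apply Submodule.eq_of_le_of_finrank_eq inf_le_left
    rw [hdimWk, hdimW]
  have hkill : ∀ w ∈ Mv y, aeval y (f k) w = 0 := by
    intro w hw
    rw [← hWkW] at hw
    exact LinearMap.mem_ker.1 (Submodule.mem_inf.1 hw).2
  -- the adjoint also kills W
  have hpowInv : Inv (y ^ (r - 1)) (Mv y) := by
    intro w hw
    exact spdbe_pow_mem y (Mv y) hInv (r - 1) w hw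
  have hkill' : aeval (y ^ (r - 1)) (f k) v = 0 := by
    have hu : aeval (y ^ (r - 1)) (f k) v ∈ Mv y := spdbe_aeval_mem (y ^ (r - 1)) (Mv y) hpowInv (f k) v hvW
    apply hND _ hu
    intro w' hw'
    rw [Cfsg.Agent.Lib.helper6.sympForm_swap, ← adj_aeval r hr.pos y hiso hy (f k) w' v, hkill w' hw',
      ]
    simp [Cfsg.sympForm]
  have hdegodd : Odd (f k).natDegree := by rw [hdeg k]; exact hio
  exact hv0 (hnsd (f k) (hirr k) hdegodd v hvk hkill' (hFF v hvW))

end Cfsg.Agent.Lib.helper14.SGU
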