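import Mathlib
import Cfsg.Agent.Lib.helper7.SPC.Defs
import Cfsg.Agent.Lib.Helper24.SPCM3
import Cfsg.Agent.Lib.Helper24.SPCM1
import Cfsg.Agent.Lib.Helper29.SPCM2
import Cfsg.Agent.Lib.Helper24.SPCC1
import Cfsg.Agent.Lib.helper6.SPCC5
import Cfsg.Agent.Lib.Helper20.SPCC3
import Cfsg.Agent.Lib.helper4.SPCC6
import Cfsg.Agent.Lib.helper4.SPCC7
import Cfsg.Agent.Lib.helper4.SPCC9

set_option autoImplicit false

/-!
# Project SPC (designer helper7): MAIN = the statement of S2676 from the rows.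
-/

namespace Cfsg.Agent.Lib.helper7.SPC

universe u

open Module

/-- the classes of elements with `g ^ p = 1` are in bijection with the signed partitions -/
theorem card_classes {F : Type u} [Field F] [Fintype F] {p : ℕ} [Fact p.Prime] [CharP F p] (hp : p ≠ 2)
    (m : ℕ) :
    Nat.card {C : ConjClasses ↥(Matrix.symplecticGroup (Fin m) F) //
      ∃ g : Matrix.symplecticGroup (Fin m) F, ConjClasses.mk g = C ∧ g ^ p = 1} = Nat.card (Sig p m) := by
  classical
  have h2 : (2 : F) ≠ 0 := by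
    intro h
    have h' : ((2 : ℕ) : F) = 0 := by exact_mod_cast h
    rw [CharP.cast_eq_zero_iff F p] at h'
    have hp' : p.Prime := Fact.out
    have := (Nat.prime_dvd_prime_iff_eq hp' Nat.prime_two).mp h'
    exact hp this
  symm
  -- the map `Sig → classes`
  have hrep := fun σ : Sig p m => exists_rep (F := F) hp m σ
  choose gσ Lσ hgσ hLσ hpartsσ hsqσ hisoσ using hrep
  let Ψ : Sig p m → {C : ConjClasses ↥(Matrix.symplecticGroup (Fin m) F) //
      ∃ g : Matrix.symplecticGroup (Fin m) F, ConjClasses.mk g = C ∧ g ^ p = 1} :=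
    fun σ => ⟨ConjClasses.mk (gσ σ), gσ σ, rfl, hgσ σ⟩
  apply Nat.card_eq_of_bijective Ψ
  constructor
  · -- injective
    intro σ σ' h
    have h1 : ConjClasses.mk (gσ σ) = ConjClasses.mk (gσ σ') := congrArg Subtype.val h
    rw [ConjClasses.mk_eq_mk_iff_isConj] at h1
    obtain ⟨hparts, hsq⟩ := (conj_iff hp m (gσ σ) (gσ σ') (hgσ σ) (hgσ σ') (Lσ σ) (Lσ σ') (hLσ σ) (hLσ σ')
      (hisoσ σ) (hisoσ σ')).mp h1
    have hμ : σ.1.1 = σ'.1.1 := by
      apply Nat.Partition.ext
      rw [← hpartsσ σ, ← hpartsσ σ', hparts]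
    have key : ∀ (k : ℕ) (hk : k ∈ evenParts σ.1.1) (hk' : k ∈ evenParts σ'.1.1),
        σ.2 ⟨k, hk⟩ = σ'.2 ⟨k, hk'⟩ := by
      intro k hk hk'
      have e1 := hsqσ σ k hk
      have e2 := hsqσ σ' k hk'
      have e3 := sq_iff_of_mul _ _ (prodA_ne_zero (Lσ σ) (hLσ σ) k) (prodA_ne_zero (Lσ σ') (hLσ σ') k) (hsq k)
      rw [Bool.eq_iff_iff, ← e1, ← e2]
      exact e3
    obtain ⟨⟨μ, hμg⟩, ε⟩ := σ
    obtain ⟨⟨μ', hμg'⟩, ε'⟩ := σ'
    simp only at hμ
    subst hμ
    have hε : ε = ε' := by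
      funext ⟨k, hk⟩
      exact key k hk hk
    rw [hε]
  · -- surjective
    rintro ⟨C, g, rfl, hg⟩
    obtain ⟨L, hL, hiso, hlen⟩ := exists_list (F := F) hp m g hg
    have hdim : (partsL L).sum = 2 * m := by
      rw [← dim_list L]
      obtain ⟨e, -, -⟩ := hiso
      rw [← e.finrank_eq]
      show finrank F (Fin m ⊕ Fin m → F) = 2 * m
      rw [Module.finrank_fintype_fun_eq_card, Fintype.card_sum, Fintype.card_fin]
      ring
    let μ : Nat.Partition (2 * m) := ⟨partsL L, fun {a} ha => parts_pos L hL a ha, hdim⟩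
    have hμ : GoodPart p m μ := ⟨fun a ha => parts_le L p hlen a ha, fun j hj => parts_odd_even L hL j hj⟩
    let σ : Sig p m := ⟨⟨μ, hμ⟩, fun k => decide (IsSquare (prodA L k.1))⟩
    refine ⟨σ, ?_⟩
    apply Subtype.ext
    show ConjClasses.mk (gσ σ) = ConjClasses.mk g
    rw [ConjClasses.mk_eq_mk_iff_isConj]
    rw [conj_iff hp m (gσ σ) g (hgσ σ) hg (Lσ σ) L (hLσ σ) hL (hisoσ σ) hiso]
    have hp1 : partsL (Lσ σ) = partsL L := hpartsσ σ
    refine ⟨hp1, ?_⟩
    intro k
    by_cases hk : k ∈ evenParts μ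
    · apply sq_mul_of_iff h2 _ _ (prodA_ne_zero (Lσ σ) (hLσ σ) k) (prodA_ne_zero L hL k)
      have e1 := hsqσ σ k hk
      rw [e1]
      show decide (IsSquare (prodA L k)) = true ↔ _
      rw [decide_eq_true_iff]
    · have hk' : k ∉ partsL L ∨ ¬ Even k := by
        by_contra hcon
        push Not at hcon
        apply hk
        unfold evenParts
        rw [Finset.mem_filter, Multiset.mem_toFinset]
        exact ⟨hcon.1, hcon.2⟩
      rcases hk' with hk' | hk'
      · rw [prodA_eq_one L k hk', prodA_eq_one (Lσ σ) k (by rw [hp1]; exact hk'), mul_one]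
        exact ⟨1, by rw [mul_one]⟩
      · rw [prodA_eq_one_of_odd L hL k hk', prodA_eq_one_of_odd (Lσ σ) (hLσ σ) k hk', mul_one]
        exact ⟨1, by rw [mul_one]⟩

open Classical in
/-- the statement of S2676 -/
theorem main {F : Type u} [Field F] [Fintype F] {p : ℕ} [Fact p.Prime] [CharP F p] (hp : p ≠ 2) (m : ℕ) :
    Nat.card {C : ConjClasses ↥(Matrix.symplecticGroup (Fin m) F) //
      ∃ g : Matrix.symplecticGroup (Fin m) F, ConjClasses.mk g = C ∧ orderOf g = p} =
    (∑ μ ∈ Finset.univ.filter (fun μ : Nat.Partition (2 * m) =>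
        (∀ a ∈ μ.parts, a ≤ p) ∧ ∀ j : ℕ, Odd j → Even (μ.parts.count j)),
      2 ^ ((μ.parts.toFinset.filter (fun j : ℕ => Even j)).card)) - 1 := by
  rw [card_order_p p Fact.out, card_classes hp m, sig_card p m]

end Cfsg.Agent.Lib.helper7.SPC
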