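import Mathlib
import Cfsg.Agent.Lib.helper7.CeB

set_option autoImplicit false

/-!
Simply-laced root element systems (given by a table of root sums with signs) and their central
extensions: the Milnor--Stein argument.  If every commuting pair of roots `r, s` admits a
decomposition `r = c + d` with `c, d` commuting with `s`, and the decompositions of each root are
connected by `A_3`-links, then the root elements lift compatibly to any central extension.
-/

namespace Cfsg.Agent.Lib.helper7.Sl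

open Cfsg.Agent.Lib.helper15.St2 Cfsg.Agent.Lib.helper7.Ce

/-- A table of root sums: `n` roots (indices below `n`), the negative of a root, and the sum of two
roots (with a sign bit) when it is a root. -/
structure Tab where
  n : ℕ
  neg : ℕ → ℕ
  sm : ℕ → ℕ → Option (ℕ × Bool)

namespace Tab

variable (T : Tab)

/-- The root elements of `r` and `s` commute: `r = s`, or `r + s` is neither zero nor a root. -/
def Cm (r s : ℕ) : Prop := r = s ∨ (s ≠ T.neg r ∧ T.sm r s = none)

instance (r s : ℕ) : Decidable (T.Cm r s) := inferInstanceAs (Decidable (_ ∨ _))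

/-- An `A_3`-link from the decomposition `c + d` to the decomposition `c' + d'` of the root `r`:
`c' = c + f` and `d = f + d'`. -/
def Link (c d : ℕ) (e : Bool) (c' d' : ℕ) (e' : Bool) (r : ℕ) : Prop :=
  ∃ f e1 e2, f < T.n ∧ T.sm c f = some (c', e1) ∧ T.sm f d' = some (d, e2) ∧ T.Cm c d' ∧
    T.Cm c' d ∧ T.Cm r d ∧ xor e e' = xor e1 e2

/-- The combinatorial hypotheses. -/
structure Good : Prop where
  ne : ∀ r < T.n, ∀ s < T.n, ∀ k b, T.sm r s = some (k, b) → s ≠ r ∧ s ≠ T.neg r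
  sum : ∀ r < T.n, ∀ s < T.n, ∀ k b, T.sm r s = some (k, b) →
    k < T.n ∧ T.Cm r k ∧ T.Cm s k ∧ T.sm s r = some (k, !b)
  step : ∀ r < T.n, ∀ s < T.n, T.Cm r s → ∃ c d e, c < T.n ∧ d < T.n ∧ T.sm c d = some (r, e) ∧
    T.Cm c s ∧ T.Cm d s
  conn : ∀ r < T.n, ∃ c0 d0 e0, c0 < T.n ∧ d0 < T.n ∧ T.sm c0 d0 = some (r, e0) ∧
    (∃ c1 d1 e1, c1 < T.n ∧ d1 < T.n ∧ T.sm c1 d1 = some (r, e1) ∧ T.Link c1 d1 e1 c0 d0 e0 r) ∧
    ∀ c < T.n, ∀ d < T.n, ∀ e, T.sm c d = some (r, e) →
      (c = c0 ∧ d = d0) ∨ (c = d0 ∧ d = c0) ∨ T.Link c d e c0 d0 e0 r ∨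
        T.Link c d e d0 c0 (!e0) r

end Tab

section sys

variable {K : Type*} [Field K] {Γ E : Type*} [Group Γ] [Group E]

/-- The sign of a sign bit. -/
def sg (K : Type*) [Field K] (b : Bool) : K := if b then -1 else 1

lemma sg_mul_self (b : Bool) : sg K b * sg K b = 1 := by
  cases b <;> simp [sg]

lemma sg_not (b : Bool) : sg K (!b) = -sg K b := by
  cases b <;> simp [sg]

lemma sg_xor {e e' e1 e2 : Bool} (h : xor e e' = xor e1 e2) :
    sg K e = sg K e' * sg K e1 * sg K e2 := by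
  revert h
  cases e <;> cases e' <;> cases e1 <;> cases e2 <;> simp [sg]

/-- Root elements satisfying the relations of the table. -/
structure TSys (T : Tab) (X : ℕ → K → Γ) : Prop where
  add : ∀ r < T.n, ∀ t u, X r t * X r u = X r (t + u)
  com : ∀ r < T.n, ∀ s < T.n, T.Cm r s → ∀ t u, X r t * X s u = X s u * X r t
  dec : ∀ r < T.n, ∀ s < T.n, ∀ k b, T.sm r s = some (k, b) → ∀ t u,
    cm (X r t) (X s u) = X k (sg K b * t * u)

variable {T : Tab} {X : ℕ → K → Γ} {σ : E →* Γ}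

/-- Step 1: lifts of commuting root elements commute. -/
lemma step1 (hG : T.Good) (hS : TSys T X) (h : IsCE σ) {r s : ℕ} (hr : r < T.n) (hs : s < T.n)
    (hc : T.Cm r s) (t u : K) : CL σ (X r t) (X s u) := by
  obtain ⟨c, d, e, hc', hd', hsm, hcs, hds⟩ := hG.step r hr s hs hc
  have e1 : X r t = cm (X c (sg K e * t)) (X d 1) := by
    rw [hS.dec c hc' d hd' r e hsm, ← mul_assoc, sg_mul_self, one_mul, mul_one]
  rw [e1]
  exact h.milnor (hS.com c hc' s hs hcs _ _) (hS.com d hd' s hs hds _ _)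

/-- The commutator of lifts of `x_c(t)` and `x_d(u)`. -/
noncomputable def ph (X : ℕ → K → Γ) (h : IsCE σ) (c d : ℕ) (t u : K) : E :=
  cm (lf h (X c t)) (lf h (X d u))

lemma ph_eq (h : IsCE σ) {c d : ℕ} {t u : K} {a b : E} (ha : σ a = X c t) (hb : σ b = X d u) :
    cm a b = ph X h c d t u := by
  unfold ph
  exact h.cm_congr (by rw [ha, map_lf]) (by rw [hb, map_lf])

lemma map_ph (hS : TSys T X) (h : IsCE σ) {c d r : ℕ} {e : Bool} (hc : c < T.n) (hd : d < T.n)
    (hsm : T.sm c d = some (r, e)) (t u : K) :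
    σ (ph X h c d t u) = X r (sg K e * t * u) := by
  unfold ph
  rw [map_cm, map_lf, map_lf, hS.dec c hc d hd r e hsm]

lemma ph_swap (h : IsCE σ) (c d : ℕ) (t u : K) : ph X h d c u t = (ph X h c d t u)⁻¹ := by
  unfold ph
  rw [cm_inv_swap]

section dec

variable (hG : T.Good) (hS : TSys T X) (h : IsCE σ) {c d r : ℕ} {e : Bool} (hc : c < T.n)
  (hd : d < T.n) (hsm : T.sm c d = some (r, e))

include hG hS hc hd hsm

lemma ph_add_left (t t' u : K) :
    ph X h c d (t + t') u = ph X h c d t u * ph X h c d t' u := by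
  obtain ⟨hr, hcr, hdr, -⟩ := hG.sum c hc d hd r e hsm
  have e1 : σ (lf h (X c t) * lf h (X c t')) = X c (t + t') := by
    rw [map_mul, map_lf, map_lf, hS.add c hc]
  rw [← ph_eq h e1 (map_lf h (X d u)), cm_mul_left]
  have e2 : lf h (X c t) * cm (lf h (X c t')) (lf h (X d u)) =
      cm (lf h (X c t')) (lf h (X d u)) * lf h (X c t) :=
    step1 hG hS h hc hr hcr t (sg K e * t' * u) _ _ (map_lf h _)
      (by rw [map_cm, map_lf, map_lf, hS.dec c hc d hd r e hsm])
  rw [e2, mul_inv_cancel_right]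
  exact step1 hG hS h hr hr (Or.inl rfl) (sg K e * t' * u) (sg K e * t * u) _ _
    (map_ph hS h hc hd hsm t' u) (map_ph hS h hc hd hsm t u)

lemma ph_add_right (t u u' : K) :
    ph X h c d t (u + u') = ph X h c d t u * ph X h c d t u' := by
  obtain ⟨hr, hcr, hdr, -⟩ := hG.sum c hc d hd r e hsm
  have e1 : σ (lf h (X d u) * lf h (X d u')) = X d (u + u') := by
    rw [map_mul, map_lf, map_lf, hS.add d hd]
  rw [← ph_eq h (map_lf h (X c t)) e1, cm_mul_right]
  have e2 : lf h (X d u) * cm (lf h (X c t)) (lf h (X d u')) =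
      cm (lf h (X c t)) (lf h (X d u')) * lf h (X d u) :=
    step1 hG hS h hd hr hdr u (sg K e * t * u') _ _ (map_lf h _)
      (by rw [map_cm, map_lf, map_lf, hS.dec c hc d hd r e hsm])
  rw [e2, mul_inv_cancel_right]
  rfl

lemma ph_zero_left (u : K) : ph X h c d 0 u = 1 := by
  have := ph_add_left hG hS h hc hd hsm 0 0 u
  rw [add_zero] at this
  exact mul_eq_left.1 this.symm

lemma ph_neg_left (t u : K) : ph X h c d (-t) u = (ph X h c d t u)⁻¹ := by
  have := ph_add_left hG hS h hc hd hsm (-t) t u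
  rw [neg_add_cancel, ph_zero_left hG hS h hc hd hsm] at this
  exact eq_inv_of_mul_eq_one_left this.symm

end dec

/-- The link identity (Milnor's computation in an `A_3`). -/
lemma ph_link (hG : T.Good) (hS : TSys T X) (h : IsCE σ) {c d c' d' r f : ℕ} {e' e1 e2 : Bool}
    (hc : c < T.n) (hd : d < T.n) (hc' : c' < T.n) (hd' : d' < T.n) (hr : r < T.n)
    (hf : f < T.n) (hsm' : T.sm c' d' = some (r, e')) (h1 : T.sm c f = some (c', e1))
    (h2 : T.sm f d' = some (d, e2)) (k1 : T.Cm c d') (k2 : T.Cm c' d) (k3 : T.Cm r d)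
    (s t x : K) :
    ph X h c d s (sg K e2 * t * x) = ph X h c' d' (sg K e1 * s * t) x := by
  set a := lf h (X c s) with ha
  set v := lf h (X f t) with hv
  set w := lf h (X d' x) with hw
  have sa : σ a = X c s := map_lf h _
  have sv : σ v = X f t := map_lf h _
  have sw : σ w = X d' x := map_lf h _
  have sr : σ (cm v w) = X d (sg K e2 * t * x) := by
    rw [map_cm, sv, sw, hS.dec f hf d' hd' d e2 h2]
  have sp : σ (cm a v) = X c' (sg K e1 * s * t) := by
    rw [map_cm, sa, sv, hS.dec c hc f hf c' e1 h1]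
  rw [← ph_eq h sa sr, ← ph_eq h sp sw]
  have q1 : a * w = w * a := step1 hG hS h hc hd' k1 s x a w sa sw
  have q2 : cm a v * cm v w = cm v w * cm a v := step1 hG hS h hc' hd k2 _ _ _ _ sp sr
  have q3 : cm (cm a v) w * cm v w = cm v w * cm (cm a v) w :=
    step1 hG hS h hr hd k3 (sg K e' * (sg K e1 * s * t) * x) _ _ _
      (by rw [map_cm, sp, sw, hS.dec c' hc' d' hd' r e' hsm']) sr
  have q4 : cm a (cm v w) = cm a v * cm v w * (cm a v)⁻¹ * cm (cm a v) w * (cm v w)⁻¹ := by
    have q5 : cm a (cm v w) = cm (cm a v * v) (a * w * a⁻¹) * (cm v w)⁻¹ := by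
      unfold cm; group
    rw [q5, q1, mul_inv_cancel_right, cm_mul_left]
  rw [q4, q2, mul_inv_cancel_right, ← q3, mul_inv_cancel_right]

/-- The main theorem: the root elements lift to a central extension, with all relations. -/
theorem exists_lift (hG : T.Good) (hS : TSys T X) (h : IsCE σ) :
    ∃ X' : ℕ → K → E, TSys T X' ∧ ∀ r < T.n, ∀ t, σ (X' r t) = X r t := by
  choose! c0 d0 e0 hb using hG.conn
  -- the lifted root elements
  let Ps : ℕ → K → E := fun r t => ph X h (c0 r) (d0 r) (sg K (e0 r) * t) 1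
  have hPs : ∀ r t, Ps r t = ph X h (c0 r) (d0 r) (sg K (e0 r) * t) 1 := fun _ _ => rfl
  have mapPs : ∀ r < T.n, ∀ t, σ (Ps r t) = X r t := by
    intro r hr t
    obtain ⟨hc, hd, hsm, -, -⟩ := hb r hr
    rw [hPs, map_ph hS h hc hd hsm, ← mul_assoc, sg_mul_self, one_mul, mul_one]
  have addPs : ∀ r < T.n, ∀ t u, Ps r t * Ps r u = Ps r (t + u) := by
    intro r hr t u
    obtain ⟨hc, hd, hsm, -, -⟩ := hb r hr
    rw [hPs, hPs, hPs, mul_add, ph_add_left hG hS h hc hd hsm]
  have negPs : ∀ r < T.n, ∀ t, Ps r (-t) = (Ps r t)⁻¹ := by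
    intro r hr t
    obtain ⟨hc, hd, hsm, -, -⟩ := hb r hr
    rw [hPs, hPs, mul_neg, ph_neg_left hG hS h hc hd hsm]
  -- the base decomposition is balanced
  have bal : ∀ r < T.n, ∀ s t x : K,
      ph X h (c0 r) (d0 r) (s * t) x = ph X h (c0 r) (d0 r) s (t * x) := by
    intro r hr s t x
    obtain ⟨hc, hd, hsm, ⟨c1, d1, e1, hc1, hd1, hsm1, f, b1, b2, hf, l1, l2, k1, k2, k3, -⟩, -⟩ :=
      hb r hr
    have p1 := ph_link hG hS h hc1 hd1 hc hd hr hf hsm l1 l2 k1 k2 k3 (sg K b1 * s) t x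
    have p2 := ph_link hG hS h hc1 hd1 hc hd hr hf hsm l1 l2 k1 k2 k3 (sg K b1 * s) 1 (t * x)
    have q1 : sg K b1 * (sg K b1 * s) * t = s * t := by
      rw [← mul_assoc, sg_mul_self, one_mul]
    have q2 : sg K b1 * (sg K b1 * s) * 1 = s := by
      rw [← mul_assoc, sg_mul_self, one_mul, mul_one]
    have q3 : sg K b2 * 1 * (t * x) = sg K b2 * t * x := by ring
    rw [q1] at p1
    rw [q2, q3] at p2
    rw [← p1, ← p2]
  have base1 : ∀ r < T.n, ∀ t u : K, ph X h (c0 r) (d0 r) t u = Ps r (sg K (e0 r) * t * u) := by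
    intro r hr t u
    rw [hPs, ← mul_assoc, ← mul_assoc, sg_mul_self, one_mul, bal r hr t u 1, mul_one]
  have base2 : ∀ r < T.n, ∀ t u : K,
      ph X h (d0 r) (c0 r) t u = Ps r (sg K (!e0 r) * t * u) := by
    intro r hr t u
    rw [ph_swap h (c0 r) (d0 r) u t, base1 r hr, ← negPs r hr, sg_not]
    congr 1
    ring
  -- every decomposition agrees with the base one
  have key : ∀ r < T.n, ∀ c < T.n, ∀ d < T.n, ∀ e, T.sm c d = some (r, e) → ∀ t u : K,
      ph X h c d t u = Ps r (sg K e * t * u) := by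
    intro r hr c hc d hd e hsm t u
    obtain ⟨hc0, hd0, hsm0, -, hall⟩ := hb r hr
    rcases hall c hc d hd e hsm with ⟨rfl, rfl⟩ | ⟨rfl, rfl⟩ | hl | hl
    · rw [hsm0] at hsm
      have : e0 r = e := by
        have := Option.some.inj hsm
        exact (Prod.mk.inj this).2
      rw [← this]
      exact base1 r hr t u
    · have hsw := (hG.sum _ hc0 _ hd0 r (e0 r) hsm0).2.2.2
      rw [hsw] at hsm
      have : (!e0 r) = e := by
        have := Option.some.inj hsm
        exact (Prod.mk.inj this).2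
      rw [← this]
      exact base2 r hr t u
    · obtain ⟨f, b1, b2, hf, l1, l2, k1, k2, k3, hx⟩ := hl
      have p := ph_link hG hS h hc hd hc0 hd0 hr hf hsm0 l1 l2 k1 k2 k3 t 1 (sg K b2 * u)
      have q1 : sg K b2 * 1 * (sg K b2 * u) = u := by
        rw [mul_one, ← mul_assoc, sg_mul_self, one_mul]
      rw [q1] at p
      rw [p, base1 r hr, sg_xor (K := K) hx]
      congr 1
      ring
    · obtain ⟨f, b1, b2, hf, l1, l2, k1, k2, k3, hx⟩ := hl
      have hsw := (hG.sum _ hc0 _ hd0 r (e0 r) hsm0).2.2.2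
      have p := ph_link hG hS h hc hd hd0 hc0 hr hf hsw l1 l2 k1 k2 k3 t 1 (sg K b2 * u)
      have q1 : sg K b2 * 1 * (sg K b2 * u) = u := by
        rw [mul_one, ← mul_assoc, sg_mul_self, one_mul]
      rw [q1] at p
      rw [p, base2 r hr, sg_xor (K := K) hx]
      congr 1
      ring
  refine ⟨Ps, ⟨addPs, ?_, ?_⟩, mapPs⟩
  · intro r hr s hs hc t u
    exact step1 hG hS h hr hs hc t u _ _ (mapPs r hr t) (mapPs s hs u)
  · intro r hr s hs k b hsm t u
    rw [ph_eq h (mapPs r hr t) (mapPs s hs u)]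
    exact key k (hG.sum r hr s hs k b hsm).1 r hr s hs b hsm t u

end sys

end Cfsg.Agent.Lib.helper7.Sl
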