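import Mathlib
import Cfsg.Agent.Lib.helper7.SlA

set_option autoImplicit false

/-!
Boolean checkers for the combinatorial hypotheses `Tab.Good`, with certificates.
-/

namespace Cfsg.Agent.Lib.helper7.Sl

namespace Tab

variable (T : Tab)

def cmB (r s : ℕ) : Bool := decide (r = s) || (decide (s ≠ T.neg r) && (T.sm r s).isNone)

lemma cmB_iff (r s : ℕ) : T.cmB r s = true ↔ T.Cm r s := by
  unfold cmB Cm
  simp only [Bool.or_eq_true, decide_eq_true_eq, Bool.and_eq_true, Option.isNone_iff_eq_none]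

/-- The root coded by an entry is `k`. -/
def isR (o : Option (ℕ × Bool)) (k : ℕ) : Bool :=
  match o with
  | none => false
  | some p => p.1 == k

lemma isR_iff (o : Option (ℕ × Bool)) (k : ℕ) : isR o k = true ↔ ∃ b, o = some (k, b) := by
  unfold isR
  cases o with
  | none => simp
  | some p =>
    obtain ⟨k', b⟩ := p
    simp only [beq_iff_eq, Option.some.injEq, Prod.mk.injEq]
    constructor
    · rintro rfl; exact ⟨b, rfl, rfl⟩
    · rintro ⟨b', h, -⟩; exact h

def sumBr (r : ℕ) : Bool := (List.range T.n).all fun s =>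
  match T.sm r s with
  | none => true
  | some p => decide (p.1 < T.n) && T.cmB r p.1 && T.cmB s p.1 && (T.sm s r == some (p.1, !p.2)) &&
      isR (T.sm p.1 (T.neg r)) s && decide (s ≠ r) && decide (s ≠ T.neg r)

def sumB : Bool := (List.range T.n).all T.sumBr

structure SumP : Prop where
  ne : ∀ r < T.n, ∀ s < T.n, ∀ k b, T.sm r s = some (k, b) → s ≠ r ∧ s ≠ T.neg r
  sum : ∀ r < T.n, ∀ s < T.n, ∀ k b, T.sm r s = some (k, b) →
    k < T.n ∧ T.Cm r k ∧ T.Cm s k ∧ T.sm s r = some (k, !b)
  back : ∀ r < T.n, ∀ s < T.n, ∀ k b, T.sm r s = some (k, b) → ∃ b', T.sm k (T.neg r) = some (s, b')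

lemma sumB_spec (h : T.sumB = true) : T.SumP := by
  unfold sumB sumBr at h
  simp only [List.all_eq_true, List.mem_range] at h
  have key : ∀ r < T.n, ∀ s < T.n, ∀ k b, T.sm r s = some (k, b) →
      (k < T.n ∧ T.Cm r k ∧ T.Cm s k ∧ T.sm s r = some (k, !b)) ∧
        (∃ b', T.sm k (T.neg r) = some (s, b')) ∧ s ≠ r ∧ s ≠ T.neg r := by
    intro r hr s hs k b hsm
    have h1 := h r hr s hs
    rw [hsm] at h1
    simp only [Bool.and_eq_true, decide_eq_true_eq, beq_iff_eq, cmB_iff, isR_iff] at h1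
    obtain ⟨⟨⟨⟨⟨⟨a1, a2⟩, a3⟩, a4⟩, a5⟩, a6⟩, a7⟩ := h1
    exact ⟨⟨a1, a2, a3, a4⟩, a5, a6, a7⟩
  exact ⟨fun r hr s hs k b hsm => (key r hr s hs k b hsm).2.2,
    fun r hr s hs k b hsm => (key r hr s hs k b hsm).1,
    fun r hr s hs k b hsm => (key r hr s hs k b hsm).2.1⟩

def stepBr (cert : ℕ → ℕ → ℕ) (r : ℕ) : Bool := (List.range T.n).all fun s =>
  !T.cmB r s ||
    match T.sm r (T.neg (cert r s)) with
    | none => false
    | some p => decide (cert r s < T.n) && decide (p.1 < T.n) && isR (T.sm (cert r s) p.1) r &&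
        T.cmB (cert r s) s && T.cmB p.1 s

def stepB (cert : ℕ → ℕ → ℕ) : Bool := (List.range T.n).all (T.stepBr cert)

lemma stepB_spec (cert : ℕ → ℕ → ℕ) (h : T.stepB cert = true) :
    ∀ r < T.n, ∀ s < T.n, T.Cm r s → ∃ c d e, c < T.n ∧ d < T.n ∧ T.sm c d = some (r, e) ∧
      T.Cm c s ∧ T.Cm d s := by
  unfold stepB stepBr at h
  simp only [List.all_eq_true, List.mem_range] at h
  intro r hr s hs hc
  have h1 := h r hr s hs
  rw [Bool.or_eq_true] at h1
  rcases h1 with h1 | h1
  · rw [Bool.not_eq_true', ← Bool.not_eq_true, cmB_iff] at h1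
    exact absurd hc h1
  · cases hsm : T.sm r (T.neg (cert r s)) with
    | none => rw [hsm] at h1; exact absurd h1 (by simp)
    | some p =>
      rw [hsm] at h1
      simp only [Bool.and_eq_true, decide_eq_true_eq, cmB_iff, isR_iff] at h1
      obtain ⟨⟨⟨⟨a1, a2⟩, ⟨e, a3⟩⟩, a4⟩, a5⟩ := h1
      exact ⟨cert r s, p.1, e, a1, a2, a3, a4, a5⟩

def linkB (c d : ℕ) (e : Bool) (c' d' : ℕ) (e' : Bool) (r : ℕ) : Bool :=
  match T.sm c' (T.neg c) with
  | none => false
  | some p => decide (p.1 < T.n) &&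
    match T.sm c p.1, T.sm p.1 d' with
    | some q1, some q2 => (q1.1 == c') && (q2.1 == d) && T.cmB c d' && T.cmB c' d && T.cmB r d &&
        (xor e e' == xor q1.2 q2.2)
    | _, _ => false

lemma linkB_spec {c d : ℕ} {e : Bool} {c' d' : ℕ} {e' : Bool} {r : ℕ}
    (h : T.linkB c d e c' d' e' r = true) : T.Link c d e c' d' e' r := by
  unfold linkB at h
  cases hsm : T.sm c' (T.neg c) with
  | none => rw [hsm] at h; exact absurd h (by simp)
  | some p =>
    rw [hsm] at h
    simp only [Bool.and_eq_true, decide_eq_true_eq] at h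
    obtain ⟨hf, h⟩ := h
    cases h1 : T.sm c p.1 with
    | none => rw [h1] at h; exact absurd h (by simp)
    | some q1 =>
      cases h2 : T.sm p.1 d' with
      | none => rw [h1, h2] at h; exact absurd h (by simp)
      | some q2 =>
        rw [h1, h2] at h
        simp only [Bool.and_eq_true, beq_iff_eq, cmB_iff] at h
        obtain ⟨⟨⟨⟨⟨a1, a2⟩, a3⟩, a4⟩, a5⟩, a6⟩ := h
        refine ⟨p.1, q1.2, q2.2, hf, ?_, ?_, a3, a4, a5, a6⟩
        · rw [h1, ← a1]
        · rw [h2, ← a2]

def connBr (base wit : ℕ → ℕ) (r : ℕ) : Bool :=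
  match T.sm r (T.neg (base r)) with
  | none => false
  | some p0 =>
    match T.sm (base r) p0.1 with
    | none => false
    | some q0 => (q0.1 == r) && decide (base r < T.n) && decide (p0.1 < T.n) &&
      (match T.sm r (T.neg (wit r)) with
       | none => false
       | some p1 =>
         match T.sm (wit r) p1.1 with
         | none => false
         | some q1 => (q1.1 == r) && decide (wit r < T.n) && decide (p1.1 < T.n) &&
             T.linkB (wit r) p1.1 q1.2 (base r) p0.1 q0.2 r) &&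
      ((List.range T.n).all fun c =>
        match T.sm r (T.neg c) with
        | none => true
        | some p =>
          match T.sm c p.1 with
          | none => true
          | some q => (q.1 != r) || ((c == base r) && (p.1 == p0.1)) ||
              ((c == p0.1) && (p.1 == base r)) || T.linkB c p.1 q.2 (base r) p0.1 q0.2 r ||
              T.linkB c p.1 q.2 p0.1 (base r) (!q0.2) r)

def connB (base wit : ℕ → ℕ) : Bool := (List.range T.n).all (T.connBr base wit)

lemma connB_spec (hs : T.SumP) (base wit : ℕ → ℕ) (h : T.connB base wit = true) :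
    ∀ r < T.n, ∃ c0 d0 e0, c0 < T.n ∧ d0 < T.n ∧ T.sm c0 d0 = some (r, e0) ∧
    (∃ c1 d1 e1, c1 < T.n ∧ d1 < T.n ∧ T.sm c1 d1 = some (r, e1) ∧ T.Link c1 d1 e1 c0 d0 e0 r) ∧
    ∀ c < T.n, ∀ d < T.n, ∀ e, T.sm c d = some (r, e) →
      (c = c0 ∧ d = d0) ∨ (c = d0 ∧ d = c0) ∨ T.Link c d e c0 d0 e0 r ∨
        T.Link c d e d0 c0 (!e0) r := by
  unfold connB at h
  simp only [List.all_eq_true, List.mem_range] at h
  intro r hr
  have h1 := h r hr
  unfold connBr at h1
  cases hp0 : T.sm r (T.neg (base r)) with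
  | none => rw [hp0] at h1; exact absurd h1 (by simp)
  | some p0 =>
    rw [hp0] at h1
    cases hq0 : T.sm (base r) p0.1 with
    | none => simp only [hq0] at h1; exact absurd h1 (by simp)
    | some q0 =>
      simp only [hq0, Bool.and_eq_true, beq_iff_eq, decide_eq_true_eq] at h1
      obtain ⟨⟨⟨⟨a1, a2⟩, a3⟩, a4⟩, a5⟩ := h1
      have hsm0 : T.sm (base r) p0.1 = some (r, q0.2) := by rw [hq0, ← a1]
      refine ⟨base r, p0.1, q0.2, a2, a3, hsm0, ?_, ?_⟩
      · cases hp1 : T.sm r (T.neg (wit r)) with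
        | none => rw [hp1] at a4; exact absurd a4 (by simp)
        | some p1 =>
          rw [hp1] at a4
          cases hq1 : T.sm (wit r) p1.1 with
          | none => simp only [hq1] at a4; exact absurd a4 (by simp)
          | some q1 =>
            simp only [hq1, Bool.and_eq_true, beq_iff_eq, decide_eq_true_eq] at a4
            obtain ⟨⟨⟨b1, b2⟩, b3⟩, b4⟩ := a4
            exact ⟨wit r, p1.1, q1.2, b2, b3, by rw [hq1, ← b1], T.linkB_spec b4⟩
      · intro c hc d hd e hsm
        obtain ⟨b', hback⟩ := hs.back c hc d hd r e hsm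
        rw [List.all_eq_true] at a5
        have h2 := a5 c (List.mem_range.2 hc)
        simp only [hback, hsm, Bool.or_eq_true, bne_iff_ne, ne_eq, not_true_eq_false,
          Bool.and_eq_true, beq_iff_eq, false_or] at h2
        rcases h2 with ((h2 | h2) | h2) | h2
        · exact Or.inl h2
        · exact Or.inr (Or.inl h2)
        · exact Or.inr (Or.inr (Or.inl (T.linkB_spec h2)))
        · exact Or.inr (Or.inr (Or.inr (T.linkB_spec h2)))

/-- Assemble a check over `range n` from checks over pieces. -/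
lemma all_range_of_pieces (f : ℕ → Bool) (n m : ℕ) (cuts : List ℕ)
    (h : ∀ a ∈ cuts, (List.range' a m).all f = true)
    (hc : ∀ r < n, ∃ a ∈ cuts, a ≤ r ∧ r < a + m) : (List.range n).all f = true := by
  rw [List.all_eq_true]
  intro r hr
  rw [List.mem_range] at hr
  obtain ⟨a, ha, h1, h2⟩ := hc r hr
  exact List.all_eq_true.1 (h a ha) r (List.mem_range'_1.2 ⟨h1, h2⟩)

theorem good_of_check (cert : ℕ → ℕ → ℕ) (base wit : ℕ → ℕ) (h1 : T.sumB = true)
    (h2 : T.stepB cert = true) (h3 : T.connB base wit = true) : T.Good :=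
  ⟨(T.sumB_spec h1).ne, (T.sumB_spec h1).sum, T.stepB_spec cert h2, T.connB_spec (T.sumB_spec h1) base wit h3⟩

end Tab

end Cfsg.Agent.Lib.helper7.Sl

namespace Cfsg.Agent.Lib.helper7.Sl

/-- Look up a `w`-bit entry in a packed list. -/
def lkp (w P i : ℕ) : ℕ := (P >>> (w * i)) % 2 ^ w

/-- Look up the `w`-bit entry `(r, s)` in a table given as a list of packed rows. -/
def lk2 (w : ℕ) (P : List ℕ) (r s : ℕ) : ℕ := ((P.getD r 0) >>> (w * s)) % 2 ^ w

/-- The sum table from a table of packed rows of 9-bit codes: `0` for none, `2 (k + 1) + b` for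
the root `k` with sign bit `b`. -/
def mkSm (P : List ℕ) (r s : ℕ) : Option (ℕ × Bool) :=
  let c := lk2 9 P r s
  if c = 0 then none else some (c / 2 - 1, c % 2 == 1)

/-- The table with `n` roots, negative `n - 1 - r`, and packed sums `P`. -/
def mkTab (n : ℕ) (P : List ℕ) : Tab := ⟨n, fun r => n - 1 - r, mkSm P⟩

end Cfsg.Agent.Lib.helper7.Sl
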