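import Mathlib
import Cfsg.Prelude.Def_ChevStructure
import Cfsg.Agent.Lib.helper7.SlB

set_option autoImplicit false

/-!
The bridge between a simply-laced `ChevalleyDatum` and a table of root sums: the commutator
words of the datum are read off the table.
-/

namespace Cfsg.Agent.Lib.helper7.Sl

open Cfsg.Lie Cfsg.Lie.ChevalleyDatum

/-- The integer sign of a sign bit. -/
def sgZ (b : Bool) : ℤ := if b then -1 else 1

/-- The commutator terms predicted by the table. -/
def expT (o : Option (ℕ × Bool)) : List (ℕ × ℤ × ℕ × ℕ) :=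
  match o with
  | none => []
  | some p => [(p.1, sgZ p.2, 1, 1)]

/-- The datum `D` has the root sums of the table `T`. -/
structure Bridge (D : ChevalleyDatum) (T : Tab) : Prop where
  n : T.n = D.nroots
  neg : ∀ r < T.n, D.negIdx.getD r 0 = T.neg r
  terms : ∀ r < T.n, ∀ s < T.n, D.commTerms r s = expT (T.sm r s)

lemma commTerms_of_short (D : ChevalleyDatum) (r s : ℕ) (h1 : (D.chainEntry r s).length ≤ 1)
    (h2 : (D.chainEntry s r).length ≤ 1) :
    D.commTerms r s = match D.chainEntry r s with
      | [] => []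
      | q :: _ => [(q.1, q.2, 1, 1)] := by
  unfold ChevalleyDatum.commTerms ChevalleyDatum.chainRoot ChevalleyDatum.chainM
  rcases hL1 : D.chainEntry r s with _ | ⟨q, _ | ⟨q', tl⟩⟩
  · rcases hL2 : D.chainEntry s r with _ | ⟨p, _ | ⟨p', tl'⟩⟩
    · simp
    · simp
    · rw [hL2] at h2; simp at h2
  · rcases hL2 : D.chainEntry s r with _ | ⟨p, _ | ⟨p', tl'⟩⟩
    · simp
    · simp
    · rw [hL2] at h2; simp at h2
  · rw [hL1] at h1; simp at h1

lemma chainEntry_cases (D : ChevalleyDatum) (r s : ℕ) :
    (D.chainEntry r s = [] ∧ ∀ e ∈ (D.chain.getD r #[]).toList, e.1 ≠ s) ∨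
      ∃ e ∈ (D.chain.getD r #[]).toList, e.1 = s ∧ D.chainEntry r s = e.2.toList := by
  unfold ChevalleyDatum.chainEntry
  cases h : (D.chain.getD r #[]).toList.find? (fun e => e.1 = s) with
  | none =>
    left
    refine ⟨rfl, ?_⟩
    intro e he
    have := List.find?_eq_none.1 h e he
    simpa using this
  | some e =>
    right
    refine ⟨e, List.mem_of_find?_eq_some h, ?_, rfl⟩
    have := List.find?_some h
    simpa using this

/-- The check of one entry of the chain table against the table of sums. -/
def entB (T : Tab) (r : ℕ) (e : ℕ × Array (ℕ × ℤ)) : Bool :=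
  match e.2.toList with
  | [q] => (T.sm r e.1 == some (q.1, decide (q.2 = -1))) && (decide (q.2 = 1) || decide (q.2 = -1))
  | _ => false

/-- The bit mask of the keys of a row of the chain table. -/
def keyMask (row : List (ℕ × Array (ℕ × ℤ))) : ℕ := row.foldl (fun acc e => acc ||| (1 <<< e.1)) 0

lemma testBit_foldl (row : List (ℕ × Array (ℕ × ℤ))) (acc s : ℕ)
    (h : (row.foldl (fun acc e => acc ||| (1 <<< e.1)) acc).testBit s = true) :
    acc.testBit s = true ∨ ∃ e ∈ row, e.1 = s := by
  induction row generalizing acc with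
  | nil => exact Or.inl h
  | cons e row ih =>
    rw [List.foldl_cons] at h
    rcases ih _ h with h1 | ⟨e', he', hs⟩
    · rw [Nat.testBit_or, Bool.or_eq_true] at h1
      rcases h1 with h1 | h1
      · exact Or.inl h1
      · right
        refine ⟨e, List.mem_cons_self, ?_⟩
        rw [Nat.one_shiftLeft, Nat.testBit_two_pow, decide_eq_true_eq] at h1
        exact h1
    · exact Or.inr ⟨e', List.mem_cons_of_mem _ he', hs⟩

lemma keyMask_spec (row : List (ℕ × Array (ℕ × ℤ))) (s : ℕ) (h : (keyMask row).testBit s = true) :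
    ∃ e ∈ row, e.1 = s := by
  rcases testBit_foldl row 0 s h with h1 | h1
  · rw [Nat.zero_testBit] at h1
    exact absurd h1 (by simp)
  · exact h1

/-- The check of one row. -/
def rowB (D : ChevalleyDatum) (T : Tab) (r : ℕ) : Bool :=
  ((D.chain.getD r #[]).toList.all (entB T r)) &&
    (List.range T.n).all fun s =>
      (T.sm r s).isNone || (keyMask (D.chain.getD r #[]).toList).testBit s

/-- The check of the negative and the row of one root. -/
def bridgeBr (D : ChevalleyDatum) (T : Tab) (r : ℕ) : Bool :=
  decide (D.negIdx.getD r 0 = T.neg r) && rowB D T r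

def bridgeB (D : ChevalleyDatum) (T : Tab) : Bool :=
  decide (T.n = D.nroots) && (List.range T.n).all (bridgeBr D T)

lemma chainEntry_of_rowB (D : ChevalleyDatum) (T : Tab) (r : ℕ) (h : rowB D T r = true) (s : ℕ)
    (hs : s < T.n) :
    D.chainEntry r s = match T.sm r s with
      | none => []
      | some p => [(p.1, sgZ p.2)] := by
  unfold rowB at h
  rw [Bool.and_eq_true, List.all_eq_true, List.all_eq_true] at h
  obtain ⟨h1, h2⟩ := h
  have key : ∀ e ∈ (D.chain.getD r #[]).toList, ∃ q : ℕ × ℤ, e.2.toList = [q] ∧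
      T.sm r e.1 = some (q.1, decide (q.2 = -1)) ∧ (q.2 = 1 ∨ q.2 = -1) := by
    intro e he
    have := h1 e he
    unfold entB at this
    rcases hl : e.2.toList with _ | ⟨q, _ | ⟨q', tl⟩⟩
    · rw [hl] at this; simp at this
    · rw [hl] at this
      simp only [Bool.and_eq_true, beq_iff_eq, Bool.or_eq_true, decide_eq_true_eq] at this
      exact ⟨q, rfl, this.1, this.2⟩
    · rw [hl] at this; simp at this
  rcases chainEntry_cases D r s with ⟨h0, hne⟩ | ⟨e, he, hes, hent⟩
  · have h3 := h2 s (List.mem_range.2 hs)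
    rw [Bool.or_eq_true] at h3
    rcases h3 with h3 | h3
    · rw [Option.isNone_iff_eq_none] at h3
      rw [h0, h3]
    · obtain ⟨e, he, hes⟩ := keyMask_spec _ s h3
      exact absurd hes (hne e he)
  · obtain ⟨q, hq1, hq2, hq3⟩ := key e he
    rw [hent, hq1, ← hes, hq2]
    have : sgZ (decide (q.2 = -1)) = q.2 := by
      unfold sgZ
      rcases hq3 with h | h
      · rw [h]; simp
      · rw [h]; simp
    simp only [this]

theorem bridge_of_check (D : ChevalleyDatum) (T : Tab) (h : bridgeB D T = true) : Bridge D T := by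
  unfold bridgeB at h
  rw [Bool.and_eq_true, decide_eq_true_eq, List.all_eq_true] at h
  obtain ⟨hn, hrow⟩ := h
  have hr : ∀ r < T.n, D.negIdx.getD r 0 = T.neg r ∧ rowB D T r = true := by
    intro r hr
    have := hrow r (List.mem_range.2 hr)
    unfold bridgeBr at this
    rw [Bool.and_eq_true, decide_eq_true_eq] at this
    exact this
  refine ⟨hn, fun r h => (hr r h).1, ?_⟩
  intro r hr' s hs
  have e1 := chainEntry_of_rowB D T r (hr r hr').2 s hs
  have e2 := chainEntry_of_rowB D T s (hr s hs).2 r hr'
  have l1 : (D.chainEntry r s).length ≤ 1 := by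
    rw [e1]; cases T.sm r s <;> simp
  have l2 : (D.chainEntry s r).length ≤ 1 := by
    rw [e2]; cases T.sm s r <;> simp
  rw [commTerms_of_short D r s l1 l2, e1]
  cases T.sm r s with
  | none => rfl
  | some p => rfl

end Cfsg.Agent.Lib.helper7.Sl
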