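import Mathlib
import Cfsg.Prelude.Def_ChevE7
import Cfsg.Agent.Lib.helper7.SlC
import Cfsg.Agent.Lib.helper7.SlE7

set_option autoImplicit false

/-!
The table of root sums of type E7 agrees with the Chevalley datum.
-/

namespace Cfsg.Agent.Lib.helper7.Sl

open Cfsg.Lie

set_option maxRecDepth 100000 in
theorem bridgeB_E7 : bridgeB chevE7 tabE7 = true := by decide +kernel

theorem bridge_E7 : Bridge chevE7 tabE7 := bridge_of_check _ _ bridgeB_E7

end Cfsg.Agent.Lib.helper7.Sl
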