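import Mathlib
import Cfsg.Prelude.Def_SteinbergCover
import Cfsg.Agent.Lib.helper7.SlC
import Cfsg.Agent.Lib.helper8.ChevStC1

set_option autoImplicit false

/-!
Central extensions of the group presented by Steinberg's relators (R1), (R2) split, for a
simply-laced datum whose table of root sums satisfies the combinatorial hypotheses.
-/

namespace Cfsg.Agent.Lib.helper7.Sl

open Cfsg.Lie Cfsg.Lie.ChevalleyDatum Cfsg.Agent.Lib.helper15.St2 Cfsg.Agent.Lib.helper7.Ce
  Cfsg.Agent.Lib.helper8

variable {K : Type*} [Field K]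

lemma sgZ_cast (b : Bool) : ((sgZ b : ℤ) : K) = sg K b := by
  cases b <;> simp [sgZ, sg]

lemma commWord_none {D : ChevalleyDatum} {T : Tab} (hB : Bridge D T) {r s : ℕ} (hr : r < T.n)
    (hs : s < T.n) (h : T.sm r s = none) (t u : K) : D.commWord K r s t u = [] := by
  unfold ChevalleyDatum.commWord
  rw [hB.terms r hr s hs, h]
  rfl

lemma commWord_some {D : ChevalleyDatum} {T : Tab} (hB : Bridge D T) {r s k : ℕ} {b : Bool}
    (hr : r < T.n) (hs : s < T.n) (h : T.sm r s = some (k, b)) (t u : K) :
    D.commWord K r s t u = [(k, sg K b * (-t) * u)] := by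
  unfold ChevalleyDatum.commWord
  rw [hB.terms r hr s hs, h]
  simp only [expT, List.map_cons, List.map_nil, pow_one, sgZ_cast]

/-- The generators of the presented group satisfy the relations of the table. -/
theorem tsys_scGen {D : ChevalleyDatum} {T : Tab} (hB : Bridge D T) (hG : T.Good) :
    TSys T (D.scGen K) := by
  have hinv : ∀ r < T.n, ∀ t : K, (D.scGen K r t)⁻¹ = D.scGen K r (-t) := by
    intro r hr t
    exact h8sc_inv D r (hB.n ▸ hr) t
  have hneg : ∀ r < T.n, D.neg r = T.neg r := fun r hr => hB.neg r hr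
  refine ⟨?_, ?_, ?_⟩
  · intro r hr t u
    exact h8sc_add D r (hB.n ▸ hr) t u
  · intro r hr s hs hc t u
    by_cases hrs : s = r
    · subst hrs
      rw [h8sc_add D s (hB.n ▸ hr), h8sc_add D s (hB.n ▸ hr), add_comm]
    · rcases hc with hc | ⟨hc1, hc2⟩
      · exact absurd hc.symm hrs
      · have h1 := h8sc_comm D r s (hB.n ▸ hr) (hB.n ▸ hs) hrs (by rw [hneg r hr]; exact hc1) t u
        rw [commWord_none hB hr hs hc2] at h1
        have h2 : h8scWord D ([] : List (ℕ × K)) = 1 := rfl
        rw [h2] at h1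
        have h3 : D.scGen K s u * D.scGen K r t = D.scGen K r t * D.scGen K s u := by
          have : D.scGen K s u * D.scGen K r t =
              D.scGen K r t * D.scGen K s u *
                ((D.scGen K s u)⁻¹ * (D.scGen K r t)⁻¹ * D.scGen K s u * D.scGen K r t) := by
            group
          rw [this, h1, mul_one]
        exact h3.symm
  · intro r hr s hs k b hsm t u
    obtain ⟨n1, n2⟩ := hG.ne r hr s hs k b hsm
    have h1 := h8sc_comm D r s (hB.n ▸ hr) (hB.n ▸ hs) n1 (by rw [hneg r hr]; exact n2) (-t) (-u)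
    rw [commWord_some hB hr hs hsm] at h1
    have h2 : h8scWord D [(k, sg K b * (- -t) * (-u))] = D.scGen K k (sg K b * (- -t) * (-u)) := by
      unfold h8scWord
      simp
    rw [h2, ← hinv r hr, ← hinv s hs, inv_inv, inv_inv] at h1
    have h3 : cm (D.scGen K r t) (D.scGen K s u) =
        (D.scGen K s u * D.scGen K r t * (D.scGen K s u)⁻¹ * (D.scGen K r t)⁻¹)⁻¹ := by
      unfold cm; group
    have hk : k < T.n := (hG.sum r hr s hs k b hsm).1
    rw [h3, h1, hinv k hk]
    congr 1
    ring

section hom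

variable {E : Type*} [Group E] {D : ChevalleyDatum} {T : Tab} {X : ℕ → K → E}

/-- The images of the free generators. -/
def gF (D : ChevalleyDatum) (X : ℕ → K → E) : Fin D.nroots × K → E := fun p => X p.1.val p.2

lemma lift_stX (hS : TSys T X) (hB : Bridge D T) {r : ℕ} (hr : r < T.n) (t : K) :
    FreeGroup.lift (gF D X) (D.stX r t) = X r t := by
  unfold ChevalleyDatum.stX
  rw [dif_pos (hB.n ▸ hr), FreeGroup.lift_apply_of]
  rfl

lemma tsys_zero (hS : TSys T X) {r : ℕ} (hr : r < T.n) : X r 0 = 1 := by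
  have := hS.add r hr 0 0
  rw [add_zero] at this
  exact mul_eq_left.mp this

lemma tsys_inv (hS : TSys T X) {r : ℕ} (hr : r < T.n) (t : K) : (X r t)⁻¹ = X r (-t) := by
  rw [inv_eq_iff_mul_eq_one, hS.add r hr, add_neg_cancel, tsys_zero hS hr]

theorem rels_of_tsys (hS : TSys T X) (hB : Bridge D T) (hG : T.Good) :
    ∀ g ∈ D.steinbergRelsAB K, FreeGroup.lift (gF D X) g = 1 := by
  intro g hg
  rcases hg with ⟨r, t₁, t₂, hr, rfl⟩ | ⟨r, s, t, u, hr, hs, h1, h2, rfl⟩
  · have hr' : r < T.n := hB.n ▸ hr
    rw [map_mul, map_mul, map_inv, lift_stX hS hB hr', lift_stX hS hB hr', lift_stX hS hB hr',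
      hS.add r hr', mul_inv_cancel]
  · have hr' : r < T.n := hB.n ▸ hr
    have hs' : s < T.n := hB.n ▸ hs
    have h2' : s ≠ T.neg r := by
      rw [← hB.neg r hr']; exact h2
    rw [map_mul, map_mul, map_mul, map_mul, map_inv, map_inv, map_inv, lift_stX hS hB hr',
      lift_stX hS hB hs', mul_inv_eq_one]
    cases hsm : T.sm r s with
    | none =>
      rw [commWord_none hB hr' hs' hsm]
      have e1 : D.stWord ([] : List (ℕ × K)) = 1 := rfl
      rw [e1, map_one]
      have hc := hS.com r hr' s hs' (Or.inr ⟨h2', hsm⟩) t u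
      have : (X s u)⁻¹ * (X r t)⁻¹ * X s u * X r t = (X s u)⁻¹ * (X r t)⁻¹ * (X s u * X r t) := by
        group
      rw [this, ← hc]
      group
    | some p =>
      obtain ⟨k, b⟩ := p
      obtain ⟨hk, -, -, hsw⟩ := hG.sum r hr' s hs' k b hsm
      rw [commWord_some hB hr' hs' hsm]
      have e1 : D.stWord [(k, sg K b * (-t) * u)] = D.stX k (sg K b * (-t) * u) := by
        unfold ChevalleyDatum.stWord
        simp
      rw [e1, lift_stX hS hB hk]
      have e2 : (X s u)⁻¹ * (X r t)⁻¹ * X s u * X r t = cm (X s (-u)) (X r (-t)) := by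
        unfold cm
        rw [← tsys_inv hS hs', ← tsys_inv hS hr', inv_inv, inv_inv]
      rw [e2, hS.dec s hs' r hr' k (!b) hsw, sg_not]
      congr 1
      ring

/-- The homomorphism from the presented group defined by root elements satisfying the relations
of the table. -/
noncomputable def homOf (hS : TSys T X) (hB : Bridge D T) (hG : T.Good) : D.SteinbergCover K →* E :=
  PresentedGroup.toGroup (rels_of_tsys hS hB hG)

lemma homOf_of (hS : TSys T X) (hB : Bridge D T) (hG : T.Good) (p : Fin D.nroots × K) :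
    homOf hS hB hG (PresentedGroup.of p) = X p.1.val p.2 := by
  unfold homOf
  rw [PresentedGroup.toGroup.of]
  rfl

end hom

/-- Central extensions of the presented group split. -/
theorem cover_split {D : ChevalleyDatum} {T : Tab} (hB : Bridge D T) (hG : T.Good)
    {E : Type*} [Group E] {σ : E →* D.SteinbergCover K} (h : IsCE σ) :
    ∃ τ : D.SteinbergCover K →* E, ∀ g, σ (τ g) = g := by
  obtain ⟨X', hS', hX'⟩ := exists_lift hG (tsys_scGen (K := K) hB hG) h
  refine ⟨homOf hS' hB hG, ?_⟩
  have hcomp : σ.comp (homOf hS' hB hG) = MonoidHom.id _ := by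
    apply PresentedGroup.ext
    intro p
    rw [MonoidHom.comp_apply, homOf_of, hX' p.1.val (by rw [hB.n]; exact p.1.2), MonoidHom.id_apply]
    unfold ChevalleyDatum.scGen ChevalleyDatum.stX
    rw [dif_pos p.1.2]
    rfl
  intro g
  have := congrArg (fun f => f g) hcomp
  simpa using this

end Cfsg.Agent.Lib.helper7.Sl
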