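import Mathlib
import Cfsg.Prelude.Def_KGroupFacts
import Cfsg.Prelude.Def_Steinberg
import Cfsg.Agent.Lib.helper7.SlD
import Cfsg.Agent.Lib.helper7.CeG
import Cfsg.Agent.Lib.helper23.SchurCoverD

set_option autoImplicit false

/-!
From the splitting of central extensions of the presented cover to Schur multipliers.
-/

namespace Cfsg.Agent.Lib.helper7.Sl

open Cfsg.Lie Cfsg.Lie.ChevalleyDatum Cfsg.Agent.Lib.helper7.Ce

universe u

/-- A finite group isomorphic to a presented cover whose central extensions split has trivial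
Schur multiplier. -/
theorem mult_trivial_of_iso {D : ChevalleyDatum} {T : Tab} (hB : Bridge D T) (hG : T.Good)
    {K : Type u} [Field K] {G : Type u} [Group G] [Finite G] (e : G ≃* D.SteinbergCover K) :
    Cfsg.HasCyclicSchurMultiplier G 1 := by
  apply trivial_mult_of_ker
  intro Γ _ _ σ hσ
  have hce : IsCE (e.toMonoidHom.comp σ) := by
    refine ⟨e.surjective.comp hσ.1, ?_⟩
    intro x hx
    apply hσ.2.1
    rw [MonoidHom.mem_ker] at hx ⊢
    rw [MonoidHom.comp_apply] at hx
    exact e.injective (by rw [map_one]; exact hx)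
  obtain ⟨τ, hτ⟩ := cover_split hB hG hce
  refine ker_eq_bot_of_section hσ (τ.comp e.toMonoidHom) ?_
  intro g
  have := hτ (e g)
  rw [MonoidHom.comp_apply] at this
  rw [MonoidHom.comp_apply]
  exact e.injective this

lemma cyclic_equiv' {G : Type*} [Group G] (hc : IsCyclic G) (m : ℕ) (hm : Nat.card G = m) :
    Nonempty (Multiplicative (ZMod m) ≃* G) := by
  subst hm
  exact ⟨zmodCyclicMulEquiv hc⟩

/-- The Schur multiplier of a central quotient of a finite perfect group with trivial Schur
multiplier. -/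
theorem mult_of_cover {Γ : Type u} [Group Γ] [Finite Γ] {G : Type u} [Group G] (θ : Γ →* G)
    (hθ : Function.Surjective θ) (hker : θ.ker = Subgroup.center Γ)
    (hperf : commutator Γ = ⊤) (hΓ : Cfsg.HasCyclicSchurMultiplier Γ 1) (d : ℕ)
    (hd : Nat.card (Subgroup.center Γ) = d) (hcyc : IsCyclic (Subgroup.center Γ)) :
    Cfsg.HasCyclicSchurMultiplier G d := by
  have hfinG : Finite G := Finite.of_surjective θ hθ
  have hstem : Cfsg.IsStemExtension θ := by
    refine ⟨hθ, ?_, ?_⟩
    · rw [hker]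
    · rw [hperf]; exact le_top
  obtain ⟨e0⟩ := cyclic_equiv' hcyc d hd
  have e : Multiplicative (ZMod d) ≃* θ.ker := e0.trans (MulEquiv.subgroupCongr hker.symm)
  refine ⟨⟨Γ, inferInstance, inferInstance, θ, hstem, ⟨e.symm⟩⟩, ?_⟩
  intro Δ _ _ τ hτ
  obtain ⟨π, hπ⟩ := Cfsg.Agent.Lib.helper23.scv_cover_of_trivial θ hstem hΓ Δ τ hτ
  exact ⟨π.comp e.toMonoidHom, hπ.comp e.surjective⟩

end Cfsg.Agent.Lib.helper7.Sl
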