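import Mathlib
import Cfsg.Agent.Lib.helper7.SlF
import Cfsg.Agent.Lib.helper8.ChevSt37
import Cfsg.Agent.Lib.helper8.ChevSt29
import Cfsg.Agent.Lib.helper8.ChevStC4

set_option autoImplicit false

/-!
Schur multipliers of the Chevalley groups of a simply-laced datum whose presented cover is
centrally closed: the generic statement on top of helper8's Steinberg group library.
-/

namespace Cfsg.Agent.Lib.helper7.Sl

open Cfsg.Lie Cfsg.Lie.ChevalleyDatum Cfsg.Agent.Lib.helper8

universe u

variable {F : Type u} [Field F] [Fintype F]

instance instFiniteChevGroup (D : ChevalleyDatum) : Finite ↥(D.group F) := by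
  classical
  infer_instance

/-- The Schur multiplier of the Chevalley group of a datum whose presented cover is centrally
closed is cyclic of order the order of the centre of the Steinberg group, if that centre is
cyclic. -/
theorem chev_mult (D : ChevalleyDatum)
    (hD : D ∈ [chevG2, chevB2, chevD4, chevF4, chevE6, chevE7, chevE8])
    (hK : D ∈ [chevB2, chevG2] → ∃ x : F, x ≠ 0 ∧ x ≠ 1)
    {T : Tab} (hB : Bridge D T) (hG : T.Good) (d : ℕ)
    (hd : Nat.card (Subgroup.center (D.SteinbergGroup F)) = d) (hd0 : d ≠ 0)
    (hcyc : IsCyclic (Subgroup.center (D.SteinbergGroup F))) :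
    Cfsg.HasCyclicSchurMultiplier ↥(D.group F) d := by
  classical
  obtain ⟨θ, hsurj, hker, -⟩ := h8st_main (K := F) D hD
  obtain ⟨e2, -⟩ := h8sc_iso (K := F) D hD
  haveI : Finite θ.ker := by
    rw [hker]
    exact Nat.finite_of_card_ne_zero (by rw [hd]; exact hd0)
  letI : Fintype ↥(D.group F) := Fintype.ofFinite _
  letI : Fintype θ.ker := Fintype.ofFinite _
  haveI : Finite (D.SteinbergGroup F) := by
    letI := Group.fintypeOfKerOfCodom θ
    infer_instance
  have hΓ : Cfsg.HasCyclicSchurMultiplier (D.SteinbergGroup F) 1 :=
    mult_trivial_of_iso hB hG e2.symm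
  have hperf : commutator (D.SteinbergGroup F) = ⊤ := by
    have h1 := h8sc_perfect_all (K := F) D hD hK
    have h2 : (commutator (D.SteinbergCover F)).map e2.toMonoidHom =
        commutator (D.SteinbergGroup F) := by
      rw [commutator_def, commutator_def, Subgroup.map_commutator,
        Subgroup.map_top_of_surjective _ e2.surjective]
    rw [← h2, h1, Subgroup.map_top_of_surjective _ e2.surjective]
  exact mult_of_cover θ hsurj hker hperf hΓ d hd hcyc

end Cfsg.Agent.Lib.helper7.Sl
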