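import Mathlib
import Cfsg.Agent.Lib.helper7.SlG
import Cfsg.Agent.Lib.helper7.SlE6b
import Cfsg.Agent.Lib.helper8.ChevMu9

set_option autoImplicit false

/-!
The Schur multiplier of `E_6(q)` is cyclic of order `gcd(3, q - 1)`.
-/

namespace Cfsg.Agent.Lib.helper7.Sl

open Cfsg.Lie Cfsg.Lie.ChevalleyDatum Cfsg.Agent.Lib.helper8

universe u

/-- A finite group whose order divides a prime is cyclic. -/
lemma isCyclic_of_card_dvd_prime {G : Type*} [Group G] {p : ℕ} (hp : p.Prime)
    (h : Nat.card G ∣ p) : IsCyclic G := by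
  rcases (Nat.dvd_prime hp).1 h with h1 | h1
  · haveI : Subsingleton G := (Nat.card_eq_one_iff_unique.1 h1).1
    exact isCyclic_of_subsingleton
  · haveI : Fact p.Prime := ⟨hp⟩
    exact isCyclic_of_prime_card h1

theorem e6_mult {F : Type u} [Field F] [Fintype F] {q : ℕ} (hF : Fintype.card F = q) :
    Cfsg.HasCyclicSchurMultiplier ↥(chevE6.group F) (Nat.gcd 3 (q - 1)) := by
  have hc := h8st_center_E6 (K := F)
  rw [hF] at hc
  refine chev_mult chevE6 (by simp) (fun h => by
      exfalso
      simp only [List.mem_cons, List.not_mem_nil, or_false] at h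
      rcases h with h | h
      · exact absurd (congrArg ChevalleyDatum.rank h) (by decide)
      · exact absurd (congrArg ChevalleyDatum.rank h) (by decide)) bridge_E6 good_E6 _ hc ?_ ?_
  · exact Nat.gcd_ne_zero_left (by norm_num)
  · exact isCyclic_of_card_dvd_prime Nat.prime_three (by rw [hc]; exact Nat.gcd_dvd_left _ _)

end Cfsg.Agent.Lib.helper7.Sl
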