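import Mathlib
import Cfsg.Agent.Lib.helper7.SlG
import Cfsg.Agent.Lib.helper7.SlE8b
import Cfsg.Agent.Lib.helper8.ChevSt31

set_option autoImplicit false

/-!
The Schur multiplier of `E_8(q)` is trivial.
-/

namespace Cfsg.Agent.Lib.helper7.Sl

open Cfsg.Lie Cfsg.Lie.ChevalleyDatum Cfsg.Agent.Lib.helper8

universe u

theorem e8_mult {F : Type u} [Field F] [Fintype F] :
    Cfsg.HasCyclicSchurMultiplier ↥(chevE8.group F) 1 := by
  have hc := h8st_center_trivial (K := F) chevE8 (by simp)
  refine chev_mult chevE8 (by simp) (fun h => by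
      exfalso
      simp only [List.mem_cons, List.not_mem_nil, or_false] at h
      rcases h with h | h
      · exact absurd (congrArg ChevalleyDatum.rank h) (by decide)
      · exact absurd (congrArg ChevalleyDatum.rank h) (by decide)) bridge_E8 good_E8 1 ?_
    one_ne_zero ?_
  · rw [hc]
    exact Nat.card_eq_one_iff_unique.2 ⟨inferInstance, ⟨1⟩⟩
  · rw [hc]
    exact isCyclic_of_subsingleton

end Cfsg.Agent.Lib.helper7.Sl
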