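import Mathlib
import Cfsg.Prelude.Def_KGroupFacts

/-!
# T2E block V (helper7), part 1: an abstract criterion.

A subgroup `Γ = ⟨S⟩` of a group `E` whose centre has prime order `ℓ` and is the kernel of `ψ : E →* H`; if
`ψ` maps `Γ` onto the perfect finite group `G1`, the centre of `E` meets `Γ` non-trivially, and the
generators in `S` have order prime to `ℓ`, then `Γ → G1` is a finite stem extension with kernel cyclic of
order `ℓ`.
-/

set_option autoImplicit false

namespace Cfsg.Agent.Lib.helper3.T2E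

universe u v

theorem t2ev7_cyclic_equiv {G : Type*} [Group G] (hc : IsCyclic G) (m : ℕ) (hm : Nat.card G = m) :
    Nonempty (G ≃* Multiplicative (ZMod m)) := by
  subst hm
  exact ⟨(zmodCyclicMulEquiv hc).symm⟩

/-- in a group in which the kernel of `σ` is central of exponent `ℓ` and the image is perfect, the `ℓ`-th
powers are commutators -/
theorem t2ev7_pow_mem_commutator {Γ : Type u} {G : Type v} [Group Γ] [Group G] (σ : Γ →* G)
    (hσ : Function.Surjective σ) (hcen : σ.ker ≤ Subgroup.center Γ) (hperf : commutator G = ⊤)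
    (ℓ : ℕ) (hℓ : ∀ k ∈ σ.ker, k ^ ℓ = 1) (γ : Γ) : γ ^ ℓ ∈ commutator Γ := by
  have h1 : σ γ ∈ Subgroup.map σ (commutator Γ) := by
    rw [commutator_def, Subgroup.map_commutator, ← MonoidHom.range_eq_map,
      MonoidHom.range_eq_top.mpr hσ, ← commutator_def, hperf]
    exact Subgroup.mem_top _
  obtain ⟨c, hc, hcγ⟩ := h1
  have hk : γ * c⁻¹ ∈ σ.ker := by
    rw [MonoidHom.mem_ker, map_mul, map_inv, hcγ, mul_inv_cancel]
  have hcomm : Commute (γ * c⁻¹) c := by
    have := Subgroup.mem_center_iff.mp (hcen hk) c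
    exact this.symm
  have e : γ = (γ * c⁻¹) * c := by group
  rw [e, hcomm.mul_pow, hℓ _ hk, one_mul]
  exact Subgroup.pow_mem _ hc ℓ

/-- a group generated by elements of order prime to `ℓ`, central of exponent `ℓ` over a perfect group, is
perfect -/
theorem t2ev7_perfect {Γ : Type u} {G : Type v} [Group Γ] [Group G] (σ : Γ →* G)
    (hσ : Function.Surjective σ) (hcen : σ.ker ≤ Subgroup.center Γ) (hperf : commutator G = ⊤)
    (ℓ : ℕ) (hℓ : ∀ k ∈ σ.ker, k ^ ℓ = 1) (S : Set Γ) (hS : Subgroup.closure S = ⊤)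
    (p : ℕ) (hp : Nat.Coprime p ℓ) (hSp : ∀ s ∈ S, s ^ p = 1) : commutator Γ = ⊤ := by
  rw [eq_top_iff, ← hS, Subgroup.closure_le]
  intro s hs
  have h1 := t2ev7_pow_mem_commutator σ hσ hcen hperf ℓ hℓ s
  have h2 : (s ^ ((p : ℤ) * Nat.gcdA p ℓ + (ℓ : ℤ) * Nat.gcdB p ℓ)) = s := by
    rw [← Nat.gcd_eq_gcd_ab, hp.gcd_eq_one, Nat.cast_one, zpow_one]
  rw [SetLike.mem_coe, ← h2, zpow_add, zpow_mul, zpow_mul, zpow_natCast, zpow_natCast, hSp s hs,
    one_zpow, one_mul]
  exact Subgroup.zpow_mem _ h1 _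

/-- the abstract cover criterion -/
theorem t2ev7_cover_abstract {E : Type u} {H : Type v} [Group E] [Group H] (ψ : E →* H)
    (hker : ψ.ker = Subgroup.center E) (S : Set E) (G1 : Subgroup H)
    (hmap : (Subgroup.closure S).map ψ = G1) [Finite G1] (hperf : commutator G1 = ⊤)
    (ℓ : ℕ) [hℓ : Fact ℓ.Prime] (hcard : Nat.card (Subgroup.center E) = ℓ)
    (z : E) (hzΓ : z ∈ Subgroup.closure S) (hzc : z ∈ Subgroup.center E) (hz1 : z ≠ 1)
    (p : ℕ) (hp : Nat.Coprime p ℓ) (hSp : ∀ s ∈ S, s ^ p = 1) :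
    ∃ (_ : Finite (Subgroup.closure S)) (σ : Subgroup.closure S →* G1),
      Cfsg.IsStemExtension σ ∧ Nonempty (σ.ker ≃* Multiplicative (ZMod ℓ)) := by
  set Γ : Subgroup E := Subgroup.closure S with hΓ
  -- the centre lies in Γ
  have hcΓ : Subgroup.center E ≤ Γ := by
    intro c hc
    have htop := zpowers_eq_top_of_prime_card (G := Subgroup.center E) hcard
      (g := ⟨z, hzc⟩) (by intro h; exact hz1 (congrArg Subtype.val h))
    have : (⟨c, hc⟩ : Subgroup.center E) ∈ Subgroup.zpowers (⟨z, hzc⟩ : Subgroup.center E) := by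
      rw [htop]; exact Subgroup.mem_top _
    obtain ⟨n, hn⟩ := Subgroup.mem_zpowers_iff.mp this
    have hn' : z ^ n = c := by
      have := congrArg Subtype.val hn
      simpa using this
    rw [← hn']
    exact Subgroup.zpow_mem _ hzΓ n
  -- the map
  let σ : Γ →* G1 := (MulEquiv.subgroupCongr hmap).toMonoidHom.comp (ψ.subgroupMap Γ)
  have hσval : ∀ γ : Γ, ((σ γ : G1) : H) = ψ (γ : E) := fun γ => rfl
  have hσsurj : Function.Surjective σ :=
    (MulEquiv.subgroupCongr hmap).surjective.comp (ψ.subgroupMap_surjective Γ)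
  have hkermem : ∀ γ : Γ, γ ∈ σ.ker ↔ (γ : E) ∈ Subgroup.center E := by
    intro γ
    rw [MonoidHom.mem_ker, ← hker, MonoidHom.mem_ker, ← hσval]
    constructor
    · intro h; rw [h]; rfl
    · intro h; exact Subtype.ext h
  have hcen : σ.ker ≤ Subgroup.center Γ := by
    intro γ hγ
    rw [Subgroup.mem_center_iff]
    intro g
    apply Subtype.ext
    exact Subgroup.mem_center_iff.mp ((hkermem γ).mp hγ) (g : E)
  -- the kernel
  let e : σ.ker ≃ Subgroup.center E :=
    { toFun := fun γ => ⟨((γ : Γ) : E), (hkermem γ).mp γ.2⟩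
      invFun := fun c => ⟨⟨(c : E), hcΓ c.2⟩, (hkermem _).mpr c.2⟩
      left_inv := fun γ => rfl
      right_inv := fun c => rfl }
  have hkcard : Nat.card σ.ker = ℓ := by rw [Nat.card_congr e, hcard]
  have hkfin : Finite σ.ker := Nat.finite_of_card_ne_zero (by rw [hkcard]; exact hℓ.out.ne_zero)
  have hpowk : ∀ k ∈ σ.ker, k ^ ℓ = 1 := by
    intro k hk
    have := pow_card_eq_one' (G := σ.ker) (x := ⟨k, hk⟩)
    rw [hkcard] at this
    exact congrArg Subtype.val this
  have hΓfin : Finite Γ := by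
    have hidx : σ.ker.index ≠ 0 := by
      rw [Subgroup.index_ker, MonoidHom.range_eq_top.mpr hσsurj]
      have : Finite (⊤ : Subgroup G1) := inferInstance
      exact Nat.card_pos.ne'
    have := Subgroup.card_mul_index σ.ker
    apply Nat.finite_of_card_ne_zero
    rw [← this, hkcard]
    exact mul_ne_zero hℓ.out.ne_zero hidx
  -- perfect
  have hperfΓ : commutator Γ = ⊤ := by
    apply t2ev7_perfect σ hσsurj hcen hperf ℓ hpowk (Subtype.val ⁻¹' S)
      Subgroup.closure_closure_coe_preimage p hp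
    intro s hs
    apply Subtype.ext
    rw [Subgroup.coe_pow, Subgroup.coe_one]
    exact hSp _ hs
  refine ⟨hΓfin, σ, ⟨hσsurj, hcen, ?_⟩, ?_⟩
  · rw [hperfΓ]; exact le_top
  · exact t2ev7_cyclic_equiv (isCyclic_of_prime_card hkcard) ℓ hkcard

end Cfsg.Agent.Lib.helper3.T2E
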