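import Mathlib
import Cfsg.Prelude.Def_Steinberg
import Cfsg.Prelude.Def_LieTwisted
import Cfsg.Agent.Lib.helper8.ChevMu9
import Cfsg.Agent.Lib.helper8.ChevSt31
import Cfsg.Agent.Lib.helper8.ChevTw8
import Cfsg.Agent.Lib.helper7.T2EV1

/-!
# T2E block V (helper7), part 2: the subgroup of the Steinberg group of type `E₆` generated by the twisted
root elements.
-/

set_option autoImplicit false

namespace Cfsg.Agent.Lib.helper3.T2E

open Cfsg.Lie Cfsg.Lie.ChevalleyDatum Cfsg.Agent.Lib.helper8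

universe u v

section Abstract

variable {K : Type u} [Field K] {Γ : Type v} [Group Γ] {D : ChevalleyDatum} {X : ℕ → K → Γ}

theorem t2ev7_X_zero (hS : H8Sys D X) (r : ℕ) (hr : r < D.nroots) : X r 0 = 1 := by
  have := hS.add r hr 0 0
  rw [add_zero] at this
  exact mul_eq_left.mp this

theorem t2ev7_X_pow (hS : H8Sys D X) (r : ℕ) (hr : r < D.nroots) (t : K) (n : ℕ) :
    X r t ^ n = X r (n • t) := by
  induction n with
  | zero => rw [pow_zero, zero_smul, t2ev7_X_zero hS r hr]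
  | succ n ih => rw [pow_succ, ih, hS.add r hr, succ_nsmul]

theorem t2ev7_X_pow_char (hS : H8Sys D X) (p : ℕ) [CharP K p] (r : ℕ) (hr : r < D.nroots) (t : K) :
    X r t ^ p = 1 := by
  rw [t2ev7_X_pow hS r hr, nsmul_eq_mul, CharP.cast_eq_zero, zero_mul, t2ev7_X_zero hS r hr]

theorem t2ev7_commute (hS : H8Sys D X) (r s : ℕ) (hr : r < D.nroots) (hs : s < D.nroots)
    (h1 : s ≠ r) (h2 : s ≠ D.negIdx.getD r 0) (hct : D.commTerms r s = []) (t u : K) :
    Commute (X s u) (X r t) := by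
  have := hS.comm r hr s hs h1 h2 t u
  unfold ChevalleyDatum.commWord at this
  rw [hct, List.map_nil, h8wX_nil, mul_one] at this
  exact this

/-- the product of two commuting `n`-elements as a product of three "twisted" root elements -/
theorem t2ev7_nn (a a' b b' : ℕ) (ha : D.negIdx.getD a 0 = a') (hb : D.negIdx.getD b 0 = b')
    (h1 : ∀ t u : K, Commute (X b u) (X a t)) (h2 : ∀ t u : K, Commute (X b u) (X a' t))
    (h3 : ∀ t u : K, Commute (X b' u) (X a t)) (t u : K) :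
    h8nS D X a t * h8nS D X b u =
      (X a t * X b u) * (X a' (-t⁻¹) * X b' (-u⁻¹)) * (X a t * X b u) := by
  unfold h8nS
  rw [ha, hb]
  exact h8rearr2 _ _ _ _ _ _ (h1 _ _) (h2 _ _) (h3 _ _)

theorem t2ev7_nn_comm (a a' b b' : ℕ) (ha : D.negIdx.getD a 0 = a') (hb : D.negIdx.getD b 0 = b')
    (h1 : ∀ t u : K, Commute (X b u) (X a t)) (h2 : ∀ t u : K, Commute (X b u) (X a' t))
    (h3 : ∀ t u : K, Commute (X b' u) (X a t)) (h4 : ∀ t u : K, Commute (X b' u) (X a' t))
    (t u : K) : Commute (h8nS D X a t) (h8nS D X b u) := by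
  unfold h8nS
  rw [ha, hb]
  have k1 : ∀ s : K, Commute (X a s) (X b u * X b' (-u⁻¹) * X b u) := fun s =>
    ((((h1 s u).symm).mul_right ((h3 s _).symm)).mul_right ((h1 s u).symm))
  have k2 : ∀ s : K, Commute (X a' s) (X b u * X b' (-u⁻¹) * X b u) := fun s =>
    ((((h2 s u).symm).mul_right ((h4 s _).symm)).mul_right ((h2 s u).symm))
  exact ((k1 t).mul_left (k2 _)).mul_left (k1 t)

/-- the product of two commuting `h`-elements in terms of twisted root elements -/
theorem t2ev7_hh_mem (a a' b b' : ℕ) (ha : D.negIdx.getD a 0 = a') (hb : D.negIdx.getD b 0 = b')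
    (h1 : ∀ t u : K, Commute (X b u) (X a t)) (h2 : ∀ t u : K, Commute (X b u) (X a' t))
    (h3 : ∀ t u : K, Commute (X b' u) (X a t)) (h4 : ∀ t u : K, Commute (X b' u) (X a' t))
    (q : ℕ) (hneg : (-1 : K) ^ q = -1) (H : Subgroup Γ)
    (hH : ∀ t : K, X a t * X b (t ^ q) ∈ H) (hH' : ∀ t : K, X a' t * X b' (t ^ q) ∈ H) (t : K) :
    h8hS D X a t * h8hS D X b (t ^ q) ∈ H := by
  have hnn : ∀ s : K, h8nS D X a s * h8nS D X b (s ^ q) ∈ H := by
    intro s
    rw [t2ev7_nn a a' b b' ha hb h1 h2 h3]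
    have e : -(s ^ q)⁻¹ = (-s⁻¹) ^ q := by
      rw [neg_pow, hneg, inv_pow, neg_one_mul]
    rw [e]
    exact H.mul_mem (H.mul_mem (hH s) (hH' _)) (hH s)
  unfold h8hS
  rw [Commute.mul_mul_mul_comm (t2ev7_nn_comm a a' b b' ha hb h1 h2 h3 h4 _ _)]
  have := hnn (-1)
  rw [hneg] at this
  exact H.mul_mem (hnn t) this

end Abstract

section E6

variable {K : Type u} [Field K]

/-- the twisted root elements of the Steinberg group -/
def t2ev7_gens (K : Type u) [Field K] (q : ℕ) : Set (chevE6.SteinbergGroup K) :=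
  {g | ∃ w ∈ e6Words K q, g = h8wX (chevE6.stGen K) w}

theorem t2ev7_hD : chevE6 ∈ [chevG2, chevB2, chevD4, chevF4, chevE6, chevE7, chevE8] := by simp

/-- the projection of the Steinberg group to the general linear group -/
noncomputable def t2ev7_psi (K : Type u) [Field K] : chevE6.SteinbergGroup K →* GL chevE6.Idx K :=
  (chevE6.group K).subtype.comp
    (h8stTheta chevE6 (h8base_all.{u} chevE6 t2ev7_hD) (h8commAll.{u} chevE6 t2ev7_hD))

theorem t2ev7_psi_gen (r : ℕ) (t : K) :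
    ((t2ev7_psi K (chevE6.stGen K r t) : GL chevE6.Idx K) : Matrix chevE6.Idx chevE6.Idx K) =
      chevE6.x K r t := by
  exact h8stTheta_gen chevE6 (h8base_all.{u} chevE6 t2ev7_hD) (h8commAll.{u} chevE6 t2ev7_hD) r t

theorem t2ev7_psi_word (w : List (ℕ × K)) :
    ((t2ev7_psi K (h8wX (chevE6.stGen K) w) : GL chevE6.Idx K) : Matrix chevE6.Idx chevE6.Idx K) =
      chevE6.wordMat K w := by
  induction w with
  | nil =>
    rw [h8wX_nil, map_one]
    rfl
  | cons p w ih =>
    rw [h8wX_cons, map_mul, Units.val_mul, ih, t2ev7_psi_gen]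
    unfold ChevalleyDatum.wordMat
    rw [List.map_cons, List.prod_cons]

theorem t2ev7_psi_ker : (t2ev7_psi K).ker = Subgroup.center (chevE6.SteinbergGroup K) := by
  rw [← h8stTheta_ker chevE6 t2ev7_hD]
  ext z
  rw [MonoidHom.mem_ker, MonoidHom.mem_ker]
  unfold t2ev7_psi
  rw [MonoidHom.comp_apply]
  constructor
  · intro h
    exact Subtype.ext h
  · intro h
    rw [h, map_one]

theorem t2ev7_map (q : ℕ) :
    (Subgroup.closure (t2ev7_gens K q)).map (t2ev7_psi K) = twistedE6 K q := by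
  rw [MonoidHom.map_closure]
  unfold twistedE6 ChevalleyDatum.genSubgroup
  congr 1
  ext g
  constructor
  · rintro ⟨x, ⟨w, hw, rfl⟩, rfl⟩
    exact ⟨w, hw, t2ev7_psi_word w⟩
  · rintro ⟨w, hw, hg⟩
    exact ⟨_, ⟨w, hw, rfl⟩, Units.ext ((t2ev7_psi_word w).trans hg.symm)⟩

theorem t2ev7_ct :
    chevE6.commTerms 56 36 = [] ∧ chevE6.commTerms 15 36 = [] ∧ chevE6.commTerms 56 35 = [] ∧
    chevE6.commTerms 15 35 = [] ∧ chevE6.commTerms 42 37 = [] ∧ chevE6.commTerms 29 37 = [] ∧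
    chevE6.commTerms 42 34 = [] ∧ chevE6.commTerms 29 34 = [] := by decide +kernel

end E6

end Cfsg.Agent.Lib.helper3.T2E
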