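import Mathlib
import Cfsg.Agent.Lib.helper7.T2EV2
import Cfsg.Agent.Lib.helper8.ChevTwE6P

/-!
# T2E block V (helper7), part 3: the cover of `²E₆(q)` for `3 ∣ q + 1`.
-/

set_option autoImplicit false

namespace Cfsg.Agent.Lib.helper3.T2E

open Cfsg.Lie Cfsg.Lie.ChevalleyDatum Cfsg.Agent.Lib.helper8

universe u

variable {K : Type u} [Field K]

/-- the two-letter generators -/
theorem t2ev7_gen2_mem (q : ℕ) (a b : ℕ)
    (hab : (a, b) ∈ [(e6p1, e6p6), (e6m1, e6m6), (e6p3, e6p5), (e6m3, e6m5)]) (t : K) :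
    chevE6.stGen K a t * chevE6.stGen K b (t ^ q) ∈ Subgroup.closure (t2ev7_gens K q) := by
  apply Subgroup.subset_closure
  refine ⟨[(a, t), (b, t ^ q)], Or.inr ⟨t, (a, b), hab, rfl⟩, ?_⟩
  rw [h8wX_cons, h8wX_cons, h8wX_nil, mul_one]

/-- the generators have order dividing the characteristic -/
theorem t2ev7_gens_pow (q p : ℕ) [CharP K p] (s : chevE6.SteinbergGroup K)
    (hs : s ∈ t2ev7_gens K q) : s ^ p = 1 := by
  have hS := h8stg_sys (K := K) chevE6
  obtain ⟨h1, h2, h3, h4, h5, h6, h7, h8⟩ := t2ev7_ct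
  obtain ⟨w, hw, rfl⟩ := hs
  rcases hw with ⟨t, _, r, hr, rfl⟩ | ⟨t, rs, hrs, rfl⟩
  · rw [h8wX_cons, h8wX_nil, mul_one]
    simp only [List.mem_cons, List.mem_nil_iff, or_false] at hr
    apply t2ev7_X_pow_char hS p
    show r < chevE6.nroots
    rcases hr with rfl | rfl | rfl | rfl <;> decide
  · rw [h8wX_cons, h8wX_cons, h8wX_nil, mul_one]
    simp only [List.mem_cons, List.mem_nil_iff, or_false] at hrs
    have key : ∀ a b : ℕ, a < chevE6.nroots → b < chevE6.nroots → b ≠ a →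
        b ≠ chevE6.negIdx.getD a 0 → chevE6.commTerms a b = [] → ∀ t u : K,
        (chevE6.stGen K a t * chevE6.stGen K b u) ^ p = 1 := by
      intro a b ha hb hne hne' hct t u
      rw [((t2ev7_commute hS a b ha hb hne hne' hct t u).symm).mul_pow,
        t2ev7_X_pow_char hS p a ha, t2ev7_X_pow_char hS p b hb, one_mul]
    rcases hrs with rfl | rfl | rfl | rfl
    · exact key 56 36 (by decide) (by decide) (by decide) (by decide) h1 _ _
    · exact key 15 35 (by decide) (by decide) (by decide) (by decide) h4 _ _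
    · exact key 42 37 (by decide) (by decide) (by decide) (by decide) h5 _ _
    · exact key 29 34 (by decide) (by decide) (by decide) (by decide) h8 _ _

/-- the twisted torus elements lie in the subgroup -/
theorem t2ev7_hh16 (q : ℕ) (hneg : (-1 : K) ^ q = -1) (t : K) :
    h8hS chevE6 (chevE6.stGen K) 56 t * h8hS chevE6 (chevE6.stGen K) 36 (t ^ q) ∈
      Subgroup.closure (t2ev7_gens K q) := by
  have hS := h8stg_sys (K := K) chevE6
  obtain ⟨h1, h2, h3, h4, h5, h6, h7, h8⟩ := t2ev7_ct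
  apply t2ev7_hh_mem 56 15 36 35 (by decide) (by decide)
    (fun t u => t2ev7_commute hS 56 36 (by decide) (by decide) (by decide) (by decide) h1 t u)
    (fun t u => t2ev7_commute hS 15 36 (by decide) (by decide) (by decide) (by decide) h2 t u)
    (fun t u => t2ev7_commute hS 56 35 (by decide) (by decide) (by decide) (by decide) h3 t u)
    (fun t u => t2ev7_commute hS 15 35 (by decide) (by decide) (by decide) (by decide) h4 t u)
    q hneg
  · intro t
    exact t2ev7_gen2_mem q 56 36 (by simp [e6p1, e6p6]) t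
  · intro t
    exact t2ev7_gen2_mem q 15 35 (by simp [e6m1, e6m6]) t

theorem t2ev7_hh35 (q : ℕ) (hneg : (-1 : K) ^ q = -1) (t : K) :
    h8hS chevE6 (chevE6.stGen K) 42 t * h8hS chevE6 (chevE6.stGen K) 37 (t ^ q) ∈
      Subgroup.closure (t2ev7_gens K q) := by
  have hS := h8stg_sys (K := K) chevE6
  obtain ⟨h1, h2, h3, h4, h5, h6, h7, h8⟩ := t2ev7_ct
  apply t2ev7_hh_mem 42 29 37 34 (by decide) (by decide)
    (fun t u => t2ev7_commute hS 42 37 (by decide) (by decide) (by decide) (by decide) h5 t u)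
    (fun t u => t2ev7_commute hS 29 37 (by decide) (by decide) (by decide) (by decide) h6 t u)
    (fun t u => t2ev7_commute hS 42 34 (by decide) (by decide) (by decide) (by decide) h7 t u)
    (fun t u => t2ev7_commute hS 29 34 (by decide) (by decide) (by decide) (by decide) h8 t u)
    q hneg
  · intro t
    exact t2ev7_gen2_mem q 42 37 (by simp [e6p3, e6p5]) t
  · intro t
    exact t2ev7_gen2_mem q 29 34 (by simp [e6m3, e6m5]) t

/-- the coordinates of the central element -/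
def t2ev7_c (ω : K) (i : ℕ) : K := ω ^ (h8muME6.getD i 0)

theorem t2ev7_pair :
    H8Pair chevE6 (h8base_all.{u} chevE6 t2ev7_hD) (chevE6.stGen K) (t2ev7_psi K) 1 :=
  h8stg_pair chevE6 _ _ (fun r t _ => h8stTheta_gen chevE6 _ _ r t)

theorem t2ev7_c_ne (ω : K) (hω : ω ^ 3 = 1) (i : ℕ) : t2ev7_c ω i ≠ 0 := by
  apply zpow_ne_zero
  rintro rfl
  simp at hω

theorem t2ev7_z_center (ω : K) (hω : ω ^ 3 = 1) :
    h8TorS chevE6 (chevE6.stGen K) (t2ev7_c ω) ∈ Subgroup.center (chevE6.SteinbergGroup K) := by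
  have hω0 : ω ≠ 0 := by
    rintro rfl
    simp at hω
  rw [← t2ev7_psi_ker, MonoidHom.mem_ker, h8pair_TorS_im t2ev7_pair (h8all_all chevE6 t2ev7_hD)]
  apply Units.ext
  rw [h8Tor_val chevE6 _ (h8scChk_all chevE6 t2ev7_hD) _ (fun i _ => t2ev7_c_ne ω hω i),
    Units.val_one, ← Matrix.diagonal_one]
  congr 1
  funext x
  rcases x with k | v
  · rfl
  · show ∏ i ∈ Finset.range chevE6.rank, (t2ev7_c ω i) ^ chevE6.cartan i v.val = 1
    obtain ⟨k, hk⟩ := Int.dvd_of_emod_eq_zero (h8muE6_h3 v.val v.2)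
    have e1 : ∏ i ∈ Finset.range chevE6.rank, (t2ev7_c ω i) ^ chevE6.cartan i v.val =
        ω ^ (∑ i ∈ Finset.range chevE6.rank, h8muME6.getD i 0 * chevE6.cartan i v.val) := by
      rw [h8zpow_sum_range _ hω0]
      apply Finset.prod_congr rfl
      intro i _
      unfold t2ev7_c
      rw [zpow_mul]
    rw [e1, hk, zpow_mul, zpow_natCast, hω, one_zpow]

theorem t2ev7_z_ne_one (ω : K) (hω : ω ^ 3 = 1) (hω1 : ω ≠ 1) :
    h8TorS chevE6 (chevE6.stGen K) (t2ev7_c ω) ≠ 1 := by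
  intro h1
  have := h8mu_TorS_inj h8muE6_ok h8muE6_simp (fun k => h8muWE6.getD k 0) h8muE6_w
    (fun j k => (h8muBE6.getD j []).getD k 0) h8muE6_AB (t2ev7_c ω) (t2ev7_c_ne ω hω) h1 2
    (by decide)
  apply hω1
  have e : t2ev7_c ω 2 = ω := by
    unfold t2ev7_c
    simp [h8muME6]
  rw [← e]
  exact this

theorem t2ev7_z_mem (q : ℕ) (hneg : (-1 : K) ^ q = -1) (ω : K) (hω : ω ^ 3 = 1)
    (hq : ω ^ q = ω ^ 2) :
    h8TorS chevE6 (chevE6.stGen K) (t2ev7_c ω) ∈ Subgroup.closure (t2ev7_gens K q) := by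
  have hL := h8all_all chevE6 t2ev7_hD
  have hWS := h8w0s_all chevE6 t2ev7_hD
  have hN2 := h8n2_all chevE6 t2ev7_hD
  have hCr := h8stg_relC (K := K) chevE6
  have hP := t2ev7_pair (K := K)
  have hω0 : ω ≠ 0 := by
    rintro rfl
    simp at hω
  have h16 := t2ev7_hh16 q hneg (ω ^ 2)
  have h35 := t2ev7_hh35 q hneg ω
  have e1 : (ω ^ 2) ^ q = ω := by
    rw [← pow_mul, mul_comm, pow_mul, hq, ← pow_mul]
    calc ω ^ (2 * 2) = ω ^ 3 * ω := by ring
      _ = ω := by rw [hω, one_mul]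
  rw [e1] at h16
  rw [hq] at h35
  have hmem := Subgroup.mul_mem _ h16 h35
  have hne : ∀ (j : ℕ) (t : K), t ≠ 0 → ∀ i, (fun k => if k = j then t else 1 : ℕ → K) i ≠ 0 := by
    intro j t ht i
    show (if i = j then t else 1) ≠ 0
    split_ifs
    · exact ht
    · exact one_ne_zero
  have hω2 : ω ^ 2 ≠ 0 := pow_ne_zero _ hω0
  have s0 := h8TorS_single hL hCr 0 (by decide) (ω ^ 2)
  have s5 := h8TorS_single hL hCr 5 (by decide) ω
  have s2 := h8TorS_single hL hCr 2 (by decide) ω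
  have s4 := h8TorS_single hL hCr 4 (by decide) (ω ^ 2)
  have d0 : chevE6.simple 0 = 56 := by decide
  have d5 : chevE6.simple 5 = 36 := by decide
  have d2 : chevE6.simple 2 = 42 := by decide
  have d4 : chevE6.simple 4 = 37 := by decide
  rw [d0] at s0
  rw [d5] at s5
  rw [d2] at s2
  rw [d4] at s4
  rw [← s0, ← s5, ← s2, ← s4,
    h8TorS_mul hP hL hWS hN2 hCr _ _ (hne 0 _ hω2) (hne 5 _ hω0),
    h8TorS_mul hP hL hWS hN2 hCr _ _ (hne 2 _ hω0) (hne 4 _ hω2),
    h8TorS_mul hP hL hWS hN2 hCr _ _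
      (fun i => mul_ne_zero (hne 0 _ hω2 i) (hne 5 _ hω0 i))
      (fun i => mul_ne_zero (hne 2 _ hω0 i) (hne 4 _ hω2 i))] at hmem
  convert hmem using 1
  apply h8TorS_congr
  intro i hi
  have hi' : i < 6 := hi
  interval_cases i <;> simp [t2ev7_c, h8muME6]

theorem t2ev7_exists_omega [Fintype K] (q : ℕ) (hK : Fintype.card K = q ^ 2) (h3 : 3 ∣ q + 1) :
    ∃ ω : K, ω ^ 3 = 1 ∧ ω ≠ 1 ∧ ω ^ q = ω ^ 2 := by
  classical
  have hq1 : 1 ≤ q := by
    rcases Nat.eq_zero_or_pos q with rfl | h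
    · exfalso
      have := Fintype.card_pos (α := K)
      rw [hK] at this
      simp at this
    · exact h
  have hcard : Fintype.card Kˣ = (q - 1) * (q + 1) := by
    rw [Fintype.card_units, hK]
    obtain ⟨m, rfl⟩ : ∃ m, q = m + 1 := ⟨q - 1, by omega⟩
    simp only [Nat.add_sub_cancel]
    have : (m + 1) ^ 2 = m * (m + 1 + 1) + 1 := by ring
    rw [this, Nat.add_sub_cancel]
  have hdvd : 3 ∣ Fintype.card Kˣ := by
    rw [hcard]
    exact Dvd.dvd.mul_left h3 _
  obtain ⟨x, hx⟩ := exists_prime_orderOf_dvd_card 3 hdvd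
  have hx3 : (x : K) ^ 3 = 1 := by
    have := pow_orderOf_eq_one x
    rw [hx] at this
    rw [← Units.val_pow_eq_pow_val, this, Units.val_one]
  refine ⟨(x : K), hx3, ?_, ?_⟩
  · intro h
    have : x = 1 := Units.ext h
    rw [this, orderOf_one] at hx
    norm_num at hx
  · obtain ⟨k, hk⟩ := h3
    have h1 : (x : K) ^ (q + 1) = 1 := by rw [hk, pow_mul, hx3, one_pow]
    have h2 : (x : K) ^ q * (x : K) = (x : K) ^ 2 * (x : K) := by
      rw [← pow_succ, h1, ← pow_succ, hx3]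
    exact mul_right_cancel₀ (Units.ne_zero x) h2

/-- **T2E block V**: the cover of `²E₆(q)` when `3 ∣ q + 1`. -/
theorem exists_cover [Fintype K] {q : ℕ} (hq : IsPrimePow q) (hK : Fintype.card K = q ^ 2)
    (h3 : 3 ∣ q + 1) :
    ∃ (Γ : Type u) (_ : Group Γ) (_ : Finite Γ) (σ : Γ →* ↥(twistedE6 K q)),
      Cfsg.IsStemExtension σ ∧ Nonempty (σ.ker ≃* Multiplicative (ZMod 3)) := by
  classical
  obtain ⟨p, k, hp, hk, rfl⟩ := (isPrimePow_nat_iff q).mp hq
  obtain ⟨p', hp'⟩ := CharP.exists K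
  obtain ⟨n, hp'prime, hcard⟩ := FiniteField.card K p'
  have hpp : p' = p := by
    have h1 : p' ∣ (p ^ k) ^ 2 := by
      rw [← hK, hcard]
      exact dvd_pow_self p' n.ne_zero
    have h2 := hp'prime.dvd_of_dvd_pow (hp'prime.dvd_of_dvd_pow h1)
    exact (Nat.prime_dvd_prime_iff_eq hp'prime hp).mp h2
  subst hpp
  have : Fact p'.Prime := ⟨hp⟩
  have hneg : (-1 : K) ^ (p' ^ k) = -1 := neg_one_pow_char_pow K p' k
  have hcop : Nat.Coprime p' 3 := by
    rw [Nat.coprime_primes hp Nat.prime_three]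
    rintro rfl
    have h4 : 3 ∣ 3 ^ k := dvd_pow_self 3 hk.ne'
    have h5 : 3 ∣ 1 := (Nat.dvd_add_right h4).mp h3
    norm_num at h5
  obtain ⟨ω, hω, hω1, hωq⟩ := t2ev7_exists_omega (K := K) (p' ^ k) hK h3
  have hcen : Nat.card (Subgroup.center (chevE6.SteinbergGroup K)) = 3 := by
    rw [h8st_center_E6, hK]
    apply Nat.gcd_eq_left
    have hq1 : 1 ≤ p' ^ k := Nat.one_le_pow _ _ hp.pos
    obtain ⟨m, hm⟩ : ∃ m, p' ^ k = m + 1 := ⟨p' ^ k - 1, by omega⟩
    rw [hm] at h3 ⊢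
    have : (m + 1) ^ 2 - 1 = m * (m + 1 + 1) := by
      have : (m + 1) ^ 2 = m * (m + 1 + 1) + 1 := by ring
      rw [this, Nat.add_sub_cancel]
    rw [this]
    exact Dvd.dvd.mul_left h3 _
  have : Finite ↥(twistedE6 K (p' ^ k)) := inferInstance
  obtain ⟨hfin, σ, hσ, hker⟩ := t2ev7_cover_abstract (t2ev7_psi K) t2ev7_psi_ker
    (t2ev7_gens K (p' ^ k)) (twistedE6 K (p' ^ k)) (t2ev7_map (p' ^ k))
    (h8twE6_perfect hq hK) 3 hcen
    (h8TorS chevE6 (chevE6.stGen K) (t2ev7_c ω))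
    (t2ev7_z_mem (p' ^ k) hneg ω hω hωq) (t2ev7_z_center ω hω) (t2ev7_z_ne_one ω hω hω1)
    p' hcop (fun s hs => t2ev7_gens_pow (p' ^ k) p' s hs)
  exact ⟨_, _, hfin, σ, hσ, hker⟩

end Cfsg.Agent.Lib.helper3.T2E
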