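import Cfsg.Agent.Lib.Helper28.TOO.Defs
import Cfsg.Agent.Lib.Helper28.OMax

/-!
# Project TOO (S5681), row TR5 (helper7): `tr_exists_ts` — a totally singular plane exists in dimension `≥ 5` over a finite field.
-/

set_option autoImplicit false
set_option linter.unusedVariables false
set_option linter.unusedSectionVars false

namespace Cfsg.Agent.Lib.Helper28.TOO

open Matrix
open scoped Kronecker
open Cfsg.Agent.Lib.helper7.TP Cfsg.Agent.Lib.Helper21.TS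

variable {F : Type*} [Field F]

/-- `bf J` is a symmetric non-degenerate form in the sense of `Helper28.HForm`. -/
theorem tootr5_symF {n : ℕ} {J : Matrix (Fin n) (Fin n) F} (hJ : Jᵀ = J) (hdet : J.det ≠ 0) :
    Cfsg.Agent.Lib.Helper28.OGen.SymF (bf J) where
  involutive := fun _ => rfl
  add_left := fun x y v => bf_add_left J x y v
  smul_left := fun c x v => bf_smul_left J c x v
  herm := fun v w => bf_symm hJ v w
  nondegenerate := by
    intro v hv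
    obtain ⟨x, hx⟩ := bf_nondeg' hdet hv
    obtain ⟨y, hy⟩ := bf_nondeg hdet hv
    exact ⟨⟨x, hx⟩, ⟨y, hy⟩⟩

/-- TR5. -/
theorem tr_exists_ts [Fintype F] {b : ℕ} {J2 : Matrix (Fin b) (Fin b) F} (h2 : (2 : F) ≠ 0)
    (hJ : J2ᵀ = J2) (hdet : J2.det ≠ 0) (hb : 5 ≤ b) : ∃ w₁ w₂ : Fin b → F, IsTS J2 w₁ w₂ := by
  have hf := tootr5_symF hJ hdet
  open Cfsg.Agent.Lib.Helper28.HForm Cfsg.Agent.Lib.Helper28.OGen Cfsg.Agent.Lib.Helper28.OMax in
  obtain ⟨w, -, hww, hw0⟩ := ex_sing hf h2 (e0 : Fin 0 → (Fin b → F)) nd_e0 (by omega)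
  open Cfsg.Agent.Lib.Helper28.HForm Cfsg.Agent.Lib.Helper28.OGen Cfsg.Agent.Lib.Helper28.OMax in
  obtain ⟨w', hw'w', hw'w, -⟩ := partner hf h2 (e0 : Fin 0 → (Fin b → F)) nd_e0 w hw0 (perp_e0 w) hww
  open Cfsg.Agent.Lib.Helper28.HForm Cfsg.Agent.Lib.Helper28.OGen Cfsg.Agent.Lib.Helper28.OMax in
  have hnd2 := nd_cons2 hf e0 nd_e0 w w' (perp_e0 w) (perp_e0 w') hww hw'w' (by rw [hw'w]; exact one_ne_zero)
  open Cfsg.Agent.Lib.Helper28.HForm Cfsg.Agent.Lib.Helper28.OGen Cfsg.Agent.Lib.Helper28.OMax in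
  obtain ⟨z, hza, hzz, hz0⟩ := ex_sing hf h2 _ hnd2 (by omega)
  rw [Cfsg.Agent.Lib.Helper28.HForm.perp_cons, Cfsg.Agent.Lib.Helper28.HForm.perp_cons] at hza
  obtain ⟨hzw, hzw', -⟩ := hza
  have hwz : bf J2 w z = 0 := by rw [bf_symm hJ]; exact hzw
  refine ⟨w, z, hww, hwz, hzz, ?_⟩
  intro c₁ c₂ hc
  have h1 : bf J2 w' (c₁ • w + c₂ • z) = 0 := by rw [hc, bf_zero_right]
  rw [bf_add_right, bf_smul_right, bf_smul_right, hw'w, bf_symm hJ w' z, hzw', mul_one, mul_zero,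
    add_zero] at h1
  refine ⟨h1, ?_⟩
  rw [h1, zero_smul, zero_add] at hc
  rcases smul_eq_zero.mp hc with h | h
  · exact h
  · exact absurd h hz0

end Cfsg.Agent.Lib.Helper28.TOO
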