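import Cfsg.Agent.Lib.helper7.TOOWM2
import Cfsg.Agent.Lib.Helper28.TOOGN3
import Cfsg.Agent.Lib.Helper21.TOO.LMAIN
import Cfsg.Agent.Lib.helper7.TOOTR5

/-!
# Project TOO (S5681): `std_max` in the matrix model (WORLD 1 + NT-world: LMAIN `stab_of_NT` + GN3 `le_K0_of_stabPl`).
-/

set_option autoImplicit false
set_option linter.unusedVariables false

namespace Cfsg.Agent.Lib.Helper28.TOO

open Matrix
open scoped Kronecker
open Cfsg.Agent.Lib.helper7.TP Cfsg.Agent.Lib.Helper21.TS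

variable {a b : ℕ} {F : Type*} [Field F]
variable {J1 : Matrix (Fin a) (Fin a) F} {J2 : Matrix (Fin b) (Fin b) F}

/-- `std_max` in the matrix model. -/
theorem toomain_std_max [Fintype F] (C : OCtx J1 J2) (ha : 3 ≤ a) (hodd : Odd a) (hab : a < b) (hb : 5 ≤ b)
    (hex : ¬ (Fintype.card F = 3 ∧ a = 3)) :
    Cfsg.Geo.IsMaximalIn (Om (JV J1 J2)) (K0 a b F ⊓ Om (JV J1 J2)) := by
  have hFodd : Odd (Fintype.card F) := by
    rw [Nat.odd_iff]
    exact Cfsg.Agent.Lib.Helper28.OGen.card_odd C.two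
  apply w1_std_max_core C ha hodd hb
  intro M hT hMO hno
  have hNT : NTw J1 J2 M := by
    intro ξ w hξ hw0 hw hin
    by_contra h0
    exact hno ⟨ξ, w, h0, hξ, hw0, hw, hin⟩
  have hS := (stab_of_NT C ha hodd hb hex hT hMO hNT).2
  exact le_K0_of_stabPl hFodd C (by omega) hodd hab hb (tr_exists_ts C.two C.sym2 C.det2 hb) M hT hMO hS

end Cfsg.Agent.Lib.Helper28.TOO
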