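import Cfsg.Agent.Lib.helper15.TOOWX4
import Cfsg.Agent.Lib.Helper9.TOOWT3
import Cfsg.Agent.Lib.Helper11.TOOWX0
import Cfsg.Agent.Lib.helper7.TOOWG1
import Cfsg.Agent.Lib.Helper24.TOOWQ5core
import Cfsg.Agent.Lib.Helper27.TOOWQ3
import Cfsg.Agent.Lib.Helper27.TOOWQ4
import Cfsg.Agent.Lib.Helper9.TOOWG7
import Cfsg.Agent.Lib.helper23.TOOWG8

/-!
# Project TOO (S5681), row WM1 (helper7): `world1` — WORLD 1, assembly of the rows WX4, WT3, WQ5, WG7, WG8.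
-/

set_option autoImplicit false
set_option linter.unusedVariables false

namespace Cfsg.Agent.Lib.Helper28.TOO

open Matrix
open scoped Kronecker
open Cfsg.Agent.Lib.helper7.TP Cfsg.Agent.Lib.Helper21.TS

variable {a b : ℕ} {F : Type*} [Field F]
variable {J1 : Matrix (Fin a) (Fin a) F} {J2 : Matrix (Fin b) (Fin b) F}

/-- `JV` is symmetric. -/
theorem toowm_JV_symm (C : OCtx J1 J2) : (JV J1 J2)ᵀ = JV J1 J2 := by
  unfold JV
  rw [← Matrix.kroneckerMap_transpose, C.sym1, C.sym2]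

/-- `JV` is non-degenerate. -/
theorem toowm_JV_det (C : OCtx J1 J2) : (JV J1 J2).det ≠ 0 := by
  unfold JV
  rw [Matrix.det_kronecker]
  exact mul_ne_zero (pow_ne_zero _ C.det1) (pow_ne_zero _ C.det2)

theorem toowm_ten_ne_zero {u : Fin a → F} {w : Fin b → F} (hu : u ≠ 0) (hw : w ≠ 0) :
    ten u w ≠ 0 := by
  intro h
  obtain ⟨i, hi⟩ := Function.ne_iff.mp hu
  obtain ⟨j, hj⟩ := Function.ne_iff.mp hw
  have := congrFun h (i, j)
  simp only [ten, Pi.zero_apply, mul_eq_zero] at this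
  rcases this with h1 | h1
  · exact hi h1
  · exact hj h1

/-- WQ5 (`w1_qpt`) from helper24's core and the landed rows WQ3, WQ4 (kept under a prefixed name: the verbatim row
`w1_qpt` is helper24's). -/
theorem toowm_qpt (C : OCtx J1 J2) (ha : 3 ≤ a) (hb : 3 ≤ b)
    (M : Subgroup (Matrix.GeneralLinearGroup (Fin a × Fin b) F)) (hM : M ≤ OV J1 J2)
    (hXi : ∀ (ξ : Matrix (Fin a) (Fin a) F) (w : Fin b → F), SkewAdj J1 ξ → bf J2 w w = 0 →
      InM M (XBm J2 ξ w))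
    (hTh : ∀ (η : Matrix (Fin b) (Fin b) F) (u : Fin a → F), SkewAdj J2 η → bf J1 u u = 0 →
      InM M (XAm J1 u η))
    (u : Fin a → F) (w : Fin b → F) (hu0 : u ≠ 0) (hw0 : w ≠ 0) (hu : bf J1 u u = 0)
    (hw : bf J2 w w = 0) (v : Fin a × Fin b → F) (hv : bf (JV J1 J2) (ten u w) v = 0) :
    InM M (sieg (JV J1 J2) (ten u w) v) :=
  toowq5_core C M u w hu0 hu
    (fun x' y' hx' => w1_qpt_left C ha M hM hXi u w hu0 hw0 hw x' hx' y')
    (fun x y'' hy => w1_qpt_right C hb M hM hTh u w hu0 hw0 hu x y'' hy) v hv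

/-- WM1. WORLD 1. -/
theorem world1 [Fintype F] (C : OCtx J1 J2) (ha : 3 ≤ a) (hodd : Odd a) (hb : 5 ≤ b)
    (M : Subgroup (Matrix.GeneralLinearGroup (Fin a × Fin b) F)) (hT : T1 J1 J2 ≤ M) (hM : M ≤ OV J1 J2)
    (h : ∃ (ξ : Matrix (Fin a) (Fin a) F) (w : Fin b → F), ξ ≠ 0 ∧ SkewAdj J1 ξ ∧ w ≠ 0 ∧ bf J2 w w = 0 ∧
      InM M (XBm J2 ξ w)) :
    Om (JV J1 J2) ≤ M := by
  have hXi := w1_xi_full C ha hodd hb M hT h
  have hTh := w1_th_full C ha hb M hXi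
  obtain ⟨u, hu0, hu⟩ := w1_ex_sing C.two C.sym1 C.det1 ha
  obtain ⟨w, hw0, hw⟩ := w1_ex_sing C.two C.sym2 C.det2 (by omega : 3 ≤ b)
  obtain ⟨u', hu', huu'⟩ := w1_hyp_partner C.two C.sym1 C.det1 u hu0 hu
  obtain ⟨w', hw', hww'⟩ := w1_hyp_partner C.two C.sym2 C.det2 w hw0 hw
  have hu'0 : u' ≠ 0 := by
    rintro rfl
    rw [bf_zero_right] at huu'
    exact zero_ne_one huu'
  have hw'0 : w' ≠ 0 := by
    rintro rfl
    rw [bf_zero_right] at hww'
    exact zero_ne_one hww'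
  have hp : bf (JV J1 J2) (ten u w) (ten u w) = 0 := by rw [bf_JV_ten, hu, zero_mul]
  have hp' : bf (JV J1 J2) (ten u' w') (ten u' w') = 0 := by rw [bf_JV_ten, hu', zero_mul]
  have hpp' : bf (JV J1 J2) (ten u w) (ten u' w') ≠ 0 := by
    rw [bf_JV_ten, huu', hww', one_mul]
    exact one_ne_zero
  have hX := fun v hv => toowm_qpt C ha (by omega : 3 ≤ b) M hM hXi hTh u w hu0 hw0 hu hw v hv
  have hX' := fun v hv => toowm_qpt C ha (by omega : 3 ≤ b) M hM hXi hTh u' w' hu'0 hw'0 hu' hw' v hv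
  have hall := w1_all_of_two C.two (toowm_JV_symm C) (toowm_JV_det C) M hM (ten u w) (ten u' w')
    hp hp' hpp' hX hX'
  apply w1_om_le_of_sieg C.two (toowm_JV_symm C) (toowm_JV_det C) ?_ M
    (fun s v hs _ hsv => hall s v hs hsv)
  rw [Fintype.card_prod, Fintype.card_fin, Fintype.card_fin]
  nlinarith


end Cfsg.Agent.Lib.Helper28.TOO
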