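import Cfsg.Agent.Lib.helper7.TOOWM1
import Cfsg.Agent.Lib.Helper11.TOOWX1
import Cfsg.Agent.Lib.Helper24.TOOWP1

/-!
# Project TOO (S5681), row WM2 (helper7): `w1_std_max_core` — `std_max` from `world1`, PROPER and the NT-world theorem.
-/

set_option autoImplicit false
set_option linter.unusedVariables false

namespace Cfsg.Agent.Lib.Helper28.TOO

open Matrix
open scoped Kronecker
open Cfsg.Agent.Lib.helper7.TP Cfsg.Agent.Lib.Helper21.TS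

variable {a b : ℕ} {F : Type*} [Field F]
variable {J1 : Matrix (Fin a) (Fin a) F} {J2 : Matrix (Fin b) (Fin b) F}

/-- WM2. `std_max` from `world1`, PROPER and the NT-world theorem. -/
theorem w1_std_max_core [Fintype F] (C : OCtx J1 J2) (ha : 3 ≤ a) (hodd : Odd a) (hb : 5 ≤ b)
    (hNT : ∀ M : Subgroup (Matrix.GeneralLinearGroup (Fin a × Fin b) F), T1 J1 J2 ≤ M → M ≤ OV J1 J2 →
      (¬ ∃ (ξ : Matrix (Fin a) (Fin a) F) (w : Fin b → F), ξ ≠ 0 ∧ SkewAdj J1 ξ ∧ w ≠ 0 ∧ bf J2 w w = 0 ∧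
        InM M (XBm J2 ξ w)) → M ≤ K0 a b F) :
    Cfsg.Geo.IsMaximalIn (Om (JV J1 J2)) (K0 a b F ⊓ Om (JV J1 J2)) := by
  have hOmO : Om (JV J1 J2) ≤ OV J1 J2 := by
    unfold Om OV
    rintro _ ⟨g, _, rfl⟩
    exact g.2
  have hT1 : T1 J1 J2 ≤ K0 a b F ⊓ Om (JV J1 J2) := le_inf w1_T1_le_K0 (w1_T1_le_Om C)
  refine ⟨?_, ?_⟩
  · rw [lt_iff_le_and_ne]
    refine ⟨inf_le_right, ?_⟩
    intro heq
    obtain ⟨g, hgΩ, hgK⟩ := w1_proper C (by omega : 2 ≤ a) (by omega : 3 ≤ b)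
    rw [← heq] at hgΩ
    exact hgK hgΩ.1
  · intro M hKM hMΩ
    have hT : T1 J1 J2 ≤ M := hT1.trans hKM
    have hMO : M ≤ OV J1 J2 := hMΩ.trans hOmO
    by_cases h : ∃ (ξ : Matrix (Fin a) (Fin a) F) (w : Fin b → F), ξ ≠ 0 ∧ SkewAdj J1 ξ ∧ w ≠ 0 ∧
        bf J2 w w = 0 ∧ InM M (XBm J2 ξ w)
    · right
      exact le_antisymm hMΩ (world1 C ha hodd hb M hT hMO h)
    · left
      exact le_antisymm (le_inf (hNT M hT hMO h) hMΩ) hKM

end Cfsg.Agent.Lib.Helper28.TOO
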