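import Cfsg.Agent.Lib.Helper21.TPC1

/-!
# Project TSD (S5980), row KRONGE (second writer helper7): `tsdkronge7_rank_ge`
= exact statement of `tsd_kron_rank_ge`: both factors invertible and non-scalar ⇒ `a + b ≤ rank (α ⊗ β - l) + 2`.
-/

set_option autoImplicit false

namespace Cfsg.Agent.Lib.helper4.TSD

open Matrix
open scoped Kronecker
open Cfsg.Agent.Lib.helper7.TP

variable {F : Type*} [Field F]

/-- a non-scalar matrix has a vector that is not an eigenvector. -/
theorem tsdkronge7_noneigen {a : ℕ} (α : Matrix (Fin a) (Fin a) F)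
    (hα' : ∀ c : F, α ≠ c • (1 : Matrix (Fin a) (Fin a) F)) :
    1 ≤ a ∧ ∃ u : Fin a → F, ∀ c : F, α *ᵥ u ≠ c • u := by
  have ha : 1 ≤ a := by
    by_contra h
    have h0 : a = 0 := by omega
    subst h0
    exact hα' 0 (Subsingleton.elim _ _)
  refine ⟨ha, ?_⟩
  by_contra hcon
  push Not at hcon
  obtain ⟨c, hc⟩ := tpc1_scalar_of_all_eigen ha α hcon
  exact hα' c hc

/-- `w ↦ u ⊗ w` as a linear map. -/
def tsdkronge7_tl {a b : ℕ} (u : Fin a → F) : (Fin b → F) →ₗ[F] (Fin a × Fin b → F) where
  toFun w := ten u w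
  map_add' w w' := ten_add_right u w w'
  map_smul' c w := by rw [ten_smul_right, RingHom.id_apply]

/-- `v ↦ v ⊗ w₀` as a linear map. -/
def tsdkronge7_tr {a b : ℕ} (w₀ : Fin b → F) : (Fin a → F) →ₗ[F] (Fin a × Fin b → F) where
  toFun v := ten v w₀
  map_add' v v' := ten_add_left v v' w₀
  map_smul' c v := by rw [ten_smul_left, RingHom.id_apply]

theorem tsdkronge7_rank_ge {a b : ℕ} (α : Matrix (Fin a) (Fin a) F) (β : Matrix (Fin b) (Fin b) F)
    (hα : α.det ≠ 0) (hβ : β.det ≠ 0) (hα' : ∀ c : F, α ≠ c • (1 : Matrix (Fin a) (Fin a) F))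
    (hβ' : ∀ c : F, β ≠ c • (1 : Matrix (Fin b) (Fin b) F)) (l : F) :
    a + b ≤ (α ⊗ₖ β - l • (1 : Matrix (Fin a × Fin b) (Fin a × Fin b) F)).rank + 2 := by
  classical
  obtain ⟨ha, u, hu⟩ := tsdkronge7_noneigen α hα'
  obtain ⟨hb, w₀, hw₀⟩ := tsdkronge7_noneigen β hβ'
  have hαinj : ∀ v : Fin a → F, α *ᵥ v = 0 → v = 0 := fun v h => Matrix.eq_zero_of_mulVec_eq_zero hα h
  have hβinj : ∀ w : Fin b → F, β *ᵥ w = 0 → w = 0 := fun w h => Matrix.eq_zero_of_mulVec_eq_zero hβ h
  by_cases hl : l = 0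
  · -- invertible
    subst hl
    rw [zero_smul, sub_zero]
    have hdet : (α ⊗ₖ β).det ≠ 0 := by
      rw [Matrix.det_kronecker]
      exact mul_ne_zero (pow_ne_zero _ hα) (pow_ne_zero _ hβ)
    have hunit : IsUnit (α ⊗ₖ β) := (Matrix.isUnit_iff_isUnit_det _).2 (isUnit_iff_ne_zero.2 hdet)
    rw [Matrix.rank_of_isUnit _ hunit, Fintype.card_prod, Fintype.card_fin, Fintype.card_fin]
    nlinarith
  · set N : Matrix (Fin a × Fin b) (Fin a × Fin b) F :=
      α ⊗ₖ β - l • (1 : Matrix (Fin a × Fin b) (Fin a × Fin b) F) with hNdef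
    have hN : ∀ (x : Fin a → F) (y : Fin b → F), N *ᵥ ten x y = ten (α *ᵥ x) (β *ᵥ y) - l • ten x y := by
      intro x y
      rw [hNdef, Matrix.sub_mulVec, Matrix.smul_mulVec, Matrix.one_mulVec, kron_mulVec_ten]
    -- the map g
    let g : ((Fin b → F) × (Fin a → F)) →ₗ[F] (Fin a × Fin b → F) :=
      N.mulVecLin ∘ₗ (LinearMap.coprod (tsdkronge7_tl u) (tsdkronge7_tr w₀))
    have hg : ∀ x : (Fin b → F) × (Fin a → F), g x =
        (ten (α *ᵥ u) (β *ᵥ x.1) - l • ten u x.1) + (ten (α *ᵥ x.2) (β *ᵥ w₀) - l • ten x.2 w₀) := by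
      intro x
      show N *ᵥ (ten u x.1 + ten x.2 w₀) = _
      rw [Matrix.mulVec_add, hN, hN]
    have hrange : LinearMap.range g ≤ LinearMap.range N.mulVecLin := LinearMap.range_comp_le_range _ _
    have h1 : Module.finrank F (LinearMap.range g) ≤ N.rank := by
      rw [Matrix.rank]
      exact Submodule.finrank_mono hrange
    have h2 := LinearMap.finrank_range_add_finrank_ker g
    rw [Module.finrank_prod, Module.finrank_fin_fun, Module.finrank_fin_fun] at h2
    -- u ≠ 0 and a non-vanishing minor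
    have hu0 : u ≠ 0 := by
      intro h
      apply hu 0
      rw [h, Matrix.mulVec_zero, smul_zero]
    obtain ⟨k, hk⟩ := Function.ne_iff.1 hu0
    simp only [Pi.zero_apply] at hk
    have hminor : ∃ i : Fin a, (α *ᵥ u) i * u k ≠ (α *ᵥ u) k * u i := by
      by_contra hcon
      push Not at hcon
      apply hu ((α *ᵥ u) k / u k)
      funext i
      rw [Pi.smul_apply, smul_eq_mul, div_mul_eq_mul_div, eq_div_iff hk]
      exact hcon i
    obtain ⟨i, hik⟩ := hminor
    -- the plane P
    let P : Submodule F (Fin b → F) := Submodule.span F {w₀, β *ᵥ w₀}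
    have hP : Module.finrank F P ≤ 2 := by
      have := finrank_span_le_card (R := F) ({w₀, β *ᵥ w₀} : Set (Fin b → F))
      refine this.trans ?_
      rw [Set.toFinset_card]
      exact (Fintype.card_le_of_surjective (fun t : Fin 2 => (⟨![w₀, β *ᵥ w₀] t, by
        fin_cases t <;> simp⟩ : ({w₀, β *ᵥ w₀} : Set (Fin b → F))))
        (by
          rintro ⟨y, hy⟩
          rcases hy with rfl | hy
          · exact ⟨0, rfl⟩
          · rw [Set.mem_singleton_iff] at hy
            subst hy
            exact ⟨1, rfl⟩)).trans (by simp)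
    -- kernel elements have first component in P
    have hkerP : ∀ x ∈ LinearMap.ker g, x.1 ∈ P := by
      intro x hx
      rw [LinearMap.mem_ker, hg] at hx
      have hD : l * ((α *ᵥ u) k * u i - (α *ᵥ u) i * u k) ≠ 0 :=
        mul_ne_zero hl (sub_ne_zero.2 (Ne.symm hik))
      have hw : x.1 = (((α *ᵥ u) k * (α *ᵥ x.2) i - (α *ᵥ u) i * (α *ᵥ x.2) k) /
            (l * ((α *ᵥ u) k * u i - (α *ᵥ u) i * u k))) • (β *ᵥ w₀) +
          ((- (l * ((α *ᵥ u) k * x.2 i - (α *ᵥ u) i * x.2 k))) /
            (l * ((α *ᵥ u) k * u i - (α *ᵥ u) i * u k))) • w₀ := by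
        funext j
        have e1 := congrFun hx (i, j)
        have e2 := congrFun hx (k, j)
        simp only [ten, Pi.add_apply, Pi.sub_apply, Pi.smul_apply, smul_eq_mul, Pi.zero_apply] at e1 e2
        simp only [Pi.add_apply, Pi.smul_apply, smul_eq_mul]
        field_simp
        linear_combination (-(α *ᵥ u) k) * e1 + ((α *ᵥ u) i) * e2
      rw [hw]
      apply Submodule.add_mem
      · exact Submodule.smul_mem _ _ (Submodule.subset_span (by simp))
      · exact Submodule.smul_mem _ _ (Submodule.subset_span (by simp))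
    -- kernel elements with zero first component vanish
    have hker0 : ∀ x ∈ LinearMap.ker g, x.1 = 0 → x = 0 := by
      intro x hx hx1
      rw [LinearMap.mem_ker, hg, hx1] at hx
      have hx' : ten (α *ᵥ x.2) (β *ᵥ w₀) = l • ten x.2 w₀ := by
        have : ten (α *ᵥ u) (β *ᵥ (0 : Fin b → F)) - l • ten u (0 : Fin b → F) = 0 := by
          funext p
          simp [ten]
        rw [this, zero_add, sub_eq_zero] at hx
        exact hx
      have hx2 : x.2 = 0 := by
        by_contra hv0
        have hαv : α *ᵥ x.2 ≠ 0 := fun h => hv0 (hαinj _ h)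
        obtain ⟨i', hi'⟩ := Function.ne_iff.1 hαv
        simp only [Pi.zero_apply] at hi'
        apply hw₀ (l * x.2 i' / (α *ᵥ x.2) i')
        funext j
        have h1 := congrFun hx' (i', j)
        simp only [ten, Pi.smul_apply, smul_eq_mul] at h1 ⊢
        field_simp
        rw [mul_comm, h1]
        ring
      exact Prod.ext hx1 hx2
    -- the first projection restricted to the kernel
    let f : LinearMap.ker g →ₗ[F] (Fin b → F) :=
      (LinearMap.fst F (Fin b → F) (Fin a → F)).domRestrict (LinearMap.ker g)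
    have hfinj : Function.Injective f := by
      rw [← LinearMap.ker_eq_bot, LinearMap.ker_eq_bot']
      intro x hx
      have := hker0 x.1 x.2 hx
      exact Subtype.ext this
    have hfr : LinearMap.range f ≤ P := by
      rintro _ ⟨x, rfl⟩
      exact hkerP x.1 x.2
    have h3 : Module.finrank F (LinearMap.ker g) ≤ 2 := by
      rw [← LinearMap.finrank_range_of_inj hfinj]
      exact (Submodule.finrank_mono hfr).trans hP
    omega

end Cfsg.Agent.Lib.helper4.TSD
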