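import Cfsg.Agent.Lib.helper7.U3PF2
import Cfsg.Agent.Lib.helper7.U3PF3
import Cfsg.Agent.Lib.Lead.Unitary

/-! Project U3P (designer helper19; S2289), row F5 (`exists_par`), core on the statement of F4, by helper7. -/

namespace Cfsg.Agent.Lib.Helper19.U3P

open Cfsg.Agent.Lib.helper17.SLP Cfsg.Agent.Lib.helper14.SU3J Cfsg.Agent.Lib.Helper25.SU3P
open Polynomial Matrix

universe u v

section F0

variable {F : Type u} [Field F] [Fintype F] {q : ℕ}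

/-- F5 core: `hF4` is the statement of F4 (`exists_coords0`). -/
theorem u3pf5_core (hF : Fintype.card F = q ^ 2)
    (hF4 : ∀ (σ : F →+* F) (_ : ∀ x, σ x = x ^ q), Nonempty (Coords F q σ)) :
    ∃ (K : Type u) (_ : Field K) (_ : Fintype K), Fintype.card K = q ∧ Nonempty (Par F K q) := by
  classical
  obtain ⟨σ, hσ⟩ := Cfsg.Agent.Lib.Lead.exists_frob hF
  obtain ⟨c⟩ := hF4 σ hσ
  obtain ⟨K, iK, iF, ι, hK, hι⟩ := exists_fix hF σ hσ
  obtain ⟨ζ, hζ⟩ := IsCyclic.exists_generator (α := Fˣ)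
  obtain ⟨bK, hbK, hbKgen⟩ := norm_gen hF hK σ hσ ι hι ζ hζ
  obtain ⟨htr, -⟩ := trace_surj hF σ hσ
  obtain ⟨β0, hβ0⟩ := htr (-1) (by rw [map_neg, map_one])
  refine ⟨K, iK, iF, hK, ⟨⟨σ, hσ, c, ι, hι, ζ, hζ, bK, hbK, hbKgen, β0, ?_⟩⟩⟩
  rw [hβ0]; ring

end F0

end Cfsg.Agent.Lib.Helper19.U3P
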