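import Mathlib
import Cfsg.Prelude.Def_GeometricClasses
import Cfsg.Agent.Lib.Helper27.ASC.Defs
import Cfsg.Agent.Lib.Lead.ASCU.Defs
import Cfsg.Agent.Lib.helper2.UXDefs
import Cfsg.Agent.Lib.Helper16.UnitaryFixed
import Cfsg.Agent.Lib.helper7.LXFR45a
import Cfsg.Agent.Lib.helper7.LXFR45b
import Cfsg.Agent.Lib.helper7.LXFR45c

/-!
# Project UX, piece FR43, part a : the invariant set of `4 ∘ 2^(1+4) . A_6 < SU_4(3)` (abstract part)

`V` = the 480 vectors of the 15 orthonormal frames permuted by the normaliser of `4 ∘ 2^(1+4)`, cut out by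
polynomial conditions: `x_i⁴ x_j⁴ (x_i⁴ - x_j⁴) = 0`, `(Σ x_i⁸)² = 1`, `(Π x_i)² ((Π x_i)² - 1) = 0`.
-/

set_option autoImplicit false
set_option linter.unusedVariables false
set_option linter.unusedSectionVars false

namespace Cfsg.Agent.Lib.helper2.UX

open Cfsg Cfsg.Geo Cfsg.Agent.Lib.Helper27.ASC Cfsg.Agent.Lib.Lead.ASCU Cfsg.Agent.Lib.helper7.LX
open scoped MatrixGroups Matrix

variable {F : Type*} [Field F]

/-- the standard frame of `F^4` -/
def uxfr43Std (F : Type*) [Field F] : Fin 4 → Submodule F (Fin 4 → F) :=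
  fun i => Submodule.span F {Pi.single i (1 : F)}

/-- the invariant set of vectors -/
def uxfr43V (F : Type*) [Field F] : Set (Fin 4 → F) :=
  {x | (∀ i j, x i ^ 4 * x j ^ 4 * (x i ^ 4 - x j ^ 4) = 0) ∧ (∑ i, x i ^ 8) ^ 2 = 1 ∧
    (∏ i, x i) ^ 2 * ((∏ i, x i) ^ 2 - 1) = 0}

theorem uxfr43_mem_V (x : Fin 4 → F) :
    x ∈ uxfr43V F ↔ (∀ i j, x i ^ 4 * x j ^ 4 * (x i ^ 4 - x j ^ 4) = 0) ∧ (∑ i, x i ^ 8) ^ 2 = 1 ∧
      (∏ i, x i) ^ 2 * ((∏ i, x i) ^ 2 - 1) = 0 := Iff.rfl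

/-- the stabiliser of `V` -/
def uxfr43K (F : Type*) [Field F] : Subgroup (GL (Fin 4) F) where
  carrier := {g | ∀ x : Fin 4 → F, (g : Matrix (Fin 4) (Fin 4) F) *ᵥ x ∈ uxfr43V F ↔ x ∈ uxfr43V F}
  mul_mem' := by
    intro a b ha hb x
    rw [Units.val_mul, ← Matrix.mulVec_mulVec, ha, hb]
  one_mem' := by
    intro x
    simp
  inv_mem' := by
    intro a ha x
    have h := ha (((a⁻¹ : GL (Fin 4) F) : Matrix (Fin 4) (Fin 4) F) *ᵥ x)
    rw [Matrix.mulVec_mulVec, ← Units.val_mul, mul_inv_cancel, Units.val_one, Matrix.one_mulVec] at h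
    exact h.symm

theorem uxfr43_mem_K (g : GL (Fin 4) F) :
    g ∈ uxfr43K F ↔ ∀ x : Fin 4 → F, (g : Matrix (Fin 4) (Fin 4) F) *ᵥ x ∈ uxfr43V F ↔ x ∈ uxfr43V F :=
  Iff.rfl

/-- `V` is invariant under monomial matrices with `d_p⁴ = 1`, `(Π d_p)² = 1` -/
theorem uxfr43_monomial (g : Matrix (Fin 4) (Fin 4) F) (τ : Equiv.Perm (Fin 4)) (d : Fin 4 → F)
    (hg : ∀ q p, g q p = if q = τ p then d p else 0) (hd4 : ∀ p, d p ^ 4 = 1)
    (hdp : (∏ p, d p) ^ 2 = 1) (x : Fin 4 → F) (hx : x ∈ uxfr43V F) : g *ᵥ x ∈ uxfr43V F := by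
  rw [lxfr45_monomial_mulVec g τ d hg x]
  obtain ⟨h1, h2, h3⟩ := hx
  have h4 : ∀ q, (d (τ.symm q) * x (τ.symm q)) ^ 4 = x (τ.symm q) ^ 4 := by
    intro q
    rw [mul_pow, hd4, one_mul]
  have h8 : ∀ q, (d (τ.symm q) * x (τ.symm q)) ^ 8 = x (τ.symm q) ^ 8 := by
    intro q
    rw [show 8 = 4 * 2 from rfl, pow_mul, h4, ← pow_mul]
  rw [uxfr43_mem_V]
  refine ⟨?_, ?_, ?_⟩
  · intro i j
    rw [h4, h4]
    exact h1 _ _
  · have : ∑ q, (d (τ.symm q) * x (τ.symm q)) ^ 8 = ∑ p, x p ^ 8 := by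
      simp_rw [h8]
      exact Equiv.sum_comp τ.symm (fun p => x p ^ 8)
    rw [this]
    exact h2
  · have : ∏ q, (d (τ.symm q) * x (τ.symm q)) = (∏ p, d p) * ∏ p, x p := by
      rw [Equiv.prod_comp τ.symm (fun p => d p * x p), Finset.prod_mul_distrib]
    rw [this, mul_pow, hdp, one_mul]
    exact h3

/-- elements of the stabiliser of the standard frame are monomial -/
theorem uxfr43_mono_of_stab (g : GL (Fin 4) F) (hg : g ∈ decompositionStabilizer (uxfr43Std F)) :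
    ∃ (τ : Equiv.Perm (Fin 4)) (d : Fin 4 → F),
      ∀ q p, (g : Matrix (Fin 4) (Fin 4) F) q p = if q = τ p then d p else 0 := by
  obtain ⟨σ, hσ⟩ := hg
  refine ⟨σ, fun p => (g : Matrix (Fin 4) (Fin 4) F) (σ p) p, ?_⟩
  intro q p
  by_cases h : q = σ p
  · rw [if_pos h, h]
  · rw [if_neg h]
    have hmem : (Pi.single p (1 : F) : Fin 4 → F) ∈ uxfr43Std F p :=
      Submodule.mem_span_singleton_self _
    have h2 : (g : Matrix (Fin 4) (Fin 4) F) *ᵥ (Pi.single p (1 : F)) ∈ uxfr43Std F (σ p) := by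
      rw [← hσ p]
      exact ⟨_, hmem, rfl⟩
    rw [Matrix.mulVec_single_one] at h2
    obtain ⟨c, hc⟩ := Submodule.mem_span_singleton.mp h2
    have h3 := congrFun hc q
    rw [Pi.smul_apply, Pi.single_apply, if_neg h, smul_zero] at h3
    exact h3.symm

theorem uxfr43_charP [Fintype F] (hF : Fintype.card F = 9) : CharP F 3 := by
  obtain ⟨p, a, hp, hchar, h3⟩ := Cfsg.Agent.Lib.Helper16.exists_char_pow (K := F) (q := 3) (by rw [hF]; norm_num)
  have : p = 3 := by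
    have h1 : p ∣ 3 := by
      rw [h3]
      apply dvd_pow_self
      rintro rfl
      simp at h3
    exact (Nat.prime_dvd_prime_iff_eq hp (by norm_num)).mp h1
  rw [this] at hchar
  exact hchar

theorem uxfr43_three [Fintype F] (hF : Fintype.card F = 9) : (3 : F) = 0 := by
  haveI := uxfr43_charP hF
  exact_mod_cast CharP.cast_eq_zero F 3

theorem uxfr43_mem_GU [Fintype F] (hF : Fintype.card F = 9) (g : GL (Fin 4) F) :
    g ∈ GU 4 F 3 ↔ Cfsg.Agent.Lib.Helper16.UMat 3 (g : Matrix (Fin 4) (Fin 4) F) := by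
  haveI := uxfr43_charP hF
  exact Cfsg.Agent.Lib.Helper16.mem_GU_iff_UMat (a := 1) (p := 3) (by norm_num) (by norm_num) (by norm_num) g

/-- the stabiliser of the standard frame in `SU_4(3)` preserves `V` -/
theorem uxfr43_std_le [Fintype F] (hF : Fintype.card F = 9) :
    decompositionStabilizer (uxfr43Std F) ⊓ SUg 4 F 3 ≤ uxfr43K F := by
  have key : ∀ g : GL (Fin 4) F, g ∈ decompositionStabilizer (uxfr43Std F) ⊓ SUg 4 F 3 →
      ∀ x, x ∈ uxfr43V F → (g : Matrix (Fin 4) (Fin 4) F) *ᵥ x ∈ uxfr43V F := by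
    intro g hg x hx
    obtain ⟨hg1, hg2, hg3⟩ := hg
    obtain ⟨τ, d, hmono⟩ := uxfr43_mono_of_stab g hg1
    have hU := (uxfr43_mem_GU hF g).mp hg2
    have hd4 : ∀ p, d p ^ 4 = 1 := by
      intro p
      have h := hU p p
      rw [if_pos rfl, Finset.sum_eq_single (τ p)] at h
      · rw [hmono, if_pos rfl] at h
        rw [← h]
        ring
      · intro l _ hl
        rw [hmono, if_neg hl, zero_mul]
      · intro h'
        exact absurd (Finset.mem_univ _) h'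
    have hdp : (∏ p, d p) ^ 2 = 1 := by
      rw [lxfr45_monomial_det_sq _ τ d hmono, (lxfr45_mem_SL g).mp hg3, one_pow]
    exact uxfr43_monomial _ τ d hmono hd4 hdp x hx
  intro g hg
  rw [uxfr43_mem_K]
  intro x
  constructor
  · intro hx
    have h := key g⁻¹ (Subgroup.inv_mem _ hg) _ hx
    rwa [Matrix.mulVec_mulVec, ← Units.val_mul, inv_mul_cancel, Units.val_one, Matrix.one_mulVec] at h
  · exact key g hg x

end Cfsg.Agent.Lib.helper2.UX
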