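import Cfsg.Agent.Lib.helper7.UXFR43a

/-!
# Project UX, piece FR43, part b : the explicit elements (Hadamard matrix, a unitary transvection)
-/

set_option autoImplicit false
set_option linter.unusedVariables false
set_option linter.unusedSectionVars false

namespace Cfsg.Agent.Lib.helper2.UX

open Cfsg Cfsg.Geo Cfsg.Agent.Lib.Helper27.ASC Cfsg.Agent.Lib.Lead.ASCU Cfsg.Agent.Lib.helper7.LX
open scoped MatrixGroups Matrix

variable {F : Type*} [Field F] [Fintype F]

theorem uxfr43_H4_sq (hF : Fintype.card F = 9) : lxfr45H4 F * lxfr45H4 F = 1 := by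
  have h3 := uxfr43_three hF
  ext i j
  fin_cases i <;> fin_cases j <;>
    simp [lxfr45H4, Matrix.mul_apply, Fin.sum_univ_four] <;> linear_combination h3

/-- the Hadamard element -/
noncomputable def uxfr43HK (hF : Fintype.card F = 9) : GL (Fin 4) F :=
  ⟨lxfr45H4 F, lxfr45H4 F, uxfr43_H4_sq hF, uxfr43_H4_sq hF⟩

theorem uxfr43HK_val (hF : Fintype.card F = 9) :
    ((uxfr43HK hF : GL (Fin 4) F) : Matrix (Fin 4) (Fin 4) F) = lxfr45H4 F := rfl

theorem uxfr43HK_mem (hF : Fintype.card F = 9) : uxfr43HK hF ∈ SUg 4 F 3 := by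
  have h3 := uxfr43_three hF
  rw [Subgroup.mem_inf]
  refine ⟨?_, ?_⟩
  · rw [uxfr43_mem_GU hF, uxfr43HK_val]
    intro i j
    fin_cases i <;> fin_cases j <;>
      simp [lxfr45H4, Fin.sum_univ_four] <;> first | linear_combination h3 | ring
  · rw [lxfr45_mem_SL, uxfr43HK_val, lxfr45H4_det]
    linear_combination 5 * h3

theorem uxfr43HK_not_mem (hF : Fintype.card F = 9) :
    uxfr43HK hF ∉ decompositionStabilizer (uxfr43Std F) := by
  intro hmem
  obtain ⟨τ, d, hmono⟩ := uxfr43_mono_of_stab _ hmem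
  have h := hmono (τ 0 + 1) 0
  rw [if_neg (by simp), uxfr43HK_val] at h
  have h1 : ∀ i : Fin 4, lxfr45H4 F i 0 = 1 := by
    intro i
    fin_cases i <;> rfl
  rw [h1] at h
  exact one_ne_zero h

/-- the matrix of a unitary transvection -/
def uxfr43Tm (c : F) : Matrix (Fin 4) (Fin 4) F :=
  !![1 + c, c, c, 0; c, 1 + c, c, 0; c, c, 1 + c, 0; 0, 0, 0, 1]

theorem uxfr43_Tm_mul (hF : Fintype.card F = 9) (c : F) : uxfr43Tm c * uxfr43Tm (-c) = 1 := by
  have h3 := uxfr43_three hF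
  ext i j
  fin_cases i <;> fin_cases j <;>
    simp [uxfr43Tm, Matrix.mul_apply, Fin.sum_univ_four] <;> linear_combination (-c ^ 2) * h3

/-- a unitary transvection -/
noncomputable def uxfr43T (hF : Fintype.card F = 9) (c : F) : GL (Fin 4) F :=
  ⟨uxfr43Tm c, uxfr43Tm (-c), uxfr43_Tm_mul hF c, by
    have := uxfr43_Tm_mul hF (-c)
    rwa [neg_neg] at this⟩

theorem uxfr43T_val (hF : Fintype.card F = 9) (c : F) :
    ((uxfr43T hF c : GL (Fin 4) F) : Matrix (Fin 4) (Fin 4) F) = uxfr43Tm c := rfl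

theorem uxfr43T_mem (hF : Fintype.card F = 9) (c : F) (hc : c ^ 2 = -1) : uxfr43T hF c ∈ SUg 4 F 3 := by
  have h3 := uxfr43_three hF
  have hc3 : c ^ 3 = -c := by
    rw [pow_succ, hc]
    ring
  have hc13 : (1 + c) ^ 3 = 1 - c := by
    linear_combination (c + c ^ 2) * h3 + c * hc
  rw [Subgroup.mem_inf]
  refine ⟨?_, ?_⟩
  · rw [uxfr43_mem_GU hF, uxfr43T_val]
    intro i j
    fin_cases i <;> fin_cases j <;>
      simp [uxfr43Tm, Fin.sum_univ_four, hc3, hc13] <;> linear_combination (-c ^ 2) * h3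
  · rw [lxfr45_mem_SL, uxfr43T_val]
    unfold uxfr43Tm
    rw [Matrix.det_succ_row_zero]
    simp [Fin.sum_univ_succ, Matrix.det_fin_three, Fin.succAbove, Matrix.submatrix]
    linear_combination c * h3

theorem uxfr43T_not_mem (hF : Fintype.card F = 9) (c : F) (hc : c ^ 2 = -1) : uxfr43T hF c ∉ uxfr43K F := by
  intro hmem
  have h3 := uxfr43_three hF
  rw [uxfr43_mem_K] at hmem
  have he : (Pi.single 0 1 : Fin 4 → F) ∈ uxfr43V F := by
    rw [uxfr43_mem_V]
    refine ⟨?_, ?_, ?_⟩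
    · intro i j
      fin_cases i <;> fin_cases j <;> simp
    · simp [Fin.sum_univ_four]
    · simp [Fin.prod_univ_four]
  have h := (hmem _).mpr he
  rw [uxfr43T_val, Matrix.mulVec_single_one, uxfr43_mem_V] at h
  obtain ⟨-, h2, -⟩ := h
  rw [Fin.sum_univ_four] at h2
  have e0 : (uxfr43Tm c).col 0 0 = 1 + c := rfl
  have e1 : (uxfr43Tm c).col 0 1 = c := rfl
  have e2 : (uxfr43Tm c).col 0 2 = c := rfl
  have e3 : (uxfr43Tm c).col 0 3 = 0 := rfl
  rw [e0, e1, e2, e3] at h2
  have c8 : c ^ 8 = 1 := by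
    rw [show 8 = 2 * 4 from rfl, pow_mul, hc]
    norm_num
  have c18 : (1 + c) ^ 8 = 1 := by
    have h1 : (1 + c) ^ 2 = 2 * c := by linear_combination hc
    rw [show 8 = 2 * 4 from rfl, pow_mul, h1, mul_pow, show 4 = 2 * 2 from rfl, pow_mul c, hc]
    norm_num
    linear_combination 5 * h3
  rw [c8, c18] at h2
  have : (1 : F) = 0 := by
    rw [← h2]
    linear_combination (3 : F) * h3
  exact one_ne_zero this

end Cfsg.Agent.Lib.helper2.UX
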