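import Cfsg.Agent.Lib.helper7.UXFR43b
import Cfsg.Agent.Lib.Helper16.U3.Code

/-!
# Project UX, piece FR43, part c : the Hadamard element preserves `V` (kernel computation on codes of `F_9`)
-/

set_option autoImplicit false
set_option linter.unusedVariables false
set_option linter.unusedSectionVars false

namespace Cfsg.Agent.Lib.helper2.UX

open Cfsg Cfsg.Geo Cfsg.Agent.Lib.Helper27.ASC Cfsg.Agent.Lib.Lead.ASCU Cfsg.Agent.Lib.helper7.LX
open Cfsg.Agent.Lib.Helper16.U3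
open scoped MatrixGroups Matrix

/-- fourth power of a code -/
def uxfr43p4 (a : ℕ) : ℕ := cmul 3 (cmul 3 a a) (cmul 3 a a)

/-- eighth power of a code -/
def uxfr43p8 (a : ℕ) : ℕ := cmul 3 (uxfr43p4 a) (uxfr43p4 a)

/-- the pair condition on codes -/
def uxfr43c1 (a b : ℕ) : Bool :=
  Nat.beq (cmul 3 (cmul 3 (uxfr43p4 a) (uxfr43p4 b)) (cadd 3 (uxfr43p4 a) (cneg 3 (uxfr43p4 b)))) 0

/-- the sum of the eighth powers -/
def uxfr43s8 (a b c d : ℕ) : ℕ := cadd 3 (cadd 3 (cadd 3 (uxfr43p8 a) (uxfr43p8 b)) (uxfr43p8 c)) (uxfr43p8 d)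

/-- the square of the product -/
def uxfr43pr (a b c d : ℕ) : ℕ :=
  cmul 3 (cmul 3 (cmul 3 (cmul 3 a b) c) d) (cmul 3 (cmul 3 (cmul 3 a b) c) d)

/-- membership in `V` on codes -/
def uxfr43inV (a b c d : ℕ) : Bool :=
  and (and (and (and (and (and (and (uxfr43c1 a b) (uxfr43c1 a c)) (uxfr43c1 a d)) (uxfr43c1 b c))
    (uxfr43c1 b d)) (uxfr43c1 c d))
    (Nat.beq (cmul 3 (uxfr43s8 a b c d) (uxfr43s8 a b c d)) 1))
    (Nat.beq (cmul 3 (uxfr43pr a b c d) (cadd 3 (uxfr43pr a b c d) (cneg 3 1))) 0)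

/-- the Hadamard matrix on codes -/
def uxfr43h0 (a b c d : ℕ) : ℕ := cadd 3 (cadd 3 (cadd 3 a b) c) d
def uxfr43h1 (a b c d : ℕ) : ℕ := cadd 3 (cadd 3 (cadd 3 a (cneg 3 b)) c) (cneg 3 d)
def uxfr43h2 (a b c d : ℕ) : ℕ := cadd 3 (cadd 3 (cadd 3 a b) (cneg 3 c)) (cneg 3 d)
def uxfr43h3 (a b c d : ℕ) : ℕ := cadd 3 (cadd 3 (cadd 3 a (cneg 3 b)) (cneg 3 c)) d

set_option maxRecDepth 100000 in
/-- the kernel computation: the Hadamard matrix maps `V` into `V` -/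
theorem uxfr43_dec : ∀ a < 9, ∀ b < 9, ∀ c < 9, ∀ d < 9, uxfr43inV a b c d = true →
    uxfr43inV (uxfr43h0 a b c d) (uxfr43h1 a b c d) (uxfr43h2 a b c d) (uxfr43h3 a b c d) = true := by
  decide +kernel

variable {F : Type*} [Field F]

theorem uxfr43_pairs (x : Fin 4 → F) :
    (∀ i j, x i ^ 4 * x j ^ 4 * (x i ^ 4 - x j ^ 4) = 0) ↔
      (x 0 ^ 4 * x 1 ^ 4 * (x 0 ^ 4 - x 1 ^ 4) = 0 ∧ x 0 ^ 4 * x 2 ^ 4 * (x 0 ^ 4 - x 2 ^ 4) = 0 ∧
        x 0 ^ 4 * x 3 ^ 4 * (x 0 ^ 4 - x 3 ^ 4) = 0 ∧ x 1 ^ 4 * x 2 ^ 4 * (x 1 ^ 4 - x 2 ^ 4) = 0 ∧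
        x 1 ^ 4 * x 3 ^ 4 * (x 1 ^ 4 - x 3 ^ 4) = 0 ∧ x 2 ^ 4 * x 3 ^ 4 * (x 2 ^ 4 - x 3 ^ 4) = 0) := by
  constructor
  · intro h
    exact ⟨h 0 1, h 0 2, h 0 3, h 1 2, h 1 3, h 2 3⟩
  · rintro ⟨h01, h02, h03, h12, h13, h23⟩
    have key : ∀ u v : F, u ^ 4 * v ^ 4 * (u ^ 4 - v ^ 4) = 0 → v ^ 4 * u ^ 4 * (v ^ 4 - u ^ 4) = 0 := by
      intro u v h
      linear_combination -h
    have diag : ∀ u : F, u ^ 4 * u ^ 4 * (u ^ 4 - u ^ 4) = 0 := by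
      intro u
      ring
    intro i j
    fin_cases i <;> fin_cases j
    · exact diag _
    · exact h01
    · exact h02
    · exact h03
    · exact key _ _ h01
    · exact diag _
    · exact h12
    · exact h13
    · exact key _ _ h02
    · exact key _ _ h12
    · exact diag _
    · exact h23
    · exact key _ _ h03
    · exact key _ _ h13
    · exact key _ _ h23
    · exact diag _

namespace uxfr43

variable (M : Model F 3)

theorem d_p4 (a : ℕ) : M.d (uxfr43p4 a) = M.d a ^ 4 := by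
  unfold uxfr43p4
  rw [M.d_cmul, M.d_cmul]
  ring

theorem d_p8 (a : ℕ) : M.d (uxfr43p8 a) = M.d a ^ 8 := by
  unfold uxfr43p8
  rw [M.d_cmul, d_p4]
  ring

theorem p4_lt (a : ℕ) : uxfr43p4 a < 3 * 3 := cmul_lt (by norm_num) _ _

theorem c1_iff (a b : ℕ) :
    uxfr43c1 a b = true ↔ M.d a ^ 4 * M.d b ^ 4 * (M.d a ^ 4 - M.d b ^ 4) = 0 := by
  unfold uxfr43c1
  rw [u3code_beq, ← M.d_eq_zero (cmul_lt (by norm_num) _ _), M.d_cmul, M.d_cmul, M.d_cadd, M.d_cneg,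
    d_p4, d_p4, sub_eq_add_neg]

theorem d_s8 (a b c d : ℕ) :
    M.d (uxfr43s8 a b c d) = M.d a ^ 8 + M.d b ^ 8 + M.d c ^ 8 + M.d d ^ 8 := by
  unfold uxfr43s8
  rw [M.d_cadd, M.d_cadd, M.d_cadd, d_p8, d_p8, d_p8, d_p8]

theorem d_pr (a b c d : ℕ) :
    M.d (uxfr43pr a b c d) = (M.d a * M.d b * M.d c * M.d d) ^ 2 := by
  unfold uxfr43pr
  rw [M.d_cmul, M.d_cmul, M.d_cmul, M.d_cmul]
  ring

/-- the specification of `uxfr43inV` -/
theorem inV_iff (a b c d : ℕ) :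
    uxfr43inV a b c d = true ↔ (![M.d a, M.d b, M.d c, M.d d] : Fin 4 → F) ∈ uxfr43V F := by
  rw [uxfr43_mem_V, uxfr43_pairs, Fin.sum_univ_four, Fin.prod_univ_four]
  unfold uxfr43inV
  simp only [Bool.and_eq_true, c1_iff M]
  rw [u3code_beq, u3code_beq, ← M.d_eq_one (cmul_lt (by norm_num) _ _),
    ← M.d_eq_zero (cmul_lt (by norm_num) _ _), M.d_cmul, M.d_cmul, M.d_cadd, M.d_cneg, M.d_one, d_s8, d_pr,
    ← sub_eq_add_neg, ← pow_two]
  simp only [Matrix.cons_val_zero, Matrix.cons_val_one, Matrix.cons_val]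
  tauto

end uxfr43

/-- the Hadamard element stabilises `V` -/
theorem uxfr43HK_mem_K [Fintype F] (hF : Fintype.card F = 9) : uxfr43HK hF ∈ uxfr43K F := by
  obtain ⟨M⟩ := exists_model (F := F) 3 (Or.inl rfl) (by rw [hF]; norm_num)
  have key : ∀ x : Fin 4 → F, x ∈ uxfr43V F → lxfr45H4 F *ᵥ x ∈ uxfr43V F := by
    intro x hx
    obtain ⟨a, ha, ha'⟩ := M.surj (x 0)
    obtain ⟨b, hb, hb'⟩ := M.surj (x 1)
    obtain ⟨c, hc, hc'⟩ := M.surj (x 2)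
    obtain ⟨d, hd, hd'⟩ := M.surj (x 3)
    have hx' : x = ![M.d a, M.d b, M.d c, M.d d] := by
      ext i
      fin_cases i
      · exact ha'.symm
      · exact hb'.symm
      · exact hc'.symm
      · exact hd'.symm
    rw [hx'] at hx
    have h1 := (uxfr43.inV_iff M a b c d).mpr hx
    have h2 := uxfr43_dec a ha b hb c hc d hd h1
    have h3 := (uxfr43.inV_iff M _ _ _ _).mp h2
    have h4 : lxfr45H4 F *ᵥ x = ![M.d (uxfr43h0 a b c d), M.d (uxfr43h1 a b c d), M.d (uxfr43h2 a b c d),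
        M.d (uxfr43h3 a b c d)] := by
      rw [hx']
      unfold uxfr43h0 uxfr43h1 uxfr43h2 uxfr43h3
      simp only [M.d_cadd, M.d_cneg]
      ext i
      fin_cases i <;> simp [lxfr45H4, Matrix.mulVec, dotProduct, Fin.sum_univ_four] <;> ring
    rw [h4]
    exact h3
  rw [uxfr43_mem_K]
  intro x
  rw [uxfr43HK_val]
  constructor
  · intro hx
    have h := key _ hx
    rwa [Matrix.mulVec_mulVec, uxfr43_H4_sq hF, Matrix.one_mulVec] at h
  · exact key x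

end Cfsg.Agent.Lib.helper2.UX
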